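import Mathlib

set_option autoImplicit false

namespace Cfsg.Agent.Lib.helper73

theorem pow_Q_pow_mod_six {G : Type*} [Group G] (x : G) (Q : ℕ) (hQ6 : x ^ (Q ^ 6) = x) (k : ℕ) :
    x ^ (Q ^ k) = x ^ (Q ^ (k % 6)) := by
  induction k using Nat.strong_induction_on with
  | _ k ih =>
    by_cases hk : k < 6
    · rw [Nat.mod_eq_of_lt hk]
    · rw [not_lt] at hk
      have h1 : k = (k - 6) + 6 := by omega
      have h2 : x ^ (Q ^ k) = x ^ (Q ^ (k - 6)) := by
        conv_lhs => rw [h1, pow_add, mul_comm, pow_mul, hQ6]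
      rw [h2, ih (k - 6) (by omega)]
      congr 2
      omega

/-- PIECE E of helper44's S1158/S1159 plan: `|N(C(x)) : C(x)|` divides 6 when the normalizer
moves `x` only to the `x^(Q^i)`. -/
theorem card_normalizer_of_pow_orbit {G : Type*} [Group G] [Finite G] (x : G) (Q : ℕ)
    (hQ6 : x ^ (Q ^ 6) = x)
    (hinj : ∀ i j : ℕ, i < 6 → j < 6 → x ^ (Q ^ i) = x ^ (Q ^ j) → i = j)
    (T : Subgroup G) (hT : ∀ g : G, g ∈ T ↔ g * x = x * g)
    (hN : ∀ n ∈ Subgroup.normalizer (T : Set G), ∃ i : ℕ, i < 6 ∧ n * x * n⁻¹ = x ^ (Q ^ i)) :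
    ∃ e : ℕ, e ∣ 6 ∧ Nat.card ↥(Subgroup.normalizer (T : Set G)) = e * Nat.card ↥T := by
  classical
  choose! idx hidx using hN
  have hTN : T ≤ Subgroup.normalizer (T : Set G) := Subgroup.le_normalizer
  have hmul : ∀ n m : G, n ∈ Subgroup.normalizer (T : Set G) → m ∈ Subgroup.normalizer (T : Set G) →
      idx (n * m) = (idx n + idx m) % 6 := by
    intro n m hn hm
    obtain ⟨hi, hin⟩ := hidx n hn
    obtain ⟨hj, hjm⟩ := hidx m hm
    obtain ⟨hk, hknm⟩ := hidx (n * m) (mul_mem hn hm)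
    apply hinj _ _ hk (Nat.mod_lt _ (by norm_num))
    rw [← hknm, ← pow_Q_pow_mod_six x Q hQ6]
    have e1 : n * m * x * (n * m)⁻¹ = n * (m * x * m⁻¹) * n⁻¹ := by group
    rw [e1, hjm]
    have e2 : n * x ^ Q ^ idx m * n⁻¹ = (n * x * n⁻¹) ^ Q ^ idx m := by
      rw [conj_pow]
    rw [e2, hin, ← pow_mul, ← pow_add]
  let φ : ↥(Subgroup.normalizer (T : Set G)) →* Multiplicative (ZMod 6) :=
    MonoidHom.mk' (fun n => Multiplicative.ofAdd ((idx (n : G) : ℕ) : ZMod 6)) (by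
      intro n m
      rw [← ofAdd_add]
      congr 1
      rw [Subgroup.coe_mul, hmul _ _ n.2 m.2, ZMod.natCast_mod, Nat.cast_add])
  have hker : φ.ker = T.subgroupOf (Subgroup.normalizer (T : Set G)) := by
    ext n
    rw [MonoidHom.mem_ker, Subgroup.mem_subgroupOf, hT]
    obtain ⟨hi, hin⟩ := hidx (n : G) n.2
    show Multiplicative.ofAdd ((idx (n : G) : ℕ) : ZMod 6) = 1 ↔ _
    rw [ofAdd_eq_one, ZMod.natCast_eq_zero_iff]
    constructor
    · intro h
      have h0 : idx (n : G) = 0 := Nat.eq_zero_of_dvd_of_lt h hi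
      rw [h0, pow_zero, pow_one] at hin
      calc (n : G) * x = (n : G) * x * (n : G)⁻¹ * n := by group
        _ = x * n := by rw [hin]
    · intro h
      have h1 : (n : G) * x * (n : G)⁻¹ = x ^ (Q ^ 0) := by
        rw [h, pow_zero, pow_one]; group
      have h0 : idx (n : G) = 0 := hinj _ _ hi (by norm_num) (hin.symm.trans h1)
      rw [h0]
      exact dvd_zero 6
  have hcard := Subgroup.card_mul_index φ.ker
  rw [Subgroup.index_ker, hker] at hcard
  have hT' : Nat.card ↥(T.subgroupOf (Subgroup.normalizer (T : Set G))) = Nat.card ↥T :=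
    Nat.card_congr (Subgroup.subgroupOfEquivOfLe hTN).toEquiv
  rw [hT'] at hcard
  refine ⟨Nat.card ↥φ.range, ?_, ?_⟩
  · have := Subgroup.card_subgroup_dvd_card φ.range
    simpa [Nat.card_eq_fintype_card, ZMod.card] using this
  · rw [← hcard, mul_comm]

end Cfsg.Agent.Lib.helper73
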