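import Mathlib
import Cfsg.Agent.Lib.helper42.FGDefs

/-! S1915 split (helper42), piece K1C: the cyclic subgroup `B` has `z` as its only involution. -/

set_option autoImplicit false

namespace Cfsg.Agent.Lib.helper42.FG

variable {G : Type*} [Group G] [Finite G]

theorem k1_of_cyclic {S U B : Subgroup G} (hB : BData S U B) {z : G} (hzB : z ∈ B) (hz : ZData S z) :
    ∀ q ∈ B, q ^ 2 = 1 → q = 1 ∨ q = z := by
  classical
  intro q hq hq2
  by_contra hcon
  push_neg at hcon
  haveI := hB.hcyc
  haveI : Fintype ↥B := Fintype.ofFinite _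
  have hle := IsCyclic.card_pow_eq_one_le (α := ↥B) (n := 2) (by norm_num)
  have hz1 : z ≠ 1 := by
    intro h
    have h2 := hz.hz2
    rw [h, orderOf_one] at h2
    norm_num at h2
  have hzz : z ^ 2 = 1 := by
    rw [← hz.hz2]; exact pow_orderOf_eq_one z
  have hsub : ({1, ⟨z, hzB⟩, ⟨q, hq⟩} : Finset ↥B) ⊆
      Finset.univ.filter (fun a : ↥B => a ^ 2 = 1) := by
    intro a ha
    simp only [Finset.mem_insert, Finset.mem_singleton] at ha
    simp only [Finset.mem_filter, Finset.mem_univ, true_and]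
    rcases ha with rfl | rfl | rfl
    · simp
    · exact Subtype.ext hzz
    · exact Subtype.ext hq2
  have hn1 : (⟨z, hzB⟩ : ↥B) ∉ ({⟨q, hq⟩} : Finset ↥B) := by
    simp only [Finset.mem_singleton]
    intro h
    exact hcon.2 (congrArg Subtype.val h).symm
  have hn2 : (1 : ↥B) ∉ ({⟨z, hzB⟩, ⟨q, hq⟩} : Finset ↥B) := by
    simp only [Finset.mem_insert, Finset.mem_singleton]
    rintro (h | h)
    · exact hz1 (congrArg Subtype.val h).symm
    · exact hcon.1 (congrArg Subtype.val h).symm
  have hcard : ({1, ⟨z, hzB⟩, ⟨q, hq⟩} : Finset ↥B).card = 3 := by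
    rw [Finset.card_insert_of_notMem hn2, Finset.card_insert_of_notMem hn1, Finset.card_singleton]
  have h3 := Finset.card_le_card hsub
  omega

end Cfsg.Agent.Lib.helper42.FG
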