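import Mathlib
import Cfsg.Agent.Lib.helper42.FGDefs

/-! S1915 split (helper42), piece CARD: in a configuration, `S` has more than 4 elements. -/

set_option autoImplicit false

namespace Cfsg.Agent.Lib.helper42.FG

variable {G : Type*} [Group G] [Finite G]

theorem card_S_gt {A S U : Subgroup G} (h : Cfg A S U) : 4 < Nat.card S := by
  obtain ⟨E, hES, hE, hcE⟩ := h.hc
  by_contra hle
  push_neg at hle
  have hdvd : Nat.card E ∣ Nat.card S := Subgroup.card_dvd_of_le hES
  have hle2 : Nat.card E ≤ Nat.card S := Nat.le_of_dvd Nat.card_pos hdvd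
  have heq : Nat.card S ≤ Nat.card E := by
    by_contra hlt
    push_neg at hlt
    have h3 : Nat.card E = 3 := by omega
    have h4 : Nat.card S = 4 := by omega
    rw [h3, h4] at hdvd
    norm_num at hdvd
  have hES' : E = S := Subgroup.eq_of_le_of_card_ge hES heq
  have h5 := h.ha S le_rfl h.hUS (hES' ▸ hE)
  omega

end Cfsg.Agent.Lib.helper42.FG
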