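import Mathlib
import Cfsg.Agent.Lib.helper42.FGDefs

/-! S1915 split (helper42), piece GEN: a cyclic subgroup is `zpowers` of one of its elements. -/

set_option autoImplicit false

namespace Cfsg.Agent.Lib.helper42.FG

variable {G : Type*} [Group G] [Finite G]

theorem gen_of_cyclic (B : Subgroup G) (hB : IsCyclic B) : ∃ b : G, Subgroup.zpowers b = B := by
  obtain ⟨g, hg⟩ := hB.exists_generator
  refine ⟨(g : G), ?_⟩
  ext x
  constructor
  · rintro ⟨k, rfl⟩
    exact B.zpow_mem g.2 k
  · intro hx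
    obtain ⟨k, hk⟩ := hg ⟨x, hx⟩
    refine ⟨k, ?_⟩
    have h1 := congrArg Subtype.val hk
    simpa using h1

end Cfsg.Agent.Lib.helper42.FG
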