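import Mathlib
import Cfsg.Agent.Lib.helper3.GfDefs
import Cfsg.Agent.Lib.helper22.SV_IRR

set_option autoImplicit false

namespace Cfsg.Agent.Lib.helper3.Gf

open Polynomial

/-- IRRDIM (racing copy of `irr_card`, verbatim statement). -/
theorem h73_irr_card (p q : ℕ) [Fact p.Prime] [Fact q.Prime] (hpq : p ≠ q) {V : Type*} [AddCommGroup V] [Finite V]
    (T : V ≃+ V) (h : Irr p q T) : Nat.card V = p ^ orderOf (p : ZMod q) := by
  classical
  have hp : p.Prime := Fact.out
  have hq : q.Prime := Fact.out
  have instM : Module (ZMod p) V := AddCommGroup.zmodModule h.exp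
  obtain ⟨R, hR⟩ : ∃ R : V →ₗ[ZMod p] V, ∀ v, R v = T v :=
    ⟨(T : V →+ V).toZModLinearMap p, fun v => rfl⟩
  have hN : Nontrivial V := by
    obtain ⟨v, hv⟩ := h.ne
    refine ⟨⟨v, 0, ?_⟩⟩
    rintro rfl
    exact hv (map_zero T)
  have hsimple : ∀ U : Submodule (ZMod p) V, (∀ v ∈ U, R v ∈ U) → U = ⊥ ∨ U = ⊤ := by
    intro U hU
    rcases h.irr U.toAddSubgroup (fun w hw => by
      have := hU w hw
      rw [hR] at this
      exact this) with h1 | h1
    · left
      apply Submodule.toAddSubgroup_injective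
      rw [h1]; rfl
    · right
      apply Submodule.toAddSubgroup_injective
      rw [h1]; rfl
  have hirr : Irreducible R.charpoly :=
    Cfsg.Agent.Lib.helper45.SV.charpoly_irreducible_of_simple R hN hsimple
  have hfin : Module.Finite (ZMod p) V := Module.Finite.of_finite
  -- R ^ q = 1
  have hRq : R ^ q = 1 := by
    ext v
    rw [Module.End.pow_apply]
    have hfun : (⇑R) = (⇑T) := funext hR
    rw [hfun, h.pow v]
    rfl
  have hmin : minpoly (ZMod p) R ∣ (X ^ q - 1 : (ZMod p)[X]) := by
    apply minpoly.dvd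
    simp [hRq]
  have hmc : minpoly (ZMod p) R ∣ R.charpoly := LinearMap.minpoly_dvd_charpoly R
  have hassoc : Associated (minpoly (ZMod p) R) R.charpoly := by
    obtain ⟨c, hc⟩ := hmc
    rcases hirr.isUnit_or_isUnit hc with h1 | h1
    · exact absurd h1 (minpoly.not_isUnit (ZMod p) R)
    · exact ⟨h1.unit, by rw [hc]; rfl⟩
  have hcharX : R.charpoly ∣ (X ^ q - 1 : (ZMod p)[X]) := (hassoc.dvd_iff_dvd_left).1 hmin
  rw [← cyclotomic_prime_mul_X_sub_one (ZMod p) q] at hcharX
  have hdeg : R.charpoly.natDegree = Module.finrank (ZMod p) V := LinearMap.charpoly_natDegree R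
  have hpos : 0 < Module.finrank (ZMod p) V := Module.finrank_pos
  have hcyc : R.charpoly ∣ cyclotomic q (ZMod p) := by
    rcases hirr.prime.dvd_or_dvd hcharX with h1 | h1
    · exact h1
    · exfalso
      have hmonic : R.charpoly.Monic := LinearMap.charpoly_monic R
      have hX1 : (X - 1 : (ZMod p)[X]).Monic := by
        have := monic_X_sub_C (1 : ZMod p)
        simpa using this
      have hle : (X - 1 : (ZMod p)[X]).natDegree ≤ R.charpoly.natDegree := by
        have h2 : (X - 1 : (ZMod p)[X]).natDegree = 1 := by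
          have := natDegree_X_sub_C (1 : ZMod p)
          simpa using this
        rw [h2, hdeg]
        exact hpos
      have heq : (X - 1 : (ZMod p)[X]) = R.charpoly :=
        eq_of_monic_of_dvd_of_natDegree_le hmonic hX1 h1 hle
      have hCH := LinearMap.aeval_self_charpoly R
      rw [← heq] at hCH
      have hR1 : R - 1 = 0 := by simpa using hCH
      obtain ⟨v, hv⟩ := h.ne
      apply hv
      rw [← hR, sub_eq_zero.1 hR1]
      rfl
  have hcop : p.Coprime q := (Nat.coprime_primes hp hq).2 hpq
  have hK : Fintype.card (ZMod p) = p ^ 1 := by rw [ZMod.card, pow_one]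
  have hnat := natDegree_of_dvd_cyclotomic_of_irreducible hK hcop hcyc hirr
  have hord : orderOf (ZMod.unitOfCoprime (p ^ 1) (hcop.pow_left 1)) = orderOf (p : ZMod q) := by
    rw [← orderOf_units, ZMod.coe_unitOfCoprime, pow_one]
  rw [Module.natCard_eq_pow_finrank (K := ZMod p) (V := V), Nat.card_eq_fintype_card, ZMod.card,
    ← hdeg, hnat, hord]

end Cfsg.Agent.Lib.helper3.Gf
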