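import Mathlib
import Cfsg.Agent.Lib.helper21.M11Defs
import Cfsg.Agent.Lib.helper4.DefectZero
import Cfsg.Agent.Lib.helper82.CharInt

set_option autoImplicit false

open Cfsg Cfsg.Agent.Lib.helper4 Cfsg.Agent.Lib.helper21

universe u

namespace Cfsg.Agent.Lib.helper73

/-- S4429 piece V: an irreducible character of `p`-defect zero vanishes on `p`-singular
elements (wrapper of `helper4.char_eq_zero_of_defect_zero` for `IrrCharacter`). -/
theorem irr_vanish_of_defect_zero {G : Type u} [Group G] [Fintype G] (ψ : IrrCharacter G)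
    (p n : ℕ) (hp : p.Prime) (hn : p ^ n ∣ Nat.card G) (hn' : ¬ p ^ (n + 1) ∣ Nat.card G)
    (hdeg : p ^ n ∣ charDegree (ψ : G → ℂ)) (x : G) (hx : p ∣ orderOf x) :
    (ψ : G → ℂ) x = 0 := by
  obtain ⟨χf, m, ρ, hirr, rfl⟩ := ψ
  have := hirr
  have hdeg' : p ^ n ∣ Module.finrank ℂ (Fin m → ℂ) := by
    have h := Cfsg.Agent.Lib.helper82.charDegree_char ρ
    simpa [h] using hdeg
  exact char_eq_zero_of_defect_zero ρ p n hp hn' hdeg' x hx

end Cfsg.Agent.Lib.helper73
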