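import Mathlib

set_option autoImplicit false

/-!
Generating tuples of `p`-groups and the Frattini subgroup (Burnside basis theorem, easy half).
-/

namespace Cfsg.Agent.Lib.helper73

/-- A group of order `p ^ r` is generated by `r` elements. -/
theorem exists_generating_tuple_of_card_pow {Q : Type*} [Group Q] [Finite Q] {p r : ℕ}
    (hp : p.Prime) (h : Nat.card Q = p ^ r) :
    ∃ f : Fin r → Q, Subgroup.closure (Set.range f) = ⊤ := by
  have key : ∀ i : ℕ, ∃ f : Fin i → Q, Subgroup.closure (Set.range f) = ⊤ ∨
      p ^ i ≤ Nat.card (Subgroup.closure (Set.range f)) := by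
    intro i
    induction i with
    | zero =>
      refine ⟨Fin.elim0, Or.inr ?_⟩
      simp
    | succ i ih =>
      obtain ⟨f, hf⟩ := ih
      by_cases htop : Subgroup.closure (Set.range f) = ⊤
      · refine ⟨Fin.snoc f 1, Or.inl ?_⟩
        rw [eq_top_iff, ← htop]
        apply Subgroup.closure_mono
        rintro _ ⟨j, rfl⟩
        exact ⟨j.castSucc, by simp⟩
      · have hf' := hf.resolve_left htop
        obtain ⟨x, hx⟩ := SetLike.exists_not_mem_of_ne_top _ htop
        refine ⟨Fin.snoc f x, Or.inr ?_⟩
        set H := Subgroup.closure (Set.range f) with hH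
        set H' := Subgroup.closure (Set.range (Fin.snoc f x : Fin (i + 1) → Q)) with hH'
        have hle : H ≤ H' := by
          apply Subgroup.closure_mono
          rintro _ ⟨j, rfl⟩
          exact ⟨j.castSucc, by simp⟩
        have hxH' : x ∈ H' := by
          apply Subgroup.subset_closure
          exact ⟨Fin.last i, by simp⟩
        have hlt : Nat.card H < Nat.card H' := by
          by_contra hcon
          push Not at hcon
          have := Subgroup.eq_of_le_of_card_ge hle hcon
          exact hx (this ▸ hxH')
        obtain ⟨a, -, ha⟩ := (Nat.dvd_prime_pow hp).mp (h ▸ Subgroup.card_subgroup_dvd_card H)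
        obtain ⟨b, -, hb⟩ := (Nat.dvd_prime_pow hp).mp (h ▸ Subgroup.card_subgroup_dvd_card H')
        rw [ha] at hf' hlt
        rw [hb] at hlt ⊢
        have h1 : i ≤ a := (Nat.pow_le_pow_iff_right hp.one_lt).mp hf'
        have h2 : a < b := (Nat.pow_lt_pow_iff_right hp.one_lt).mp hlt
        exact Nat.pow_le_pow_right hp.pos (by omega)
  obtain ⟨f, hf⟩ := key r
  refine ⟨f, ?_⟩
  rcases hf with hf | hf
  · exact hf
  · exact Subgroup.eq_top_of_le_card _ (h ▸ hf)

/-- If the Frattini subgroup of a finite group has index `p ^ r`, the group is generated by `r`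
elements. -/
theorem exists_generating_tuple_frattini {P : Type*} [Group P] [Finite P] {p r : ℕ}
    (hp : p.Prime) (hr : (frattini P).index = p ^ r) :
    ∃ x : Fin r → P, Subgroup.closure (Set.range x) = ⊤ := by
  have hcard : Nat.card (P ⧸ frattini P) = p ^ r := by
    rw [← Subgroup.index_eq_card, hr]
  obtain ⟨f, hf⟩ := exists_generating_tuple_of_card_pow hp hcard
  have hsurj : ∀ i, ∃ y : P, QuotientGroup.mk' (frattini P) y = f i := fun i =>
    QuotientGroup.mk'_surjective (frattini P) (f i)
  choose x hx using hsurj
  refine ⟨x, ?_⟩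
  apply frattini_nongenerating
  have h1 : (Subgroup.closure (Set.range x)).map (QuotientGroup.mk' (frattini P)) = ⊤ := by
    rw [MonoidHom.map_closure, ← Set.range_comp, ← hf]
    congr 1
    ext q
    constructor
    · rintro ⟨i, rfl⟩
      exact ⟨i, (hx i).symm⟩
    · rintro ⟨i, rfl⟩
      exact ⟨i, hx i⟩
  have h2 := Subgroup.comap_map_eq (QuotientGroup.mk' (frattini P)) (Subgroup.closure (Set.range x))
  rw [h1, Subgroup.comap_top, QuotientGroup.ker_mk'] at h2
  exact h2.symm

/-- A tuple congruent to a generating tuple modulo the Frattini subgroup is generating. -/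
theorem closure_eq_top_of_frattini_cosets {P : Type*} [Group P] [Finite P] {ι : Type*}
    (x y : ι → P) (hx : Subgroup.closure (Set.range x) = ⊤)
    (h : ∀ i, y i * (x i)⁻¹ ∈ frattini P) : Subgroup.closure (Set.range y) = ⊤ := by
  apply frattini_nongenerating
  rw [eq_top_iff, ← hx, Subgroup.closure_le]
  rintro _ ⟨i, rfl⟩
  have h1 : x i = (y i * (x i)⁻¹)⁻¹ * y i := by group
  rw [h1]
  exact Subgroup.mul_mem _ (Subgroup.mem_sup_right (Subgroup.inv_mem _ (h i)))
    (Subgroup.mem_sup_left (Subgroup.subset_closure ⟨i, rfl⟩))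

theorem mem_frattini_iff {G : Type*} [Group G] (x : G) :
    x ∈ frattini G ↔ ∀ M : Subgroup G, IsCoatom M → x ∈ M := by
  unfold frattini Order.radical
  simp [Subgroup.mem_iInf]

/-- A maximal subgroup of a finite `p`-group is normal of index `p`. -/
theorem coatom_normal_index {P : Type*} [Group P] [Finite P] {p n : ℕ} [Fact p.Prime]
    (hP : Nat.card P = p ^ n) (M : Subgroup P) (hM : IsCoatom M) : M.Normal ∧ M.index = p := by
  have hp : p.Prime := Fact.out
  obtain ⟨a, han, ha⟩ := (Nat.dvd_prime_pow hp).mp (hP ▸ Subgroup.card_subgroup_dvd_card M)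
  have hlt : a < n := by
    rcases Nat.lt_or_ge a n with h | h
    · exact h
    · exfalso
      have : a = n := le_antisymm han h
      apply hM.1
      apply Subgroup.eq_top_of_card_eq
      rw [ha, hP, this]
  obtain ⟨K, hK, hMK⟩ := Sylow.exists_subgroup_card_pow_succ (p := p) (n := a)
    (by rw [hP]; exact Nat.pow_dvd_pow p hlt) ha
  have hne : M ≠ K := by
    intro h
    rw [← h, ha] at hK
    have := Nat.pow_right_injective hp.two_le hK
    omega
  have hKtop : K = ⊤ := hM.2 K (lt_of_le_of_ne hMK hne)
  have han' : a + 1 = n := by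
    rw [hKtop, Subgroup.card_top, hP] at hK
    exact (Nat.pow_right_injective hp.two_le hK).symm
  have hidx : M.index = p := by
    have h1 := Subgroup.card_mul_index M
    rw [ha, hP, ← han', pow_succ] at h1
    exact Nat.eq_of_mul_eq_mul_left (Nat.pow_pos hp.pos) h1
  refine ⟨?_, hidx⟩
  apply Subgroup.normal_of_index_eq_minFac_card
  rw [hidx, hP, hp.pow_minFac (by omega)]

/-- In a finite `p`-group, `p`-th powers lie in the Frattini subgroup. -/
theorem pow_mem_frattini {P : Type*} [Group P] [Finite P] {p n : ℕ} [Fact p.Prime]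
    (hP : Nat.card P = p ^ n) (x : P) : x ^ p ∈ frattini P := by
  rw [mem_frattini_iff]
  intro M hM
  obtain ⟨hn, hidx⟩ := coatom_normal_index hP M hM
  have := Subgroup.pow_index_mem M x
  rwa [hidx] at this

/-- In a finite `p`-group, commutators lie in the Frattini subgroup. -/
theorem commutator_mem_frattini {P : Type*} [Group P] [Finite P] {p n : ℕ} [Fact p.Prime]
    (hP : Nat.card P = p ^ n) (x y : P) : x * y * x⁻¹ * y⁻¹ ∈ frattini P := by
  rw [mem_frattini_iff]
  intro M hM
  obtain ⟨hn, hidx⟩ := coatom_normal_index hP M hM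
  have hcard : Nat.card (P ⧸ M) = p := by rw [← Subgroup.index_eq_card, hidx]
  have hcyc := isCyclic_of_prime_card hcard
  have hc := (isMulCommutative_iff.mp (IsCyclic.isMulCommutative (α := P ⧸ M)))
    (QuotientGroup.mk' M x) (QuotientGroup.mk' M y)
  rw [← QuotientGroup.ker_mk' M, MonoidHom.mem_ker, map_mul, map_mul, map_mul, map_inv, map_inv,
    hc]
  group

/-- A tuple generates a finite group iff its image generates the Frattini quotient. -/
theorem closure_eq_top_iff_mk_frattini {P : Type*} [Group P] [Finite P] {ι : Type*} (x : ι → P) :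
    Subgroup.closure (Set.range x) = ⊤ ↔
      Subgroup.closure (Set.range fun i => QuotientGroup.mk' (frattini P) (x i)) = ⊤ := by
  have h1 : (Subgroup.closure (Set.range x)).map (QuotientGroup.mk' (frattini P)) =
      Subgroup.closure (Set.range fun i => QuotientGroup.mk' (frattini P) (x i)) := by
    rw [MonoidHom.map_closure, ← Set.range_comp]
    rfl
  constructor
  · intro h
    rw [← h1, h]
    exact Subgroup.map_top_of_surjective _ (QuotientGroup.mk'_surjective _)
  · intro h
    apply frattini_nongenerating
    have h2 := Subgroup.comap_map_eq (QuotientGroup.mk' (frattini P))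
      (Subgroup.closure (Set.range x))
    rw [h1, h, Subgroup.comap_top, QuotientGroup.ker_mk'] at h2
    exact h2.symm

end Cfsg.Agent.Lib.helper73
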