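import Cfsg.Agent.Lib.helper73.TWC
import Cfsg.Agent.Lib.helper54.FStarQuot
import Cfsg.Agent.Lib.helper54.FStar2

/-!
# Thompson–Wielandt: the main theorem

`M`, `M'` distinct conjugate core-free maximal subgroups of the finite group `G`,
`A₁ = core_M(M ∩ M')`, `B₁ = core_{M'}(M ∩ M')`, `A₂ = core_M(A₁ ∩ B₁)`, `B₂ = core_{M'}(A₁ ∩ B₁)`.
If `A₂ ≠ 1 ≠ B₂` then for some prime `p`: `A₂ B₂` is a `p`-group, and
`F*(M) = O_p(M)`, `F*(A₁) = O_p(A₁)` (and the same for `M'`, `B₁`).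
-/

namespace Cfsg.Agent.Lib.helper73.TW

open Cfsg

variable {G : Type*} [Group G]

theorem pCore_eq_bot_of_pCoreOf {p : ℕ} {H : Subgroup G} (h : pCoreOf p H = ⊥) :
    pCore p ↥H = ⊥ := by
  unfold pCoreOf at h
  exact (Subgroup.map_eq_bot_iff_of_injective _ H.subtype_injective).1 h

/-- **Step C**: some `O_p(M)` is nontrivial. -/
theorem exists_pCoreOf_ne_bot [Finite G] {M M' : Subgroup G} (h : Cfg M M') (hX : X M M' ≠ ⊥)
    (hY : X M' M ≠ ⊥) : ∃ p : ℕ, p.Prime ∧ pCoreOf p M ≠ ⊥ := by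
  by_contra hcon
  push Not at hcon
  have hF : fittingSubgroup ↥M = ⊥ := by
    rw [eq_bot_iff]
    apply Cfsg.Agent.Lib.helper54.fittingSubgroup_le_of_pCore_le
    intro q hq
    rw [pCore_eq_bot_of_pCoreOf (hcon q hq)]
  have hFs : fstarOf M = layerOf M := by
    unfold fstarOf layerOf generalizedFittingSubgroup
    rw [hF, sup_bot_eq]
  have h1 : fstarOf M ≤ X M M' := hFs ▸ layerOf_le_X h hX hY
  have h2 : fstarOf M ≤ fstarOf (X M M') :=
    (le_inf le_rfl h1).trans (fstarOf_inf_le (X_le_left M M') (X_subn_left M M'))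
  have h3 : fstarOf (X M M') ≤ fstarOf M' := fstarOf_le_fstarOf (X_le_right M M') (X_subn M M')
  obtain ⟨e⟩ := h.iso
  have heq : fstarOf M = fstarOf M' :=
    Subgroup.eq_of_le_of_card_ge (h2.trans h3) (card_fstarOf_eq e).symm.le
  have hbot : fstarOf M = ⊥ := h.eq_bot (fstarOf_le M) (le_normalizer_fstarOf M)
    (by rw [heq]; exact le_normalizer_fstarOf M')
  have hFb : generalizedFittingSubgroup ↥M = ⊥ :=
    (Subgroup.map_eq_bot_iff_of_injective _ M.subtype_injective).1 hbot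
  have hc := Cfsg.Agent.Lib.helper28.centralizer_generalizedFittingSubgroup_le ↥M
  rw [hFb] at hc
  have htop : (⊤ : Subgroup ↥M) ≤ ⊥ := by
    refine le_trans ?_ hc
    intro x _
    rw [Subgroup.mem_centralizer_iff]
    intro y hy
    have hy1 : y = 1 := hy
    subst hy1
    simp
  apply hX
  rw [eq_bot_iff]
  intro x hx
  have h5 := htop (Subgroup.mem_top (⟨x, X_le_left M M' hx⟩ : ↥M))
  rw [Subgroup.mem_bot] at h5 ⊢
  exact congrArg Subtype.val h5

/-- One half of the main theorem. -/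
theorem half [Finite G] {M M' : Subgroup G} (h : Cfg M M') (hX : X M M' ≠ ⊥)
    (hY : X M' M ≠ ⊥) {p : ℕ} [hp : Fact p.Prime] (hpM : pCoreOf p M ≠ ⊥) :
    IsPGroup p ↥(X M M') ∧ generalizedFittingSubgroup ↥M = pCore p ↥M ∧
      generalizedFittingSubgroup ↥(A1 M M') = pCore p ↥(A1 M M') := by
  have hXp : IsPGroup p ↥(X M M') := by
    by_contra hn
    exact hpM (pCoreOf_eq_bot_of_not_isPGroup h hn).2
  have hL : layer ↥M = ⊥ := by
    unfold layer
    rw [sSup_eq_bot]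
    intro K hK
    exfalso
    have hKX : K ≤ (X M M').subgroupOf M := fun k hk => by
      rw [Subgroup.mem_subgroupOf]
      exact layerOf_le_X h hX hY ⟨k, Cfsg.Agent.Lib.helper28.le_layer hK hk, rfl⟩
    have hsol : Group.IsSolvable ↥((X M M').subgroupOf M) := by
      have hpg : IsPGroup p ↥((X M M').subgroupOf M) :=
        hXp.comap_of_injective M.subtype M.subtype_injective
      haveI := hpg.isNilpotent
      infer_instance
    exact Cfsg.Agent.Lib.helper27.IsComponent.not_le_of_isSolvable hK hsol hKX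
  have hFit : fittingSubgroup ↥M ≤ pCore p ↥M := by
    apply Cfsg.Agent.Lib.helper54.fittingSubgroup_le_of_pCore_le
    intro q hq
    by_cases hqp : q = p
    · subst hqp; exact le_rfl
    · haveI : Fact q.Prime := ⟨hq⟩
      have hnq : ¬ IsPGroup q ↥(X M M') := by
        intro hq'
        have hd := IsPGroup.disjoint_of_ne q p hqp _ _ hq' hXp
        exact hX (disjoint_self.1 hd)
      rw [pCore_eq_bot_of_pCoreOf (pCoreOf_eq_bot_of_not_isPGroup h hnq).2]
      exact bot_le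
  have hFs : generalizedFittingSubgroup ↥M = pCore p ↥M := by
    unfold generalizedFittingSubgroup
    rw [hL, bot_sup_eq]
    exact le_antisymm hFit (Cfsg.Agent.Lib.helper27.pCore_le_fittingSubgroup p)
  refine ⟨hXp, hFs, ?_⟩
  rw [← Cfsg.Agent.Lib.helper54.isPGroup_generalizedFittingSubgroup_iff]
  have h1 : fstarOf (A1 M M') ≤ fstarOf M :=
    fstarOf_le_fstarOf (A1_le_left M M') (subn_of_le_normalizer (le_normalizer_A1 M M'))
  have h2 : IsPGroup p ↥(fstarOf M) := by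
    unfold fstarOf
    rw [hFs]
    exact pCoreOf_isPGroup p M
  have h3 : IsPGroup p ↥(fstarOf (A1 M M')) := h2.to_le h1
  intro g
  obtain ⟨k, hk⟩ := h3 ⟨((g : ↥(A1 M M')) : G), ⟨g.1, g.2, rfl⟩⟩
  refine ⟨k, ?_⟩
  have h4 := congrArg (fun z : ↥(fstarOf (A1 M M')) => (z : G)) hk
  apply Subtype.ext
  apply Subtype.ext
  simpa using h4

/-- **Thompson–Wielandt** (second cores). -/
theorem main [Finite G] {M M' : Subgroup G} (h : Cfg M M') (hX : X M M' ≠ ⊥)
    (hY : X M' M ≠ ⊥) :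
    ∃ p : ℕ, p.Prime ∧ IsPGroup p ↥(X M M' ⊔ X M' M) ∧ IsPGroup p ↥(X M M') ∧
      generalizedFittingSubgroup ↥M = pCore p ↥M ∧
      generalizedFittingSubgroup ↥(A1 M M') = pCore p ↥(A1 M M') ∧
      generalizedFittingSubgroup ↥M' = pCore p ↥M' ∧
      generalizedFittingSubgroup ↥(A1 M' M) = pCore p ↥(A1 M' M) := by
  obtain ⟨p, hp, hpM⟩ := exists_pCoreOf_ne_bot h hX hY
  haveI : Fact p.Prime := ⟨hp⟩
  obtain ⟨e⟩ := h.iso
  have hpM' : pCoreOf p M' ≠ ⊥ := by
    intro hbot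
    have hcard := card_pCoreOf_eq e p
    rw [hbot] at hcard
    exact hpM (Subgroup.card_eq_one.1 (by simpa using hcard))
  obtain ⟨hXp, h1, h2⟩ := half h hX hY hpM
  obtain ⟨hYp, h3, h4⟩ := half h.symm hY hX hpM'
  refine ⟨p, hp, ?_, hXp, h1, h2, h3, h4⟩
  exact IsPGroup.to_sup_of_normal_right' hXp hYp ((X_le_right M M').trans (le_normalizer_X M' M))

end Cfsg.Agent.Lib.helper73.TW
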