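import Mathlib
import Cfsg.Agent.Lib.helper15.PrimeDeg

/-!
# Subgroups of prime index in simple groups

A non-abelian finite simple group with a subgroup of prime index `p` acts faithfully and
transitively on `p` points, so by Burnside's theorem on groups of prime degree it is doubly
transitive; in particular `p * (p - 1)` divides its order.
-/

set_option autoImplicit false

namespace Cfsg.Agent.Lib.helper73.PrimeIdx

/-- A non-abelian finite simple group with a subgroup of prime index `p` has order divisible by
`p * (p - 1)` (Burnside: it is doubly transitive of degree `p`). -/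
theorem prime_index_dvd {G : Type*} [Group G] [Finite G] [IsSimpleGroup G]
    (hG : ¬ IsMulCommutative G) (H : Subgroup G) (hp : H.index.Prime) :
    H.index * (H.index - 1) ∣ Nat.card G := by
  classical
  haveI : Fact (H.index).Prime := ⟨hp⟩
  haveI : Fintype (G ⧸ H) := Fintype.ofFinite _
  have hcard : Fintype.card (G ⧸ H) = H.index := by
    rw [← Nat.card_eq_fintype_card]
    rfl
  have hHtop : H ≠ ⊤ := by
    intro h
    rw [h, Subgroup.index_top] at hp
    exact Nat.not_prime_one hp
  have hker : (MulAction.toPermHom G (G ⧸ H)).ker = ⊥ := by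
    rw [← Subgroup.normalCore_eq_ker]
    rcases (inferInstance : H.normalCore.Normal).eq_bot_or_eq_top with h | h
    · exact h
    · exfalso
      apply hHtop
      rw [eq_top_iff, ← h]
      exact Subgroup.normalCore_le H
  have hinj : Function.Injective (MulAction.toPermHom G (G ⧸ H)) :=
    (MonoidHom.ker_eq_bot_iff _).mp hker
  haveI : FaithfulSMul G (G ⧸ H) := by
    refine ⟨fun {g₁ g₂} h => hinj ?_⟩
    ext a
    exact h a
  rcases Cfsg.Agent.Lib.helper15.PrimeDeg.burnside_prime_degree (G := G) (α := G ⧸ H)
      (p := H.index) hcard with hs | h2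
  · exfalso
    apply hG
    have hc : ∀ a b : G, a * b = b * a := IsSimpleGroup.comm_iff_isSolvable.mpr hs
    exact ⟨⟨hc⟩⟩
  · have h2le : Fintype.card (Fin 2) ≤ Fintype.card (G ⧸ H) := by
      rw [hcard, Fintype.card_fin]
      exact hp.two_le
    obtain ⟨x⟩ := Function.Embedding.nonempty_of_card_le h2le
    have h1 := MulAction.index_stabilizer_of_transitive G x
    have h3 : Nat.card (Fin 2 ↪ G ⧸ H) = H.index * (H.index - 1) := by
      rw [Nat.card_eq_fintype_card, Fintype.card_embedding_eq, hcard, Fintype.card_fin]
      simp [Nat.descFactorial, mul_comm]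
    rw [← h3, ← h1]
    exact Subgroup.index_dvd_card _

end Cfsg.Agent.Lib.helper73.PrimeIdx
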