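import Mathlib
import Cfsg.Prelude.Def_Local

set_option autoImplicit false

/-!
`Cfsg.IsPSolvable`: inheritance by subgroups, existence of `p`-complements.
-/

namespace Cfsg.Agent.Lib.helper73

universe u

/-- For `X` normal and `X ≤ Y`, the relative index of the traces on `B` divides the relative
index. -/
theorem relIndex_subgroupOf_dvd {G : Type*} [Group G] (X Y B : Subgroup G) [X.Normal] :
    (X.subgroupOf B).relIndex (Y.subgroupOf B) ∣ X.relIndex Y := by
  have h1 : (X.subgroupOf B).relIndex (Y.subgroupOf B) = X.relIndex (Y ⊓ B) := by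
    rw [← Subgroup.inf_subgroupOf_right Y B, Subgroup.relIndex_subgroupOf inf_le_right]
  have h2 : X.relIndex (Y ⊓ B) ∣ X.relIndex Y := by
    have h3 := Subgroup.relIndex_dvd_index_of_normal (H := X.subgroupOf Y)
      (K := (Y ⊓ B).subgroupOf Y)
    rw [Subgroup.relIndex_subgroupOf inf_le_left] at h3
    exact h3
  rw [h1]
  exact h2

/-- `p`-solvability passes to subgroups. -/
theorem isPSolvable_subgroup {G : Type*} [Group G] {p : ℕ} (hp : p.Prime)
    (hG : Cfsg.IsPSolvable p G) (B : Subgroup G) : Cfsg.IsPSolvable p B := by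
  obtain ⟨n, H, h0, hlast, hmono, hnorm, hfac⟩ := hG
  refine ⟨n, fun i => (H i).subgroupOf B, ?_, ?_, ?_, ?_, ?_⟩
  · simp [h0]
  · simp [hlast]
  · intro i j hij
    exact Subgroup.comap_mono (hmono hij)
  · intro i
    have := hnorm i
    infer_instance
  · intro i
    have := hnorm i.castSucc
    have key := relIndex_subgroupOf_dvd (H i.castSucc) (H i.succ) B
    rcases hfac i with ⟨m, hm⟩ | hc
    · left
      rw [hm] at key
      obtain ⟨j, -, hj⟩ := (Nat.dvd_prime_pow hp).mp key
      exact ⟨j, hj⟩
    · right
      exact Nat.Coprime.coprime_dvd_left key hc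

theorem exists_pcomplement_aux (p : ℕ) (hp : p.Prime) : ∀ (n : ℕ) (G : Type u) [Group G] [Finite G]
    (H : Fin (n + 1) → Subgroup G), H 0 = ⊥ → H (Fin.last n) = ⊤ → Monotone H →
    (∀ i, (H i).Normal) →
    (∀ i : Fin n, (∃ m : ℕ, (H i.castSucc).relIndex (H i.succ) = p ^ m) ∨
      ((H i.castSucc).relIndex (H i.succ)).Coprime p) →
    ∃ K : Subgroup G, (Nat.card K).Coprime p ∧ ∃ j : ℕ, K.index = p ^ j := by
  intro n
  induction n with
  | zero =>
    intro G _ _ H h0 hlast _ _ _
    have hbt : (⊥ : Subgroup G) = ⊤ := by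
      rw [← h0, ← hlast]; rfl
    refine ⟨⊥, by simp, 0, ?_⟩
    rw [hbt]
    simp
  | succ n ih =>
    intro G _ _ H h0 hlast hmono hnorm hfac
    have hN : (H 1).Normal := hnorm 1
    let π := QuotientGroup.mk' (H 1)
    have hπ : Function.Surjective π := QuotientGroup.mk'_surjective (H 1)
    obtain ⟨Kb, hKb, j, hj⟩ := ih (G ⧸ H 1) (fun i => (H i.succ).map π)
      (by
        show (H (Fin.succ 0)).map π = ⊥
        rw [Fin.succ_zero_eq_one]
        exact QuotientGroup.map_mk'_self (H 1))
      (by
        show (H (Fin.last n).succ).map π = ⊤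
        rw [Fin.succ_last, hlast]
        exact Subgroup.map_top_of_surjective π hπ)
      (by
        intro a b hab
        exact Subgroup.map_mono (hmono (Fin.succ_le_succ_iff.mpr hab)))
      (by
        intro i
        exact Subgroup.Normal.map (hnorm i.succ) π hπ)
      (by
        intro i
        have h1 : ((H i.castSucc.succ).map π).relIndex ((H i.succ.succ).map π) =
            (H i.succ.castSucc).relIndex (H i.succ.succ) := by
          rw [← Subgroup.relIndex_comap, Subgroup.comap_map_eq, QuotientGroup.ker_mk']
          have hle : H 1 ≤ H i.castSucc.succ := by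
            apply hmono
            rw [← Fin.succ_zero_eq_one]
            exact Fin.succ_le_succ_iff.mpr (Fin.zero_le _)
          rw [sup_eq_left.mpr hle, Fin.succ_castSucc]
        show (∃ m : ℕ, ((H i.castSucc.succ).map π).relIndex ((H i.succ.succ).map π) = p ^ m) ∨
          (((H i.castSucc.succ).map π).relIndex ((H i.succ.succ).map π)).Coprime p
        rw [h1]
        exact hfac i.succ)
    -- the preimage
    let M : Subgroup G := Kb.comap π
    have hNM : H 1 ≤ M := by
      intro x hx
      show π x ∈ Kb
      have : π x = 1 := by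
        rw [← MonoidHom.mem_ker, QuotientGroup.ker_mk']
        exact hx
      rw [this]
      exact Subgroup.one_mem _
    have hMidx : M.index = p ^ j := by
      rw [← hj]
      exact Subgroup.index_comap_of_surjective Kb hπ
    have hppos : 0 < p ^ j := Nat.pow_pos hp.pos
    have hMcard : Nat.card M = Nat.card (H 1) * Nat.card Kb := by
      have e1 := Subgroup.card_mul_index M
      have e2 := Subgroup.card_mul_index Kb
      have e3 := Subgroup.card_eq_card_quotient_mul_card_subgroup (H 1)
      rw [hMidx] at e1
      rw [hj] at e2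
      have : Nat.card M * p ^ j = Nat.card (H 1) * Nat.card Kb * p ^ j := by
        rw [e1, e3, ← e2]; ring
      exact Nat.eq_of_mul_eq_mul_right hppos this
    have hfirst := hfac 0
    have hrel : (H (0 : Fin (n + 1)).castSucc).relIndex (H (0 : Fin (n + 1)).succ) =
        Nat.card (H 1) := by
      rw [Fin.castSucc_zero, Fin.succ_zero_eq_one, h0, Subgroup.relIndex_bot_left]
    rw [hrel] at hfirst
    rcases hfirst with ⟨m, hm⟩ | hc
    · -- `H 1` is a `p`-group: Schur–Zassenhaus inside `M`
      let N' : Subgroup M := (H 1).subgroupOf M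
      have hN'card : Nat.card N' = p ^ m := by
        rw [← hm]
        exact Nat.card_congr (Subgroup.subgroupOfEquivOfLe hNM).toEquiv
      have hN'idx : N'.index = Nat.card Kb := by
        have e1 := Subgroup.card_mul_index N'
        rw [hN'card, hMcard, hm] at e1
        exact Nat.eq_of_mul_eq_mul_left (Nat.pow_pos hp.pos) e1
      have hcop : Nat.Coprime (Nat.card N') N'.index := by
        rw [hN'card, hN'idx]
        exact Nat.Coprime.pow_left m hKb.symm
      obtain ⟨K', hK'⟩ := Subgroup.exists_right_complement'_of_coprime hcop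
      refine ⟨K'.map M.subtype, ?_, m + j, ?_⟩
      · rw [Subgroup.card_subtype, ← hK'.symm.index_eq_card, hN'idx]
        exact hKb
      · rw [Subgroup.index_map_subtype, hK'.index_eq_card, hN'card, hMidx, pow_add]
    · -- `H 1` is a `p'`-group
      refine ⟨M, ?_, j, hMidx⟩
      rw [hMcard]
      exact Nat.Coprime.mul_left hc hKb

/-- A finite `p`-solvable group has a `p`-complement. -/
theorem exists_pcomplement {G : Type u} [Group G] [Finite G] {p : ℕ} (hp : p.Prime)
    (hG : Cfsg.IsPSolvable p G) :
    ∃ K : Subgroup G, (Nat.card K).Coprime p ∧ ∃ j : ℕ, K.index = p ^ j := by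
  obtain ⟨n, H, h0, hlast, hmono, hnorm, hfac⟩ := hG
  exact exists_pcomplement_aux p hp n G H h0 hlast hmono hnorm hfac

end Cfsg.Agent.Lib.helper73
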