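import Mathlib
import Cfsg.Agent.Lib.helper94.M24FixAll
import Cfsg.Agent.Lib.helper94.M24Elts
import Cfsg.Agent.Lib.helper73.M24B_ENUM_B_Data

/-!
# S5006 piece ENUM_B (helper73): definitions of the kernel computation

The list of the 31878 fixed-point-free involutions is closed under conjugation by the three
generators of the group; the types of the products with the representative are checked against
a list of types.  All inner loops over the 24 points are written out.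
-/

set_option autoImplicit false

namespace Cfsg.Agent.Lib.helper73.M24B

open Cfsg Cfsg.Agent.Lib.helper94

/-- The number of entries. -/
def ebN : ℕ := 31878

/-- The `j`-th table of the list. -/
def ebE (j : ℕ) : ℕ := objAt 120 (ebChunk (Nat.div j 256)) (Nat.mod j 256)

/-- The index of the conjugate of the `j`-th table by the `c`-th generator. -/
def ebP0 (j : ℕ) : ℕ := objAt 16 (ebPChunk0 (Nat.div j 2048)) (Nat.mod j 2048)
def ebP1 (j : ℕ) : ℕ := objAt 16 (ebPChunk1 (Nat.div j 2048)) (Nat.mod j 2048)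
def ebP2 (j : ℕ) : ℕ := objAt 16 (ebPChunk2 (Nat.div j 2048)) (Nat.mod j 2048)

/-- The `j`-th certificate for even order. -/
def ebEV (j : ℕ) : ℕ := objAt 8 (ebEVChunk (Nat.div j 4096)) (Nat.mod j 4096)

/-- The `j`-th type. -/
def ebTY (j : ℕ) : ℕ := objAt 4 (ebTYChunk (Nat.div j 8192)) (Nat.mod j 8192)

/-- The packed tables of the three generators. -/
def ebGS : ℕ := 0xb82d5a4e5183dcd62d4941cc520c41
def ebGI : ℕ := 0x5883388a1c8f5140b46cd317aed7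
def ebGT : ℕ := 0xbba8ab116d7c52899d90286a219a40

/-- Written-out bounded quantifier over the 24 points. -/
def all24 (f : ℕ → Bool) : Bool :=
  (f 23 && (f 22 && (f 21 && (f 20 && (f 19 && (f 18 && (f 17 && (f 16 && (f 15 && (f 14 && (f 13 && (f 12 && (f 11 && (f 10 && (f 9 && (f 8 && (f 7 && (f 6 && (f 5 && (f 4 && (f 3 && (f 2 && (f 1 && (f 0 && true))))))))))))))))))))))))

/-- Written-out count over the 24 points. -/
def cnt24 (f : ℕ → Bool) : ℕ :=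
  Nat.add (cond (f 23) 1 0) (Nat.add (cond (f 22) 1 0) (Nat.add (cond (f 21) 1 0) (Nat.add (cond (f 20) 1 0) (Nat.add (cond (f 19) 1 0) (Nat.add (cond (f 18) 1 0) (Nat.add (cond (f 17) 1 0) (Nat.add (cond (f 16) 1 0) (Nat.add (cond (f 15) 1 0) (Nat.add (cond (f 14) 1 0) (Nat.add (cond (f 13) 1 0) (Nat.add (cond (f 12) 1 0) (Nat.add (cond (f 11) 1 0) (Nat.add (cond (f 10) 1 0) (Nat.add (cond (f 9) 1 0) (Nat.add (cond (f 8) 1 0) (Nat.add (cond (f 7) 1 0) (Nat.add (cond (f 6) 1 0) (Nat.add (cond (f 5) 1 0) (Nat.add (cond (f 4) 1 0) (Nat.add (cond (f 3) 1 0) (Nat.add (cond (f 2) 1 0) (Nat.add (cond (f 1) 1 0) (Nat.add (cond (f 0) 1 0) (0))))))))))))))))))))))))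

/-- Written-out conjugation test `ebGS * X = E * ebGS`. -/
def conjW0 (X E : ℕ) : Bool :=
  (Nat.beq (imgAt ebGS (imgAt X 23)) (imgAt E 23) && (Nat.beq (imgAt ebGS (imgAt X 22)) (imgAt E 0) && (Nat.beq (imgAt ebGS (imgAt X 21)) (imgAt E 22) && (Nat.beq (imgAt ebGS (imgAt X 20)) (imgAt E 21) && (Nat.beq (imgAt ebGS (imgAt X 19)) (imgAt E 20) && (Nat.beq (imgAt ebGS (imgAt X 18)) (imgAt E 19) && (Nat.beq (imgAt ebGS (imgAt X 17)) (imgAt E 18) && (Nat.beq (imgAt ebGS (imgAt X 16)) (imgAt E 17) && (Nat.beq (imgAt ebGS (imgAt X 15)) (imgAt E 16) && (Nat.beq (imgAt ebGS (imgAt X 14)) (imgAt E 15) && (Nat.beq (imgAt ebGS (imgAt X 13)) (imgAt E 14) && (Nat.beq (imgAt ebGS (imgAt X 12)) (imgAt E 13) && (Nat.beq (imgAt ebGS (imgAt X 11)) (imgAt E 12) && (Nat.beq (imgAt ebGS (imgAt X 10)) (imgAt E 11) && (Nat.beq (imgAt ebGS (imgAt X 9)) (imgAt E 10) && (Nat.beq (imgAt ebGS (imgAt X 8)) (imgAt E 9)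 && (Nat.beq (imgAt ebGS (imgAt X 7)) (imgAt E 8) && (Nat.beq (imgAt ebGS (imgAt X 6)) (imgAt E 7) && (Nat.beq (imgAt ebGS (imgAt X 5)) (imgAt E 6) && (Nat.beq (imgAt ebGS (imgAt X 4)) (imgAt E 5) && (Nat.beq (imgAt ebGS (imgAt X 3)) (imgAt E 4) && (Nat.beq (imgAt ebGS (imgAt X 2)) (imgAt E 3) && (Nat.beq (imgAt ebGS (imgAt X 1)) (imgAt E 2) && (Nat.beq (imgAt ebGS (imgAt X 0)) (imgAt E 1) && true))))))))))))))))))))))))

/-- Written-out conjugation test `ebGI * X = E * ebGI`. -/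
def conjW1 (X E : ℕ) : Bool :=
  (Nat.beq (imgAt ebGI (imgAt X 23)) (imgAt E 0) && (Nat.beq (imgAt ebGI (imgAt X 22)) (imgAt E 1) && (Nat.beq (imgAt ebGI (imgAt X 21)) (imgAt E 12) && (Nat.beq (imgAt ebGI (imgAt X 20)) (imgAt E 8) && (Nat.beq (imgAt ebGI (imgAt X 19)) (imgAt E 6) && (Nat.beq (imgAt ebGI (imgAt X 18)) (imgAt E 14) && (Nat.beq (imgAt ebGI (imgAt X 17)) (imgAt E 4) && (Nat.beq (imgAt ebGI (imgAt X 16)) (imgAt E 10) && (Nat.beq (imgAt ebGI (imgAt X 15)) (imgAt E 3) && (Nat.beq (imgAt ebGI (imgAt X 14)) (imgAt E 18) && (Nat.beq (imgAt ebGI (imgAt X 13)) (imgAt E 7) && (Nat.beq (imgAt ebGI (imgAt X 12)) (imgAt E 21) && (Nat.beq (imgAt ebGI (imgAt X 11)) (imgAt E 2) && (Nat.beq (imgAt ebGI (imgAt X 10)) (imgAt E 16) && (Nat.beq (imgAt ebGI (imgAt X 9)) (imgAt E 5) && (Nat.beq (imgAt ebGI (imgAt X 8)) (imgAt E 20) && (Nat.beq (imgAt ebGI (imgAt X 7)) (imgAt E 13) && (Nat.beq (imgAt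 ebGI (imgAt X 6)) (imgAt E 19) && (Nat.beq (imgAt ebGI (imgAt X 5)) (imgAt E 9) && (Nat.beq (imgAt ebGI (imgAt X 4)) (imgAt E 17) && (Nat.beq (imgAt ebGI (imgAt X 3)) (imgAt E 15) && (Nat.beq (imgAt ebGI (imgAt X 2)) (imgAt E 11) && (Nat.beq (imgAt ebGI (imgAt X 1)) (imgAt E 22) && (Nat.beq (imgAt ebGI (imgAt X 0)) (imgAt E 23) && true))))))))))))))))))))))))

/-- Written-out conjugation test `ebGT * X = E * ebGT`. -/
def conjW2 (X E : ℕ) : Bool :=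
  (Nat.beq (imgAt ebGT (imgAt X 23)) (imgAt E 23) && (Nat.beq (imgAt ebGT (imgAt X 22)) (imgAt E 14) && (Nat.beq (imgAt ebGT (imgAt X 21)) (imgAt E 20) && (Nat.beq (imgAt ebGT (imgAt X 20)) (imgAt E 10) && (Nat.beq (imgAt ebGT (imgAt X 19)) (imgAt E 22) && (Nat.beq (imgAt ebGT (imgAt X 18)) (imgAt E 4) && (Nat.beq (imgAt ebGT (imgAt X 17)) (imgAt E 11) && (Nat.beq (imgAt ebGT (imgAt X 16)) (imgAt E 13) && (Nat.beq (imgAt ebGT (imgAt X 15)) (imgAt E 15) && (Nat.beq (imgAt ebGT (imgAt X 14)) (imgAt E 17) && (Nat.beq (imgAt ebGT (imgAt X 13)) (imgAt E 9) && (Nat.beq (imgAt ebGT (imgAt X 12)) (imgAt E 8) && (Nat.beq (imgAt ebGT (imgAt X 11)) (imgAt E 19) && (Nat.beq (imgAt ebGT (imgAt X 10)) (imgAt E 7) && (Nat.beq (imgAt ebGT (imgAt X 9)) (imgAt E 12) && (Nat.beq (imgAt ebGT (imgAt X 8)) (imgAt E 16) && (Nat.beq (imgAt ebGT (imgAt X 7)) (imgAt E 5) && (Nat.beq (imgAt ebGT (imgAt X 6)) (imgAt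 E 1) && (Nat.beq (imgAt ebGT (imgAt X 5)) (imgAt E 21) && (Nat.beq (imgAt ebGT (imgAt X 4)) (imgAt E 2) && (Nat.beq (imgAt ebGT (imgAt X 3)) (imgAt E 3) && (Nat.beq (imgAt ebGT (imgAt X 2)) (imgAt E 6) && (Nat.beq (imgAt ebGT (imgAt X 1)) (imgAt E 18) && (Nat.beq (imgAt ebGT (imgAt X 0)) (imgAt E 0) && true))))))))))))))))))))))))

/-- Written-out packed table of the product `E * X2B`. -/
def mulTB (E : ℕ) : ℕ :=
  Nat.add (imgAt E 1) (Nat.mul 32 (Nat.add (imgAt E 0) (Nat.mul 32 (Nat.add (imgAt E 3) (Nat.mul 32 (Nat.add (imgAt E 2) (Nat.mul 32 (Nat.add (imgAt E 14) (Nat.mul 32 (Nat.add (imgAt E 7) (Nat.mul 32 (Nat.add (imgAt E 15) (Nat.mul 32 (Nat.add (imgAt E 5) (Nat.mul 32 (Nat.add (imgAt E 9) (Nat.mul 32 (Nat.add (imgAt E 8) (Nat.mul 32 (Nat.add (imgAt E 23) (Nat.mul 32 (Nat.add (imgAt E 19) (Nat.mul 32 (Nat.add (imgAt E 17) (Nat.mul 32 (Nat.add (imgAt E 20) (Nat.mul 32 (Nat.add (imgAt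 E 4) (Nat.mul 32 (Nat.add (imgAt E 6) (Nat.mul 32 (Nat.add (imgAt E 22) (Nat.mul 32 (Nat.add (imgAt E 12) (Nat.mul 32 (Nat.add (imgAt E 21) (Nat.mul 32 (Nat.add (imgAt E 11) (Nat.mul 32 (Nat.add (imgAt E 13) (Nat.mul 32 (Nat.add (imgAt E 18) (Nat.mul 32 (Nat.add (imgAt E 16) (Nat.mul 32 (Nat.add (imgAt E 10) (Nat.mul 32 (0))))))))))))))))))))))))))))))))))))))))))))))))

/-- Iterated images, written out. -/
def p2 (Y i : ℕ) : ℕ := imgAt Y (imgAt Y i)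
def p3 (Y i : ℕ) : ℕ := imgAt Y (p2 Y i)
def p4 (Y i : ℕ) : ℕ := imgAt Y (p3 Y i)
def p5 (Y i : ℕ) : ℕ := imgAt Y (p4 Y i)
def p6 (Y i : ℕ) : ℕ := imgAt Y (p5 Y i)
def p7 (Y i : ℕ) : ℕ := imgAt Y (p6 Y i)
def p11 (Y i : ℕ) : ℕ := imgAt Y (p5 Y (p5 Y i))

/-- The `k`-th iterated image for `1 ≤ k ≤ 7`. -/
def powK (k Y i : ℕ) : ℕ :=
  cond (Nat.beq k 1) (imgAt Y i) (cond (Nat.beq k 2) (p2 Y i) (cond (Nat.beq k 3) (p3 Y i)
    (cond (Nat.beq k 4) (p4 Y i) (cond (Nat.beq k 5) (p5 Y i) (cond (Nat.beq k 6) (p6 Y i)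
      (p7 Y i))))))

/-- Certificate `ev = p + 32 k` for even order: `Y^k p ≠ p`, `Y^(2k) p = p`. -/
def evenOK (Y ev : ℕ) : Bool :=
  forceNat (Nat.land ev 31) fun p => forceNat (Nat.shiftRight ev 5) fun k =>
    Nat.blt p 24 && (Nat.ble 1 k && (Nat.ble k 7 && forceNat (powK k Y p) fun q =>
      !(Nat.beq q p) && Nat.beq (powK k Y q) p))

/-- The product `E * X2B` has the type `ty`: 0 identity, 1 order 3 with 6 fixed points, 2 order 3
without fixed points, 3 order 5, 4 order 11, 5 even order. -/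
def typOK (E ev ty : ℕ) : Bool :=
  forceNat (mulTB E) fun Y =>
    cond (Nat.beq ty 5) (evenOK Y ev)
      (cond (Nat.beq ty 4) (!(all24 fun i => Nat.beq (imgAt Y i) i) && all24 fun i => Nat.beq (p11 Y i) i)
        (cond (Nat.beq ty 3) (!(all24 fun i => Nat.beq (imgAt Y i) i) && all24 fun i => Nat.beq (p5 Y i) i)
          (cond (Nat.beq ty 1) ((all24 fun i => Nat.beq (p3 Y i) i) &&
              Nat.beq (cnt24 fun i => Nat.beq (imgAt Y i) i) 6)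
            (cond (Nat.beq ty 2) ((all24 fun i => Nat.beq (p3 Y i) i) &&
                Nat.beq (cnt24 fun i => Nat.beq (imgAt Y i) i) 0)
              (Nat.beq ty 0 && all24 fun i => Nat.beq (imgAt Y i) i)))))

/-- The check for the `j`-th entry. -/
def ebStep (j : ℕ) : Bool :=
  forceNat (ebE j) fun E =>
    (forceNat (ebP0 j) fun k => Nat.blt k ebN && forceNat (ebE k) fun E' => conjW0 E E') &&
    ((forceNat (ebP1 j) fun k => Nat.blt k ebN && forceNat (ebE k) fun E' => conjW1 E E') &&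
    ((forceNat (ebP2 j) fun k => Nat.blt k ebN && forceNat (ebE k) fun E' => conjW2 E E') &&
      typOK E (ebEV j) (ebTY j)))

end Cfsg.Agent.Lib.helper73.M24B
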