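import Mathlib
import Cfsg.Agent.Lib.helper73.M24B_ENUM_B_Defs

/-! S5006 piece ENUM_B (helper73): kernel check of the entries 8000 .. 15999. -/

set_option autoImplicit false

namespace Cfsg.Agent.Lib.helper73.M24B

open Cfsg Cfsg.Agent.Lib.helper94

set_option maxRecDepth 1000000 in
theorem eb_chk1 : allBelow (fun j => ebStep (Nat.add 8000 j)) 8000 = true := by decide +kernel

end Cfsg.Agent.Lib.helper73.M24B
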