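import Mathlib
import Cfsg.Agent.Lib.helper73.M24B_ENUM_B_Defs

/-! S5006 piece ENUM_B (helper73): kernel counts of the types, and small checks. -/

set_option autoImplicit false

namespace Cfsg.Agent.Lib.helper73.M24B

open Cfsg Cfsg.Agent.Lib.helper94

set_option maxRecDepth 1000000 in
theorem eb_cnt : cntBelow (fun j => Nat.beq (ebTY j) 0) ebN = 1 ∧
    cntBelow (fun j => Nat.beq (ebTY j) 1) ebN = 320 ∧
    cntBelow (fun j => Nat.beq (ebTY j) 2) ebN = 960 ∧
    cntBelow (fun j => Nat.beq (ebTY j) 3) ebN = 1920 ∧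
    cntBelow (fun j => Nat.beq (ebTY j) 4) ebN = 7680 ∧
    cntBelow (fun j => Nat.beq (ebTY j) 5) ebN = 20997 := by decide +kernel

theorem eb_root : ebE 14908 = X2B ∧ validPerm ebGS = true ∧ validPerm ebGI = true ∧
    validPerm ebGT = true ∧ powOne X2B 2 = true ∧ powOne X2B 1 = false := by decide +kernel

end Cfsg.Agent.Lib.helper73.M24B
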