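import Mathlib
import Cfsg.Agent.Lib.helper73.M24B_ENUM_B_Defs

/-!
# S5006 piece ENUM_B (helper73): soundness of the table computations
-/

set_option autoImplicit false

namespace Cfsg.Agent.Lib.helper73.M24B

open Cfsg Cfsg.Agent.Lib.helper94

/-! ### Validity of tables -/

theorem valid_of_surj (E : ℕ) (h1 : ∀ i < 24, imgAt E i < 24)
    (h2 : ∀ q < 24, ∃ i < 24, imgAt E i = q) : validPerm E = true := by
  have h : applyP E 1 16777215 = 16777215 := by
    apply Nat.eq_of_testBit_eq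
    intro q
    rw [Bool.eq_iff_iff, testBit_applyP_one, testBit_full]
    constructor
    · rintro ⟨i, hi, rfl, -⟩
      exact h1 i hi
    · intro hq
      obtain ⟨i, hi, hiq⟩ := h2 q hq
      exact ⟨i, hi, hiq, (testBit_full i).mpr hi⟩
  show Nat.beq (applyP E 1 16777215) 16777215 = true
  rw [h]
  exact Nat.beq_refl _

theorem valid_conj {C X E : ℕ} (hC : validPerm C = true) (hX : validPerm X = true)
    (h : conjOK C X E = true) : validPerm E = true := by
  rw [conjOK, allBelow_iff] at h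
  have h' : ∀ i < 24, imgAt C (imgAt X i) = imgAt E (imgAt C i) :=
    fun i hi => Nat.eq_of_beq_eq_true (h i hi)
  apply valid_of_surj
  · intro i' hi'
    obtain ⟨i, hi, rfl⟩ := validPerm_surj hC i' hi'
    rw [← h' i hi]
    exact validPerm_lt hC _ (validPerm_lt hX i hi)
  · intro q hq
    obtain ⟨a, ha, rfl⟩ := validPerm_surj hC q hq
    obtain ⟨b, hb, rfl⟩ := validPerm_surj hX a ha
    exact ⟨imgAt C b, validPerm_lt hC b hb, (h' b hb).symm⟩

theorem valid_mul {A B C : ℕ} (hA : validPerm A = true) (hB : validPerm B = true)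
    (h : ∀ i < 24, imgAt C i = imgAt A (imgAt B i)) : validPerm C = true := by
  apply valid_of_surj
  · intro i hi
    rw [h i hi]
    exact validPerm_lt hA _ (validPerm_lt hB i hi)
  · intro q hq
    obtain ⟨a, ha, rfl⟩ := validPerm_surj hA q hq
    obtain ⟨b, hb, rfl⟩ := validPerm_surj hB a ha
    exact ⟨b, hb, h b hb⟩

/-! ### The written-out loops -/

theorem all24_eq (f : ℕ → Bool) : all24 f = allBelow f 24 := rfl

theorem cnt24_eq (f : ℕ → Bool) : cnt24 f = cntBelow f 24 := rfl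

theorem conjW0_eq (X E : ℕ) : conjW0 X E = conjOK ebGS X E := rfl

theorem conjW1_eq (X E : ℕ) : conjW1 X E = conjOK ebGI X E := rfl

theorem conjW2_eq (X E : ℕ) : conjW2 X E = conjOK ebGT X E := rfl

theorem imgAt_lt32 (t i : ℕ) : imgAt t i < 32 := by
  have : imgAt t i ≤ 31 := Nat.and_le_right
  omega

theorem imgAt_mulTB (E i : ℕ) (hi : i < 24) : imgAt (mulTB E) i = imgAt E (imgAt X2B i) := by
  have h1 : mulTB E = packList [imgAt E (imgAt X2B 0), imgAt E (imgAt X2B 1),
      imgAt E (imgAt X2B 2), imgAt E (imgAt X2B 3), imgAt E (imgAt X2B 4), imgAt E (imgAt X2B 5),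
      imgAt E (imgAt X2B 6), imgAt E (imgAt X2B 7), imgAt E (imgAt X2B 8), imgAt E (imgAt X2B 9),
      imgAt E (imgAt X2B 10), imgAt E (imgAt X2B 11), imgAt E (imgAt X2B 12),
      imgAt E (imgAt X2B 13), imgAt E (imgAt X2B 14), imgAt E (imgAt X2B 15),
      imgAt E (imgAt X2B 16), imgAt E (imgAt X2B 17), imgAt E (imgAt X2B 18),
      imgAt E (imgAt X2B 19), imgAt E (imgAt X2B 20), imgAt E (imgAt X2B 21),
      imgAt E (imgAt X2B 22), imgAt E (imgAt X2B 23)] := rfl
  rw [h1, imgAt_packList]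
  · interval_cases i <;> rfl
  · intro x hx
    simp only [List.mem_cons, List.not_mem_nil, or_false] at hx
    rcases hx with rfl | rfl | rfl | rfl | rfl | rfl | rfl | rfl | rfl | rfl | rfl | rfl | rfl |
      rfl | rfl | rfl | rfl | rfl | rfl | rfl | rfl | rfl | rfl | rfl <;> exact imgAt_lt32 _ _

theorem powK_eq (k Y i : ℕ) (h1 : 1 ≤ k) (h7 : k ≤ 7) : powK k Y i = powImg Y k i := by
  interval_cases k <;> rfl

/-! ### Semantics -/

/-- A point moved by `σ ^ k` and fixed by `σ ^ (2k)` forces even order. -/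
theorem even_of_cert {Y : ℕ} (hv : validPerm Y = true) (p k : ℕ) (hp : p < 24)
    (h1 : powImg Y k p ≠ p) (h2 : powImg Y k (powImg Y k p) = p) :
    2 ∣ orderOf (tperm Y) := by
  by_contra hodd
  obtain ⟨m, hm⟩ : ∃ m, orderOf (tperm Y) = 2 * m + 1 := by
    have : Odd (orderOf (tperm Y)) := by
      rw [← Nat.not_even_iff_odd, even_iff_two_dvd]
      exact hodd
    obtain ⟨m, hm⟩ := this
    exact ⟨m, hm⟩
  set τ := tperm Y ^ k with hτ
  have e1 := tperm_pow_idxPt hv k p hp
  have e2 := tperm_pow_idxPt hv k (powImg Y k p) e1.1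
  have hτ1 : τ (idxPt p) = idxPt (powImg Y k p) := e1.2
  have hτ2 : (τ ^ 2) (idxPt p) = idxPt p := by
    rw [pow_two, Equiv.Perm.mul_apply, hτ1]
    show (tperm Y ^ k) (idxPt (powImg Y k p)) = idxPt p
    rw [e2.2, h2]
  have hτo : τ ^ (2 * m + 1) = 1 := by
    rw [hτ, ← pow_mul, mul_comm, pow_mul, ← hm, pow_orderOf_eq_one, one_pow]
  have h3 : (τ ^ (2 * m + 1)) (idxPt p) = τ (idxPt p) := by
    rw [pow_succ', Equiv.Perm.mul_apply, pow_mul,
      Equiv.Perm.pow_apply_eq_self_of_apply_eq_self hτ2 m]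
  rw [hτo, Equiv.Perm.one_apply, hτ1] at h3
  exact idxPt_ne_of_ne e1.1 hp h1 h3.symm

theorem evenOK_sound {Y ev : ℕ} (hv : validPerm Y = true) (h : evenOK Y ev = true) :
    2 ∣ orderOf (tperm Y) := by
  rw [evenOK, forceNat_eq, forceNat_eq, Bool.and_eq_true, Bool.and_eq_true, Bool.and_eq_true,
    forceNat_eq, Bool.and_eq_true] at h
  obtain ⟨hp, hk1, hk7, hq1, hq2⟩ := h
  have hp' : Nat.land ev 31 < 24 := by simpa [Nat.blt_eq] using hp
  have hk1' : 1 ≤ Nat.shiftRight ev 5 := Nat.le_of_ble_eq_true hk1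
  have hk7' : Nat.shiftRight ev 5 ≤ 7 := Nat.le_of_ble_eq_true hk7
  simp only [powK_eq _ _ _ hk1' hk7'] at hq1 hq2
  refine even_of_cert hv _ _ hp' ?_ (Nat.eq_of_beq_eq_true hq2)
  intro hcon
  rw [hcon, Nat.beq_refl] at hq1
  exact absurd hq1 (by simp)

/-- The profile of the product: type, order and number of fixed points. -/
def Prof (ty o f : ℕ) : Prop :=
  (ty = 5 ∧ 2 ∣ o) ∨ (ty = 4 ∧ o = 11) ∨ (ty = 3 ∧ o = 5) ∨ (ty = 1 ∧ o = 3 ∧ f = 6) ∨
    (ty = 2 ∧ o = 3 ∧ f = 0) ∨ (ty = 0 ∧ o = 1)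

theorem powOne1 (Y : ℕ) : (all24 fun i => Nat.beq (imgAt Y i) i) = powOne Y 1 := rfl

theorem powOne3 (Y : ℕ) : (all24 fun i => Nat.beq (p3 Y i) i) = powOne Y 3 := rfl

theorem powOne5 (Y : ℕ) : (all24 fun i => Nat.beq (p5 Y i) i) = powOne Y 5 := rfl

theorem powOne11 (Y : ℕ) : (all24 fun i => Nat.beq (p11 Y i) i) = powOne Y 11 := rfl

theorem fixCnt24 (Y : ℕ) : (cnt24 fun i => Nat.beq (imgAt Y i) i) = fixCnt Y := rfl

theorem ne_one_of_powOne {Y : ℕ} (hv : validPerm Y = true) (h : powOne Y 1 = false) :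
    tperm Y ≠ 1 := by
  intro hcon
  have := (powOne_iff hv 1).mpr (by rw [pow_one, hcon])
  rw [h] at this
  exact absurd this (by simp)

theorem typOK_sound {E ev ty : ℕ} (hE : validPerm E = true) (hT : validPerm X2B = true)
    (h : typOK E ev ty = true) :
    validPerm (mulTB E) = true ∧ tperm E * tperm X2B = tperm (mulTB E) ∧
      Prof ty (orderOf (tperm (mulTB E)))
        (Finset.univ.filter fun p => tperm (mulTB E) p = p).card := by
  have hY : validPerm (mulTB E) = true := valid_mul hE hT (fun i hi => imgAt_mulTB E i hi)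
  have hmul : tperm E * tperm X2B = tperm (mulTB E) := by
    apply tperm_mul_of_mulOK hE hT hY
    rw [mulOK, allBelow_iff]
    intro i hi
    rw [imgAt_mulTB E i hi]
    exact Nat.beq_refl _
  refine ⟨hY, hmul, ?_⟩
  rw [typOK, forceNat_eq] at h
  rw [card_fixed_tperm hY]
  unfold Prof
  by_cases h5 : ty = 5
  · subst h5
    simp only [Nat.beq_refl, cond_true] at h
    exact Or.inl ⟨rfl, evenOK_sound hY h⟩
  have b5 : Nat.beq ty 5 = false := by
    cases hb : Nat.beq ty 5
    · rfl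
    · exact absurd (Nat.eq_of_beq_eq_true hb) h5
  rw [b5, cond_false] at h
  by_cases h4 : ty = 4
  · subst h4
    simp only [Nat.beq_refl, cond_true, Bool.and_eq_true, Bool.not_eq_true', powOne1,
      powOne11] at h
    refine Or.inr (Or.inl ⟨rfl, ?_⟩)
    have : Fact (Nat.Prime 11) := ⟨by norm_num⟩
    exact orderOf_eq_prime ((powOne_iff hY 11).mp h.2) (ne_one_of_powOne hY h.1)
  have b4 : Nat.beq ty 4 = false := by
    cases hb : Nat.beq ty 4
    · rfl
    · exact absurd (Nat.eq_of_beq_eq_true hb) h4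
  rw [b4, cond_false] at h
  by_cases h3 : ty = 3
  · subst h3
    simp only [Nat.beq_refl, cond_true, Bool.and_eq_true, Bool.not_eq_true', powOne1,
      powOne5] at h
    refine Or.inr (Or.inr (Or.inl ⟨rfl, ?_⟩))
    have : Fact (Nat.Prime 5) := ⟨by norm_num⟩
    exact orderOf_eq_prime ((powOne_iff hY 5).mp h.2) (ne_one_of_powOne hY h.1)
  have b3 : Nat.beq ty 3 = false := by
    cases hb : Nat.beq ty 3
    · rfl
    · exact absurd (Nat.eq_of_beq_eq_true hb) h3
  rw [b3, cond_false] at h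
  have hfix24 : tperm (mulTB E) = 1 → fixCnt (mulTB E) = 24 := by
    intro h1
    rw [← card_fixed_tperm hY, h1]
    simp
  have : Fact (Nat.Prime 3) := ⟨by norm_num⟩
  by_cases h1 : ty = 1
  · subst h1
    simp only [Nat.beq_refl, cond_true, Bool.and_eq_true, powOne3, fixCnt24] at h
    have hf : fixCnt (mulTB E) = 6 := Nat.eq_of_beq_eq_true h.2
    refine Or.inr (Or.inr (Or.inr (Or.inl ⟨rfl, ?_, hf⟩)))
    refine orderOf_eq_prime ((powOne_iff hY 3).mp h.1) ?_
    intro hcon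
    have := hfix24 hcon
    omega
  have b1 : Nat.beq ty 1 = false := by
    cases hb : Nat.beq ty 1
    · rfl
    · exact absurd (Nat.eq_of_beq_eq_true hb) h1
  rw [b1, cond_false] at h
  by_cases h2 : ty = 2
  · subst h2
    simp only [Nat.beq_refl, cond_true, Bool.and_eq_true, powOne3, fixCnt24] at h
    have hf : fixCnt (mulTB E) = 0 := Nat.eq_of_beq_eq_true h.2
    refine Or.inr (Or.inr (Or.inr (Or.inr (Or.inl ⟨rfl, ?_, hf⟩))))
    refine orderOf_eq_prime ((powOne_iff hY 3).mp h.1) ?_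
    intro hcon
    have := hfix24 hcon
    omega
  have b2 : Nat.beq ty 2 = false := by
    cases hb : Nat.beq ty 2
    · rfl
    · exact absurd (Nat.eq_of_beq_eq_true hb) h2
  rw [b2, cond_false, Bool.and_eq_true, powOne1] at h
  refine Or.inr (Or.inr (Or.inr (Or.inr (Or.inr ⟨Nat.eq_of_beq_eq_true h.1, ?_⟩))))
  rw [orderOf_eq_one_iff]
  have := (powOne_iff hY 1).mp h.2
  rwa [pow_one] at this

end Cfsg.Agent.Lib.helper73.M24B
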