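import Mathlib
import Cfsg.Agent.Lib.helper33.M24BDefs
import Cfsg.Agent.Lib.helper9.M24Order
import Cfsg.Agent.Lib.helper73.M24B_ENUM_B_Snd
import Cfsg.Agent.Lib.helper73.M24B_ENUM_B_Chk0
import Cfsg.Agent.Lib.helper73.M24B_ENUM_B_Chk1
import Cfsg.Agent.Lib.helper73.M24B_ENUM_B_Chk2
import Cfsg.Agent.Lib.helper73.M24B_ENUM_B_Chk3
import Cfsg.Agent.Lib.helper73.M24B_ENUM_B_Cnt
import Cfsg.Agent.S5394
import Cfsg.Agent.S5607
import Cfsg.Agent.S0364

/-!
# S5006 piece ENUM_B (helper73): the products of two fixed-point-free involutions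

The 31878 fixed-point-free involutions of the group of the length-24 code are listed; the list is
closed under conjugation by the three generators and contains the representative, so it contains
the whole class, and its length is the index of the centralizer, so it is the class.  The type of
the product of each entry with the representative is checked in the kernel.
-/

set_option autoImplicit false

namespace Cfsg.Agent.Lib.helper73.M24B

open Cfsg Cfsg.Agent.Lib.helper33.M24B Cfsg.Agent.Lib.helper94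

/-! ### The kernel checks, unpacked -/

theorem ebStep_all (j : ℕ) (hj : j < ebN) : ebStep j = true := by
  have h0 := (allBelow_iff _ _).mp eb_chk0
  have h1 := (allBelow_iff _ _).mp eb_chk1
  have h2 := (allBelow_iff _ _).mp eb_chk2
  have h3 := (allBelow_iff _ _).mp eb_chk3
  have hN : ebN = 31878 := rfl
  rw [hN] at hj
  by_cases c0 : j < 8000
  · have h := h0 j c0
    have e : Nat.add 0 j = j := Nat.zero_add j
    rwa [e] at h
  by_cases c1 : j < 16000
  · have h := h1 (j - 8000) (by omega)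
    have e : Nat.add 8000 (j - 8000) = j := by
      rw [Nat.add_eq]
      omega
    have h' : ebStep (Nat.add 8000 (j - 8000)) = true := h
    rw [e] at h'
    exact h'
  by_cases c2 : j < 24000
  · have h := h2 (j - 16000) (by omega)
    have e : Nat.add 16000 (j - 16000) = j := by
      rw [Nat.add_eq]
      omega
    have h' : ebStep (Nat.add 16000 (j - 16000)) = true := h
    rw [e] at h'
    exact h'
  · have h := h3 (j - 24000) (by omega)
    have e : Nat.add 24000 (j - 24000) = j := by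
      rw [Nat.add_eq]
      omega
    have h' : ebStep (Nat.add 24000 (j - 24000)) = true := h
    rw [e] at h'
    exact h'

theorem ebStep_spec (j : ℕ) (hj : j < ebN) :
    (ebP0 j < ebN ∧ conjOK ebGS (ebE j) (ebE (ebP0 j)) = true) ∧
    (ebP1 j < ebN ∧ conjOK ebGI (ebE j) (ebE (ebP1 j)) = true) ∧
    (ebP2 j < ebN ∧ conjOK ebGT (ebE j) (ebE (ebP2 j)) = true) ∧
    typOK (ebE j) (ebEV j) (ebTY j) = true := by
  have h := ebStep_all j hj
  rw [ebStep] at h
  simp only [forceNat_eq, Bool.and_eq_true, conjW0_eq, conjW1_eq, conjW2_eq, Nat.blt_eq] at h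
  exact h

/-! ### The set of the listed permutations -/

/-- The permutations of the list. -/
def ebSet : Set (Equiv.Perm GolayPt) :=
  {g | ∃ j, j < ebN ∧ validPerm (ebE j) = true ∧ g = tperm (ebE j)}

theorem ebSet_conj_gen {G : ℕ} (hG : validPerm G = true)
    (hstep : ∀ j, j < ebN → ∃ k, k < ebN ∧ conjOK G (ebE j) (ebE k) = true)
    (g : Equiv.Perm GolayPt) (hg : g ∈ ebSet) : tperm G * g * (tperm G)⁻¹ ∈ ebSet := by
  obtain ⟨j, hj, hv, rfl⟩ := hg
  obtain ⟨k, hk, hc⟩ := hstep j hj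
  have hvk := valid_conj hG hv hc
  exact ⟨k, hk, hvk, (tperm_conj hG hv hvk hc).symm⟩

theorem eb_shift : Cfsg.Agent.Lib.helper9.shiftPerm = tperm ebGS := by
  have h : ebGS = packList Cfsg.Agent.Lib.helper9.tblShift := by decide +kernel
  have hv := eb_root.2.1
  rw [h] at hv ⊢
  exact tperm_of_isTable ⟨rfl, Cfsg.Agent.Lib.helper9.shift_tbl⟩ hv

theorem eb_inv : projInv = tperm ebGI := by
  have h : ebGI = packList Cfsg.Agent.Lib.helper9.tblInv := by decide +kernel
  have hv := eb_root.2.2.1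
  rw [h] at hv ⊢
  exact tperm_of_isTable ⟨rfl, Cfsg.Agent.Lib.helper9.projInv_tbl⟩ hv

theorem eb_twist : cubeTwist = tperm ebGT := by
  have h : ebGT = packList Cfsg.Agent.Lib.helper9.tblTwist := by decide +kernel
  have hv := eb_root.2.2.2.1
  rw [h] at hv ⊢
  exact tperm_of_isTable ⟨rfl, Cfsg.Agent.Lib.helper9.cubeTwist_tbl⟩ hv

theorem ebSet_conj (k : Equiv.Perm GolayPt) (hk : k ∈ M24) :
    ∀ g ∈ ebSet, k * g * k⁻¹ ∈ ebSet := by
  rw [← Cfsg.Agent.Lib.helper9.genGroup_eq_M24] at hk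
  unfold Cfsg.Agent.Lib.helper9.genGroup at hk
  induction hk using Subgroup.closure_induction with
  | mem x hx =>
    intro g hg
    rcases hx with rfl | rfl | rfl
    · rw [eb_shift]
      exact ebSet_conj_gen eb_root.2.1
        (fun j hj => ⟨ebP0 j, (ebStep_spec j hj).1⟩) g hg
    · rw [eb_inv]
      exact ebSet_conj_gen eb_root.2.2.1
        (fun j hj => ⟨ebP1 j, (ebStep_spec j hj).2.1⟩) g hg
    · rw [eb_twist]
      exact ebSet_conj_gen eb_root.2.2.2.1
        (fun j hj => ⟨ebP2 j, (ebStep_spec j hj).2.2.1⟩) g hg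
  | one =>
    intro g hg
    simpa using hg
  | mul x y _ _ ihx ihy =>
    intro g hg
    have := ihx _ (ihy g hg)
    have e : x * y * g * (x * y)⁻¹ = x * (y * g * y⁻¹) * x⁻¹ := by group
    rw [e]
    exact this
  | inv x _ ih =>
    have hpow : ∀ n : ℕ, ∀ g ∈ ebSet, x ^ n * g * (x ^ n)⁻¹ ∈ ebSet := by
      intro n
      induction n with
      | zero =>
        intro g hg
        simpa using hg
      | succ n ihn =>
        intro g hg
        have := ih _ (ihn g hg)
        have e : x ^ (n + 1) * g * (x ^ (n + 1))⁻¹ = x * (x ^ n * g * (x ^ n)⁻¹) * x⁻¹ := by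
          rw [pow_succ']
          group
        rw [e]
        exact this
    have hinv : x⁻¹ = x ^ (orderOf x - 1) := by
      apply inv_eq_of_mul_eq_one_left
      rw [← pow_succ, Nat.sub_add_cancel (orderOf_pos x), pow_orderOf_eq_one]
    rw [hinv]
    exact hpow _

/-! ### The representative -/

theorem ebX_valid : validPerm X2B = true := repsElts_ok.2.2.2.1

theorem ebX_mem : tperm X2B ∈ M24 := tperm_mem_M24 repsElts_ok.2.2.2.2.2.2.2.1

theorem ebX_order : orderOf (tperm X2B) = 2 := by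
  have : Fact (Nat.Prime 2) := ⟨by norm_num⟩
  exact orderOf_eq_prime ((powOne_iff ebX_valid 2).mp eb_root.2.2.2.2.1)
    (ne_one_of_powOne ebX_valid eb_root.2.2.2.2.2)

theorem ebX_fix : (Finset.univ.filter fun p => tperm X2B p = p).card = 0 := by
  rw [card_fixed_tperm ebX_valid]
  exact repsElts_ok.2.2.2.2.2.2.2.2.2.2.2

theorem ebX_fpf : ∀ p, tperm X2B p ≠ p := by
  intro p hp
  have h := ebX_fix
  rw [Finset.card_eq_zero, Finset.filter_eq_empty_iff] at h
  exact h (Finset.mem_univ p) hp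

theorem ebX_mem_ebSet : tperm X2B ∈ ebSet :=
  ⟨14908, by decide, by rw [eb_root.1]; exact ebX_valid, by rw [eb_root.1]⟩

/-- The representative fixed-point-free involution. -/
noncomputable def ebT : ↥M24 := ⟨tperm X2B, ebX_mem⟩

theorem ebT_order : orderOf ebT = 2 := by
  rw [← Subgroup.orderOf_coe]
  exact ebX_order

theorem ebT_fix : fixN ebT = 0 := ebX_fix

theorem fpf_of_fixN {x : ↥M24} (h : fixN x = 0) : ∀ p, (x : Equiv.Perm GolayPt) p ≠ p := by
  intro p hp
  unfold fixN at h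
  rw [Finset.card_eq_zero, Finset.filter_eq_empty_iff] at h
  exact h (Finset.mem_univ p) hp

/-- Every fixed-point-free involution is conjugate to the representative. -/
theorem conj_of_fpf (x : ↥M24) (h2 : orderOf x = 2) (h0 : fixN x = 0) :
    ∃ k : ↥M24, k * ebT * k⁻¹ = x := by
  have hx2 : orderOf (x : Equiv.Perm GolayPt) = 2 := by rw [Subgroup.orderOf_coe]; exact h2
  obtain ⟨k, hk, hkx⟩ := Cfsg.Agent.S5394.result.2.2.2 (tperm X2B) ebX_mem (x : Equiv.Perm GolayPt)
    x.2 ebX_order hx2 ⟨fun _ => fpf_of_fixN h0, fun _ => ebX_fpf⟩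
  exact ⟨⟨k, hk⟩, Subtype.ext hkx⟩

theorem mem_ebSet_of_fpf (x : ↥M24) (h2 : orderOf x = 2) (h0 : fixN x = 0) :
    (x : Equiv.Perm GolayPt) ∈ ebSet := by
  obtain ⟨k, rfl⟩ := conj_of_fpf x h2 h0
  exact ebSet_conj k k.2 _ ebX_mem_ebSet

/-! ### The size of the class -/

theorem card_conj_mul_card_comm {G : Type*} [Group G] [Finite G] (t : G) :
    Set.ncard {x : G | ∃ k : G, k * t * k⁻¹ = x} * Nat.card {c : G // c * t = t * c}
      = Nat.card G := by
  classical
  have : Fintype G := Fintype.ofFinite G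
  have hS : {x : G | ∃ k : G, k * t * k⁻¹ = x}
      = ↑(Finset.univ.image fun k : G => k * t * k⁻¹) := by
    ext x
    simp
  rw [hS, Set.ncard_coe_finset, Nat.card_eq_fintype_card, Fintype.card_subtype,
    Nat.card_eq_fintype_card]
  have h1 := Finset.card_eq_sum_card_image (fun k : G => k * t * k⁻¹) Finset.univ
  rw [Finset.card_univ] at h1
  rw [h1]
  symm
  apply Finset.sum_const_nat
  intro x hx
  obtain ⟨k0, -, rfl⟩ := Finset.mem_image.mp hx
  apply Finset.card_equiv (Equiv.mulLeft k0⁻¹)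
  intro k
  simp only [Finset.mem_filter, Finset.mem_univ, true_and, Equiv.coe_mulLeft]
  constructor
  · intro h
    calc k0⁻¹ * k * t = k0⁻¹ * (k * t * k⁻¹) * k := by group
      _ = k0⁻¹ * (k0 * t * k0⁻¹) * k := by rw [h]
      _ = t * (k0⁻¹ * k) := by group
  · intro h
    calc k * t * k⁻¹ = k0 * (k0⁻¹ * k * t) * k⁻¹ := by group
      _ = k0 * (t * (k0⁻¹ * k)) * k⁻¹ := by rw [h]
      _ = k0 * t * k0⁻¹ := by group

theorem fixN_conj (k x : ↥M24) : fixN (k * x * k⁻¹) = fixN x :=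
  card_fixed_conj (k : Equiv.Perm GolayPt) (x : Equiv.Perm GolayPt)

theorem order_conj (k x : ↥M24) : orderOf (k * x * k⁻¹) = orderOf x := by
  have := orderOf_injective (MulAut.conj k).toMonoidHom (MulAut.conj k).injective x
  simpa using this

theorem card_cent_ebT : Nat.card {c : ↥M24 // c * ebT = ebT * c} = 7680 := by
  rw [← (Cfsg.Agent.S5607.result (tperm X2B) ebX_mem ebX_order ebX_fpf).1]
  refine Nat.card_congr
    { toFun := fun c => ⟨c.1.1, c.1.2, congrArg Subtype.val c.2⟩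
      invFun := fun c => ⟨⟨c.1, c.2.1⟩, Subtype.ext c.2.2⟩
      left_inv := fun c => rfl
      right_inv := fun c => rfl }

theorem ncard_fpf : Set.ncard {x : ↥M24 | orderOf x = 2 ∧ fixN x = 0} = 31878 := by
  have h := card_conj_mul_card_comm ebT
  rw [card_cent_ebT, Cfsg.Agent.S0364.result] at h
  have hS : {x : ↥M24 | orderOf x = 2 ∧ fixN x = 0} = {x : ↥M24 | ∃ k : ↥M24, k * ebT * k⁻¹ = x} := by
    ext x
    constructor
    · rintro ⟨h2, h0⟩
      exact conj_of_fpf x h2 h0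
    · rintro ⟨k, rfl⟩
      exact ⟨by rw [order_conj]; exact ebT_order, by rw [fixN_conj]; exact ebT_fix⟩
  rw [hS]
  exact Nat.eq_of_mul_eq_mul_right (by norm_num : 0 < 7680) (h.trans (by norm_num))

/-! ### The types of the products -/

theorem exists_idx (x : ↥M24) (h2 : orderOf x = 2) (h0 : fixN x = 0) :
    ∃ j, j < ebN ∧ validPerm (ebE j) = true ∧ (x : Equiv.Perm GolayPt) = tperm (ebE j) ∧
      Prof (ebTY j) (orderOf (x * ebT)) (fixN (x * ebT)) := by
  obtain ⟨j, hj, hv, hx⟩ := mem_ebSet_of_fpf x h2 h0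
  refine ⟨j, hj, hv, hx, ?_⟩
  obtain ⟨-, hmul, hprof⟩ := typOK_sound hv ebX_valid (ebStep_spec j hj).2.2.2
  have e : ((x * ebT : ↥M24) : Equiv.Perm GolayPt) = tperm (mulTB (ebE j)) := by
    rw [← hmul, ← hx]
    rfl
  rw [← Subgroup.orderOf_coe, e]
  unfold fixN
  rw [e]
  exact hprof

theorem Prof_1 {ty o f : ℕ} (h : Prof ty o f) : ty = 1 ↔ (o = 3 ∧ f = 6) := by
  unfold Prof at h
  constructor <;> intro h' <;> omega

theorem Prof_2 {ty o f : ℕ} (h : Prof ty o f) : ty = 2 ↔ (o = 3 ∧ f = 0) := by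
  unfold Prof at h
  constructor <;> intro h' <;> omega

theorem Prof_3 {ty o f : ℕ} (h : Prof ty o f) : ty = 3 ↔ o = 5 := by
  unfold Prof at h
  constructor <;> intro h' <;> omega

theorem Prof_4 {ty o f : ℕ} (h : Prof ty o f) : ty = 4 ↔ o = 11 := by
  unfold Prof at h
  constructor <;> intro h' <;> omega

theorem Prof_odd {ty o f : ℕ} (h : Prof ty o f) (h2 : ¬ 2 ∣ o) :
    o = 1 ∨ o = 3 ∨ o = 5 ∨ o = 11 := by
  unfold Prof at h
  omega

theorem count_ty (idx : ↥M24 → ℕ)
    (hidx : ∀ x : ↥M24, orderOf x = 2 → fixN x = 0 → idx x < ebN ∧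
      validPerm (ebE (idx x)) = true ∧ (x : Equiv.Perm GolayPt) = tperm (ebE (idx x)) ∧
      Prof (ebTY (idx x)) (orderOf (x * ebT)) (fixN (x * ebT))) (τ : ℕ) :
    Set.ncard {x : ↥M24 | orderOf x = 2 ∧ fixN x = 0 ∧ ebTY (idx x) = τ}
      = cntBelow (fun j => Nat.beq (ebTY j) τ) ebN := by
  classical
  have : Fintype ↥M24 := Fintype.ofFinite _
  set F : Finset ↥M24 := Finset.univ.filter fun x => orderOf x = 2 ∧ fixN x = 0 with hF
  have hFmem : ∀ x, x ∈ F ↔ (orderOf x = 2 ∧ fixN x = 0) := by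
    intro x
    rw [hF, Finset.mem_filter]
    simp
  have hinj : Set.InjOn idx ↑F := by
    intro x hx y hy hxy
    have hx' := (hFmem x).mp (Finset.mem_coe.mp hx)
    have hy' := (hFmem y).mp (Finset.mem_coe.mp hy)
    apply Subtype.ext
    rw [(hidx x hx'.1 hx'.2).2.2.1, (hidx y hy'.1 hy'.2).2.2.1, hxy]
  have hcard : F.card = 31878 := by
    rw [← ncard_fpf, ← Set.ncard_coe_finset]
    congr 1
    ext x
    rw [Finset.mem_coe, hFmem]
    rfl
  have himg : F.image idx = Finset.range ebN := by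
    apply Finset.eq_of_subset_of_card_le
    · intro j hj
      obtain ⟨x, hx, rfl⟩ := Finset.mem_image.mp hj
      have hx' := (hFmem x).mp hx
      exact Finset.mem_range.mpr (hidx x hx'.1 hx'.2).1
    · rw [Finset.card_image_of_injOn hinj, hcard, Finset.card_range]
      exact le_of_eq rfl
  have hS : {x : ↥M24 | orderOf x = 2 ∧ fixN x = 0 ∧ ebTY (idx x) = τ}
      = ↑(F.filter fun x => ebTY (idx x) = τ) := by
    ext x
    rw [Finset.mem_coe, Finset.mem_filter, hFmem]
    constructor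
    · rintro ⟨a, b, c⟩
      exact ⟨⟨a, b⟩, c⟩
    · rintro ⟨⟨a, b⟩, c⟩
      exact ⟨a, b, c⟩
  rw [hS, Set.ncard_coe_finset, cntBelow_eq,
    ← Finset.card_image_of_injOn (hinj.mono (Finset.coe_subset.mpr (Finset.filter_subset _ _))),
    ← Finset.filter_image (s := F) (f := idx) (p := fun j => ebTY j = τ), himg]
  refine congrArg Finset.card ?_
  apply Finset.filter_congr
  intro j _
  constructor
  · intro h
    rw [h]
    exact Nat.beq_refl _
  · intro h
    exact Nat.eq_of_beq_eq_true h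

/-- Piece ENUM_B of S5006. -/
theorem enum_B : ∃ t : ↥M24, orderOf t = 2 ∧ fixN t = 0 ∧
    (∀ x : ↥M24, orderOf x = 2 → fixN x = 0 → ¬ 2 ∣ orderOf (x * t) →
      x * t = 1 ∨ orderOf (x * t) = 3 ∨ orderOf (x * t) = 5 ∨ orderOf (x * t) = 11) ∧
    Set.ncard {x : ↥M24 | orderOf x = 2 ∧ fixN x = 0 ∧ orderOf (x * t) = 3 ∧ fixN (x * t) = 6} = 320 ∧
    Set.ncard {x : ↥M24 | orderOf x = 2 ∧ fixN x = 0 ∧ orderOf (x * t) = 3 ∧ fixN (x * t) = 0} = 960 ∧
    Set.ncard {x : ↥M24 | orderOf x = 2 ∧ fixN x = 0 ∧ orderOf (x * t) = 5} = 1920 ∧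
    Set.ncard {x : ↥M24 | orderOf x = 2 ∧ fixN x = 0 ∧ orderOf (x * t) = 11} = 7680 := by
  have key := exists_idx
  choose! idx hidx using key
  have hcnt := count_ty idx hidx
  refine ⟨ebT, ebT_order, ebT_fix, ?_, ?_, ?_, ?_, ?_⟩
  · intro x h2 h0 hodd
    have hp := (hidx x h2 h0).2.2.2
    rcases Prof_odd hp hodd with h | h | h | h
    · exact Or.inl (orderOf_eq_one_iff.mp h)
    · exact Or.inr (Or.inl h)
    · exact Or.inr (Or.inr (Or.inl h))
    · exact Or.inr (Or.inr (Or.inr h))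
  · rw [← eb_cnt.2.1, ← hcnt 1]
    congr 1
    ext x
    constructor
    · rintro ⟨h2, h0, h⟩
      exact ⟨h2, h0, (Prof_1 (hidx x h2 h0).2.2.2).mpr h⟩
    · rintro ⟨h2, h0, h⟩
      exact ⟨h2, h0, (Prof_1 (hidx x h2 h0).2.2.2).mp h⟩
  · rw [← eb_cnt.2.2.1, ← hcnt 2]
    congr 1
    ext x
    constructor
    · rintro ⟨h2, h0, h⟩
      exact ⟨h2, h0, (Prof_2 (hidx x h2 h0).2.2.2).mpr h⟩
    · rintro ⟨h2, h0, h⟩
      exact ⟨h2, h0, (Prof_2 (hidx x h2 h0).2.2.2).mp h⟩
  · rw [← eb_cnt.2.2.2.1, ← hcnt 3]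
    congr 1
    ext x
    constructor
    · rintro ⟨h2, h0, h⟩
      exact ⟨h2, h0, (Prof_3 (hidx x h2 h0).2.2.2).mpr h⟩
    · rintro ⟨h2, h0, h⟩
      exact ⟨h2, h0, (Prof_3 (hidx x h2 h0).2.2.2).mp h⟩
  · rw [← eb_cnt.2.2.2.2.1, ← hcnt 4]
    congr 1
    ext x
    constructor
    · rintro ⟨h2, h0, h⟩
      exact ⟨h2, h0, (Prof_4 (hidx x h2 h0).2.2.2).mpr h⟩
    · rintro ⟨h2, h0, h⟩
      exact ⟨h2, h0, (Prof_4 (hidx x h2 h0).2.2.2).mp h⟩

end Cfsg.Agent.Lib.helper73.M24B
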