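import Mathlib

set_option autoImplicit false

/-!
# Derived length of finite linear `p`-groups: basic tools

Representations are monoid homomorphisms `ρ : P →* Module.End K V`.
-/

namespace Cfsg.Agent.Lib.helper73.DLin

section DS
variable {G : Type*} [Group G]

theorem ds_succ_le_map (C : Subgroup G) (hC : commutator G ≤ C) (k : ℕ) :
    derivedSeries G (k + 1) ≤ (derivedSeries C k).map C.subtype := by
  induction k with
  | zero =>
    rw [derivedSeries_one, derivedSeries_zero, ← MonoidHom.range_eq_map, Subgroup.range_subtype]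
    exact hC
  | succ k ih =>
    rw [derivedSeries_succ, derivedSeries_succ (G := C), Subgroup.map_commutator]
    exact Subgroup.commutator_mono ih ih

end DS

section Rep
variable {K : Type*} [Field K] {V : Type*} [AddCommGroup V] [Module K V]
variable {P : Type*} [Group P] (ρ : P →* Module.End K V)

theorem rho_inv_mul (g : P) : ρ g⁻¹ * ρ g = 1 := by
  rw [← map_mul, inv_mul_cancel, map_one]

theorem rho_mul_inv (g : P) : ρ g * ρ g⁻¹ = 1 := by
  rw [← map_mul, mul_inv_cancel, map_one]

theorem rho_inv_apply (g : P) (v : V) : ρ g⁻¹ (ρ g v) = v := by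
  have h := rho_inv_mul ρ g
  have := congrArg (fun f : Module.End K V => f v) h
  simpa using this

theorem rho_apply_inv (g : P) (v : V) : ρ g (ρ g⁻¹ v) = v := by
  have h := rho_mul_inv ρ g
  have := congrArg (fun f : Module.End K V => f v) h
  simpa using this

theorem rho_injective (g : P) : Function.Injective (ρ g) := by
  intro v w h
  have := congrArg (ρ g⁻¹) h
  simpa [rho_inv_apply] using this

/-- The restriction of a representation to an invariant subspace. -/
def resHom (W : Submodule K V) (hW : ∀ g : P, ∀ v ∈ W, ρ g v ∈ W) : P →* Module.End K W where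
  toFun g := (ρ g).restrict (hW g)
  map_one' := by
    ext v
    simp
  map_mul' g h := by
    ext v
    simp

theorem resHom_apply (W : Submodule K V) (hW : ∀ g : P, ∀ v ∈ W, ρ g v ∈ W) (g : P) (w : W) :
    ((resHom ρ W hW g) w : V) = ρ g (w : V) := rfl

/-- The representation induced on the quotient by an invariant subspace. -/
def quotHom (W : Submodule K V) (hW : ∀ g : P, ∀ v ∈ W, ρ g v ∈ W) :
    P →* Module.End K (V ⧸ W) where
  toFun g := W.mapQ W (ρ g) (fun v hv => hW g v hv)
  map_one' := by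
    ext v
    simp
  map_mul' g h := by
    ext v
    simp

theorem quotHom_apply (W : Submodule K V) (hW : ∀ g : P, ∀ v ∈ W, ρ g v ∈ W) (g : P) (v : V) :
    (quotHom ρ W hW g) (Submodule.Quotient.mk v) = Submodule.Quotient.mk (ρ g v) := rfl

theorem res_trivial {W : Submodule K V} {hW : ∀ g : P, ∀ v ∈ W, ρ g v ∈ W} {x : P}
    (hx : x ∈ (resHom ρ W hW).ker) (w : V) (hw : w ∈ W) : ρ x w = w := by
  have h1 : resHom ρ W hW x = 1 := hx
  have := congrArg (fun f : Module.End K W => ((f ⟨w, hw⟩ : W) : V)) h1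
  simpa [resHom_apply] using this

theorem quot_trivial {W : Submodule K V} {hW : ∀ g : P, ∀ v ∈ W, ρ g v ∈ W} {x : P}
    (hx : x ∈ (quotHom ρ W hW).ker) (v : V) : ρ x v - v ∈ W := by
  have h1 : quotHom ρ W hW x = 1 := hx
  have := congrArg (fun f : Module.End K (V ⧸ W) => f (Submodule.Quotient.mk v)) h1
  simp only [quotHom_apply, Module.End.one_apply] at this
  exact (Submodule.Quotient.eq W).1 this

/-- Elements acting trivially on `W` and on `V ⧸ W` commute. -/
theorem comm_of_trivial {W : Submodule K V} {hW : ∀ g : P, ∀ v ∈ W, ρ g v ∈ W} {x y : P}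
    (hx1 : x ∈ (resHom ρ W hW).ker) (hx2 : x ∈ (quotHom ρ W hW).ker)
    (hy1 : y ∈ (resHom ρ W hW).ker) (hy2 : y ∈ (quotHom ρ W hW).ker) :
    ρ x * ρ y = ρ y * ρ x := by
  ext v
  simp only [Module.End.mul_apply]
  have e1 : ρ x (ρ y v) = ρ x v + (ρ y v - v) := by
    have : ρ y v = v + (ρ y v - v) := by abel
    conv_lhs => rw [this]
    rw [map_add, res_trivial ρ hx1 _ (quot_trivial ρ hy2 v)]
  have e2 : ρ y (ρ x v) = ρ y v + (ρ x v - v) := by
    have : ρ x v = v + (ρ x v - v) := by abel
    conv_lhs => rw [this]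
    rw [map_add, res_trivial ρ hy1 _ (quot_trivial ρ hx2 v)]
  rw [e1, e2]
  abel

/-- If the image of `ρ` is commutative, the commutator subgroup acts trivially. -/
theorem commutator_le_ker_of_comm (h : ∀ g h : P, ρ g * ρ h = ρ h * ρ g) :
    commutator P ≤ ρ.ker := by
  rw [commutator_def, Subgroup.commutator_le]
  intro g _ k _
  rw [MonoidHom.mem_ker, commutatorElement_def, map_mul, map_mul, map_mul, h g k, mul_assoc (ρ k),
    rho_mul_inv, mul_one, rho_mul_inv]

/-- The subgroup of elements whose image commutes with a given endomorphism. -/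
def commSub (T : Module.End K V) : Subgroup P where
  carrier := {g | ρ g * T = T * ρ g}
  one_mem' := by simp
  mul_mem' := by
    intro a b ha hb
    have ha' : ρ a * T = T * ρ a := ha
    have hb' : ρ b * T = T * ρ b := hb
    show ρ (a * b) * T = T * ρ (a * b)
    rw [map_mul, mul_assoc, hb', ← mul_assoc, ha', mul_assoc]
  inv_mem' := by
    intro a ha
    have ha' : ρ a * T = T * ρ a := ha
    show ρ a⁻¹ * T = T * ρ a⁻¹
    calc ρ a⁻¹ * T = ρ a⁻¹ * T * (ρ a * ρ a⁻¹) := by rw [rho_mul_inv, mul_one]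
      _ = ρ a⁻¹ * (T * ρ a) * ρ a⁻¹ := by simp only [mul_assoc]
      _ = ρ a⁻¹ * (ρ a * T) * ρ a⁻¹ := by rw [ha']
      _ = (ρ a⁻¹ * ρ a) * T * ρ a⁻¹ := by simp only [mul_assoc]
      _ = T * ρ a⁻¹ := by rw [rho_inv_mul, one_mul]

theorem mem_commSub {T : Module.End K V} {g : P} : g ∈ commSub ρ T ↔ ρ g * T = T * ρ g :=
  Iff.rfl

end Rep

end Cfsg.Agent.Lib.helper73.DLin
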