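import Mathlib
import Cfsg.Agent.Lib.helper42.FGDefs

/-! S1915 split (helper42), piece C3: a `U`-invariant elementary abelian 2-subgroup of `A` has
order at most 2, when no non-identity element of the four-group `U` centralizes an elementary
abelian subgroup of order `> 2`. -/

set_option autoImplicit false

namespace Cfsg.Agent.Lib.helper42.FG

/-- Abstract core: two commuting involutory endomorphisms of an elementary abelian 2-group with at
least three elements; one of `a1`, `a2`, `a1 ∘ a2` fixes two distinct non-identity elements. -/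
theorem helper73_c3_abs {M : Type*} [Group M] (hcomm : ∀ x y : M, x * y = y * x)
    (h2 : ∀ x : M, x * x = 1)
    (a1 a2 : M →* M) (h11 : ∀ x, a1 (a1 x) = x) (h22 : ∀ x, a2 (a2 x) = x)
    (h12 : ∀ x, a1 (a2 x) = a2 (a1 x))
    (K1 : ∀ x y : M, x ≠ 1 → y ≠ 1 → x ≠ y → a1 x = x → a1 y = y → False)
    (K2 : ∀ x y : M, x ≠ 1 → y ≠ 1 → x ≠ y → a2 x = x → a2 y = y → False)
    (K12 : ∀ x y : M, x ≠ 1 → y ≠ 1 → x ≠ y → a1 (a2 x) = x → a1 (a2 y) = y → False)
    (x0 y0 : M) (hx0 : x0 ≠ 1) (hy0 : y0 ≠ 1) (hxy : x0 ≠ y0) : False := by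
  by_cases hA : ∀ e, a1 e = e
  · exact K1 x0 y0 hx0 hy0 hxy (hA x0) (hA y0)
  · obtain ⟨e, he⟩ := not_forall.mp hA
    obtain ⟨f, hf⟩ : ∃ f, f = e * a1 e := ⟨_, rfl⟩
    have hf1 : f ≠ 1 := by
      intro h
      apply he
      rw [hf] at h
      calc a1 e = e * (e * a1 e) := by rw [← mul_assoc, h2, one_mul]
      _ = e := by rw [h, mul_one]
    have hf_a1 : a1 f = f := by rw [hf, map_mul, h11, hcomm]
    have he1 : e ≠ 1 := by
      rintro rfl
      exact he (map_one a1)
    have hef : e ≠ f := by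
      intro h
      apply he
      rw [h]
      exact hf_a1
    by_cases hB : a2 f = f
    · by_cases hC1 : a2 e = e
      · exact K2 e f he1 hf1 hef hC1 hB
      · by_cases hC2 : a2 e = e * f
        · have h3 : a1 (a2 e) = e := by
            rw [hC2, map_mul, hf_a1, hf, hcomm e (a1 e), ← mul_assoc, h2, one_mul]
          have h4 : a1 (a2 f) = f := by rw [hB, hf_a1]
          exact K12 e f he1 hf1 hef h3 h4
        · obtain ⟨h, hh⟩ : ∃ h, h = e * a2 e := ⟨_, rfl⟩
          have hh1 : h ≠ 1 := by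
            intro h0
            apply hC1
            rw [hh] at h0
            calc a2 e = e * (e * a2 e) := by rw [← mul_assoc, h2, one_mul]
            _ = e := by rw [h0, mul_one]
          have hfh : f ≠ h := by
            intro h0
            apply hC2
            rw [h0, hh, ← mul_assoc, h2, one_mul]
          have hh_a1 : a1 h = h := by
            have h5 : a1 e = e * f := by rw [hf, ← mul_assoc, h2, one_mul]
            rw [hh, map_mul, h12, h5, map_mul, hB, hcomm (a2 e) f, ← mul_assoc, mul_assoc e f f,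
              h2, mul_one]
          exact K1 f h hf1 hh1 hfh hf_a1 hh_a1
    · obtain ⟨g, hg⟩ : ∃ g, g = f * a2 f := ⟨_, rfl⟩
      have hg1 : g ≠ 1 := by
        intro h0
        apply hB
        rw [hg] at h0
        calc a2 f = f * (f * a2 f) := by rw [← mul_assoc, h2, one_mul]
        _ = f := by rw [h0, mul_one]
      have hfg : f ≠ g := by
        intro h0
        apply hf1
        have h6 : a2 f = 1 := by
          have h7 : f * 1 = f * a2 f := by rw [mul_one, ← hg]; exact h0
          exact (mul_left_cancel h7).symm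
        have h8 := h22 f
        rw [h6, map_one] at h8
        exact h8.symm
      have hg_a1 : a1 g = g := by rw [hg, map_mul, h12, hf_a1]
      exact K1 f g hf1 hg1 hfg hf_a1 hg_a1

variable {G : Type*} [Group G] [Finite G]

/-- conjugation by a normalizing element as an endomorphism of the subgroup -/
def helper73_conjHom (E : Subgroup G) (u : G) (hu : u ∈ Subgroup.normalizer (E : Set G)) :
    ↥E →* ↥E where
  toFun e := ⟨u * e * u⁻¹, (Subgroup.mem_normalizer_iff.mp hu e).mp e.2⟩
  map_one' := by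
    apply Subtype.ext
    simp
  map_mul' x y := by
    apply Subtype.ext
    simp only [Subgroup.coe_mul]
    group

theorem helper73_conjHom_coe (E : Subgroup G) (u : G) (hu : u ∈ Subgroup.normalizer (E : Set G))
    (e : ↥E) : ((helper73_conjHom E u hu e : ↥E) : G) = u * e * u⁻¹ := rfl

theorem inv_el_small (A U : Subgroup G) (hU : IsKleinFour U)
    (hb : ∀ u ∈ U, u ≠ 1 → ∀ E : Subgroup G, E ≤ A → (∀ e ∈ E, u * e = e * u) → El E → Nat.card E ≤ 2)
    (E : Subgroup G) (hEA : E ≤ A) (hUE : U ≤ Subgroup.normalizer (E : Set G)) (hE : El E) :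
    Nat.card E ≤ 2 := by
  classical
  by_contra hcard
  have hcard' : 2 < Nat.card E := not_le.mp hcard
  -- the key consequence of `hb`
  have Kgen : ∀ u ∈ U, u ≠ 1 → ∀ x y : ↥E, x ≠ 1 → y ≠ 1 → x ≠ y →
      u * (x : G) * u⁻¹ = x → u * (y : G) * u⁻¹ = y → False := by
    intro u hu hu1 x y hx hy hxy hux huy
    have hF := hb u hu hu1 (E ⊓ Subgroup.centralizer ({u} : Set G))
      (inf_le_left.trans hEA)
      (fun e he => by
        have h1 := Subgroup.mem_centralizer_iff.mp he.2 u (Set.mem_singleton u)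
        exact h1)
      ⟨fun a ha b hb' => hE.1 a ha.1 b hb'.1, fun e he => hE.2 e he.1⟩
    have hmem : ∀ w : ↥E, u * (w : G) * u⁻¹ = w →
        (w : G) ∈ E ⊓ Subgroup.centralizer ({u} : Set G) := by
      intro w hw
      refine Subgroup.mem_inf.mpr ⟨w.2, ?_⟩
      rw [Subgroup.mem_centralizer_iff]
      intro v hv
      rw [Set.mem_singleton_iff] at hv
      subst hv
      calc v * (w : G) = (v * (w : G) * v⁻¹) * v := by group
      _ = w * v := by rw [hw]
    haveI : Fintype ↥(E ⊓ Subgroup.centralizer ({u} : Set G)) := Fintype.ofFinite _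
    have h3 : 2 < Nat.card ↥(E ⊓ Subgroup.centralizer ({u} : Set G)) := by
      rw [Nat.card_eq_fintype_card, Fintype.two_lt_card_iff]
      refine ⟨1, ⟨(x : G), hmem x hux⟩, ⟨(y : G), hmem y huy⟩, ?_, ?_, ?_⟩
      · intro h
        have h' : (1 : G) = (x : G) := congrArg Subtype.val h
        exact hx (Subtype.ext h'.symm)
      · intro h
        have h' : (1 : G) = (y : G) := congrArg Subtype.val h
        exact hy (Subtype.ext h'.symm)
      · intro h
        have h' : (x : G) = (y : G) := Subtype.mk.inj h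
        exact hxy (Subtype.ext h')
    omega
  -- elements of `U`
  have hUsq : ∀ u ∈ U, u * u = 1 := by
    intro u hu
    have h1 : (⟨u, hu⟩ : ↥U) ^ Monoid.exponent ↥U = 1 := Monoid.pow_exponent_eq_one _
    rw [hU.exponent_two, pow_two] at h1
    exact congrArg Subtype.val h1
  have hUcomm : ∀ u ∈ U, ∀ v ∈ U, u * v = v * u := by
    intro u hu v hv
    have h1 := hUsq (u * v) (U.mul_mem hu hv)
    have h2 := hUsq u hu
    have h3 := hUsq v hv
    calc u * v = u * (u * v * (u * v)) * v := by rw [h1, mul_one]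
    _ = (u * u) * (v * u) * (v * v) := by group
    _ = v * u := by rw [h2, h3, one_mul, mul_one]
  haveI : Fintype ↥U := Fintype.ofFinite _
  have hU4 : 2 < Fintype.card ↥U := by
    rw [← Nat.card_eq_fintype_card, hU.card_four]; norm_num
  obtain ⟨u1, u2, hu1, hu2, hu12⟩ : ∃ u1 u2 : ↥U, u1 ≠ 1 ∧ u2 ≠ 1 ∧ u1 ≠ u2 := by
    obtain ⟨a, b, c, hab, hac, hbc⟩ := Fintype.two_lt_card_iff.mp hU4
    by_cases ha : a = 1
    · exact ⟨b, c, fun h => hab (ha.trans h.symm), fun h => hac (ha.trans h.symm), hbc⟩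
    · by_cases hb' : b = 1
      · exact ⟨a, c, ha, fun h => hbc (hb'.trans h.symm), hac⟩
      · exact ⟨a, b, ha, hb', hab⟩
  haveI : Fintype ↥E := Fintype.ofFinite _
  obtain ⟨x0, y0, hx0, hy0, hxy0⟩ : ∃ x0 y0 : ↥E, x0 ≠ 1 ∧ y0 ≠ 1 ∧ x0 ≠ y0 := by
    have hE3 : 2 < Fintype.card ↥E := by rw [← Nat.card_eq_fintype_card]; exact hcard'
    obtain ⟨a, b, c, hab, hac, hbc⟩ := Fintype.two_lt_card_iff.mp hE3
    by_cases ha : a = 1
    · exact ⟨b, c, fun h => hab (ha.trans h.symm), fun h => hac (ha.trans h.symm), hbc⟩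
    · by_cases hb' : b = 1
      · exact ⟨a, c, ha, fun h => hbc (hb'.trans h.symm), hac⟩
      · exact ⟨a, b, ha, hb', hab⟩
  have hu1' : (u1 : G) ≠ 1 := fun h => hu1 (Subtype.ext h)
  have hu2' : (u2 : G) ≠ 1 := fun h => hu2 (Subtype.ext h)
  have hu12' : (u1 : G) * u2 ≠ 1 := by
    intro h
    apply hu12
    apply Subtype.ext
    have h1 := hUsq u2 u2.2
    calc (u1 : G) = (u1 : G) * ((u2 : G) * u2) := by rw [h1, mul_one]
    _ = ((u1 : G) * u2) * u2 := by group
    _ = u2 := by rw [h, one_mul]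
  have hinv1 : (u1 : G)⁻¹ = u1 := inv_eq_of_mul_eq_one_left (hUsq u1 u1.2)
  have hinv2 : (u2 : G)⁻¹ = u2 := inv_eq_of_mul_eq_one_left (hUsq u2 u2.2)
  have hc12 : (u1 : G) * u2 = u2 * u1 := hUcomm u1 u1.2 u2 u2.2
  refine helper73_c3_abs (M := ↥E)
    (fun x y => Subtype.ext (hE.1 x x.2 y y.2))
    (fun x => Subtype.ext (by
      have h1 := hE.2 x x.2
      rw [pow_two] at h1
      exact h1))
    (helper73_conjHom E u1 (hUE u1.2)) (helper73_conjHom E u2 (hUE u2.2))
    ?_ ?_ ?_ ?_ ?_ ?_ x0 y0 hx0 hy0 hxy0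
  · intro x
    apply Subtype.ext
    rw [helper73_conjHom_coe, helper73_conjHom_coe, hinv1]
    calc (u1 : G) * ((u1 : G) * x * u1) * u1 = ((u1 : G) * u1) * x * ((u1 : G) * u1) := by group
    _ = x := by rw [hUsq u1 u1.2, one_mul, mul_one]
  · intro x
    apply Subtype.ext
    rw [helper73_conjHom_coe, helper73_conjHom_coe, hinv2]
    calc (u2 : G) * ((u2 : G) * x * u2) * u2 = ((u2 : G) * u2) * x * ((u2 : G) * u2) := by group
    _ = x := by rw [hUsq u2 u2.2, one_mul, mul_one]
  · intro x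
    apply Subtype.ext
    rw [helper73_conjHom_coe, helper73_conjHom_coe, helper73_conjHom_coe, helper73_conjHom_coe,
      hinv1, hinv2]
    calc (u1 : G) * ((u2 : G) * x * u2) * u1 = ((u1 : G) * u2) * x * ((u2 : G) * u1) := by group
    _ = ((u2 : G) * u1) * x * ((u1 : G) * u2) := by rw [hc12]
    _ = (u2 : G) * ((u1 : G) * x * u1) * u2 := by group
  · intro x y hx hy hxy h1 h2
    exact Kgen u1 u1.2 hu1' x y hx hy hxy (congrArg Subtype.val h1) (congrArg Subtype.val h2)
  · intro x y hx hy hxy h1 h2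
    exact Kgen u2 u2.2 hu2' x y hx hy hxy (congrArg Subtype.val h1) (congrArg Subtype.val h2)
  · intro x y hx hy hxy h1 h2
    have h1' : (u1 : G) * ((u2 : G) * x * (u2 : G)⁻¹) * (u1 : G)⁻¹ = x := congrArg Subtype.val h1
    have h2' : (u1 : G) * ((u2 : G) * y * (u2 : G)⁻¹) * (u1 : G)⁻¹ = y := congrArg Subtype.val h2
    refine Kgen ((u1 : G) * u2) (U.mul_mem u1.2 u2.2) hu12' x y hx hy hxy ?_ ?_
    · calc (u1 : G) * u2 * x * ((u1 : G) * u2)⁻¹
          = (u1 : G) * ((u2 : G) * x * (u2 : G)⁻¹) * (u1 : G)⁻¹ := by group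
      _ = x := h1'
    · calc (u1 : G) * u2 * y * ((u1 : G) * u2)⁻¹
          = (u1 : G) * ((u2 : G) * y * (u2 : G)⁻¹) * (u1 : G)⁻¹ := by group
      _ = y := h2'

end Cfsg.Agent.Lib.helper42.FG
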