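import Mathlib
import Cfsg.Agent.Lib.helper44.SL3Defs
import Cfsg.Agent.Lib.helper51.PresX1
import Cfsg.Agent.Lib.helper97.PresX2
import Cfsg.Agent.Lib.helper79.PresHC
import Cfsg.Agent.Lib.helper92.PresPW

/-! S2287 piece MOD2 (`base_of_rels`): the base configuration from the relations
(generic case).  Also an own copy `h73_mod_merge` of piece MOD1 and the auxiliary
`h73_base_of_merge` shared with MOD4. -/

set_option autoImplicit false

namespace Cfsg.Agent.Lib.helper44.SL3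

open Polynomial

/-- Own copy of MOD1: the torus is abelian, `h k k' = 1`, `u ^ p = 1`, and all `h`-conjugates
of `u` commute with `u`. -/
theorem h73_mod_merge {G : Type*} [Group G] (u h c : G) (p j : ℕ)
    (hE : Commute u (h * u * h⁻¹)) (hF : h ^ j * u * (h ^ j)⁻¹ = u * (h * u * h⁻¹))
    (hup : u ^ p = h * (c * h * c⁻¹) * (c * c * h * (c * c)⁻¹)) (c3 : c * c * c = 1)
    (hk : Commute h (c * h * c⁻¹)) :
    u ^ p = 1 ∧ h * (c * h * c⁻¹) * (c * c * h * (c * c)⁻¹) = 1 ∧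
      (∀ n : ℕ, Commute u (h ^ n * u * (h ^ n)⁻¹)) ∧ Commute (c * c * h * (c * c)⁻¹) h := by
  have hkk' : Commute (c * h * c⁻¹) (c * c * h * (c * c)⁻¹) := by
    have h1 := Cfsg.Agent.Lib.helper92.Pres.helper92_comm_conj c h (c * h * c⁻¹) hk
    have e : c * (c * h * c⁻¹) * c⁻¹ = c * c * h * (c * c)⁻¹ := by group
    rwa [e] at h1
  have hk'h : Commute (c * c * h * (c * c)⁻¹) h := by
    have h1 := Cfsg.Agent.Lib.helper92.Pres.helper92_comm_conj c _ _ hkk'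
    have e1 : c * (c * h * c⁻¹) * c⁻¹ = c * c * h * (c * c)⁻¹ := by group
    have e2 : c * (c * c * h * (c * c)⁻¹) * c⁻¹ = h := by
      have e3 : c * (c * c * h * (c * c)⁻¹) * c⁻¹ = (c * c * c) * h * (c * c * c)⁻¹ := by group
      rw [e3, c3]; group
    rwa [e1, e2] at h1
  have hTh : Commute (h * (c * h * c⁻¹) * (c * c * h * (c * c)⁻¹)) h :=
    ((Commute.refl h).mul_left hk.symm).mul_left hk'h
  have hT1 : h * (c * h * c⁻¹) * (c * c * h * (c * c)⁻¹) = 1 :=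
    Pres.eq_one_of_merge u h (h ^ j) _ p hup hE hF hTh (hTh.pow_right j)
  exact ⟨by rw [hup, hT1], hT1,
    Pres.comm_trick u h (h ^ j) ((Commute.refl h).pow_right j) hE hF, hk'h⟩

/-- The base configuration, from the merged relations and the relation of the minimal
polynomial. -/
theorem h73_base_of_merge {G : Type*} [Group G] {F : Type*} [Field F] [Fintype F] {p : ℕ}
    [Fact p.Prime] [Algebra (ZMod p) F] (u h c : G) (ω : F)
    (hω : Algebra.adjoin (ZMod p) {ω} = ⊤) (hω0 : ω ≠ 0)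
    (hp1 : u ^ p = 1) (hT1 : h * (c * h * c⁻¹) * (c * c * h * (c * c)⁻¹) = 1)
    (hcomm : ∀ n : ℕ, Commute u (h ^ n * u * (h ^ n)⁻¹))
    (hk'h : Commute (c * c * h * (c * c)⁻¹) h)
    (hmp : Pres.polyWord h u (minpoly (ZMod p) ω) = 1) (c3 : c * c * c = 1)
    (hk : Commute h (c * h * c⁻¹)) (r7 : Commute (h⁻¹ * (c * c * h * (c * c)⁻¹)) u) :
    ∃ x : F → G, x 1 = u ∧ IsBase x h c ω ∧
      ∀ f : (ZMod p)[X], x (aeval ω f) = Pres.polyWord h u f := by
  obtain ⟨x, hx1, hxa, hxh, hxf⟩ := Pres.exists_param u h ω hω hp1 hcomm hmp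
  have hrel : (c * c * h * (c * c)⁻¹) * u * (c * c * h * (c * c)⁻¹)⁻¹ =
      Pres.polyWord h u (X : (ZMod p)[X]) := by
    have e : Pres.polyWord h u (X : (ZMod p)[X]) = h * u * h⁻¹ := by
      have h1 := Pres.polyWord_X_mul h u (1 : (ZMod p)[X])
      rw [mul_one, Pres.polyWord_one] at h1
      exact h1
    rw [e]
    have r := r7.eq
    calc (c * c * h * (c * c)⁻¹) * u * (c * c * h * (c * c)⁻¹)⁻¹
        = h * ((h⁻¹ * (c * c * h * (c * c)⁻¹)) * u) * (c * c * h * (c * c)⁻¹)⁻¹ := by group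
      _ = h * (u * (h⁻¹ * (c * c * h * (c * c)⁻¹))) * (c * c * h * (c * c)⁻¹)⁻¹ := by rw [r]
      _ = h * u * h⁻¹ := by group
  have hk'x := Pres.h_param u h (c * c * h * (c * c)⁻¹) ω ω hω x hx1 hxa hxh hxf hk'h X
    (aeval_X ω) hrel
  exact ⟨x, hx1, ⟨hxa, c3, hxh, hk'x, hk, hT1, hω0⟩, hxf⟩

-- MOD2
theorem base_of_rels {G : Type*} [Group G] {F : Type*} [Field F] [Fintype F] {p : ℕ}
    [Fact p.Prime] [Algebra (ZMod p) F] (u h c : G) (ω : F) (j : ℕ)
    (hω : Algebra.adjoin (ZMod p) {ω} = ⊤) (hω0 : ω ≠ 0)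
    (hE : Commute u (h * u * h⁻¹)) (hF : h ^ j * u * (h ^ j)⁻¹ = u * (h * u * h⁻¹))
    (hmp : Pres.polyWord h u (minpoly (ZMod p) ω) = 1)
    (hup : u ^ p = h * (c * h * c⁻¹) * (c * c * h * (c * c)⁻¹)) (c3 : c * c * c = 1)
    (hk : Commute h (c * h * c⁻¹)) (r7 : Commute (h⁻¹ * (c * c * h * (c * c)⁻¹)) u) :
    ∃ x : F → G, x 1 = u ∧ IsBase x h c ω ∧
      ∀ f : (ZMod p)[X], x (aeval ω f) = Pres.polyWord h u f := by
  obtain ⟨hp1, hT1, hcomm, hk'h⟩ := h73_mod_merge u h c p j hE hF hup c3 hk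
  exact h73_base_of_merge u h c ω hω hω0 hp1 hT1 hcomm hk'h hmp c3 hk r7

end Cfsg.Agent.Lib.helper44.SL3
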