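import Mathlib
import Cfsg.Agent.Lib.helper73.SL3MOD2

/-! S2287 piece MOD4 (`base_of_rels_four`): the base configuration from the relations, `q = 4`.
The relation of the minimal polynomial `X² + X + 1` follows from `hF` and `u² = 1`. -/

set_option autoImplicit false

namespace Cfsg.Agent.Lib.helper44.SL3

open Polynomial

/-- Field facts for the field with four elements: `ω` with `ω² = ω + 1` generates, is nonzero,
and has minimal polynomial `X² + X + 1`. -/
theorem h73_four_facts {F : Type*} [Field F] [Fintype F] [Algebra (ZMod 2) F]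
    (hcard : Fintype.card F = 4) (ω : F) (hω : ω ^ 2 = ω + 1) :
    Algebra.adjoin (ZMod 2) {ω} = ⊤ ∧ ω ≠ 0 ∧
      minpoly (ZMod 2) ω = X * (X * 1) + (X * 1 + 1) ∧
      ∀ a : F, a = 0 ∨ a = 1 ∨ a = ω ∨ a = ω + 1 := by
  classical
  have h2 : (2 : F) = 0 := by
    have h := map_ofNat (algebraMap (ZMod 2) F) 2
    rw [← h]
    have h0 : (OfNat.ofNat 2 : ZMod 2) = 0 := rfl
    rw [h0, map_zero]
  have hω0 : ω ≠ 0 := by
    rintro rfl
    simp at hω
  have hω1 : ω ≠ 1 := by
    rintro rfl
    have h11 : (1 : F) = 1 + 1 := by simp at hω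
    have h10 : (1 : F) = 0 := by linear_combination h11 + h2
    exact one_ne_zero h10
  have hall : ∀ a : F, a = 0 ∨ a = 1 ∨ a = ω ∨ a = ω + 1 := by
    have hs : ({0, 1, ω, ω + 1} : Finset F) = Finset.univ := by
      apply Finset.eq_univ_of_card
      have n1 : ω ∉ ({ω + 1} : Finset F) := by simp
      have n2 : (1 : F) ∉ ({ω, ω + 1} : Finset F) := by
        simp only [Finset.mem_insert, Finset.mem_singleton, not_or]
        exact ⟨fun h => hω1 h.symm, fun h => hω0 (by linear_combination -h)⟩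
      have n3 : (0 : F) ∉ ({1, ω, ω + 1} : Finset F) := by
        simp only [Finset.mem_insert, Finset.mem_singleton, not_or]
        refine ⟨zero_ne_one, fun h => hω0 h.symm, fun h => ?_⟩
        have h3 : ω ^ 2 = 0 := by rw [hω, ← h]
        exact hω0 ((pow_eq_zero_iff two_ne_zero).mp h3)
      rw [Finset.card_insert_of_notMem n3, Finset.card_insert_of_notMem n2,
        Finset.card_insert_of_notMem n1, Finset.card_singleton, hcard]
    intro a
    have ha := Finset.mem_univ a
    rw [← hs] at ha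
    simpa using ha
  have hadj : Algebra.adjoin (ZMod 2) {ω} = ⊤ := by
    rw [eq_top_iff]
    intro a _
    have hωm : ω ∈ Algebra.adjoin (ZMod 2) {ω} := Algebra.subset_adjoin (Set.mem_singleton ω)
    rcases hall a with rfl | rfl | rfl | rfl
    · exact zero_mem _
    · exact one_mem _
    · exact hωm
    · exact add_mem hωm (one_mem _)
  have hmin : minpoly (ZMod 2) ω = X * (X * 1) + (X * 1 + 1) := by
    have e : (X * (X * 1) + (X * 1 + 1) : (ZMod 2)[X]) = X ^ 2 + X + 1 := by ring
    rw [e]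
    symm
    apply minpoly.eq_of_irreducible_of_monic
    · apply Polynomial.irreducible_of_degree_le_three_of_not_isRoot
      · have hd : (X ^ 2 + X + 1 : (ZMod 2)[X]).natDegree = 2 := by compute_degree!
        rw [hd]; decide
      · intro x
        rw [IsRoot.def]
        simp only [eval_add, eval_pow, eval_X, eval_one]
        revert x
        decide
    · simp only [map_add, map_pow, aeval_X, map_one]
      rw [hω]; linear_combination (ω + 1) * h2
    · monicity!
  exact ⟨hadj, hω0, hmin, hall⟩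

-- MOD4
theorem base_of_rels_four {G : Type*} [Group G] {F : Type*} [Field F] [Fintype F]
    [Algebra (ZMod 2) F] (hcard : Fintype.card F = 4) (u h c : G) (ω : F)
    (hω : ω ^ 2 = ω + 1)
    (hE : Commute u (h * u * h⁻¹)) (hF : h ^ 2 * u * (h ^ 2)⁻¹ = u * (h * u * h⁻¹))
    (hup : u ^ 2 = h * (c * h * c⁻¹) * (c * c * h * (c * c)⁻¹)) (c3 : c * c * c = 1)
    (hk : Commute h (c * h * c⁻¹)) (r7 : Commute (h⁻¹ * (c * c * h * (c * c)⁻¹)) u) :
    ∃ x : F → G, x 1 = u ∧ IsBase x h c ω ∧
      ∀ f : (ZMod 2)[X], x (aeval ω f) = Pres.polyWord h u f := by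
  obtain ⟨hadj, hω0, hmin, -⟩ := h73_four_facts hcard ω hω
  obtain ⟨hp1, hT1, hcomm, hk'h⟩ := h73_mod_merge u h c 2 2 hE hF hup c3 hk
  have hmp : Pres.polyWord h u (minpoly (ZMod 2) ω) = 1 := by
    rw [hmin, Pres.polyWord_add h u hp1 hcomm, Pres.polyWord_add h u hp1 hcomm]
    simp only [Pres.polyWord_X_mul, Pres.polyWord_one]
    have e1 : h * (h * u * h⁻¹) * h⁻¹ = h ^ 2 * u * (h ^ 2)⁻¹ := by rw [pow_two]; group
    rw [e1, hF]
    have e2 : u * (h * u * h⁻¹) * (h * u * h⁻¹ * u) = u * (h * (u ^ 2) * h⁻¹) * u := by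
      rw [pow_two]; group
    rw [e2, hp1]
    have e3 : u * (h * 1 * h⁻¹) * u = u ^ 2 := by rw [pow_two]; group
    rw [e3, hp1]
  exact h73_base_of_merge u h c ω hadj hω0 hp1 hT1 hcomm hk'h hmp c3 hk r7

end Cfsg.Agent.Lib.helper44.SL3
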