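import Mathlib
import Cfsg.Agent.Lib.helper45.SVDefs

set_option autoImplicit false
open scoped MatrixGroups

namespace Cfsg.Agent.Lib.helper45.SV

/-- W (M). Weisner's theorem. -/
theorem weisner {α : Type*} [Lattice α] [BoundedOrder α] [Fintype α] [DecidableEq α]
    [LocallyFiniteOrder α] (a : α) (ha : a ≠ ⊥) :
    ∑ x ∈ Finset.univ.filter (fun x : α => x ⊔ a = ⊤), IncidenceAlgebra.mu ℤ ⊥ x = 0 := by
  classical
  have h1 : ∀ x : α, (if x ⊔ a = ⊤ then IncidenceAlgebra.mu ℤ ⊥ x else 0) =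
      ∑ y : α, (if x ⊔ a ≤ y then IncidenceAlgebra.mu ℤ ⊥ x * IncidenceAlgebra.mu ℤ y ⊤ else 0) := by
    intro x
    rw [← Finset.sum_filter, ← Finset.mul_sum]
    have h2 : Finset.univ.filter (fun y : α => x ⊔ a ≤ y) = Finset.Icc (x ⊔ a) ⊤ := by
      ext y; simp
    rw [h2, IncidenceAlgebra.sum_Icc_mu_left]
    split_ifs <;> simp
  rw [Finset.sum_filter, Finset.sum_congr rfl (fun x _ => h1 x), Finset.sum_comm]
  apply Finset.sum_eq_zero
  intro y _
  by_cases hay : a ≤ y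
  · have hy : ⊥ ≠ y := by
      rintro rfl
      exact ha (le_bot_iff.1 hay)
    have h3 : ∀ x : α, (if x ⊔ a ≤ y then IncidenceAlgebra.mu ℤ ⊥ x * IncidenceAlgebra.mu ℤ y ⊤ else 0) =
        (if x ≤ y then IncidenceAlgebra.mu ℤ ⊥ x * IncidenceAlgebra.mu ℤ y ⊤ else 0) := by
      intro x
      have : x ⊔ a ≤ y ↔ x ≤ y := by
        rw [sup_le_iff]; exact ⟨fun h => h.1, fun h => ⟨h, hay⟩⟩
      simp only [this]
    rw [Finset.sum_congr rfl (fun x _ => h3 x), ← Finset.sum_filter, ← Finset.sum_mul]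
    have h4 : Finset.univ.filter (fun x : α => x ≤ y) = Finset.Icc ⊥ y := by
      ext x; simp
    rw [h4, IncidenceAlgebra.sum_Icc_mu_right, if_neg hy, zero_mul]
  · apply Finset.sum_eq_zero
    intro x _
    rw [if_neg]
    intro h
    exact hay (le_trans le_sup_right h)

end Cfsg.Agent.Lib.helper45.SV
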