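import Mathlib
import Cfsg.Agent.Lib.helper45.SVDefs

set_option autoImplicit false
open scoped MatrixGroups

namespace Cfsg.Agent.Lib.helper45.SV

open Classical in
/-- The chains lying strictly between `⊥` and `b`. -/
noncomputable def h73_chainsBelow {α : Type*} [PartialOrder α] [OrderBot α] [Fintype α] (b : α) :
    Finset (Finset α) :=
  Finset.univ.filter (fun c : Finset α => IsChain (· ≤ ·) (c : Set α) ∧ ∀ a ∈ c, ⊥ < a ∧ a < b)

theorem h73_mem_chainsBelow {α : Type*} [PartialOrder α] [OrderBot α] [Fintype α] (b : α)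
    (c : Finset α) :
    c ∈ h73_chainsBelow b ↔ IsChain (· ≤ ·) (c : Set α) ∧ ∀ a ∈ c, ⊥ < a ∧ a < b := by
  classical
  simp [h73_chainsBelow]

/-- Splitting the chains below `b` by their largest element. -/
theorem h73_chains_rec {α : Type*} [PartialOrder α] [OrderBot α] [Fintype α] [DecidableEq α]
    [LocallyFiniteOrder α] (b : α) :
    ∑ c ∈ h73_chainsBelow b, (-1 : ℤ) ^ (c.card + 1) =
      -1 - ∑ x ∈ Finset.Ioo ⊥ b, ∑ c ∈ h73_chainsBelow x, (-1 : ℤ) ^ (c.card + 1) := by
  classical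
  have hempty : (∅ : Finset α) ∈ h73_chainsBelow b := by
    rw [h73_mem_chainsBelow]
    simp
  rw [← Finset.add_sum_erase _ _ hempty]
  have h1 : ((-1 : ℤ)) ^ ((∅ : Finset α).card + 1) = -1 := by simp
  rw [h1]
  have h2 : ∑ c ∈ (h73_chainsBelow b).erase ∅, (-1 : ℤ) ^ (c.card + 1) =
      ∑ p ∈ (Finset.Ioo ⊥ b).sigma (fun x => h73_chainsBelow x),
        -((-1 : ℤ) ^ (p.2.card + 1)) := by
    symm
    apply Finset.sum_bij (fun p _ => insert p.1 p.2)
    · rintro ⟨x, c⟩ hp
      simp only [Finset.mem_sigma, Finset.mem_Ioo] at hp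
      obtain ⟨⟨hx0, hxb⟩, hc⟩ := hp
      rw [h73_mem_chainsBelow] at hc
      rw [Finset.mem_erase, h73_mem_chainsBelow]
      refine ⟨Finset.insert_ne_empty _ _, ?_, ?_⟩
      · rw [Finset.coe_insert]
        apply hc.1.insert
        intro a ha _
        exact Or.inr (hc.2 a ha).2.le
      · intro a ha
        rcases Finset.mem_insert.1 ha with rfl | ha
        · exact ⟨hx0, hxb⟩
        · exact ⟨(hc.2 a ha).1, (hc.2 a ha).2.trans hxb⟩
    · rintro ⟨x, c⟩ hp ⟨y, d⟩ hq heq
      simp only [Finset.mem_sigma, Finset.mem_Ioo, h73_mem_chainsBelow] at hp hq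
      simp only at heq
      have hxy : x = y := by
        have hx : x ∈ insert y d := heq ▸ Finset.mem_insert_self x c
        have hy : y ∈ insert x c := heq.symm ▸ Finset.mem_insert_self y d
        rcases Finset.mem_insert.1 hx with h | h
        · exact h
        · rcases Finset.mem_insert.1 hy with h' | h'
          · exact h'.symm
          · exact absurd ((hq.2.2 x h).2.trans (hp.2.2 y h').2) (lt_irrefl _)
      subst hxy
      have hxc : x ∉ c := fun h => lt_irrefl _ (hp.2.2 x h).2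
      have hxd : x ∉ d := fun h => lt_irrefl _ (hq.2.2 x h).2
      have hcd : c = d := by
        rw [← Finset.erase_insert hxc, ← Finset.erase_insert hxd, heq]
      rw [hcd]
    · intro c hc
      rw [Finset.mem_erase, h73_mem_chainsBelow] at hc
      obtain ⟨hne, hchain, hbd⟩ := hc
      obtain ⟨x, hxmax⟩ := Finset.exists_maximal (Finset.nonempty_iff_ne_empty.2 hne)
      have hxc : x ∈ c := hxmax.prop
      have hle : ∀ a ∈ c, a ≤ x := by
        intro a ha
        by_cases hax : a = x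
        · exact hax.le
        · rcases hchain (Finset.mem_coe.2 ha) (Finset.mem_coe.2 hxc) hax with h | h
          · exact h
          · exact hxmax.le_of_ge ha h
      refine ⟨⟨x, c.erase x⟩, ?_, Finset.insert_erase hxc⟩
      simp only [Finset.mem_sigma, Finset.mem_Ioo, h73_mem_chainsBelow]
      refine ⟨hbd x hxc, hchain.mono (by
        intro a ha
        exact Finset.mem_coe.2 (Finset.mem_of_mem_erase (Finset.mem_coe.1 ha))), ?_⟩
      intro a ha
      have hac := Finset.mem_of_mem_erase ha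
      have hax : a ≠ x := Finset.ne_of_mem_erase ha
      exact ⟨(hbd a hac).1, lt_of_le_of_ne (hle a hac) hax⟩
    · rintro ⟨x, c⟩ hp
      simp only [Finset.mem_sigma, Finset.mem_Ioo, h73_mem_chainsBelow] at hp
      have hxc : x ∉ c := fun h => lt_irrefl _ (hp.2.2 x h).2
      simp only
      rw [Finset.card_insert_of_notMem hxc, pow_succ ((-1 : ℤ)) (c.card + 1)]
      ring
  rw [h2, Finset.sum_sigma, Finset.sum_congr rfl (fun x _ => Finset.sum_neg_distrib _),
    Finset.sum_neg_distrib]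
  ring

/-- Philip Hall's theorem for the intervals `[⊥, b]`. -/
theorem h73_mu_eq_chains {α : Type*} [PartialOrder α] [OrderBot α] [Fintype α] [DecidableEq α]
    [LocallyFiniteOrder α] (b : α) (hb : ⊥ < b) :
    IncidenceAlgebra.mu ℤ (⊥ : α) b = ∑ c ∈ h73_chainsBelow b, (-1 : ℤ) ^ (c.card + 1) := by
  induction b using WellFoundedLT.induction with
  | _ b ih =>
    rw [IncidenceAlgebra.mu_eq_neg_sum_Ico_of_ne hb.ne, h73_chains_rec b,
      ← Finset.Ioo_insert_left hb, Finset.sum_insert Finset.left_notMem_Ioo,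
      IncidenceAlgebra.mu_self]
    have h1 : ∑ x ∈ Finset.Ioo ⊥ b, IncidenceAlgebra.mu ℤ ⊥ x =
        ∑ x ∈ Finset.Ioo ⊥ b, ∑ c ∈ h73_chainsBelow x, (-1 : ℤ) ^ (c.card + 1) := by
      apply Finset.sum_congr rfl
      intro x hx
      rw [Finset.mem_Ioo] at hx
      exact ih x hx.2 hx.1
    rw [h1]
    ring

/-- HALL (L). Philip Hall's theorem. -/
theorem hall {α : Type*} [PartialOrder α] [BoundedOrder α] [Fintype α] [DecidableEq α]
    [LocallyFiniteOrder α] (h : (⊥ : α) ≠ ⊤) :
    IncidenceAlgebra.mu ℤ (⊥ : α) ⊤ = ∑ᶠ c ∈ chainsOO α, (-1 : ℤ) ^ (c.card + 1) := by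
  classical
  have hlt : (⊥ : α) < ⊤ := lt_of_le_of_ne bot_le h
  rw [h73_mu_eq_chains ⊤ hlt, finsum_mem_eq_finite_toFinset_sum _ (Set.toFinite (chainsOO α))]
  apply Finset.sum_congr _ (fun _ _ => rfl)
  ext c
  simp only [Set.Finite.mem_toFinset, h73_mem_chainsBelow, chainsOO, Set.mem_setOf_eq]
  constructor
  · rintro ⟨h1, h2⟩
    exact ⟨h1, fun a ha => ⟨(h2 a ha).1.ne', (h2 a ha).2.ne⟩⟩
  · rintro ⟨h1, h2⟩
    exact ⟨h1, fun a ha => ⟨bot_lt_iff_ne_bot.2 (h2 a ha).1, lt_top_iff_ne_top.2 (h2 a ha).2⟩⟩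

end Cfsg.Agent.Lib.helper45.SV
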