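import Mathlib
import Cfsg.Agent.S0985

/-!
# The Sylow intersection rule

If the number of Sylow `p`-subgroups of a finite simple group is not `1` modulo `p ^ 2` (and
`p ^ 2` divides the order), two Sylow `p`-subgroups `P`, `R` meet in a subgroup `D` of index
`p`; `D` is normal in both, and `N_G(D)` is a proper subgroup having more than one Sylow
`p`-subgroup.
-/

set_option autoImplicit false

namespace Cfsg.Agent.Lib.helper73.SylInter

variable {G : Type*} [Group G] [Finite G]

theorem card_subgroupOf_of_le {D P : Subgroup G} (h : D ≤ P) :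
    Nat.card ↥(D.subgroupOf P) = Nat.card ↥D :=
  Nat.card_congr (Subgroup.subgroupOfEquivOfLe h).toEquiv

theorem card_mul_relIndex_of_le {D P : Subgroup G} (h : D ≤ P) :
    Nat.card ↥D * D.relIndex P = Nat.card ↥P := by
  rw [← card_subgroupOf_of_le h]
  exact Subgroup.card_mul_index (D.subgroupOf P)

/-- The number `n` of Sylow `p`-subgroups of a subgroup `H` containing a Sylow `p`-subgroup `P`
of `G` is `1` mod `p`, and `|P| * n` divides `|H|`. -/
theorem card_sylow_subgroup {p : ℕ} [Fact p.Prime] (P : Sylow p G) (H : Subgroup G)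
    (hPH : (P : Subgroup G) ≤ H) :
    Nat.card (Sylow p ↥H) % p = 1 ∧ Nat.card (P : Subgroup G) * Nat.card (Sylow p ↥H) ∣ Nat.card ↥H := by
  have hp : p.Prime := Fact.out
  constructor
  · have h1 : Nat.card (Sylow p ↥H) ≡ 1 [MOD p] := card_sylow_modEq_one p ↥H
    have h2 : Nat.card (Sylow p ↥H) % p = 1 % p := h1
    rw [h2]
    exact Nat.mod_eq_of_lt hp.one_lt
  · have h2 : Nat.card (Sylow p ↥H) ∣ ((P.subtype hPH : Sylow p ↥H) : Subgroup ↥H).index :=
      Sylow.card_dvd_index _
    have h3 : ((P.subtype hPH : Sylow p ↥H) : Subgroup ↥H).index = (P : Subgroup G).relIndex H := by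
      rw [Sylow.coe_subtype]
      rfl
    rw [h3] at h2
    rw [← card_mul_relIndex_of_le hPH]
    exact Nat.mul_dvd_mul_left _ h2

/-- **Sylow intersection rule.** -/
theorem sylow_inter [IsSimpleGroup G] (p : ℕ) [Fact p.Prime]
    (hn : ¬ Nat.card (Sylow p G) ≡ 1 [MOD p ^ 2]) (P₀ : Sylow p G)
    (hp2 : p ^ 2 ∣ Nat.card (P₀ : Subgroup G)) :
    ∃ H : Subgroup G, H ≠ ⊤ ∧ ∃ n : ℕ, 1 < n ∧ n % p = 1 ∧
      Nat.card (P₀ : Subgroup G) * n ∣ Nat.card ↥H := by
  have hp : p.Prime := Fact.out
  obtain ⟨P, R, hne, hidx⟩ := Cfsg.Agent.S0985.result (G := G) p 2 hn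
  have hcP : Nat.card (P : Subgroup G) = Nat.card (P₀ : Subgroup G) := by
    rw [Sylow.card_eq_multiplicity, Sylow.card_eq_multiplicity]
  have hcR : Nat.card (R : Subgroup G) = Nat.card (P₀ : Subgroup G) := by
    rw [Sylow.card_eq_multiplicity, Sylow.card_eq_multiplicity]
  set D : Subgroup G := (P : Subgroup G) ⊓ (R : Subgroup G) with hD
  have hDP : D ≤ (P : Subgroup G) := inf_le_left
  have hDR : D ≤ (R : Subgroup G) := inf_le_right
  have hrel : D.relIndex (P : Subgroup G) ≤ p := by
    rw [hD, Subgroup.inf_relIndex_left]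
    exact (show ((R : Subgroup G).subgroupOf (P : Subgroup G)).index ≤ p by simpa using hidx)
  have hmulP := card_mul_relIndex_of_le hDP
  have hmulR := card_mul_relIndex_of_le hDR
  have hcard_pos : 0 < Nat.card (P₀ : Subgroup G) := Nat.card_pos
  have hDpos : 0 < Nat.card ↥D := Nat.card_pos
  -- the relative index is exactly `p`
  have hrel1 : D.relIndex (P : Subgroup G) ≠ 1 := by
    intro h1
    rw [h1, mul_one] at hmulP
    have hDeq : D = (P : Subgroup G) := Subgroup.eq_of_le_of_card_ge hDP hmulP.ge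
    have hPR : (P : Subgroup G) ≤ (R : Subgroup G) := by
      rw [← hDeq]
      exact hDR
    exact hne (Sylow.ext (Subgroup.eq_of_le_of_card_ge hPR (by rw [hcP, hcR])))
  obtain ⟨a, ha⟩ : ∃ a, Nat.card (P : Subgroup G) = p ^ a := ⟨_, Sylow.card_eq_multiplicity P⟩
  have hrelp : D.relIndex (P : Subgroup G) = p := by
    have hdvd : D.relIndex (P : Subgroup G) ∣ p ^ a := by
      rw [← ha]
      exact Subgroup.relIndex_dvd_card _ _
    obtain ⟨b, hb, hbe⟩ := (Nat.dvd_prime_pow hp).mp hdvd
    rcases Nat.eq_zero_or_pos b with hb0 | hb0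
    · rw [hb0, pow_zero] at hbe
      exact absurd hbe hrel1
    · have hle : p ^ 1 ≤ p ^ b := Nat.pow_le_pow_right hp.pos hb0
      rw [pow_one, ← hbe] at hle
      omega
  have hrelR : D.relIndex (R : Subgroup G) = p := by
    have h1 : Nat.card ↥D * D.relIndex (R : Subgroup G) = Nat.card ↥D * p := by
      rw [hmulR, hcR, ← hcP, ← hmulP, hrelp]
    exact Nat.eq_of_mul_eq_mul_left hDpos h1
  have ha0 : a ≠ 0 := by
    rintro rfl
    rw [pow_zero] at ha
    rw [ha] at hmulP
    have := Nat.eq_one_of_mul_eq_one_left hmulP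
    exact hrel1 this
  -- `D` is normal in `P` and in `R`
  have hnormal : ∀ Q : Sylow p G, Nat.card (Q : Subgroup G) = p ^ a → D ≤ (Q : Subgroup G) →
      D.relIndex (Q : Subgroup G) = p → (Q : Subgroup G) ≤ Subgroup.normalizer (D : Set G) := by
    intro Q hQc hDQ hQrel
    rw [← Subgroup.normal_subgroupOf_iff_le_normalizer hDQ]
    apply Subgroup.normal_of_index_eq_minFac_card
    rw [hQc, Nat.pow_minFac ha0, hp.minFac_eq]
    exact hQrel
  have hPN := hnormal P ha hDP hrelp
  have hRN := hnormal R (by rw [hcR, ← hcP, ha]) hDR hrelR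
  -- `D` is neither trivial nor everything
  have hDbot : D ≠ ⊥ := by
    intro hb
    have hc1 : Nat.card ↥D = 1 := by rw [hb, Subgroup.card_bot]
    rw [hc1, one_mul, hrelp, hcP] at hmulP
    rw [← hmulP] at hp2
    have : p ^ 2 ≤ p := Nat.le_of_dvd hp.pos hp2
    have h2 : p * 2 ≤ p ^ 2 := by
      rw [pow_two]
      exact Nat.mul_le_mul_left p hp.two_le
    have := hp.pos
    omega
  have hDtop : D ≠ ⊤ := by
    intro ht
    have hPtop : (P : Subgroup G) = ⊤ := by
      rw [eq_top_iff, ← ht]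
      exact hDP
    have hPR : (R : Subgroup G) ≤ (P : Subgroup G) := by
      rw [hPtop]
      exact le_top
    exact hne (Sylow.ext (Subgroup.eq_of_le_of_card_ge hPR (by rw [hcP, hcR]))).symm
  have hNtop : Subgroup.normalizer (D : Set G) ≠ ⊤ := by
    intro ht
    have hnD : D.Normal := Subgroup.normalizer_eq_top_iff.mp ht
    rcases hnD.eq_bot_or_eq_top with h1 | h1
    · exact hDbot h1
    · exact hDtop h1
  refine ⟨Subgroup.normalizer (D : Set G), hNtop, Nat.card (Sylow p ↥(Subgroup.normalizer (D : Set G))), ?_, ?_, ?_⟩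
  · rw [Finite.one_lt_card_iff_nontrivial]
    refine ⟨⟨P.subtype hPN, R.subtype hRN, ?_⟩⟩
    intro heq
    apply hne
    have h1 : ((P.subtype hPN : Sylow p ↥(Subgroup.normalizer (D : Set G))) :
        Subgroup ↥(Subgroup.normalizer (D : Set G))) =
        ((R.subtype hRN : Sylow p ↥(Subgroup.normalizer (D : Set G))) :
        Subgroup ↥(Subgroup.normalizer (D : Set G))) := by
      rw [heq]
    rw [Sylow.coe_subtype, Sylow.coe_subtype, Subgroup.subgroupOf_inj, inf_of_le_left hPN,
      inf_of_le_left hRN] at h1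
    exact Sylow.ext h1
  · exact (card_sylow_subgroup P _ hPN).1
  · rw [← hcP]
    exact (card_sylow_subgroup P _ hPN).2

end Cfsg.Agent.Lib.helper73.SylInter
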