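import Mathlib
import Cfsg.Agent.Lib.helper73.PrimeIdx
import Cfsg.Agent.Lib.helper73.SylInter
import Cfsg.Agent.Lib.helper21.SimpleIndex
import Cfsg.Agent.Lib.helper21.SylowTest

/-!
# Tools for excluding orders of simple groups
-/

set_option autoImplicit false

namespace Cfsg.Agent.Lib.helper73.OrdTools

variable {G : Type*} [Group G] [Finite G] [IsSimpleGroup G]

/-- Constraints on the index of a proper subgroup of a non-abelian simple group. -/
theorem index_facts (hG : ¬ IsMulCommutative G) (H : Subgroup G) (hH : H ≠ ⊤) :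
    Nat.card G ∣ H.index.factorial ∧
      (H.index.Prime → H.index * (H.index - 1) ∣ Nat.card G) ∧
      Nat.card ↥H * H.index = Nat.card G :=
  ⟨Cfsg.Agent.Lib.helper21.card_dvd_factorial_index_of_simple H hH,
    fun hp => Cfsg.Agent.Lib.helper73.PrimeIdx.prime_index_dvd hG H hp,
    Subgroup.card_mul_index H⟩

/-- Basic facts on a Sylow `p`-subgroup of a simple group of order `p ^ k * m`. -/
theorem sylow_facts {p : ℕ} [Fact p.Prime] (k m : ℕ) (hk : 1 ≤ k)
    (hcard : Nat.card G = p ^ k * m) (hpm : ¬ p ∣ m) (hm : m ≠ 1) (P : Sylow p G) :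
    Nat.card (P : Subgroup G) = p ^ k ∧ ¬ IsMulCommutative G ∧
      Subgroup.normalizer ((P : Subgroup G) : Set G) ≠ ⊤ ∧
      Nat.card (Sylow p G) = (Subgroup.normalizer ((P : Subgroup G) : Set G)).index ∧
      (Subgroup.normalizer ((P : Subgroup G) : Set G)).index % p = 1 ∧
      (Subgroup.normalizer ((P : Subgroup G) : Set G)).index ∣ m := by
  have hp : p.Prime := Fact.out
  obtain ⟨hc, hi, hbot, htop, hnc⟩ :=
    Cfsg.Agent.Lib.helper21.simple_sylow_basic (G := G) (p := p) k m hk hcard hpm hm P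
  refine ⟨hc, ?_, ?_, Sylow.card_eq_index_normalizer P, ?_, ?_⟩
  · intro h
    exact hnc (fun a b => h.is_comm.comm a b)
  · intro ht
    have hn : (P : Subgroup G).Normal := Subgroup.normalizer_eq_top_iff.mp ht
    rcases hn.eq_bot_or_eq_top with h1 | h1
    · exact hbot h1
    · exact htop h1
  · have h1 : Nat.card (Sylow p G) ≡ 1 [MOD p] := card_sylow_modEq_one p G
    rw [Sylow.card_eq_index_normalizer P] at h1
    have h2 : (Subgroup.normalizer ((P : Subgroup G) : Set G)).index % p = 1 % p := h1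
    rw [h2]
    exact Nat.mod_eq_of_lt hp.one_lt
  · rw [← hi]
    exact Subgroup.index_dvd_of_le Subgroup.le_normalizer

end Cfsg.Agent.Lib.helper73.OrdTools
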