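import Mathlib
import Cfsg.Agent.Lib.helper65.PearlBasic

set_option autoImplicit false

namespace Cfsg.Agent.Lib.helper65.PearlPow

open Cfsg.Agent.Lib.helper68

variable {H : Type*} [Group H]

/-- Core of S: `s_claim` with the statements of D2 (`rel_ph`) and I2 (`rel_dl_ph`) as hypotheses. -/
theorem h73_s_claim_core
    (hD2 : ∀ (u v : ℕ) (x : H) (s s' : ℕ → H), PolySeq v s → Rel u s s' →
      Rel (u + 1) (ph x s) (ph x s'))
    (hI2 : ∀ (v : ℕ) (x : H) (s : ℕ → H), PolySeq v s →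
      Rel (2 * v + 2) (ph x (dl s)) (dl (ph x s)))
    (x g : H) {w : ℕ} (hw : 1 ≤ w) (hg : g ∈ gam H w) (j : ℕ) :
    Rel (w + j + 2) ((ph x)^[j] (dl (tt x g))) (dl ((ph x)^[j] (tt x g))) := by
  induction j with
  | zero => exact rel_refl _ _
  | succ j ih =>
    rw [Function.iterate_succ_apply', Function.iterate_succ_apply']
    have ht : PolySeq w (tt x g) := tt_polyseq x g hg
    have hdt : PolySeq (w + 1) (dl (tt x g)) := PolySeq.diff ht
    have h1 : PolySeq (w + 1 + j) ((ph x)^[j] (dl (tt x g))) := polyseq_ph_iter x hdt j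
    have h2 : PolySeq (w + j) ((ph x)^[j] (tt x g)) := polyseq_ph_iter x ht j
    have a1 : Rel (w + j + 2 + 1) (ph x ((ph x)^[j] (dl (tt x g))))
        (ph x (dl ((ph x)^[j] (tt x g)))) := hD2 _ _ x _ _ h1 ih
    have a2 : Rel (2 * (w + j) + 2) (ph x (dl ((ph x)^[j] (tt x g))))
        (dl (ph x ((ph x)^[j] (tt x g)))) := hI2 _ x _ h2
    exact rel_trans (rel_mono (by omega) a1) (rel_mono (by omega) a2)

end Cfsg.Agent.Lib.helper65.PearlPow
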