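import Mathlib
import Cfsg.Agent.Lib.helper65.PearlBasic
import Cfsg.Agent.Lib.helper73.PearlScore

set_option autoImplicit false

namespace Cfsg.Agent.Lib.helper65.PearlPow

open Cfsg.Agent.Lib.helper68

variable {H : Type*} [Group H]

/-- D2 (racer copy, verbatim Skel statement of `rel_ph`). -/
theorem h73_rel_ph {u v : ℕ} (x : H) {s s' : ℕ → H} (hs : PolySeq v s) (h : Rel u s s') :
    Rel (u + 1) (ph x s) (ph x s') := by
  unfold Rel at h ⊢
  have hps : PolySeq (v + 1) (ph x s) := polyseq_ph x hs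
  have h1 : PolySeq ((v + 1) + u) (fun n => com (ph x s n) ((s n)⁻¹ * s' n)) :=
    PolySeq.comm hps h
  have h2 : PolySeq (u + 1) (ph x (fun n => (s n)⁻¹ * s' n)) := polyseq_ph x h
  have e1 : (fun n => (ph x s n)⁻¹ * ph x s' n) =
      fun n => com (ph x s n) ((s n)⁻¹ * s' n) * ph x (fun n => (s n)⁻¹ * s' n) n := by
    funext n
    unfold ph com
    group
  rw [e1]
  exact PolySeq.mul (PolySeq.mono (by omega) h1) h2

/-- I2 (racer copy, verbatim Skel statement of `rel_dl_ph`). -/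
theorem h73_rel_dl_ph {v : ℕ} (x : H) {s : ℕ → H} (hs : PolySeq v s) :
    Rel (2 * v + 2) (ph x (dl s)) (dl (ph x s)) := by
  unfold Rel
  have hps : PolySeq (v + 1) (ph x s) := polyseq_ph x hs
  have hds : PolySeq (v + 1) (dl s) := PolySeq.diff hs
  have he : PolySeq ((v + 1) + (v + 1)) (fun n => com (ph x s n) (dl s n)) :=
    PolySeq.comm hps hds
  have hc := polyseq_conj he (polyseq_ph x hds)
  have e1 : (fun n => (ph x (dl s) n)⁻¹ * dl (ph x s) n) =
      fun n => (ph x (dl s) n)⁻¹ * com (ph x s n) (dl s n) * ph x (dl s) n := by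
    funext n
    unfold dl ph com
    group
  rw [e1]
  exact PolySeq.mono (by omega) hc

/-- S (racer copy, verbatim Skel statement of `s_claim`). -/
theorem h73_s_claim (x g : H) {w : ℕ} (hw : 1 ≤ w) (hg : g ∈ gam H w) (j : ℕ) :
    Rel (w + j + 2) ((ph x)^[j] (dl (tt x g))) (dl ((ph x)^[j] (tt x g))) :=
  h73_s_claim_core (fun _ _ x _ _ hs h => h73_rel_ph x hs h) (fun _ x _ hs => h73_rel_dl_ph x hs)
    x g hw hg j

end Cfsg.Agent.Lib.helper65.PearlPow
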