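import Mathlib
import Cfsg.Agent.Lib.helper9.B22Defs

/-!
# S5005 piece E (helper73): the elements of odd order of a group of order 443520 acting on points
-/

set_option autoImplicit false

namespace Cfsg.Agent.Lib.helper73.B22

open Cfsg Cfsg.Agent.Lib.helper9.B22

universe u

variable {G : Type u} [Group G] [Fintype G] [DecidableEq G]

/-- Fixed-point lemma: if `σ` and `τ` commute and `τ ^ q = 1` (`q` prime), the number of fixed
points of `σ` is congruent mod `q` to the number of common fixed points. -/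
theorem h73_fixc_modEq {α : Type*} [Fintype α] [DecidableEq α] (σ τ : Equiv.Perm α)
    (hc : σ * τ = τ * σ) (q : ℕ) (hq : q.Prime) (hτ : τ ^ q = 1) :
    fixc σ ≡ (Finset.univ.filter (fun i => σ i = i ∧ τ i = i)).card [MOD q] := by
  classical
  have : Fact q.Prime := ⟨hq⟩
  have hinv : ∀ x, σ (τ x) = τ x ↔ σ x = x := by
    intro x
    have h1 : σ (τ x) = τ (σ x) := by
      have := congrArg (fun f : Equiv.Perm α => f x) hc
      simpa using this
    rw [h1]
    exact τ.injective.eq_iff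
  have hpow : (Equiv.Perm.subtypePerm (p := fun x => σ x = x) τ hinv) ^ q ^ 1 = 1 := by
    rw [pow_one, Equiv.Perm.subtypePerm_pow]
    ext x
    simp [hτ]
  have h := Equiv.Perm.card_compl_support_modEq hpow
  have e1 : Fintype.card {x // σ x = x} = fixc σ := by
    unfold fixc
    rw [Fintype.card_subtype]
  have e2 : (Equiv.Perm.subtypePerm (p := fun x => σ x = x) τ hinv).supportᶜ.card
      = (Finset.univ.filter (fun i => σ i = i ∧ τ i = i)).card := by
    rw [← Finset.card_map (Function.Embedding.subtype _)]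
    congr 1
    ext i
    simp only [Finset.mem_map, Finset.mem_compl, Equiv.Perm.mem_support, not_not,
      Function.Embedding.coe_subtype, Finset.mem_filter, Finset.mem_univ, true_and]
    constructor
    · rintro ⟨⟨x, hx⟩, h1, rfl⟩
      refine ⟨hx, ?_⟩
      have := congrArg Subtype.val h1
      simpa using this
    · rintro ⟨h1, h2⟩
      refine ⟨⟨i, h1⟩, ?_, rfl⟩
      apply Subtype.ext
      simpa using h2
  rw [e1, e2] at h
  exact h.symm

/-- `fixc ∘ φ` is a class function. -/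
theorem h73_fixc_conj {α : Type*} [Fintype α] [DecidableEq α] (φ : G →* Equiv.Perm α)
    (g x : G) : fixc (φ (g * x * g⁻¹)) = fixc (φ x) := by
  unfold fixc
  symm
  apply Finset.card_bij (fun i _ => φ g i)
  · intro i hi
    simp only [Finset.mem_filter, Finset.mem_univ, true_and] at hi ⊢
    rw [map_mul, map_mul, map_inv]
    simp [hi]
  · intro i _ j _ h
    exact (φ g).injective h
  · intro j hj
    simp only [Finset.mem_filter, Finset.mem_univ, true_and] at hj
    refine ⟨(φ g)⁻¹ j, ?_, by simp⟩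
    simp only [Finset.mem_filter, Finset.mem_univ, true_and]
    rw [map_mul, map_mul, map_inv] at hj
    have := congrArg (fun t => (φ g)⁻¹ t) hj
    simpa using this

theorem h73_fixc_isConj {α : Type*} [Fintype α] [DecidableEq α] (φ : G →* Equiv.Perm α)
    (x y : G) (h : IsConj x y) : fixc (φ y) = fixc (φ x) := by
  obtain ⟨g, rfl⟩ := isConj_iff.mp h
  exact h73_fixc_conj φ g x

/-- A power prime to the order has the same fixed points. -/
theorem h73_fixc_pow {α : Type*} [Fintype α] [DecidableEq α] (φ : G →* Equiv.Perm α)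
    (z : G) (k : ℕ) (hk : k.Coprime (orderOf z)) : fixc (φ (z ^ k)) = fixc (φ z) := by
  unfold fixc
  congr 1
  ext i
  simp only [Finset.mem_filter, Finset.mem_univ, true_and]
  constructor
  · intro h
    obtain ⟨j, hj⟩ := exists_pow_eq_self_of_coprime hk
    have h2 := Equiv.Perm.pow_apply_eq_self_of_apply_eq_self h j
    rw [← map_pow, hj] at h2
    exact h2
  · intro h
    rw [map_pow]
    exact Equiv.Perm.pow_apply_eq_self_of_apply_eq_self h k

theorem h73_fact (p k m : ℕ) (hp : p.Prime) (hm : ¬ p ∣ m) (hm0 : m ≠ 0) :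
    (p ^ k * m).factorization p = k := by
  rw [Nat.factorization_mul (pow_ne_zero _ hp.ne_zero) hm0]
  simp [hp.factorization_pow, Nat.factorization_eq_zero_of_not_dvd hm]

/-- Sylow: an element of `p`-power order is conjugate into a subgroup of order the full power
of `p`. -/
theorem h73_conj_into (p n : ℕ) [Fact p.Prime] (P : Subgroup G) (hP : Nat.card P = p ^ n)
    (hn : (Nat.card G).factorization p = n) (v : G) (j : ℕ) (hv : orderOf v = p ^ j) :
    ∃ x ∈ P, IsConj x v := by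
  have hv' : IsPGroup p (Subgroup.zpowers v) := by
    apply IsPGroup.of_card (n := j)
    rw [Nat.card_zpowers, hv]
  obtain ⟨R, hR⟩ := hv'.exists_le_sylow
  have hPc : Nat.card P = p ^ (Nat.card G).factorization p := by rw [hP, hn]
  obtain ⟨g, hg⟩ := MulAction.exists_smul_eq G R (Sylow.ofCard P hPc)
  refine ⟨g * v * g⁻¹, ?_, isConj_iff.mpr ⟨g⁻¹, by group⟩⟩
  have h1 : g * v * g⁻¹ ∈ ((g • R : Sylow p G) : Subgroup G) := by
    rw [Sylow.coe_subgroup_smul, Subgroup.mem_pointwise_smul_iff_inv_smul_mem]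
    have : (MulAut.conj g)⁻¹ • (g * v * g⁻¹) = v := by
      simp [MulAut.smul_def]
      group
    rw [this]
    exact hR (Subgroup.mem_zpowers v)
  rw [hg] at h1
  exact h1

/-- Cyclic Sylow subgroup of prime order: every element of order `p` is conjugate to a power
`z ^ k`, `1 ≤ k < p`. -/
theorem h73_conj_cyclic (p : ℕ) [Fact p.Prime] (hn : (Nat.card G).factorization p = 1)
    (z : G) (hz : orderOf z = p) (c : G) (hc : orderOf c = p) :
    ∃ k : ℕ, 1 ≤ k ∧ k < p ∧ IsConj (z ^ k) c := by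
  have hp : p.Prime := Fact.out
  have hP : Nat.card (Subgroup.zpowers z) = p ^ 1 := by rw [Nat.card_zpowers, hz, pow_one]
  obtain ⟨x, hx, hconj⟩ := h73_conj_into p 1 (Subgroup.zpowers z) hP hn c 1 (by rw [hc, pow_one])
  have hx1 : x ≠ 1 := by
    rintro rfl
    have : c = 1 := by
      obtain ⟨g, hg⟩ := isConj_iff.mp hconj
      rw [← hg]; group
    rw [this, orderOf_one] at hc
    exact hp.one_lt.ne hc
  have hz0 : 0 < orderOf z := by rw [hz]; exact hp.pos
  rw [mem_zpowers_iff_mem_range_orderOf] at hx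
  obtain ⟨k, hk, rfl⟩ := Finset.mem_image.mp hx
  rw [Finset.mem_range, hz] at hk
  refine ⟨k, ?_, hk, hconj⟩
  rcases Nat.eq_zero_or_pos k with h0 | h0
  · exfalso; apply hx1; simp [h0]
  · exact h0

theorem h73_fix_cyclic {α : Type*} [Fintype α] [DecidableEq α] (φ : G →* Equiv.Perm α)
    (p : ℕ) [Fact p.Prime] (hn : (Nat.card G).factorization p = 1)
    (z : G) (hz : orderOf z = p) (c : G) (hc : orderOf c = p) :
    fixc (φ c) = fixc (φ z) := by
  have hp : p.Prime := Fact.out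
  obtain ⟨k, hk1, hkp, hconj⟩ := h73_conj_cyclic p hn z hz c hc
  rw [h73_fixc_isConj φ _ _ hconj]
  apply h73_fixc_pow
  rw [hz]
  apply Nat.Coprime.symm
  rw [hp.coprime_iff_not_dvd]
  intro h
  have := Nat.le_of_dvd (by omega) h
  omega

/-- Two commuting elements, the second of prime order `q`: the number `k` of common fixed
points. -/
theorem h73_pair {α : Type*} [Fintype α] [DecidableEq α] (φ : G →* Equiv.Perm α)
    (a b : α) (hab : a ≠ b) (hfa : ∀ g : G, φ g a = a) (hfb : ∀ g : G, φ g b = b)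
    (c z : G) (hcz : c * z = z * c) (q : ℕ) (hq : q.Prime) (hz : z ^ q = 1) :
    ∃ k : ℕ, 2 ≤ k ∧ k ≤ fixc (φ z) ∧ fixc (φ c) ≡ k [MOD q] := by
  refine ⟨(Finset.univ.filter (fun i => φ c i = i ∧ φ z i = i)).card, ?_, ?_, ?_⟩
  · have h1 : 1 < (Finset.univ.filter (fun i => φ c i = i ∧ φ z i = i)).card := by
      rw [Finset.one_lt_card]
      exact ⟨a, by simp [hfa], b, by simp [hfb], hab⟩
    omega
  · unfold fixc
    apply Finset.card_le_card
    intro i hi
    simp only [Finset.mem_filter, Finset.mem_univ, true_and] at hi ⊢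
    exact hi.2
  · refine h73_fixc_modEq _ _ ?_ q hq ?_
    · rw [← map_mul, ← map_mul, hcz]
    · rw [← map_pow, hz, map_one]

theorem h73_inv_pow (z : G) (p k : ℕ) (hz : orderOf z = p) (hk : k ≤ p) :
    (z ^ (p - k))⁻¹ = z ^ k := by
  apply inv_eq_of_mul_eq_one_right
  rw [← pow_add, Nat.sub_add_cancel hk, ← hz, pow_orderOf_eq_one]

/-- PIECE E. -/
theorem odd_class {α : Type*} [Fintype α] [DecidableEq α] (φ : G →* Equiv.Perm α)
    (hG : Fintype.card G = 443520)
    (a b : α) (hab : a ≠ b) (hfa : ∀ g : G, φ g a = a) (hfb : ∀ g : G, φ g b = b)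
    (Q3 : Finset G) (hQ1 : (1 : G) ∈ Q3) (hQm : ∀ x ∈ Q3, ∀ y ∈ Q3, x * y ∈ Q3)
    (hQc : Q3.card = 9) (he3 : ∀ x ∈ Q3, x ^ 3 = 1)
    (hf3 : ∀ x ∈ Q3, x ≠ 1 → fixc (φ x) = 6)
    (z5 z7 z11 : G) (h5 : orderOf z5 = 5) (h7 : orderOf z7 = 7) (h11 : orderOf z11 = 11)
    (hf5 : fixc (φ z5) = 4) (hf7 : fixc (φ z7) = 3) (hf11 : fixc (φ z11) = 2) :
    (∀ v : G, orderOf v = 3 → ∃ x ∈ Q3, x ≠ 1 ∧ IsConj x v) ∧
    (∀ v : G, Odd (orderOf v) → v = 1 ∨ (∃ x ∈ Q3, x ≠ 1 ∧ IsConj x v) ∨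
      (∃ k : ℕ, 1 ≤ k ∧ k ≤ 2 ∧ (IsConj (z5 ^ k) v ∨ IsConj (z5 ^ k)⁻¹ v)) ∨
      (∃ k : ℕ, 1 ≤ k ∧ k ≤ 3 ∧ (IsConj (z7 ^ k) v ∨ IsConj (z7 ^ k)⁻¹ v)) ∨
      (∃ k : ℕ, 1 ≤ k ∧ k ≤ 5 ∧ (IsConj (z11 ^ k) v ∨ IsConj (z11 ^ k)⁻¹ v))) := by
  classical
  have : Fact (Nat.Prime 3) := ⟨by norm_num⟩
  have : Fact (Nat.Prime 5) := ⟨by norm_num⟩
  have : Fact (Nat.Prime 7) := ⟨by norm_num⟩
  have : Fact (Nat.Prime 11) := ⟨by norm_num⟩
  have hG' : Nat.card G = 443520 := by rw [Nat.card_eq_fintype_card, hG]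
  have hfac3 : (Nat.card G).factorization 3 = 2 := by
    rw [hG', show (443520 : ℕ) = 3 ^ 2 * 49280 by norm_num]
    exact h73_fact 3 2 49280 (by norm_num) (by norm_num) (by norm_num)
  have hfac5 : (Nat.card G).factorization 5 = 1 := by
    rw [hG', show (443520 : ℕ) = 5 ^ 1 * 88704 by norm_num]
    exact h73_fact 5 1 88704 (by norm_num) (by norm_num) (by norm_num)
  have hfac7 : (Nat.card G).factorization 7 = 1 := by
    rw [hG', show (443520 : ℕ) = 7 ^ 1 * 63360 by norm_num]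
    exact h73_fact 7 1 63360 (by norm_num) (by norm_num) (by norm_num)
  have hfac11 : (Nat.card G).factorization 11 = 1 := by
    rw [hG', show (443520 : ℕ) = 11 ^ 1 * 40320 by norm_num]
    exact h73_fact 11 1 40320 (by norm_num) (by norm_num) (by norm_num)
  -- the Sylow 3-subgroup
  let Q : Subgroup G :=
    { carrier := (Q3 : Set G)
      mul_mem' := fun {x y} hx hy => Finset.mem_coe.mpr
        (hQm x (Finset.mem_coe.mp hx) y (Finset.mem_coe.mp hy))
      one_mem' := Finset.mem_coe.mpr hQ1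
      inv_mem' := fun {x} hx => by
        have hx' := Finset.mem_coe.mp hx
        have h3 := he3 x hx'
        have h4 : x⁻¹ = x * x := by
          apply inv_eq_of_mul_eq_one_right
          have h5 : x * (x * x) = x ^ 3 := by
            rw [pow_succ, pow_succ, pow_one, mul_assoc]
          rw [h5, h3]
        rw [h4]
        exact Finset.mem_coe.mpr (hQm x hx' x hx') }
  have hQmem : ∀ x : G, x ∈ Q ↔ x ∈ Q3 := fun x => Finset.mem_coe
  have hQcard : Nat.card Q = 3 ^ 2 := by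
    have : Nat.card Q = Nat.card (Q3 : Set G) := rfl
    rw [this, Nat.card_coe_set_eq, Set.ncard_coe_finset, hQc]
    norm_num
  -- elements of order 3
  have key3 : ∀ v : G, orderOf v = 3 → ∃ x ∈ Q3, x ≠ 1 ∧ IsConj x v := by
    intro v hv
    obtain ⟨x, hx, hconj⟩ := h73_conj_into 3 2 Q hQcard hfac3 v 1 (by rw [hv, pow_one])
    refine ⟨x, (hQmem x).mp hx, ?_, hconj⟩
    rintro rfl
    have : v = 1 := by
      obtain ⟨g, hg⟩ := isConj_iff.mp hconj
      rw [← hg]; group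
    rw [this, orderOf_one] at hv
    omega
  refine ⟨key3, ?_⟩
  -- fixed point numbers
  have F3 : ∀ c : G, orderOf c = 3 → fixc (φ c) = 6 := by
    intro c hc
    obtain ⟨x, hx, hx1, hconj⟩ := key3 c hc
    rw [h73_fixc_isConj φ _ _ hconj]
    exact hf3 x hx hx1
  have F5 : ∀ c : G, orderOf c = 5 → fixc (φ c) = 4 := by
    intro c hc
    rw [h73_fix_cyclic φ 5 hfac5 z5 h5 c hc, hf5]
  have F7 : ∀ c : G, orderOf c = 7 → fixc (φ c) = 3 := by
    intro c hc
    rw [h73_fix_cyclic φ 7 hfac7 z7 h7 c hc, hf7]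
  have F11 : ∀ c : G, orderOf c = 11 → fixc (φ c) = 2 := by
    intro c hc
    rw [h73_fix_cyclic φ 11 hfac11 z11 h11 c hc, hf11]
  intro v hodd
  set m := orderOf v with hm
  have hm0 : m ≠ 0 := by
    rw [hm]; exact (orderOf_pos v).ne'
  have hmdvd : m ∣ 443520 := by
    rw [hm, ← hG]; exact orderOf_dvd_card
  have hm3465 : m ∣ 3465 := by
    have h1 : (443520 : ℕ) = 128 * 3465 := by norm_num
    rw [h1] at hmdvd
    have hcop : Nat.Coprime m 128 := by
      have h2 : Nat.Coprime m 2 := Nat.coprime_two_right.mpr hodd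
      have h3 := Nat.Coprime.pow_right 7 h2
      norm_num at h3
      exact h3
    exact hcop.dvd_of_dvd_mul_left hmdvd
  -- the powers of prime order
  have hpow : ∀ n : ℕ, n ∣ m → orderOf (v ^ (m / n)) = n := by
    intro n hn
    exact orderOf_pow_orderOf_div (by rw [← hm]; exact hm0) hn
  have hcomm : ∀ i j : ℕ, v ^ i * v ^ j = v ^ j * v ^ i := by
    intro i j
    rw [← pow_add, ← pow_add, add_comm]
  -- no element of order 9
  have hA : ¬ 9 ∣ m := by
    intro h9
    have ho := hpow 9 h9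
    obtain ⟨x, hx, hconj⟩ := h73_conj_into 3 2 Q hQcard hfac3 (v ^ (m / 9)) 2
      (by rw [ho]; norm_num)
    have hx3 := he3 x ((hQmem x).mp hx)
    obtain ⟨g, hg⟩ := isConj_iff.mp hconj
    have h1 : (v ^ (m / 9)) ^ 3 = 1 := by
      rw [← hg, conj_pow, hx3]; group
    have h2 := orderOf_dvd_of_pow_eq_one h1
    rw [ho] at h2
    omega
  have hB35 : ¬ (3 ∣ m ∧ 5 ∣ m) := by
    rintro ⟨hp, hq⟩
    obtain ⟨k, hk2, hk, hmod⟩ := h73_pair φ a b hab hfa hfb (v ^ (m / 3)) (v ^ (m / 5))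
      (hcomm _ _) 5 (by norm_num) (by have h := pow_orderOf_eq_one (v ^ (m / 5)); rwa [hpow 5 hq] at h)
    rw [F3 _ (hpow 3 hp)] at hmod
    rw [F5 _ (hpow 5 hq)] at hk
    unfold Nat.ModEq at hmod
    omega
  have hB37 : ¬ (3 ∣ m ∧ 7 ∣ m) := by
    rintro ⟨hp, hq⟩
    obtain ⟨k, hk2, hk, hmod⟩ := h73_pair φ a b hab hfa hfb (v ^ (m / 3)) (v ^ (m / 7))
      (hcomm _ _) 7 (by norm_num) (by have h := pow_orderOf_eq_one (v ^ (m / 7)); rwa [hpow 7 hq] at h)
    rw [F3 _ (hpow 3 hp)] at hmod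
    rw [F7 _ (hpow 7 hq)] at hk
    unfold Nat.ModEq at hmod
    omega
  have hB311 : ¬ (3 ∣ m ∧ 11 ∣ m) := by
    rintro ⟨hp, hq⟩
    obtain ⟨k, hk2, hk, hmod⟩ := h73_pair φ a b hab hfa hfb (v ^ (m / 3)) (v ^ (m / 11))
      (hcomm _ _) 11 (by norm_num) (by have h := pow_orderOf_eq_one (v ^ (m / 11)); rwa [hpow 11 hq] at h)
    rw [F3 _ (hpow 3 hp)] at hmod
    rw [F11 _ (hpow 11 hq)] at hk
    unfold Nat.ModEq at hmod
    omega
  have hB57 : ¬ (5 ∣ m ∧ 7 ∣ m) := by
    rintro ⟨hp, hq⟩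
    obtain ⟨k, hk2, hk, hmod⟩ := h73_pair φ a b hab hfa hfb (v ^ (m / 5)) (v ^ (m / 7))
      (hcomm _ _) 7 (by norm_num) (by have h := pow_orderOf_eq_one (v ^ (m / 7)); rwa [hpow 7 hq] at h)
    rw [F5 _ (hpow 5 hp)] at hmod
    rw [F7 _ (hpow 7 hq)] at hk
    unfold Nat.ModEq at hmod
    omega
  have hB511 : ¬ (5 ∣ m ∧ 11 ∣ m) := by
    rintro ⟨hp, hq⟩
    obtain ⟨k, hk2, hk, hmod⟩ := h73_pair φ a b hab hfa hfb (v ^ (m / 5)) (v ^ (m / 11))
      (hcomm _ _) 11 (by norm_num) (by have h := pow_orderOf_eq_one (v ^ (m / 11)); rwa [hpow 11 hq] at h)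
    rw [F5 _ (hpow 5 hp)] at hmod
    rw [F11 _ (hpow 11 hq)] at hk
    unfold Nat.ModEq at hmod
    omega
  have hB711 : ¬ (7 ∣ m ∧ 11 ∣ m) := by
    rintro ⟨hp, hq⟩
    obtain ⟨k, hk2, hk, hmod⟩ := h73_pair φ a b hab hfa hfb (v ^ (m / 7)) (v ^ (m / 11))
      (hcomm _ _) 11 (by norm_num) (by have h := pow_orderOf_eq_one (v ^ (m / 11)); rwa [hpow 11 hq] at h)
    rw [F7 _ (hpow 7 hp)] at hmod
    rw [F11 _ (hpow 11 hq)] at hk
    unfold Nat.ModEq at hmod
    omega
  have hcases : m = 1 ∨ m = 3 ∨ m = 5 ∨ m = 7 ∨ m = 11 := by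
    have hmem : m ∈ Nat.divisors 3465 := Nat.mem_divisors.mpr ⟨hm3465, by norm_num⟩
    have hdiv : Nat.divisors 3465 = {1, 3, 5, 7, 9, 11, 15, 21, 33, 35, 45, 55, 63, 77, 99, 105,
        165, 231, 315, 385, 495, 693, 1155, 3465} := by decide +kernel
    rw [hdiv] at hmem
    simp only [Finset.mem_insert, Finset.mem_singleton] at hmem
    rcases hmem with h | h | h | h | h | h | h | h | h | h | h | h | h | h | h | h | h | h | h |
      h | h | h | h | h <;> omega
  rcases hcases with h | h | h | h | h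
  · left
    exact orderOf_eq_one_iff.mp h
  · right; left
    exact key3 v h
  · right; right; left
    obtain ⟨k, hk1, hkp, hconj⟩ := h73_conj_cyclic 5 hfac5 z5 h5 v h
    by_cases hk : k ≤ 2
    · exact ⟨k, hk1, hk, Or.inl hconj⟩
    · refine ⟨5 - k, by omega, by omega, Or.inr ?_⟩
      rw [h73_inv_pow z5 5 k h5 (by omega)]
      exact hconj
  · right; right; right; left
    obtain ⟨k, hk1, hkp, hconj⟩ := h73_conj_cyclic 7 hfac7 z7 h7 v h
    by_cases hk : k ≤ 3
    · exact ⟨k, hk1, hk, Or.inl hconj⟩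
    · refine ⟨7 - k, by omega, by omega, Or.inr ?_⟩
      rw [h73_inv_pow z7 7 k h7 (by omega)]
      exact hconj
  · right; right; right; right
    obtain ⟨k, hk1, hkp, hconj⟩ := h73_conj_cyclic 11 hfac11 z11 h11 v h
    by_cases hk : k ≤ 5
    · exact ⟨k, hk1, hk, Or.inl hconj⟩
    · refine ⟨11 - k, by omega, by omega, Or.inr ?_⟩
      rw [h73_inv_pow z11 11 k h11 (by omega)]
      exact hconj

end Cfsg.Agent.Lib.helper73.B22
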