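import Mathlib

/-!
# The big cell of `SL_n(2)` relative to the upper unitriangular group

`U n` is the group of upper unitriangular matrices in `SL_n(𝔽₂)`.  We prove that all `x` with
`U ∩ x U x⁻¹ = 1` lie in a single `(U, U)` double coset.
-/

set_option autoImplicit false

namespace Cfsg.Agent.Lib.helper73.BigCell

open Matrix

variable {n : ℕ}

/-- upper unitriangular matrices over `𝔽₂` -/
def IsUU (u : Matrix (Fin n) (Fin n) (ZMod 2)) : Prop :=
  (∀ i j, j < i → u i j = 0) ∧ ∀ i, u i i = 1

theorem z2 (a : ZMod 2) (h : a ≠ 0) : a = 1 := by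
  revert a; decide

theorem isUU_one : IsUU (1 : Matrix (Fin n) (Fin n) (ZMod 2)) := by
  constructor
  · intro i j h; exact Matrix.one_apply_ne (ne_of_gt h)
  · intro i; exact Matrix.one_apply_eq i

theorem IsUU.mul {u v : Matrix (Fin n) (Fin n) (ZMod 2)} (hu : IsUU u) (hv : IsUU v) :
    IsUU (u * v) := by
  constructor
  · intro i j h
    rw [Matrix.mul_apply]
    apply Finset.sum_eq_zero
    intro k _
    by_cases hk : k < i
    · rw [hu.1 i k hk, zero_mul]
    · rw [hv.1 k j (lt_of_lt_of_le h (not_lt.mp hk)), mul_zero]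
  · intro i
    rw [Matrix.mul_apply, Finset.sum_eq_single i]
    · rw [hu.2, hv.2, one_mul]
    · intro k _ hk
      rcases lt_or_gt_of_ne hk with h | h
      · rw [hu.1 i k h, zero_mul]
      · rw [hv.1 k i h, mul_zero]
    · intro h; exact absurd (Finset.mem_univ i) h

theorem IsUU.det {u : Matrix (Fin n) (Fin n) (ZMod 2)} (hu : IsUU u) : u.det = 1 := by
  rw [Matrix.det_of_upperTriangular (fun i j h => hu.1 i j h)]
  exact Finset.prod_eq_one (fun i _ => hu.2 i)

/-- the anti-diagonal permutation matrix -/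
def W (n : ℕ) : Matrix (Fin n) (Fin n) (ZMod 2) := fun i j => if i = Fin.rev j then 1 else 0

/-- **Non-opposite flags have a common transvection.** -/
theorem exists_common (x : Matrix (Fin n) (Fin n) (ZMod 2)) (hx : x.det ≠ 0)
    (k : ℕ) (hk : k ≤ n) (c : Fin n → ZMod 2) (hc : c ≠ 0)
    (hc1 : ∀ j : Fin n, k ≤ j.val → c j = 0)
    (hc2 : ∀ i : Fin n, n - k ≤ i.val → (x *ᵥ c) i = 0) :
    ∃ t t' : Matrix (Fin n) (Fin n) (ZMod 2), IsUU t ∧ IsUU t' ∧ t ≠ 1 ∧ t * x = x * t' := by
  classical
  set e₁ : Fin k → Fin n := fun b => ⟨b.val, lt_of_lt_of_le b.2 hk⟩ with he₁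
  set e₂ : Fin k → Fin n := fun a => ⟨n - k + a.val, by have := a.2; omega⟩ with he₂
  have he₁i : Function.Injective e₁ := by
    intro a b h; apply Fin.ext; simpa [he₁] using congrArg Fin.val h
  have he₂i : Function.Injective e₂ := by
    intro a b h; apply Fin.ext; simpa [he₂] using congrArg Fin.val h
  have hr₁ : ∀ j : Fin n, j ∉ Set.range e₁ → k ≤ j.val := by
    intro j hj
    by_contra h
    exact hj ⟨⟨j.val, not_le.mp h⟩, Fin.ext rfl⟩
  have hr₂ : ∀ i : Fin n, i ∉ Set.range e₂ → ¬ (n - k ≤ i.val) := by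
    intro i hi h
    exact hi ⟨⟨i.val - (n - k), by have := i.2; omega⟩, Fin.ext (by simp [he₂]; omega)⟩
  set Mk : Matrix (Fin k) (Fin k) (ZMod 2) := fun a b => x (e₂ a) (e₁ b) with hMk
  set c' : Fin k → ZMod 2 := fun b => c (e₁ b) with hc'
  have hc'0 : c' ≠ 0 := by
    intro h
    apply hc
    funext j
    by_cases hj : k ≤ j.val
    · exact hc1 j hj
    · have := congrFun h ⟨j.val, not_le.mp hj⟩
      simpa [hc', he₁] using this
  have hMc : Mk *ᵥ c' = 0 := by
    funext a
    have h1 : (Mk *ᵥ c') a = ∑ b, x (e₂ a) (e₁ b) * c (e₁ b) := rfl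
    rw [h1, Fintype.sum_of_injective e₁ he₁i (fun b => x (e₂ a) (e₁ b) * c (e₁ b))
      (fun j => x (e₂ a) j * c j) (fun j hj => by rw [hc1 j (hr₁ j hj), mul_zero]) (fun b => rfl)]
    have := hc2 (e₂ a) (by simp [he₂])
    simpa [Matrix.mulVec, dotProduct] using this
  have hdet : Mk.det = 0 := Matrix.exists_mulVec_eq_zero_iff.mp ⟨c', hc'0, hMc⟩
  obtain ⟨φ', hφ'0, hφ'⟩ := Matrix.exists_vecMul_eq_zero_iff.mpr hdet
  set φ : Fin n → ZMod 2 := fun i =>
    if h : n - k ≤ i.val then φ' ⟨i.val - (n - k), by have := i.2; omega⟩ else 0 with hφ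
  have hφe : ∀ a, φ (e₂ a) = φ' a := by
    intro a
    have h : n - k ≤ (e₂ a).val := by simp [he₂]
    simp only [hφ, dif_pos h]
    congr 1
    apply Fin.ext
    simp [he₂]
  have hφ0 : ∀ i : Fin n, ¬ (n - k ≤ i.val) → φ i = 0 := by
    intro i h
    simp only [hφ, dif_neg h]
  set w : Fin n → ZMod 2 := x *ᵥ c with hw
  set ψ : Fin n → ZMod 2 := φ ᵥ* x with hψ
  have hψ0 : ∀ j : Fin n, ¬ (k ≤ j.val) → ψ j = 0 := by
    intro j hj
    have hj' : j = e₁ ⟨j.val, not_le.mp hj⟩ := Fin.ext rfl
    have h1 : ψ j = ∑ i, φ i * x i j := rfl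
    rw [h1, ← Fintype.sum_of_injective e₂ he₂i (fun a => φ' a * x (e₂ a) j)
      (fun i => φ i * x i j) (fun i hi => by rw [hφ0 i (hr₂ i hi), zero_mul])
      (fun a => by rw [hφe])]
    have := congrFun hφ' ⟨j.val, not_le.mp hj⟩
    rw [hj']
    simpa [Matrix.vecMul, dotProduct, hMk] using this
  refine ⟨1 + vecMulVec w φ, 1 + vecMulVec c ψ, ?_, ?_, ?_, ?_⟩
  · constructor
    · intro i j hij
      rw [Matrix.add_apply, Matrix.one_apply_ne (ne_of_gt hij), zero_add, vecMulVec_apply]
      by_cases hi : n - k ≤ i.val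
      · rw [hc2 i hi, zero_mul]
      · rw [hφ0 j (by have : j.val < i.val := hij; omega), mul_zero]
    · intro i
      rw [Matrix.add_apply, Matrix.one_apply_eq, vecMulVec_apply]
      by_cases hi : n - k ≤ i.val
      · rw [hc2 i hi, zero_mul, add_zero]
      · rw [hφ0 i hi, mul_zero, add_zero]
  · constructor
    · intro i j hij
      rw [Matrix.add_apply, Matrix.one_apply_ne (ne_of_gt hij), zero_add, vecMulVec_apply]
      by_cases hi : k ≤ i.val
      · rw [hc1 i hi, zero_mul]
      · rw [hψ0 j (by have : j.val < i.val := hij; omega), mul_zero]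
    · intro i
      rw [Matrix.add_apply, Matrix.one_apply_eq, vecMulVec_apply]
      by_cases hi : k ≤ i.val
      · rw [hc1 i hi, zero_mul, add_zero]
      · rw [hψ0 i hi, mul_zero, add_zero]
  · intro h
    have hw0 : w ≠ 0 := fun h0 => hc (Matrix.eq_zero_of_mulVec_eq_zero hx h0)
    obtain ⟨i, hi⟩ : ∃ i, w i ≠ 0 := by
      by_contra hh
      push Not at hh
      exact hw0 (funext hh)
    obtain ⟨a, ha⟩ : ∃ a, φ' a ≠ 0 := by
      by_contra hh
      push Not at hh
      exact hφ'0 (funext hh)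
    have hi' : ¬ (n - k ≤ i.val) := fun h' => hi (hc2 i h')
    have hne : i ≠ e₂ a := by
      intro h'
      apply hi'
      rw [h']
      simp [he₂]
    have := congrFun (congrFun h i) (e₂ a)
    rw [Matrix.add_apply, Matrix.one_apply_ne hne, zero_add, vecMulVec_apply, hφe] at this
    exact (mul_ne_zero hi ha) this
  · rw [add_mul, one_mul, mul_add, mul_one, vecMulVec_mul, mul_vecMulVec]

/-- **Opposite flags: normal form** `x v = u w₀`. -/
theorem exists_normal_form (x : Matrix (Fin n) (Fin n) (ZMod 2))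
    (hD : ∀ k : ℕ, k ≤ n → ∀ c : Fin n → ZMod 2, (∀ j : Fin n, k ≤ j.val → c j = 0) →
      (∀ i : Fin n, n - k ≤ i.val → (x *ᵥ c) i = 0) → c = 0) :
    ∃ u v : Matrix (Fin n) (Fin n) (ZMod 2), IsUU u ∧ IsUU v ∧ x * v = u * W n := by
  classical
  have key : ∀ j : Fin n, ∃ c : Fin n → ZMod 2, (∀ i : Fin n, j < i → c i = 0) ∧ c j = 1 ∧
      (∀ i : Fin n, n ≤ i.val + j.val → (x *ᵥ c) i = 0) ∧
      (∀ i : Fin n, i.val + j.val + 1 = n → (x *ᵥ c) i = 1) := by
    intro j
    have hjn := j.2
    set e₁ : Fin (j.val + 1) → Fin n := fun b => ⟨b.val, by have := b.2; omega⟩ with he₁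
    set e₂ : Fin j.val → Fin n := fun a => ⟨n - j.val + a.val, by have := a.2; omega⟩ with he₂
    have he₁i : Function.Injective e₁ := by
      intro a b h; apply Fin.ext; simpa [he₁] using congrArg Fin.val h
    set A : Matrix (Fin j.val) (Fin (j.val + 1)) (ZMod 2) := fun a b => x (e₂ a) (e₁ b) with hA
    have hker : LinearMap.ker (Matrix.mulVecLin A) ≠ ⊥ := by
      apply LinearMap.ker_ne_bot_of_finrank_lt
      rw [Module.finrank_fin_fun, Module.finrank_fin_fun]
      exact Nat.lt_succ_self _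
    obtain ⟨d, hd, hd0⟩ := (Submodule.ne_bot_iff _).mp hker
    have hAd : A *ᵥ d = 0 := by simpa using hd
    set c : Fin n → ZMod 2 := fun i =>
      if h : i.val < j.val + 1 then d ⟨i.val, h⟩ else 0 with hc
    have hce : ∀ b, c (e₁ b) = d b := by
      intro b
      have h : (e₁ b).val < j.val + 1 := b.2
      simp only [hc, dif_pos h]
      congr 1
    have hc0 : ∀ i : Fin n, ¬ (i.val < j.val + 1) → c i = 0 := by
      intro i h
      simp only [hc, dif_neg h]
    have hr₁ : ∀ i : Fin n, i ∉ Set.range e₁ → ¬ (i.val < j.val + 1) := by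
      intro i hi h
      exact hi ⟨⟨i.val, h⟩, Fin.ext rfl⟩
    have hcne : c ≠ 0 := by
      intro h
      apply hd0
      funext b
      rw [← hce b, h]; rfl
    have hxc : ∀ i : Fin n, n ≤ i.val + j.val → (x *ᵥ c) i = 0 := by
      intro i hi
      have hi' : i = e₂ ⟨i.val - (n - j.val), by have := i.2; omega⟩ :=
        Fin.ext (by simp [he₂]; omega)
      have h1 : (x *ᵥ c) i = ∑ l, x i l * c l := rfl
      rw [h1, ← Fintype.sum_of_injective e₁ he₁i (fun b => x i (e₁ b) * d b)
        (fun l => x i l * c l) (fun l hl => by rw [hc0 l (hr₁ l hl), mul_zero])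
        (fun b => by rw [hce])]
      have := congrFun hAd ⟨i.val - (n - j.val), by have := i.2; omega⟩
      rw [hi']
      simpa [Matrix.mulVec, dotProduct, hA] using this
    have hsup : ∀ i : Fin n, j < i → c i = 0 := by
      intro i hi
      apply hc0
      have : j.val < i.val := hi
      omega
    refine ⟨c, hsup, ?_, hxc, ?_⟩
    · apply z2
      intro hcj
      apply hcne
      apply hD j.val (le_of_lt hjn) c
      · intro i hi
        rcases Nat.lt_or_ge j.val i.val with h | h
        · exact hsup i h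
        · have : i = j := Fin.ext (by omega)
          rw [this]; exact hcj
      · intro i hi
        exact hxc i (by omega)
    · intro i hi
      apply z2
      intro hci
      apply hcne
      apply hD (j.val + 1) (by omega) c
      · intro l hl
        exact hc0 l (by omega)
      · intro l hl
        rcases Nat.lt_or_ge l.val (n - j.val) with h | h
        · have : l = i := Fin.ext (by omega)
          rw [this]; exact hci
        · exact hxc l (by omega)
  choose cc hcc using key
  set v : Matrix (Fin n) (Fin n) (ZMod 2) := fun i j => cc j i with hv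
  have hxv : ∀ i j, (x * v) i j = (x *ᵥ cc j) i := fun i j => rfl
  set u : Matrix (Fin n) (Fin n) (ZMod 2) := fun i j => (x * v) i (Fin.rev j) with hu
  refine ⟨u, v, ⟨?_, ?_⟩, ⟨?_, ?_⟩, ?_⟩
  · intro i j hij
    show (x * v) i (Fin.rev j) = 0
    rw [hxv]
    apply (hcc (Fin.rev j)).2.2.1
    rw [Fin.val_rev]
    have : j.val < i.val := hij
    have := i.2
    omega
  · intro i
    show (x * v) i (Fin.rev i) = 1
    rw [hxv]
    apply (hcc (Fin.rev i)).2.2.2
    rw [Fin.val_rev]
    have := i.2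
    omega
  · intro i j hij
    exact (hcc j).1 i hij
  · intro i
    exact (hcc i).2.1
  · ext i j
    rw [Matrix.mul_apply (M := u), Finset.sum_eq_single (Fin.rev j)]
    · show (x * v) i j = (x * v) i (Fin.rev (Fin.rev j)) * W n (Fin.rev j) j
      rw [Fin.rev_rev]
      simp [W]
    · intro l _ hl
      simp [W, hl]
    · intro h; exact absurd (Finset.mem_univ _) h

end Cfsg.Agent.Lib.helper73.BigCell
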