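import Cfsg.Agent.Lib.helper73.BigCellA

/-!
# The upper unitriangular group of `SL_n(2)` is a Sylow 2-subgroup; the big cell is one double coset

Also the abstract consequence: in a group `G` with a normal subgroup `N ≅ SL_n(2)` of index 2, any
two Sylow 2-subgroups of `G` meet nontrivially.
-/

set_option autoImplicit false

namespace Cfsg.Agent.Lib.helper73.BigCell

open Matrix
open scoped Pointwise

variable {n : ℕ}

/-- `SL_n(𝔽₂)` -/
abbrev SL2 (n : ℕ) := Matrix.SpecialLinearGroup (Fin n) (ZMod 2)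

theorem isUU_pow {g : SL2 n} (hg : IsUU g.1) (m : ℕ) : IsUU (g ^ m).1 := by
  induction m with
  | zero => rw [pow_zero]; exact isUU_one
  | succ m ih => rw [pow_succ, Matrix.SpecialLinearGroup.coe_mul]; exact ih.mul hg

/-- the upper unitriangular subgroup -/
def U (n : ℕ) : Subgroup (SL2 n) where
  carrier := {g | IsUU g.1}
  mul_mem' := fun {a b} ha hb => by
    show IsUU (a * b).1
    rw [Matrix.SpecialLinearGroup.coe_mul]; exact IsUU.mul ha hb
  one_mem' := isUU_one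
  inv_mem' := fun {a} ha => by
    show IsUU (a⁻¹).1
    have : a⁻¹ = a ^ (orderOf a - 1) := by
      apply inv_eq_of_mul_eq_one_right
      rw [← pow_succ', Nat.sub_add_cancel (orderOf_pos a), pow_orderOf_eq_one]
    rw [this]; exact isUU_pow ha _

theorem mem_U (g : SL2 n) : g ∈ U n ↔ IsUU g.1 := Iff.rfl

theorem mem_conj_smul {G : Type*} [Group G] (K : Subgroup G) (y a : G) :
    a ∈ MulAut.conj y • K ↔ y⁻¹ * a * y ∈ K := by
  rw [Subgroup.mem_pointwise_smul_iff_inv_smul_mem]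
  simp [MulAut.smul_def]

/-- the big cell is a single double coset -/
theorem big_cell (x x' : SL2 n)
    (h : ∀ a ∈ U n, x⁻¹ * a * x ∈ U n → a = 1) (h' : ∀ a ∈ U n, x'⁻¹ * a * x' ∈ U n → a = 1) :
    ∃ u₁ ∈ U n, ∃ u₂ ∈ U n, x' = u₁ * x * u₂ := by
  have hD : ∀ y : SL2 n, (∀ a ∈ U n, y⁻¹ * a * y ∈ U n → a = 1) →
      ∀ k : ℕ, k ≤ n → ∀ c : Fin n → ZMod 2, (∀ j : Fin n, k ≤ j.val → c j = 0) →
      (∀ i : Fin n, n - k ≤ i.val → (y.1 *ᵥ c) i = 0) → c = 0 := by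
    intro y hy k hk c hc1 hc2
    by_contra hc
    have hdet : y.1.det ≠ 0 := by rw [y.2]; exact one_ne_zero
    obtain ⟨t, t', ht, ht', ht1, htx⟩ := exists_common y.1 hdet k hk c hc hc1 hc2
    set T : SL2 n := ⟨t, ht.det⟩ with hT
    set T' : SL2 n := ⟨t', ht'.det⟩ with hT'
    have hTT : T * y = y * T' := Subtype.ext htx
    have h1 : y⁻¹ * T * y = T' := by
      rw [mul_assoc, hTT, inv_mul_cancel_left]
    have hT1 : T = 1 := hy T ht (by rw [h1]; exact ht')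
    exact ht1 (congrArg Subtype.val hT1)
  obtain ⟨u, v, hu, hv, e1⟩ := exists_normal_form x.1 (hD x h)
  obtain ⟨u', v', hu', hv', e2⟩ := exists_normal_form x'.1 (hD x' h')
  set uu : SL2 n := ⟨u, hu.det⟩ with huu
  set vv : SL2 n := ⟨v, hv.det⟩ with hvv
  set uu' : SL2 n := ⟨u', hu'.det⟩ with huu'
  set vv' : SL2 n := ⟨v', hv'.det⟩ with hvv'
  have huuU : uu ∈ U n := hu
  have hvvU : vv ∈ U n := hv
  have huuU' : uu' ∈ U n := hu'
  have hvvU' : vv' ∈ U n := hv'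
  refine ⟨uu' * uu⁻¹, (U n).mul_mem huuU' ((U n).inv_mem huuU), vv * vv'⁻¹,
    (U n).mul_mem hvvU ((U n).inv_mem hvvU'), ?_⟩
  have hinv : (uu⁻¹ : SL2 n).1 * u = 1 := by
    have : (uu⁻¹ * uu : SL2 n).1 = 1 := by rw [inv_mul_cancel]; rfl
    rwa [Matrix.SpecialLinearGroup.coe_mul] at this
  have key : x' * vv' = uu' * uu⁻¹ * x * vv := by
    apply Subtype.ext
    have e3 : (x' * vv' : SL2 n).1 = x'.1 * v' := rfl
    have e4 : (uu' * uu⁻¹ * x * vv : SL2 n).1 = u' * (uu⁻¹ : SL2 n).1 * x.1 * v := rfl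
    rw [e3, e4, e2, Matrix.mul_assoc (u' * (uu⁻¹ : SL2 n).1) x.1 v, e1, Matrix.mul_assoc u',
      ← Matrix.mul_assoc (uu⁻¹ : SL2 n).1 u, hinv, Matrix.one_mul]
  rw [← mul_assoc]
  exact eq_mul_inv_of_mul_eq key

theorem isUU_umat (f : (j : Fin n) → Fin j.val → ZMod 2) :
    IsUU (fun i j => if h : i.val < j.val then f j ⟨i.val, h⟩ else if i = j then 1 else 0 :
      Matrix (Fin n) (Fin n) (ZMod 2)) := by
  constructor
  · intro i j hij
    have h1 : ¬ (i.val < j.val) := by have : j.val < i.val := hij; omega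
    have h2 : i ≠ j := ne_of_gt hij
    simp only [dif_neg h1, if_neg h2]
  · intro i
    simp

/-- parametrisation of `U n` -/
def uEquiv (n : ℕ) : U n ≃ ((j : Fin n) → Fin j.val → ZMod 2) where
  toFun g := fun j a => g.1.1 ⟨a.val, a.2.trans j.2⟩ j
  invFun f := ⟨⟨_, (isUU_umat f).det⟩, isUU_umat f⟩
  left_inv g := by
    apply Subtype.ext
    apply Subtype.ext
    funext i j
    show (if h : i.val < j.val then g.1.1 ⟨i.val, _⟩ j else if i = j then 1 else 0) = g.1.1 i j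
    by_cases h : i.val < j.val
    · rw [dif_pos h]
    · rw [dif_neg h]
      by_cases h2 : i = j
      · rw [if_pos h2, h2]; exact (g.2.2 j).symm
      · rw [if_neg h2]
        refine (g.2.1 i j ?_).symm
        have h4 : i.val ≠ j.val := fun h3 => h2 (Fin.ext h3)
        show j.val < i.val
        omega
  right_inv f := by
    funext j a
    show (if h : a.val < j.val then f j ⟨a.val, h⟩ else _) = f j a
    rw [dif_pos a.2]

theorem card_U (n : ℕ) : Nat.card (U n) = ∏ j : Fin n, 2 ^ j.val := by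
  classical
  rw [Nat.card_congr (uEquiv n), Nat.card_eq_fintype_card, Fintype.card_pi]
  apply Finset.prod_congr rfl
  intro j _
  rw [Fintype.card_fun, ZMod.card, Fintype.card_fin]

theorem card_SL_dvd (n : ℕ) :
    Nat.card (SL2 n) ∣ (∏ j : Fin n, 2 ^ j.val) * ∏ j : Fin n, (2 ^ (n - j.val) - 1) := by
  have h1 := Subgroup.card_dvd_of_injective
    (Matrix.SpecialLinearGroup.toGL : SL2 n →* GL (Fin n) (ZMod 2))
    Matrix.SpecialLinearGroup.toGL_injective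
  rw [Matrix.card_GL_field, ZMod.card] at h1
  convert h1 using 1
  rw [← Finset.prod_mul_distrib]
  apply Finset.prod_congr rfl
  intro j _
  rw [Nat.mul_sub, mul_one, ← pow_add, Nat.add_sub_cancel' (le_of_lt j.2)]

theorem odd_prod (n : ℕ) : Odd (∏ j : Fin n, (2 ^ (n - j.val) - 1)) := by
  apply Finset.prod_induction _ Odd (fun a b ha hb => ha.mul hb) odd_one
  intro j _
  have h1 : 1 ≤ n - j.val := by have := j.2; omega
  apply Nat.Even.sub_odd (Nat.one_le_two_pow) _ odd_one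
  exact (Nat.even_pow' (by omega)).mpr even_two

theorem exists_sylow_eq (n : ℕ) : ∃ P : Sylow 2 (SL2 n), (P : Subgroup (SL2 n)) = U n := by
  haveI : Fact (Nat.Prime 2) := ⟨Nat.prime_two⟩
  have hU : IsPGroup 2 (U n) := IsPGroup.of_card (n := ∑ j : Fin n, j.val)
    (by rw [card_U, Finset.prod_pow_eq_pow_sum])
  obtain ⟨P, hP⟩ := hU.exists_le_sylow
  refine ⟨P, ?_⟩
  symm
  apply Subgroup.eq_of_le_of_card_ge hP
  obtain ⟨a, ha⟩ := IsPGroup.iff_card.mp P.isPGroup'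
  have h1 : 2 ^ a ∣ Nat.card (SL2 n) := ha ▸ Subgroup.card_subgroup_dvd_card _
  have h2 := h1.trans (card_SL_dvd n)
  have h3 : Nat.Coprime (2 ^ a) (∏ j : Fin n, (2 ^ (n - j.val) - 1)) :=
    Nat.Coprime.pow_left _ (Nat.coprime_two_left.mpr (odd_prod n))
  have h4 := h3.dvd_of_dvd_mul_right h2
  have h5 : Nat.card (P : Subgroup (SL2 n)) = 2 ^ a := ha
  rw [h5, card_U]
  exact Nat.le_of_dvd (Finset.prod_pos (fun j _ => by positivity)) h4

/-- the big cell property for an arbitrary Sylow 2-subgroup of `SL_n(2)` -/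
theorem big_cell_sylow (Q : Sylow 2 (SL2 n)) (y y' : SL2 n)
    (h : ∀ a ∈ Q, y⁻¹ * a * y ∈ Q → a = 1) (h' : ∀ a ∈ Q, y'⁻¹ * a * y' ∈ Q → a = 1) :
    ∃ q₁ ∈ Q, ∃ q₂ ∈ Q, y' = q₁ * y * q₂ := by
  haveI : Fact (Nat.Prime 2) := ⟨Nat.prime_two⟩
  obtain ⟨P, hP⟩ := exists_sylow_eq n
  obtain ⟨g, hg⟩ := MulAction.exists_smul_eq (SL2 n) P Q
  have hQ : ∀ a : SL2 n, a ∈ Q ↔ g⁻¹ * a * g ∈ U n := by
    intro a
    show a ∈ (Q : Subgroup (SL2 n)) ↔ _
    rw [← hg, Sylow.coe_subgroup_smul, hP, mem_conj_smul]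
  have hQ' : ∀ b : SL2 n, b ∈ U n → g * b * g⁻¹ ∈ Q := by
    intro b hb
    rw [hQ]
    have : g⁻¹ * (g * b * g⁻¹) * g = b := by group
    rw [this]; exact hb
  have red : ∀ z : SL2 n, (∀ a ∈ Q, z⁻¹ * a * z ∈ Q → a = 1) →
      ∀ a ∈ U n, (g⁻¹ * z * g)⁻¹ * a * (g⁻¹ * z * g) ∈ U n → a = 1 := by
    intro z hz a ha ha2
    have h1 := hz (g * a * g⁻¹) (hQ' a ha) (by
      rw [hQ]
      have : g⁻¹ * (z⁻¹ * (g * a * g⁻¹) * z) * g = (g⁻¹ * z * g)⁻¹ * a * (g⁻¹ * z * g) := by group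
      rw [this]; exact ha2)
    have : a = g⁻¹ * (g * a * g⁻¹) * g := by group
    rw [this, h1]; group
  obtain ⟨u₁, hu₁, u₂, hu₂, e⟩ := big_cell (g⁻¹ * y * g) (g⁻¹ * y' * g) (red y h) (red y' h')
  refine ⟨g * u₁ * g⁻¹, hQ' u₁ hu₁, g * u₂ * g⁻¹, hQ' u₂ hu₂, ?_⟩
  have : y' = g * (g⁻¹ * y' * g) * g⁻¹ := by group
  rw [this, e]; group

end Cfsg.Agent.Lib.helper73.BigCell
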