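import Cfsg.Agent.Lib.helper73.BigCellB

/-!
# Sylow 2-subgroups of an index-2 overgroup of `SL_n(2)` always meet nontrivially
-/

set_option autoImplicit false

namespace Cfsg.Agent.Lib.helper73.BigCell

open Matrix
open scoped Pointwise

theorem zenkov {G : Type*} [Group G] [Finite G] {n : ℕ} (N : Subgroup G) [N.Normal]
    (e : N ≃* SL2 n) (hidx : N.index = 2) (H : Sylow 2 G) (x : G) :
    (H : Subgroup G) ⊓ MulAut.conj x • (H : Subgroup G) ≠ ⊥ := by
  haveI : Fact (Nat.Prime 2) := ⟨Nat.prime_two⟩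
  intro hbot
  have hbot' : ∀ a ∈ (H : Subgroup G), x⁻¹ * a * x ∈ (H : Subgroup G) → a = 1 := by
    intro a ha ha2
    have : a ∈ (H : Subgroup G) ⊓ MulAut.conj x • (H : Subgroup G) :=
      ⟨ha, (mem_conj_smul _ _ _).mpr ha2⟩
    rw [hbot] at this
    exact this
  -- cardinalities
  have hGN : Nat.card G = Nat.card N * 2 := by rw [← hidx, Subgroup.card_mul_index]
  have hN0 : Nat.card N ≠ 0 := Nat.card_pos.ne'
  set ν := (Nat.card N).factorization 2 with hν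
  have hHcard : Nat.card (H : Subgroup G) = 2 ^ (ν + 1) := by
    rw [Sylow.card_eq_multiplicity, hGN, Nat.factorization_mul hN0 (by norm_num)]
    simp [Nat.Prime.factorization_self Nat.prime_two, hν]
  set I : Subgroup G := (H : Subgroup G) ⊓ N with hI
  have hIH : I ≤ (H : Subgroup G) := inf_le_left
  have hIN : I ≤ N := inf_le_right
  have hIp : IsPGroup 2 I := H.isPGroup'.to_le hIH
  obtain ⟨b, hb⟩ := IsPGroup.iff_card.mp hIp
  have hb1 : 2 ^ b ∣ Nat.card N := hb ▸ Subgroup.card_dvd_of_le hIN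
  have hbν : b ≤ ν := (Nat.Prime.pow_dvd_iff_le_factorization Nat.prime_two hN0).mp hb1
  -- relative index
  have hrel : N.relIndex (H : Subgroup G) ∣ 2 := by
    have h0 := Subgroup.relIndex_dvd_index_of_normal N (H : Subgroup G)
    rwa [hidx] at h0
  have hcard2 : Nat.card I * N.relIndex (H : Subgroup G) = Nat.card (H : Subgroup G) := by
    have h1 := Subgroup.card_mul_index (N.subgroupOf (H : Subgroup G))
    have h2 : Nat.card (N.subgroupOf (H : Subgroup G)) = Nat.card I := by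
      rw [← Subgroup.inf_subgroupOf_left N (H : Subgroup G)]
      exact Nat.card_congr (Subgroup.subgroupOfEquivOfLe hIH).toEquiv
    rw [h2] at h1
    exact h1
  have hrel2 : N.relIndex (H : Subgroup G) = 2 := by
    rcases (Nat.dvd_prime Nat.prime_two).mp hrel with h1 | h2
    · exfalso
      rw [h1, mul_one, hb, hHcard] at hcard2
      have := Nat.pow_right_injective (le_refl 2) hcard2
      omega
    · exact h2
  have hIcard : Nat.card I = 2 ^ ν := by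
    rw [hrel2, hHcard, pow_succ] at hcard2
    exact Nat.eq_of_mul_eq_mul_right (by norm_num) hcard2
  -- τ
  have hτ : ∃ τ ∈ (H : Subgroup G), τ ∉ N := by
    have : ¬ ((H : Subgroup G) ≤ N) := by
      intro hle
      have := Subgroup.relIndex_eq_one.mpr hle
      omega
    exact SetLike.not_le_iff_exists.mp this
  obtain ⟨τ, hτH, hτN⟩ := hτ
  -- the Sylow subgroup of SL
  set P₀ : Subgroup N := (H : Subgroup G).subgroupOf N with hP₀
  have hP₀card : Nat.card P₀ = 2 ^ ν := by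
    rw [← hIcard, hP₀, ← Subgroup.inf_subgroupOf_right (H : Subgroup G) N]
    exact Nat.card_congr (Subgroup.subgroupOfEquivOfLe hIN).toEquiv
  set Q₀ : Subgroup (SL2 n) := P₀.map e.toMonoidHom with hQ₀
  have hQ₀card : Nat.card Q₀ = 2 ^ (Nat.card (SL2 n)).factorization 2 := by
    rw [hQ₀, Subgroup.card_map_of_injective e.injective, hP₀card, hν,
      Nat.card_congr e.toEquiv]
  set Q : Sylow 2 (SL2 n) := Sylow.ofCard Q₀ hQ₀card with hQ
  have hQmem : ∀ q : SL2 n, q ∈ Q ↔ ∃ p : N, (p : G) ∈ (H : Subgroup G) ∧ e p = q := by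
    intro q
    show q ∈ Q₀ ↔ _
    rw [hQ₀, Subgroup.mem_map]
    constructor
    · rintro ⟨p, hp, rfl⟩
      exact ⟨p, Subgroup.mem_subgroupOf.mp hp, rfl⟩
    · rintro ⟨p, hp, rfl⟩
      exact ⟨p, Subgroup.mem_subgroupOf.mpr hp, rfl⟩
  -- reduce to x ∈ N
  obtain ⟨x₀, hx₀N, hx₀⟩ : ∃ x₀ ∈ N, ∀ a ∈ (H : Subgroup G),
      x₀⁻¹ * a * x₀ ∈ (H : Subgroup G) → a = 1 := by
    by_cases hxN : x ∈ N
    · exact ⟨x, hxN, hbot'⟩
    · refine ⟨x * τ, ?_, ?_⟩
      · rw [Subgroup.mul_mem_iff_of_index_two hidx]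
        exact ⟨fun h => absurd h hxN, fun h => absurd h hτN⟩
      · intro a ha ha2
        apply hbot' a ha
        have : x⁻¹ * a * x = τ * ((x * τ)⁻¹ * a * (x * τ)) * τ⁻¹ := by group
        rw [this]
        exact (H : Subgroup G).mul_mem ((H : Subgroup G).mul_mem hτH ha2)
          ((H : Subgroup G).inv_mem hτH)
  set x₁ : G := τ * x₀ * τ⁻¹ with hx₁
  have hx₁N : x₁ ∈ N := Subgroup.Normal.conj_mem inferInstance x₀ hx₀N τ
  set y : SL2 n := e ⟨x₀, hx₀N⟩ with hy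
  set y' : SL2 n := e ⟨x₁, hx₁N⟩ with hy'
  have h1 : ∀ a ∈ Q, y⁻¹ * a * y ∈ Q → a = 1 := by
    intro a ha ha2
    obtain ⟨p, hp, rfl⟩ := (hQmem a).mp ha
    obtain ⟨p', hp', hpe⟩ := (hQmem _).mp ha2
    have h2 : p' = (⟨x₀, hx₀N⟩ : N)⁻¹ * p * ⟨x₀, hx₀N⟩ := by
      apply e.injective
      rw [hpe, map_mul, map_mul, map_inv]
    have h3 : (p : G) = 1 := by
      apply hx₀ _ hp
      have : x₀⁻¹ * (p : G) * x₀ = (p' : G) := by rw [h2]; rfl
      rw [this]; exact hp'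
    have h4 : p = 1 := Subtype.ext h3
    rw [h4, map_one]
  have h1' : ∀ a ∈ Q, y'⁻¹ * a * y' ∈ Q → a = 1 := by
    intro a ha ha2
    obtain ⟨p, hp, rfl⟩ := (hQmem a).mp ha
    obtain ⟨p', hp', hpe⟩ := (hQmem _).mp ha2
    have h2 : p' = (⟨x₁, hx₁N⟩ : N)⁻¹ * p * ⟨x₁, hx₁N⟩ := by
      apply e.injective
      rw [hpe, map_mul, map_mul, map_inv]
    have h5 : x₁⁻¹ * (p : G) * x₁ = (p' : G) := by rw [h2]; rfl
    have h3 : τ⁻¹ * (p : G) * τ = 1 := by
      apply hx₀ _ ((H : Subgroup G).mul_mem ((H : Subgroup G).mul_mem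
        ((H : Subgroup G).inv_mem hτH) hp) hτH)
      have : x₀⁻¹ * (τ⁻¹ * (p : G) * τ) * x₀ = τ⁻¹ * (x₁⁻¹ * (p : G) * x₁) * τ := by
        rw [hx₁]; group
      rw [this, h5]
      exact (H : Subgroup G).mul_mem ((H : Subgroup G).mul_mem
        ((H : Subgroup G).inv_mem hτH) hp') hτH
    have h3' : (p : G) = 1 := by
      have : (p : G) = τ * (τ⁻¹ * (p : G) * τ) * τ⁻¹ := by group
      rw [this, h3]; group
    have h4 : p = 1 := Subtype.ext h3'
    rw [h4, map_one]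
  obtain ⟨q₁, hq₁, q₂, hq₂, hyy⟩ := big_cell_sylow Q y y' h1 h1'
  obtain ⟨p₁, hp₁, rfl⟩ := (hQmem q₁).mp hq₁
  obtain ⟨p₂, hp₂, rfl⟩ := (hQmem q₂).mp hq₂
  have h6 : (⟨x₁, hx₁N⟩ : N) = p₁ * ⟨x₀, hx₀N⟩ * p₂ := by
    apply e.injective
    rw [map_mul, map_mul]
    exact hyy
  have h7 : x₁ = (p₁ : G) * x₀ * (p₂ : G) := congrArg Subtype.val h6
  -- the element p₁⁻¹ τ
  have h8 : (p₁ : G)⁻¹ * τ = 1 := by
    apply hx₀ _ ((H : Subgroup G).mul_mem ((H : Subgroup G).inv_mem hp₁) hτH)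
    have : x₀⁻¹ * ((p₁ : G)⁻¹ * τ) * x₀ = (p₂ : G) * τ := by
      have h9 : τ * x₀ = (p₁ : G) * x₀ * (p₂ : G) * τ := by
        rw [← h7, hx₁]; group
      calc x₀⁻¹ * ((p₁ : G)⁻¹ * τ) * x₀ = x₀⁻¹ * (p₁ : G)⁻¹ * (τ * x₀) := by group
        _ = x₀⁻¹ * (p₁ : G)⁻¹ * ((p₁ : G) * x₀ * (p₂ : G) * τ) := by rw [h9]
        _ = (p₂ : G) * τ := by group
    rw [this]
    exact (H : Subgroup G).mul_mem hp₂ hτH
  apply hτN
  have : τ = (p₁ : G) := by
    have : τ = (p₁ : G) * ((p₁ : G)⁻¹ * τ) := by group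
    rw [this, h8, mul_one]
  rw [this]
  exact p₁.2

end Cfsg.Agent.Lib.helper73.BigCell
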