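import Mathlib

set_option autoImplicit false

/-!
Counting lemmas for commuting pairs (towards Gallagher's class number inequalities).
-/

namespace Cfsg.Agent.Lib.helper73

/-- If all fibres of `f : α → β` have at most `k` elements then `|α| ≤ |β| * k`. -/
theorem card_le_mul_of_fiber_le {α β : Type*} [Finite α] [Finite β] (f : α → β) (k : ℕ)
    (h : ∀ b, Nat.card {a // f a = b} ≤ k) : Nat.card α ≤ Nat.card β * k := by
  classical
  have := Fintype.ofFinite β
  rw [← Nat.card_congr (Equiv.sigmaFiberEquiv f), Nat.card_sigma]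
  calc ∑ b, Nat.card {a // f a = b} ≤ ∑ _b : β, k := Finset.sum_le_sum (fun b _ => h b)
    _ = Nat.card β * k := by simp [Nat.card_eq_fintype_card]

/-- If all fibres of `f : α → β` have at most `k > 0` elements and `f` is not onto then
`|α| < |β| * k`. -/
theorem card_lt_mul_of_fiber_le {α β : Type*} [Finite α] [Finite β] (f : α → β) (k : ℕ)
    (h : ∀ b, Nat.card {a // f a = b} ≤ k) (b0 : β) (hb0 : ∀ a, f a ≠ b0) (hk : 0 < k) :
    Nat.card α < Nat.card β * k := by
  classical
  have := Fintype.ofFinite β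
  rw [← Nat.card_congr (Equiv.sigmaFiberEquiv f), Nat.card_sigma]
  calc ∑ b, Nat.card {a // f a = b} < ∑ _b : β, k := by
        apply Finset.sum_lt_sum (fun b _ => h b)
        refine ⟨b0, Finset.mem_univ _, ?_⟩
        have : IsEmpty {a // f a = b0} := ⟨fun a => hb0 a.1 a.2⟩
        rw [Nat.card_of_isEmpty]
        exact hk
    _ = Nat.card β * k := by simp [Nat.card_eq_fintype_card]

theorem card_rel_eq_sum_left {α β : Type*} [Fintype α] [Finite β] (r : α → β → Prop) :
    Nat.card {p : α × β // r p.1 p.2} = ∑ a : α, Nat.card {b : β // r a b} := by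
  rw [Nat.card_congr (Equiv.subtypeProdEquivSigmaSubtype r), Nat.card_sigma]

theorem card_rel_eq_sum_right {α β : Type*} [Finite α] [Fintype β] (r : α → β → Prop) :
    Nat.card {p : α × β // r p.1 p.2} = ∑ b : β, Nat.card {a : α // r a b} := by
  rw [← card_rel_eq_sum_left (fun b a => r a b)]
  exact Nat.card_congr ((Equiv.prodComm α β).subtypeEquiv (fun _ => Iff.rfl))

/-- `|C_X(x)| ≤ [X : Y] · |C_Y(x)|`. -/
theorem card_commute_le_index_mul {X : Type*} [Group X] [Finite X] (Y : Subgroup X) (x : X) :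
    Nat.card {z : X // Commute x z} ≤ Y.index * Nat.card {y : Y // Commute x (y : X)} := by
  rw [Subgroup.index_eq_card]
  apply card_le_mul_of_fiber_le (fun z : {z : X // Commute x z} => ((z : X) : X ⧸ Y))
  intro q
  by_cases hne : Nonempty {a : {z : X // Commute x z} // ((a : X) : X ⧸ Y) = q}
  · obtain ⟨a0⟩ := hne
    apply Nat.card_le_card_of_injective
      (fun a : {a : {z : X // Commute x z} // ((a : X) : X ⧸ Y) = q} =>
        (⟨⟨(a0.1.1)⁻¹ * a.1.1, by
          rw [← QuotientGroup.eq, a0.2, a.2]⟩, by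
          exact (a0.1.2.inv_right).mul_right a.1.2⟩ : {y : Y // Commute x (y : X)}))
    intro a b hab
    have h1 : (a0.1.1)⁻¹ * a.1.1 = (a0.1.1)⁻¹ * b.1.1 := congrArg (fun w => (w.1 : X)) hab
    exact Subtype.ext (Subtype.ext (mul_left_cancel h1))
  · rw [not_nonempty_iff] at hne
    rw [Nat.card_of_isEmpty]
    exact Nat.zero_le _

/-- `|C_X(x)| < [X : Y] · |C_Y(x)|` if `C_X(x) Y ≠ X`. -/
theorem card_commute_lt_index_mul {X : Type*} [Group X] [Finite X] (Y : Subgroup X) (x : X)
    (g : X) (hg : ∀ z : X, Commute x z → z⁻¹ * g ∉ Y) :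
    Nat.card {z : X // Commute x z} < Y.index * Nat.card {y : Y // Commute x (y : X)} := by
  rw [Subgroup.index_eq_card]
  apply card_lt_mul_of_fiber_le (fun z : {z : X // Commute x z} => ((z : X) : X ⧸ Y)) _ _
    (g : X ⧸ Y)
  · intro a ha
    exact hg a.1 a.2 (QuotientGroup.eq.mp ha)
  · have : Nonempty {y : Y // Commute x (y : X)} := ⟨⟨1, by simp⟩⟩
    exact Nat.card_pos
  · intro q
    by_cases hne : Nonempty {a : {z : X // Commute x z} // ((a : X) : X ⧸ Y) = q}
    · obtain ⟨a0⟩ := hne
      apply Nat.card_le_card_of_injective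
        (fun a : {a : {z : X // Commute x z} // ((a : X) : X ⧸ Y) = q} =>
          (⟨⟨(a0.1.1)⁻¹ * a.1.1, by
            rw [← QuotientGroup.eq, a0.2, a.2]⟩, by
            exact (a0.1.2.inv_right).mul_right a.1.2⟩ : {y : Y // Commute x (y : X)}))
      intro a b hab
      have h1 : (a0.1.1)⁻¹ * a.1.1 = (a0.1.1)⁻¹ * b.1.1 := congrArg (fun w => (w.1 : X)) hab
      exact Subtype.ext (Subtype.ext (mul_left_cancel h1))
    · rw [not_nonempty_iff] at hne
      rw [Nat.card_of_isEmpty]
      exact Nat.zero_le _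

end Cfsg.Agent.Lib.helper73
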