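import Mathlib

set_option autoImplicit false

/-!
# Covering a finite group by conjugates of subgroups

* `ncard_conjSet_le`: the nonidentity elements conjugate into `A` number at most
  `|G : N_G(A)| * (|A| - 1)`.
* `eq_top_of_conj_cover`: a finite group is not the union of the conjugates of a proper subgroup.
* `normalizer_eq_of_conj_cover_two`: if `G` is covered by the conjugates of `A` and of `B` then
  `A` or `B` is self-normalizing.
* `exists_conj_mem_centralizer_sylow`: if `p ∤ |g^G|` then `g` centralizes a conjugate of `P`.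
* `normalizer_le_centralizer_of_selfNormalizing`: if `C_G(P)` is self-normalizing then
  `N_G(P) ≤ C_G(P)`.
-/

namespace Cfsg.Agent.Lib.helper73

variable {G : Type*} [Group G]

/-- nonidentity elements conjugate into `A` -/
def conjSet (A : Subgroup G) : Set G := {g | g ≠ 1 ∧ ∃ x : G, x * g * x⁻¹ ∈ A}

theorem ncard_conjSet_le [Finite G] (A : Subgroup G) :
    (conjSet A).ncard ≤ (Subgroup.normalizer (A : Set G)).index * (Nat.card A - 1) := by
  classical
  let f : (G ⧸ Subgroup.normalizer (A : Set G)) × A → G :=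
    fun p => (Quotient.out p.1) * (p.2 : G) * (Quotient.out p.1)⁻¹
  let S : Set ((G ⧸ Subgroup.normalizer (A : Set G)) × A) := Set.univ ×ˢ ({1}ᶜ : Set A)
  have hcov : conjSet A ⊆ f '' S := by
    rintro g ⟨hg, x, hx⟩
    have hr : (Quotient.out (QuotientGroup.mk x⁻¹ : G ⧸ Subgroup.normalizer (A : Set G)))⁻¹ *
        x⁻¹ ∈ Subgroup.normalizer (A : Set G) := by
      rw [← QuotientGroup.eq]; exact QuotientGroup.out_eq' _
    set r := Quotient.out (QuotientGroup.mk x⁻¹ : G ⧸ Subgroup.normalizer (A : Set G)) with hrdef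
    have hmem : (r⁻¹ * x⁻¹) * (x * g * x⁻¹) * (r⁻¹ * x⁻¹)⁻¹ ∈ A :=
      (Subgroup.mem_normalizer_iff.mp hr _).mp hx
    refine ⟨(QuotientGroup.mk x⁻¹, ⟨_, hmem⟩), ⟨Set.mem_univ _, ?_⟩, ?_⟩
    · simp only [Set.mem_compl_iff, Set.mem_singleton_iff]
      intro h1
      apply hg
      have h2 := congrArg Subtype.val h1
      simp only [Subgroup.coe_one] at h2
      have h3 : r⁻¹ * g * r = 1 := by rw [← h2]; group
      calc g = r * (r⁻¹ * g * r) * r⁻¹ := by group
        _ = 1 := by rw [h3]; group
    · simp only [f]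
      rw [← hrdef]
      group
  calc (conjSet A).ncard ≤ (f '' S).ncard := Set.ncard_le_ncard hcov (Set.toFinite _)
    _ ≤ S.ncard := Set.ncard_image_le (Set.toFinite _)
    _ = (Subgroup.normalizer (A : Set G)).index * (Nat.card A - 1) := by
      rw [Set.ncard_prod, Set.ncard_univ, Set.ncard_compl, Set.ncard_singleton]; rfl

/-- `|G : N(A)| * |A| ≤ |G|`, with a factor `2` when `A` is not self-normalizing. -/
theorem index_normalizer_mul_card_le [Finite G] (A : Subgroup G) :
    (Subgroup.normalizer (A : Set G)).index * Nat.card A ≤ Nat.card G := by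
  have h1 := (Subgroup.normalizer (A : Set G)).card_mul_index
  have h2 : Nat.card A ≤ Nat.card (Subgroup.normalizer (A : Set G)) :=
    Subgroup.card_le_of_le Subgroup.le_normalizer
  calc (Subgroup.normalizer (A : Set G)).index * Nat.card A
      ≤ (Subgroup.normalizer (A : Set G)).index * Nat.card (Subgroup.normalizer (A : Set G)) :=
        Nat.mul_le_mul_left _ h2
    _ = Nat.card G := by rw [mul_comm]; exact h1

theorem two_mul_index_normalizer_mul_card_le [Finite G] (A : Subgroup G)
    (hA : Subgroup.normalizer (A : Set G) ≠ A) :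
    2 * ((Subgroup.normalizer (A : Set G)).index * Nat.card A) ≤ Nat.card G := by
  have h1 := (Subgroup.normalizer (A : Set G)).card_mul_index
  have hdvd : Nat.card A ∣ Nat.card (Subgroup.normalizer (A : Set G)) :=
    Subgroup.card_dvd_of_le Subgroup.le_normalizer
  obtain ⟨k, hk⟩ := hdvd
  have hk2 : 2 ≤ k := by
    by_contra hlt
    push Not at hlt
    have hpos : 0 < Nat.card (Subgroup.normalizer (A : Set G)) := Nat.card_pos
    have hk1 : k = 1 := by
      rcases Nat.lt_or_ge k 1 with h0 | h0
      · have : k = 0 := by omega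
        rw [this, mul_zero] at hk; omega
      · omega
    rw [hk1, mul_one] at hk
    exact hA (Subgroup.eq_of_le_of_card_ge Subgroup.le_normalizer hk.le).symm
  calc 2 * ((Subgroup.normalizer (A : Set G)).index * Nat.card A)
      ≤ k * ((Subgroup.normalizer (A : Set G)).index * Nat.card A) := Nat.mul_le_mul_right _ hk2
    _ = Nat.card (Subgroup.normalizer (A : Set G)) * (Subgroup.normalizer (A : Set G)).index := by
      rw [hk]; ring
    _ = Nat.card G := h1

/-- A finite group is not covered by the conjugates of a proper subgroup. -/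
theorem eq_top_of_conj_cover [Finite G] (H : Subgroup G)
    (h : ∀ g : G, ∃ x : G, x * g * x⁻¹ ∈ H) : H = ⊤ := by
  have hcov : (Set.univ : Set G) ⊆ insert 1 (conjSet H) := by
    intro g _
    by_cases hg : g = 1
    · exact Or.inl hg
    · exact Or.inr ⟨hg, h g⟩
  have hcard : Nat.card G ≤ (Subgroup.normalizer (H : Set G)).index * (Nat.card H - 1) + 1 := by
    calc Nat.card G = (Set.univ : Set G).ncard := (Set.ncard_univ G).symm
      _ ≤ (insert 1 (conjSet H)).ncard := Set.ncard_le_ncard hcov (Set.toFinite _)
      _ ≤ (conjSet H).ncard + 1 := Set.ncard_insert_le _ _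
      _ ≤ _ := by gcongr; exact ncard_conjSet_le H
  have h1 := index_normalizer_mul_card_le H
  have hi : (Subgroup.normalizer (H : Set G)).index ≠ 0 := Subgroup.index_ne_zero_of_finite
  have hk : 0 < Nat.card H := Nat.card_pos
  obtain ⟨k, hk'⟩ : ∃ k, Nat.card H = k + 1 := ⟨Nat.card H - 1, by omega⟩
  rw [hk'] at hcard h1
  have e1 : (Subgroup.normalizer (H : Set G)).index * (k + 1) =
      (Subgroup.normalizer (H : Set G)).index * k + (Subgroup.normalizer (H : Set G)).index := by
    ring
  rw [Nat.add_sub_cancel] at hcard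
  rw [e1] at h1
  have hi1 : (Subgroup.normalizer (H : Set G)).index = 1 := by omega
  have hN : Subgroup.normalizer (H : Set G) = ⊤ := Subgroup.index_eq_one.mp hi1
  -- now `|G| ≤ |H|`
  rw [hi1] at hcard
  have hGH : Nat.card G ≤ Nat.card H := by rw [hk']; omega
  exact (Subgroup.eq_of_le_of_card_ge le_top (by rw [Subgroup.card_top]; exact hGH))

/-- If a finite group is covered by the conjugates of `A` and the conjugates of `B`, then `A` or
`B` is self-normalizing. -/
theorem normalizer_eq_of_conj_cover_two [Finite G] (A B : Subgroup G)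
    (h : ∀ g : G, (∃ x : G, x * g * x⁻¹ ∈ A) ∨ (∃ x : G, x * g * x⁻¹ ∈ B)) :
    Subgroup.normalizer (A : Set G) = A ∨ Subgroup.normalizer (B : Set G) = B := by
  by_contra hcon
  push Not at hcon
  obtain ⟨hA, hB⟩ := hcon
  have hcov : (Set.univ : Set G) ⊆ insert 1 (conjSet A ∪ conjSet B) := by
    intro g _
    by_cases hg : g = 1
    · exact Or.inl hg
    · rcases h g with h1 | h1
      · exact Or.inr (Or.inl ⟨hg, h1⟩)
      · exact Or.inr (Or.inr ⟨hg, h1⟩)
  have hcard : Nat.card G ≤ (Subgroup.normalizer (A : Set G)).index * (Nat.card A - 1) +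
      (Subgroup.normalizer (B : Set G)).index * (Nat.card B - 1) + 1 := by
    calc Nat.card G = (Set.univ : Set G).ncard := (Set.ncard_univ G).symm
      _ ≤ (insert 1 (conjSet A ∪ conjSet B)).ncard := Set.ncard_le_ncard hcov (Set.toFinite _)
      _ ≤ (conjSet A ∪ conjSet B).ncard + 1 := Set.ncard_insert_le _ _
      _ ≤ (conjSet A).ncard + (conjSet B).ncard + 1 := by gcongr; exact Set.ncard_union_le _ _
      _ ≤ _ := by gcongr <;> exact ncard_conjSet_le _
  have hA2 := two_mul_index_normalizer_mul_card_le A hA
  have hB2 := two_mul_index_normalizer_mul_card_le B hB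
  have hiA : (Subgroup.normalizer (A : Set G)).index ≠ 0 := Subgroup.index_ne_zero_of_finite
  have hiB : (Subgroup.normalizer (B : Set G)).index ≠ 0 := Subgroup.index_ne_zero_of_finite
  have hkA : 0 < Nat.card A := Nat.card_pos
  have hkB : 0 < Nat.card B := Nat.card_pos
  obtain ⟨a, ha⟩ : ∃ k, Nat.card A = k + 1 := ⟨Nat.card A - 1, by omega⟩
  obtain ⟨b, hb⟩ : ∃ k, Nat.card B = k + 1 := ⟨Nat.card B - 1, by omega⟩
  rw [ha] at hcard hA2
  rw [hb] at hcard hB2
  rw [Nat.add_sub_cancel, Nat.add_sub_cancel] at hcard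
  have e1 : (Subgroup.normalizer (A : Set G)).index * (a + 1) =
      (Subgroup.normalizer (A : Set G)).index * a + (Subgroup.normalizer (A : Set G)).index := by
    ring
  have e2 : (Subgroup.normalizer (B : Set G)).index * (b + 1) =
      (Subgroup.normalizer (B : Set G)).index * b + (Subgroup.normalizer (B : Set G)).index := by
    ring
  rw [e1] at hA2
  rw [e2] at hB2
  omega

/-- `v_r(|C_G(g)|) + v_r(|g^G|) = v_r(|G|)`. -/
theorem factorization_card_centralizer_add [Finite G] (g : G) (r : ℕ) :
    (Nat.card (Subgroup.centralizer ({g} : Set G))).factorization r +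
      (Subgroup.centralizer ({g} : Set G)).index.factorization r =
      (Nat.card G).factorization r := by
  have h := (Subgroup.centralizer ({g} : Set G)).card_mul_index
  rw [← h, Nat.factorization_mul Nat.card_pos.ne' Subgroup.index_ne_zero_of_finite]
  rfl

/-- If `p` does not divide the class size of `g`, then a conjugate of `g` centralizes the Sylow
`p`-subgroup `P`. -/
theorem exists_conj_mem_centralizer_sylow [Finite G] {p : ℕ} [Fact p.Prime] (P : Sylow p G)
    (g : G) (hg : ¬ p ∣ (Subgroup.centralizer ({g} : Set G)).index) :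
    ∃ x : G, x * g * x⁻¹ ∈ Subgroup.centralizer ((P : Subgroup G) : Set G) := by
  have hcg : (Subgroup.centralizer ({g} : Set G)).index.factorization p = 0 :=
    Nat.factorization_eq_zero_of_not_dvd hg
  have hC := factorization_card_centralizer_add g p
  obtain ⟨R0⟩ : Nonempty (Sylow p (Subgroup.centralizer ({g} : Set G))) := inferInstance
  have hRcard : Nat.card ((R0 : Subgroup _).map
      (Subgroup.centralizer ({g} : Set G)).subtype) = p ^ (Nat.card G).factorization p := by
    rw [Subgroup.card_map_of_injective (Subgroup.subtype_injective _),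
      R0.card_eq_multiplicity]
    congr 1
    omega
  obtain ⟨x, hx⟩ := MulAction.exists_smul_eq G (Sylow.ofCard _ hRcard) P
  refine ⟨x, ?_⟩
  rw [Subgroup.mem_centralizer_iff]
  intro y hy
  have hy' : x⁻¹ * y * x ∈ (R0 : Subgroup _).map
      (Subgroup.centralizer ({g} : Set G)).subtype := by
    have hy2 : y ∈ ((x • Sylow.ofCard _ hRcard : Sylow p G) : Subgroup G) := by
      rw [hx]; exact hy
    rw [Sylow.coe_subgroup_smul, Subgroup.mem_pointwise_smul_iff_inv_smul_mem] at hy2
    simpa [MulAut.smul_def] using hy2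
  have h1 := Subgroup.map_subtype_le _ hy'
  rw [Subgroup.mem_centralizer_singleton_iff] at h1
  calc y * (x * g * x⁻¹) = x * (x⁻¹ * y * x * g) * x⁻¹ := by group
    _ = x * (g * (x⁻¹ * y * x)) * x⁻¹ := by rw [h1]
    _ = x * g * x⁻¹ * y := by group

/-- The normalizer of `P` normalizes the centralizer of `P`. -/
theorem normalizer_le_normalizer_centralizer (P : Subgroup G) :
    Subgroup.normalizer (P : Set G) ≤
      Subgroup.normalizer ((Subgroup.centralizer (P : Set G) : Subgroup G) : Set G) := by
  rw [Subgroup.le_normalizer_iff]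
  intro n hn c hc
  rw [Subgroup.mem_centralizer_iff] at hc ⊢
  intro y hy
  have hy' : n⁻¹ * y * n ∈ P := (Subgroup.mem_normalizer_iff''.mp hn y).mp hy
  have h1 := hc _ hy'
  calc y * (n * c * n⁻¹) = n * (n⁻¹ * y * n * c) * n⁻¹ := by group
    _ = n * (c * (n⁻¹ * y * n)) * n⁻¹ := by rw [h1]
    _ = n * c * n⁻¹ * y := by group

/-- If the centralizer of `P` is self-normalizing then `N_G(P) ≤ C_G(P)`. -/
theorem normalizer_le_centralizer_of_selfNormalizing (P : Subgroup G)
    (h : Subgroup.normalizer ((Subgroup.centralizer (P : Set G) : Subgroup G) : Set G) =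
      Subgroup.centralizer (P : Set G)) :
    Subgroup.normalizer (P : Set G) ≤ Subgroup.centralizer (P : Set G) := by
  have := normalizer_le_normalizer_centralizer P
  rwa [h] at this

end Cfsg.Agent.Lib.helper73
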