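import Cfsg.Agent.Lib.helper73.DLinA

set_option autoImplicit false

/-!
# Derived length of finite linear `p`-groups: the case of characteristic `p`
-/

namespace Cfsg.Agent.Lib.helper73.DLin

section CharP
variable {K : Type*} [Field K] {V : Type*} [AddCommGroup V] [Module K V]
variable {P : Type*} [Group P] (ρ : P →* Module.End K V)

/-- A finite `p`-group acting linearly on a nonzero space of characteristic `p` fixes a nonzero
vector. -/
theorem exists_fixed (p : ℕ) [Fact p.Prime] [CharP K p] [Finite P] (hP : IsPGroup p P)
    [Nontrivial V] : ∃ v : V, v ≠ 0 ∧ ∀ g, ρ g v = v := by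
  classical
  obtain ⟨v₀, hv₀⟩ := exists_ne (0 : V)
  let A : AddSubgroup V := AddSubgroup.closure (Set.range (fun g : P => ρ g v₀))
  have hinv : ∀ g : P, ∀ x ∈ A, ρ g x ∈ A := by
    intro g x hx
    induction hx using AddSubgroup.closure_induction with
    | mem x hx =>
      obtain ⟨h, rfl⟩ := hx
      apply AddSubgroup.subset_closure
      exact ⟨g * h, by simp⟩
    | zero => rw [map_zero]; exact A.zero_mem
    | add x y _ _ hx hy => rw [map_add]; exact A.add_mem hx hy
    | neg x _ hx => rw [map_neg]; exact A.neg_mem hx
  have hp0 : ∀ x : V, p • x = 0 := by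
    intro x
    rw [← Nat.cast_smul_eq_nsmul K, CharP.cast_eq_zero, zero_smul]
  have hfg : AddGroup.FG A := by
    rw [AddGroup.fg_iff_addSubgroup_fg]
    refine ⟨(Set.finite_range (fun g : P => ρ g v₀)).toFinset, ?_⟩
    rw [Set.Finite.coe_toFinset]
  have htor : IsAddTorsion A := by
    intro x
    rw [isOfFinAddOrder_iff_nsmul_eq_zero]
    refine ⟨p, (Fact.out : p.Prime).pos, ?_⟩
    ext
    simpa using hp0 (x : V)
  haveI : Finite A := AddCommGroup.finite_of_fg_isAddTorsion (G := A) htor
  have hpg : IsPGroup p (Multiplicative A) := by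
    intro x
    refine ⟨1, ?_⟩
    rw [pow_one]
    have : p • (Multiplicative.toAdd x) = 0 := by
      ext
      simpa using hp0 ((Multiplicative.toAdd x : A) : V)
    exact congrArg Multiplicative.ofAdd this
  have hv₀A : v₀ ∈ A := AddSubgroup.subset_closure ⟨1, by simp⟩
  have hdvd : p ∣ Nat.card A := by
    have h1 : Nat.card (Multiplicative A) = Nat.card A := rfl
    rcases hpg.card_eq_or_dvd with h | h
    · exfalso
      rw [h1, Nat.card_eq_one_iff_unique] at h
      obtain ⟨hs, _⟩ := h
      have := congrArg (fun x : A => (x : V)) (Subsingleton.elim (⟨v₀, hv₀A⟩ : A) 0)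
      exact hv₀ this
    · rwa [h1] at h
  letI : MulAction P A :=
    { smul := fun g x => ⟨ρ g x, hinv g x x.2⟩
      one_smul := by
        intro x
        apply Subtype.ext
        show ρ 1 (x : V) = x
        simp
      mul_smul := by
        intro g h x
        apply Subtype.ext
        show ρ (g * h) (x : V) = ρ g (ρ h x)
        simp }
  have h0 : (0 : A) ∈ MulAction.fixedPoints P A := by
    intro g
    apply Subtype.ext
    show ρ g ((0 : A) : V) = ((0 : A) : V)
    simp
  obtain ⟨b, hb, hb0⟩ := hP.exists_fixed_point_of_prime_dvd_card_of_fixed_point A hdvd h0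
  refine ⟨(b : V), ?_, ?_⟩
  · intro h
    apply hb0
    apply Subtype.ext
    simpa using h.symm
  · intro g
    have := hb g
    exact congrArg (fun x : A => (x : V)) this

/-- Invariant subspaces of every dimension. -/
theorem exists_flag (p : ℕ) [Fact p.Prime] [CharP K p] [Finite P] (hP : IsPGroup p P)
    [FiniteDimensional K V] (m : ℕ) (hm : m ≤ Module.finrank K V) :
    ∃ W : Submodule K V, (∀ g : P, ∀ v ∈ W, ρ g v ∈ W) ∧ Module.finrank K W = m := by
  induction m with
  | zero => exact ⟨⊥, by intro g v hv; rw [Submodule.mem_bot] at hv; rw [hv, map_zero]; simp, by simp⟩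
  | succ m ih =>
    obtain ⟨W, hW, hWm⟩ := ih (by omega)
    have hq : Module.finrank K (V ⧸ W) + Module.finrank K W = Module.finrank K V :=
      Submodule.finrank_quotient_add_finrank W
    haveI : Nontrivial (V ⧸ W) := by
      apply Module.nontrivial_of_finrank_pos (R := K)
      omega
    obtain ⟨vb, hvb, hfix⟩ := exists_fixed (quotHom ρ W hW) p hP
    obtain ⟨v, rfl⟩ := Submodule.Quotient.mk_surjective W vb
    have hvW : v ∉ W := by
      intro h
      exact hvb ((Submodule.Quotient.mk_eq_zero W).2 h)
    have hfix' : ∀ g : P, ρ g v - v ∈ W := by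
      intro g
      have := hfix g
      rw [quotHom_apply] at this
      exact (Submodule.Quotient.eq W).1 this
    refine ⟨W ⊔ Submodule.span K {v}, ?_, ?_⟩
    · intro g x hx
      obtain ⟨w, hw, u, hu, rfl⟩ := Submodule.mem_sup.1 hx
      obtain ⟨c, rfl⟩ := Submodule.mem_span_singleton.1 hu
      rw [map_add, map_smul]
      have e : ρ g w + c • ρ g v = (ρ g w + c • (ρ g v - v)) + c • v := by
        rw [smul_sub]; abel
      rw [e]
      exact Submodule.add_mem_sup (W.add_mem (hW g w hw) (W.smul_mem c (hfix' g)))
        (Submodule.smul_mem _ c (Submodule.mem_span_singleton_self v))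
    · have hv0 : v ≠ 0 := fun h => hvW (h ▸ W.zero_mem)
      have hinf : W ⊓ Submodule.span K {v} = ⊥ := by
        rw [eq_bot_iff]
        intro x hx
        obtain ⟨hx1, hx2⟩ := Submodule.mem_inf.1 hx
        obtain ⟨c, rfl⟩ := Submodule.mem_span_singleton.1 hx2
        rw [Submodule.mem_bot]
        by_cases hc : c = 0
        · rw [hc, zero_smul]
        · exfalso
          apply hvW
          have := W.smul_mem c⁻¹ hx1
          rwa [smul_smul, inv_mul_cancel₀ hc, one_smul] at this
      have h1 := Submodule.finrank_sup_add_finrank_inf_eq W (Submodule.span K {v})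
      rw [hinf, finrank_bot, add_zero, finrank_span_singleton hv0, hWm] at h1
      exact h1

/-- In characteristic `p`, the `k`-th derived subgroup of a finite `p`-group acts trivially on
every representation of dimension at most `2 ^ k`. -/
theorem main_p (p : ℕ) [Fact p.Prime] (K : Type*) [Field K] [CharP K p] :
    ∀ (k : ℕ) (V : Type*) [AddCommGroup V] [Module K V] [FiniteDimensional K V],
      Module.finrank K V ≤ 2 ^ k →
      ∀ (P : Type*) [Group P] [Finite P], IsPGroup p P →
        ∀ ρ : P →* Module.End K V, derivedSeries P k ≤ ρ.ker := by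
  intro k
  induction k with
  | zero =>
    intro V _ _ _ hn P _ _ hP ρ x _
    rw [MonoidHom.mem_ker]
    rw [pow_zero] at hn
    rcases Nat.eq_zero_or_pos (Module.finrank K V) with h0 | hpos
    · haveI : Subsingleton V := Module.finrank_zero_iff.1 h0
      ext v
      exact Subsingleton.elim _ _
    · have h1 : Module.finrank K V = 1 := by omega
      haveI : Nontrivial V := Module.nontrivial_of_finrank_pos (R := K) hpos
      obtain ⟨v, hv, hfix⟩ := exists_fixed ρ p hP
      ext w
      obtain ⟨c, rfl⟩ := (finrank_eq_one_iff_of_nonzero' v hv).1 h1 w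
      rw [map_smul, hfix x]
      rfl
  | succ k ih =>
    intro V _ _ _ hn P _ _ hP ρ
    have hm : min (Module.finrank K V) (2 ^ k) ≤ Module.finrank K V := min_le_left _ _
    obtain ⟨W, hW, hWm⟩ := exists_flag ρ p hP _ hm
    have hq : Module.finrank K (V ⧸ W) + Module.finrank K W = Module.finrank K V :=
      Submodule.finrank_quotient_add_finrank W
    have h1 : derivedSeries P k ≤ (resHom ρ W hW).ker :=
      ih W (by rw [hWm]; exact min_le_right _ _) P hP _
    have h2 : derivedSeries P k ≤ (quotHom ρ W hW).ker := by
      refine ih (V ⧸ W) ?_ P hP _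
      rw [pow_succ] at hn
      have := min_def (Module.finrank K V) (2 ^ k)
      split_ifs at this <;> omega
    rw [derivedSeries_succ, Subgroup.commutator_le]
    intro x hx y hy
    have hc := comm_of_trivial ρ (h1 hx) (h2 hx) (h1 hy) (h2 hy)
    rw [MonoidHom.mem_ker, commutatorElement_def, map_mul, map_mul, map_mul, hc,
      mul_assoc (ρ y), rho_mul_inv, mul_one, rho_mul_inv]

end CharP

end Cfsg.Agent.Lib.helper73.DLin
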