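import Cfsg.Agent.Lib.helper73.DLinA

set_option autoImplicit false

/-!
# Derived length of finite linear `p`-groups: characteristic different from `p`
-/

namespace Cfsg.Agent.Lib.helper73.DLin

section NeP
variable {K : Type*} [Field K] {V : Type*} [AddCommGroup V] [Module K V]
variable {P : Type*} [Group P] (ρ : P →* Module.End K V)

/-- A `p`-element acting trivially on an invariant subspace and on the quotient acts trivially,
if `p` is invertible. -/
theorem trivial_of_res_quot (p : ℕ) (hpK : (p : K) ≠ 0) (hP : IsPGroup p P)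
    {W : Submodule K V} {hW : ∀ g : P, ∀ v ∈ W, ρ g v ∈ W} {x : P}
    (hx1 : x ∈ (resHom ρ W hW).ker) (hx2 : x ∈ (quotHom ρ W hW).ker) : x ∈ ρ.ker := by
  rw [MonoidHom.mem_ker]
  set N : Module.End K V := ρ x - 1 with hN
  have hNN : N * N = 0 := by
    ext v
    simp only [Module.End.mul_apply, LinearMap.zero_apply]
    have h1 : N v ∈ W := by
      have := quot_trivial ρ hx2 v
      simpa [hN] using this
    have h2 := res_trivial ρ hx1 (N v) h1
    have h3 : N (N v) = ρ x (N v) - N v := by
      change (ρ x - 1) (N v) = _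
      rw [LinearMap.sub_apply, Module.End.one_apply]
    rw [h3, h2, sub_self]
  have hρ : ρ x = 1 + N := by rw [hN]; abel
  have hpow : ∀ m : ℕ, (1 + N) ^ m = 1 + m • N := by
    intro m
    induction m with
    | zero => simp
    | succ m ih =>
      rw [pow_succ, ih, add_mul, mul_add, mul_add, one_mul, mul_one, one_mul, smul_mul_assoc, hNN,
        smul_zero, add_zero, succ_nsmul]
      abel
  obtain ⟨j, hj⟩ := hP x
  have h1 : (1 + N) ^ (p ^ j) = 1 := by rw [← hρ, ← map_pow, hj, map_one]
  rw [hpow] at h1
  have h2 : (p ^ j) • N = 0 := by simpa using h1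
  have h3 : ((p ^ j : ℕ) : K) • N = 0 := by rw [Nat.cast_smul_eq_nsmul]; exact h2
  have h4 : ((p ^ j : ℕ) : K) ≠ 0 := by push_cast; exact pow_ne_zero _ hpK
  have hN0 : N = 0 := (smul_eq_zero.1 h3).resolve_left h4
  rw [hρ, hN0, add_zero]

/-- Schur's lemma: an endomorphism commuting with an irreducible representation over an
algebraically closed field is a scalar. -/
theorem schur [IsAlgClosed K] [FiniteDimensional K V] [Nontrivial V]
    (hirr : ∀ W : Submodule K V, (∀ g : P, ∀ v ∈ W, ρ g v ∈ W) → W = ⊥ ∨ W = ⊤)
    (T : Module.End K V) (hT : ∀ g, ρ g * T = T * ρ g) : ∃ μ : K, T = μ • 1 := by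
  obtain ⟨μ, hμ⟩ := Module.End.exists_eigenvalue T
  refine ⟨μ, ?_⟩
  have hinv : ∀ g : P, ∀ v ∈ Module.End.eigenspace T μ, ρ g v ∈ Module.End.eigenspace T μ := by
    intro g v hv
    rw [Module.End.mem_eigenspace_iff] at hv ⊢
    have := congrArg (fun f : Module.End K V => f v) (hT g)
    simp only [Module.End.mul_apply] at this
    rw [← this, hv, map_smul]
  rcases hirr _ hinv with h | h
  · exact absurd h hμ
  · ext v
    have : v ∈ Module.End.eigenspace T μ := h ▸ Submodule.mem_top
    rw [Module.End.mem_eigenspace_iff] at this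
    simp [this]

/-- `ρ g` commutes with `ρ a` up to the scalar `ζ`. -/
def Rel (a g : P) (ζ : K) : Prop := ρ g * ρ a = ζ • (ρ a * ρ g)

theorem rel_mul {a g h : P} {ζ ξ : K} (h1 : Rel ρ a g ζ) (h2 : Rel ρ a h ξ) :
    Rel ρ a (g * h) (ζ * ξ) := by
  unfold Rel at *
  rw [map_mul, mul_assoc, h2, mul_smul_comm, ← mul_assoc, h1, smul_mul_assoc, smul_smul, mul_assoc,
    mul_comm ξ ζ]

theorem rel_inv {a g : P} {ζ : K} (h1 : Rel ρ a g ζ) (hζ : ζ ≠ 0) : Rel ρ a g⁻¹ ζ⁻¹ := by
  unfold Rel at *
  have e : ρ a * ρ g⁻¹ = ζ • (ρ g⁻¹ * ρ a) := by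
    calc ρ a * ρ g⁻¹ = ρ g⁻¹ * (ρ g * ρ a) * ρ g⁻¹ := by rw [← mul_assoc, rho_inv_mul, one_mul]
      _ = ρ g⁻¹ * (ζ • (ρ a * ρ g)) * ρ g⁻¹ := by rw [h1]
      _ = ζ • (ρ g⁻¹ * ρ a * (ρ g * ρ g⁻¹)) := by
        simp only [mul_smul_comm, smul_mul_assoc, mul_assoc]
      _ = ζ • (ρ g⁻¹ * ρ a) := by rw [rho_mul_inv, mul_one]
  rw [e, smul_smul, inv_mul_cancel₀ hζ, one_smul]

theorem rel_eigen {a g : P} {ζ : K} (h1 : Rel ρ a g ζ) (hζ : ζ ≠ 0) {ν : K} {v : V}
    (hv : v ∈ Module.End.eigenspace (ρ a) ν) :
    ρ g v ∈ Module.End.eigenspace (ρ a) (ν / ζ) := by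
  rw [Module.End.mem_eigenspace_iff] at hv ⊢
  have := congrArg (fun f : Module.End K V => f v) h1
  simp only [Module.End.mul_apply, LinearMap.smul_apply] at this
  rw [hv, map_smul] at this
  rw [div_eq_inv_mul, mul_smul, this, smul_smul, inv_mul_cancel₀ hζ, one_smul]

end NeP

/-- If `p` is invertible in the algebraically closed field `K`, the `k`-th derived subgroup of a
finite `p`-group acts trivially on every representation of dimension less than `2 ^ k`. -/
theorem main_ne (p : ℕ) [Fact p.Prime] (K : Type*) [Field K] [IsAlgClosed K] (hpK : (p : K) ≠ 0) :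
    ∀ (n : ℕ) (V : Type*) [AddCommGroup V] [Module K V] [FiniteDimensional K V],
      Module.finrank K V = n →
      ∀ (P : Type*) [Group P] [Finite P], IsPGroup p P →
        ∀ (ρ : P →* Module.End K V) (k : ℕ), n < 2 ^ k → derivedSeries P k ≤ ρ.ker := by
  intro n
  induction n using Nat.strong_induction_on with
  | _ n ih =>
  intro V _ _ _ hn P _ _ hP ρ k hk
  rcases Nat.eq_zero_or_pos n with h0 | hpos
  · haveI : Subsingleton V := Module.finrank_zero_iff.1 (hn.trans h0)
    intro x _
    rw [MonoidHom.mem_ker]
    ext v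
    exact Subsingleton.elim _ _
  haveI : Nontrivial V := Module.nontrivial_of_finrank_pos (R := K) (by omega)
  have hk1 : 1 ≤ k := by
    rcases Nat.eq_zero_or_pos k with h | h
    · rw [h, pow_zero] at hk; omega
    · exact h
  by_cases hred : ∃ W : Submodule K V, (∀ g : P, ∀ v ∈ W, ρ g v ∈ W) ∧ W ≠ ⊥ ∧ W ≠ ⊤
  · obtain ⟨W, hW, hW0, hW1⟩ := hred
    have hq : Module.finrank K (V ⧸ W) + Module.finrank K W = Module.finrank K V :=
      Submodule.finrank_quotient_add_finrank W
    have hWpos : 0 < Module.finrank K W := by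
      rw [Module.finrank_pos_iff]
      exact (Submodule.nontrivial_iff_ne_bot).2 hW0
    have hWlt : Module.finrank K W < Module.finrank K V :=
      Submodule.finrank_lt hW1
    have h1 : derivedSeries P k ≤ (resHom ρ W hW).ker :=
      ih _ (by omega) W rfl P hP _ k (by omega)
    have h2 : derivedSeries P k ≤ (quotHom ρ W hW).ker :=
      ih _ (by omega) (V ⧸ W) rfl P hP _ k (by omega)
    intro x hx
    exact trivial_of_res_quot ρ p hpK hP (h1 hx) (h2 hx)
  · have hirr : ∀ W : Submodule K V, (∀ g : P, ∀ v ∈ W, ρ g v ∈ W) → W = ⊥ ∨ W = ⊤ := by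
      intro W hW
      by_contra h
      push Not at h
      exact hred ⟨W, hW, h.1, h.2⟩
    by_cases hab : ∀ g h : P, ρ g * ρ h = ρ h * ρ g
    · refine (derivedSeries_antitone P hk1).trans ?_
      rw [derivedSeries_one]
      exact commutator_le_ker_of_comm ρ hab
    · -- the nonabelian irreducible case
      let Z : Subgroup P := ⨅ g : P, commSub ρ (ρ g)
      have hZmem : ∀ z : P, z ∈ Z ↔ ∀ g, ρ z * ρ g = ρ g * ρ z := by
        intro z
        simp only [Z, Subgroup.mem_iInf, mem_commSub]
      haveI hZn : Z.Normal := by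
        constructor
        intro z hz h
        rw [hZmem] at hz ⊢
        intro g
        have e : ρ (h * z * h⁻¹) = ρ z := by
          rw [map_mul, map_mul, ← hz h, mul_assoc, rho_mul_inv, mul_one]
        rw [e]; exact hz g
      have hZtop : Z ≠ ⊤ := by
        intro h
        apply hab
        intro g g'
        exact (hZmem g).1 (h ▸ Subgroup.mem_top g) g'
      haveI : Nontrivial (P ⧸ Z) := by
        by_contra hnt
        rw [not_nontrivial_iff_subsingleton] at hnt
        apply hZtop
        rw [eq_top_iff]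
        intro g _
        exact (QuotientGroup.eq_one_iff g).1 (Subsingleton.elim _ _)
      have hPQ : IsPGroup p (P ⧸ Z) := hP.to_quotient Z
      haveI := hPQ.center_nontrivial
      obtain ⟨⟨abar, habar⟩, hne⟩ := exists_ne (1 : Subgroup.center (P ⧸ Z))
      obtain ⟨a, rfl⟩ := QuotientGroup.mk_surjective abar
      have haZ : a ∉ Z := by
        intro h
        apply hne
        apply Subtype.ext
        exact (QuotientGroup.eq_one_iff a).2 h
      have hrel : ∀ g : P, ∃ ζ : K, ζ ≠ 0 ∧ Rel ρ a g ζ := by
        intro g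
        have h1 : (QuotientGroup.mk g : P ⧸ Z) * QuotientGroup.mk a =
            QuotientGroup.mk a * QuotientGroup.mk g := Subgroup.mem_center_iff.1 habar _
        have h2 : (a * g)⁻¹ * (g * a) ∈ Z := by
          rw [← QuotientGroup.eq]
          exact h1.symm
        obtain ⟨μ, hμ⟩ := schur ρ hirr (ρ ((a * g)⁻¹ * (g * a)))
          (fun g' => ((hZmem _).1 h2 g').symm)
        refine ⟨μ, ?_, ?_⟩
        · intro h0
          rw [h0, zero_smul] at hμ
          have h3 := rho_inv_mul ρ ((a * g)⁻¹ * (g * a))
          rw [hμ, mul_zero] at h3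
          obtain ⟨v, hv⟩ := exists_ne (0 : V)
          have h4 := congrArg (fun f : Module.End K V => f v) h3
          simp only [LinearMap.zero_apply, Module.End.one_apply] at h4
          exact hv h4.symm
        · unfold Rel
          have e : g * a = a * g * ((a * g)⁻¹ * (g * a)) := by group
          calc ρ g * ρ a = ρ (g * a) := (map_mul ρ g a).symm
            _ = ρ (a * g) * ρ ((a * g)⁻¹ * (g * a)) := by rw [← map_mul, ← e]
            _ = ρ (a * g) * (μ • 1) := by rw [hμ]
            _ = μ • (ρ a * ρ g) := by rw [mul_smul_comm, mul_one, map_mul]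
      choose ζ hζ0 hζ using hrel
      let C : Subgroup P := commSub ρ (ρ a)
      have hCcomm : commutator P ≤ C := by
        rw [commutator_def, Subgroup.commutator_le]
        intro g _ h _
        refine (mem_commSub ρ).2 ?_
        have r := rel_mul ρ (rel_mul ρ (rel_mul ρ (hζ g) (hζ h)) (rel_inv ρ (hζ g) (hζ0 g)))
          (rel_inv ρ (hζ h) (hζ0 h))
        have e : ζ g * ζ h * (ζ g)⁻¹ * (ζ h)⁻¹ = 1 := by
          have := hζ0 g
          have := hζ0 h
          field_simp
        rw [e] at r
        unfold Rel at r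
        rw [one_smul] at r
        rw [commutatorElement_def]
        exact r
      obtain ⟨μ, hμ⟩ := Module.End.exists_eigenvalue (ρ a)
      set E := Module.End.eigenspace (ρ a) μ with hE
      have hE0 : E ≠ ⊥ := hμ
      have hμ0 : μ ≠ 0 := by
        intro h0
        obtain ⟨v, hv, hv0⟩ := Submodule.exists_mem_ne_zero_of_ne_bot hE0
        rw [hE, Module.End.mem_eigenspace_iff, h0, zero_smul] at hv
        apply hv0
        have := rho_inv_apply ρ a v
        rw [hv, map_zero] at this
        exact this.symm
      let F : P → Submodule K V := fun g => Module.End.eigenspace (ρ a) (μ / ζ g)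
      have hEF : ∀ g : P, ∀ v ∈ E, ρ g v ∈ F g :=
        fun g v hv => rel_eigen ρ (hζ g) (hζ0 g) hv
      have hFE : ∀ g : P, ∀ v ∈ F g, ρ g⁻¹ v ∈ E := by
        intro g v hv
        have := rel_eigen ρ (rel_inv ρ (hζ g) (hζ0 g)) (inv_ne_zero (hζ0 g)) hv
        have e : μ / ζ g / (ζ g)⁻¹ = μ := by
          have := hζ0 g
          field_simp
        rwa [e] at this
      have hsup : (⨆ g : P, F g) = ⊤ := by
        let S : Submodule K V := ⨆ g : P, E.map (ρ g)
        have hSinv : ∀ h : P, ∀ v ∈ S, ρ h v ∈ S := by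
          intro h v hv
          refine Submodule.iSup_induction (motive := fun v => ρ h v ∈ S) _ hv ?_ ?_ ?_
          · intro g x hx
            obtain ⟨y, hy, rfl⟩ := Submodule.mem_map.1 hx
            have : ρ h (ρ g y) = ρ (h * g) y := by simp
            rw [this]
            exact Submodule.mem_iSup_of_mem (h * g) (Submodule.mem_map_of_mem hy)
          · rw [map_zero]; exact S.zero_mem
          · intro x y hx hy
            rw [map_add]; exact S.add_mem hx hy
        have hS0 : S ≠ ⊥ := by
          intro h
          apply hE0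
          rw [eq_bot_iff, ← h]
          intro v hv
          refine Submodule.mem_iSup_of_mem 1 ?_
          exact ⟨v, hv, by simp⟩
        have hS1 : S = ⊤ := (hirr S hSinv).resolve_left hS0
        rw [eq_top_iff, ← hS1]
        refine iSup_le fun g => ?_
        intro x hx
        obtain ⟨y, hy, rfl⟩ := Submodule.mem_map.1 hx
        exact Submodule.mem_iSup_of_mem g (hEF g y hy)
      have hex : ∃ g₀ : P, ζ g₀ ≠ 1 := by
        by_contra h
        push Not at h
        apply haZ
        rw [hZmem]
        intro g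
        have := hζ g
        unfold Rel at this
        rw [h g, one_smul] at this
        exact this.symm
      obtain ⟨g₀, hg₀⟩ := hex
      have hdisj : E ⊓ F g₀ = ⊥ := by
        rw [eq_bot_iff]
        intro v hv
        obtain ⟨h1, h2⟩ := Submodule.mem_inf.1 hv
        rw [hE, Module.End.mem_eigenspace_iff] at h1
        have h2' : v ∈ Module.End.eigenspace (ρ a) (μ / ζ g₀) := h2
        rw [Module.End.mem_eigenspace_iff] at h2'
        rw [Submodule.mem_bot]
        have h3 : (μ - μ / ζ g₀) • v = 0 := by rw [sub_smul, ← h1, ← h2', sub_self]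
        have h4 : μ - μ / ζ g₀ ≠ 0 := by
          intro h
          apply hg₀
          have hz := hζ0 g₀
          have h5 : μ = μ / ζ g₀ := sub_eq_zero.1 h
          rw [eq_div_iff hz] at h5
          have h6 : μ * (ζ g₀ - 1) = 0 := by rw [mul_sub, mul_one, h5, sub_self]
          rcases mul_eq_zero.1 h6 with h7 | h7
          · exact absurd h7 hμ0
          · exact sub_eq_zero.1 h7
        exact (smul_eq_zero.1 h3).resolve_left h4
      have hd1 : ∀ g : P, Module.finrank K (F g) ≤ Module.finrank K E := by
        intro g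
        let f : F g →ₗ[K] E := (ρ g⁻¹).restrict (hFE g)
        apply LinearMap.finrank_le_finrank_of_injective (f := f)
        intro x y hxy
        apply Subtype.ext
        apply rho_injective ρ g⁻¹
        exact congrArg (fun z : E => (z : V)) hxy
      have hd2 : Module.finrank K E ≤ Module.finrank K (F g₀) := by
        let f : E →ₗ[K] F g₀ := (ρ g₀).restrict (hEF g₀)
        apply LinearMap.finrank_le_finrank_of_injective (f := f)
        intro x y hxy
        apply Subtype.ext
        apply rho_injective ρ g₀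
        exact congrArg (fun z : F g₀ => (z : V)) hxy
      have hd3 : Module.finrank K E + Module.finrank K (F g₀) ≤ n := by
        have h1 := Submodule.finrank_sup_add_finrank_inf_eq E (F g₀)
        rw [hdisj, finrank_bot, add_zero] at h1
        rw [← h1, ← hn]
        exact Submodule.finrank_le _
      have hEpos : 0 < Module.finrank K E := by
        rw [Module.finrank_pos_iff]
        exact (Submodule.nontrivial_iff_ne_bot).2 hE0
      have hFC : ∀ g : P, ∀ c : C, ∀ v ∈ F g, (ρ.comp C.subtype) c v ∈ F g := by
        intro g c v hv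
        have hc : ρ c * ρ a = ρ a * ρ c := c.2
        show ρ c v ∈ Module.End.eigenspace (ρ a) (μ / ζ g)
        have hv' : v ∈ Module.End.eigenspace (ρ a) (μ / ζ g) := hv
        rw [Module.End.mem_eigenspace_iff] at hv' ⊢
        have := congrArg (fun f : Module.End K V => f v) hc
        simp only [Module.End.mul_apply] at this
        rw [← this, hv', map_smul]
      obtain ⟨k', rfl⟩ : ∃ k', k = k' + 1 := ⟨k - 1, by omega⟩
      have hCk : ∀ g : P,
          derivedSeries C k' ≤ (resHom (ρ.comp C.subtype) (F g) (hFC g)).ker := by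
        intro g
        have hlt : Module.finrank K (F g) < n := by have := hd1 g; omega
        refine ih _ hlt (F g) rfl C (hP.to_subgroup C) _ k' ?_
        have := hd1 g
        rw [pow_succ] at hk
        omega
      refine (ds_succ_le_map C hCcomm k').trans ?_
      intro x hx
      obtain ⟨c, hc, rfl⟩ := Subgroup.mem_map.1 hx
      rw [MonoidHom.mem_ker]
      have hfix : ∀ g : P, F g ≤ LinearMap.eqLocus (ρ (C.subtype c)) 1 := by
        intro g v hv
        have := res_trivial (ρ.comp C.subtype) (hCk g hc) v hv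
        rw [LinearMap.mem_eqLocus]
        simpa using this
      have htop : LinearMap.eqLocus (ρ (C.subtype c)) 1 = ⊤ := by
        rw [eq_top_iff, ← hsup]
        exact iSup_le hfix
      ext v
      have : v ∈ LinearMap.eqLocus (ρ (C.subtype c)) 1 := htop ▸ Submodule.mem_top
      exact (LinearMap.mem_eqLocus).1 this

end Cfsg.Agent.Lib.helper73.DLin
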