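import Cfsg.Agent.Lib.helper73.DLinC

set_option autoImplicit false

/-!
# Derived length of finite linear `p`-groups: a bound through eigenvalue multiplicities
-/

namespace Cfsg.Agent.Lib.helper73.DLin

section Quot
variable {K : Type*} [Field K] {V : Type*} [AddCommGroup V] [Module K V]

theorem pow_sub_mem (T : Module.End K V) (W : Submodule K V) (hW : ∀ w ∈ W, T w ∈ W)
    (ω : K) (v : V) (hv : T v - ω • v ∈ W) (i : ℕ) : (T ^ i) v - ω ^ i • v ∈ W := by
  induction i with
  | zero => simp
  | succ i ih =>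
    have e : (T ^ (i + 1)) v - ω ^ (i + 1) • v =
        T ((T ^ i) v - ω ^ i • v) + ω ^ i • (T v - ω • v) := by
      rw [pow_succ', Module.End.mul_apply, map_sub, map_smul, smul_sub, smul_smul, pow_succ]
      abel
    rw [e]
    exact W.add_mem (hW _ ih) (W.smul_mem _ hv)

/-- Eigenvectors of the map induced on a quotient lift to eigenvectors, for an endomorphism of
finite order invertible in `K`. -/
theorem exists_eigen_lift (T : Module.End K V) (W : Submodule K V) (hW : ∀ w ∈ W, T w ∈ W)
    (N : ℕ) (hN : (N : K) ≠ 0) (hT : T ^ N = 1) (ω : K) (hω : ω ^ N = 1) (v : V)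
    (hv : T v - ω • v ∈ W) : ∃ v' : V, T v' = ω • v' ∧ v' - v ∈ W := by
  have hN0 : N ≠ 0 := by
    rintro rfl
    simp at hN
  have hω0 : ω ≠ 0 := by
    intro h
    rw [h, zero_pow hN0] at hω
    exact zero_ne_one hω
  let a : ℕ → V := fun i => (ω⁻¹) ^ i • (T ^ i) v
  have ha : ∀ i, T (a i) = ω • a (i + 1) := by
    intro i
    simp only [a]
    rw [map_smul, pow_succ' T, Module.End.mul_apply, smul_smul, pow_succ, ← mul_assoc,
      mul_comm ω, mul_assoc, mul_inv_cancel₀ hω0, mul_one]
  have haN : a N = a 0 := by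
    simp only [a]
    rw [hT, inv_pow, hω]
    simp
  refine ⟨(N : K)⁻¹ • ∑ i ∈ Finset.range N, a i, ?_, ?_⟩
  · rw [map_smul, map_sum, smul_comm ω]
    congr 1
    have h0 : ∑ i ∈ Finset.range N, T (a i) = ∑ i ∈ Finset.range N, ω • a (i + 1) :=
      Finset.sum_congr rfl (fun i _ => ha i)
    rw [h0, ← Finset.smul_sum]
    congr 1
    have h1 := Finset.sum_range_succ a N
    have h2 := Finset.sum_range_succ' a N
    rw [h1, haN] at h2
    exact (add_right_cancel h2).symm
  · have e : (N : K)⁻¹ • ∑ i ∈ Finset.range N, a i - v =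
        (N : K)⁻¹ • ∑ i ∈ Finset.range N, (a i - v) := by
      rw [Finset.sum_sub_distrib, Finset.sum_const, Finset.card_range, smul_sub,
        ← Nat.cast_smul_eq_nsmul K, smul_smul, inv_mul_cancel₀ hN, one_smul]
    rw [e]
    refine W.smul_mem _ (W.sum_mem fun i _ => ?_)
    have e2 : a i - v = (ω⁻¹) ^ i • ((T ^ i) v - ω ^ i • v) := by
      simp only [a]
      rw [smul_sub, smul_smul, ← mul_pow, inv_mul_cancel₀ hω0, one_pow, one_smul]
    rw [e2]
    exact W.smul_mem _ (pow_sub_mem T W hW ω v hv i)

theorem finrank_eigen_quot_le [FiniteDimensional K V] (T : Module.End K V) (W : Submodule K V)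
    (hW : ∀ w ∈ W, T w ∈ W) (N : ℕ) (hN : (N : K) ≠ 0) (hT : T ^ N = 1) (ω : K)
    (hω : ω ^ N = 1) :
    Module.finrank K (Module.End.eigenspace (W.mapQ W T hW) ω) ≤
      Module.finrank K (Module.End.eigenspace T ω) := by
  let f : Module.End.eigenspace T ω →ₗ[K] Module.End.eigenspace (W.mapQ W T hW) ω :=
    (W.mkQ.comp (Module.End.eigenspace T ω).subtype).codRestrict _ (by
      intro x
      rw [Module.End.mem_eigenspace_iff]
      have := x.2
      rw [Module.End.mem_eigenspace_iff] at this
      simp [this])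
  apply LinearMap.finrank_le_finrank_of_surjective (f := f)
  rintro ⟨y, hy⟩
  obtain ⟨v, rfl⟩ := Submodule.Quotient.mk_surjective W y
  rw [Module.End.mem_eigenspace_iff] at hy
  have hv : T v - ω • v ∈ W := by
    rw [← Submodule.Quotient.mk_eq_zero, Submodule.Quotient.mk_sub, Submodule.Quotient.mk_smul,
      sub_eq_zero]
    exact hy
  obtain ⟨v', h1, h2⟩ := exists_eigen_lift T W hW N hN hT ω hω v hv
  refine ⟨⟨v', Module.End.mem_eigenspace_iff.2 h1⟩, ?_⟩
  apply Subtype.ext
  exact (Submodule.Quotient.eq W).2 h2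

theorem finrank_eigen_res_le [FiniteDimensional K V] (T : Module.End K V) (W : Submodule K V)
    (hW : ∀ w ∈ W, T w ∈ W) (ω : K) :
    Module.finrank K (Module.End.eigenspace (T.restrict hW) ω) ≤
      Module.finrank K (Module.End.eigenspace T ω) := by
  let f : Module.End.eigenspace (T.restrict hW) ω →ₗ[K] Module.End.eigenspace T ω :=
    (W.subtype.comp (Module.End.eigenspace (T.restrict hW) ω).subtype).codRestrict _ (by
      intro x
      rw [Module.End.mem_eigenspace_iff]
      have := x.2
      rw [Module.End.mem_eigenspace_iff] at this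
      have h2 := congrArg (fun w : W => (w : V)) this
      simpa using h2)
  apply LinearMap.finrank_le_finrank_of_injective (f := f)
  intro x y hxy
  apply Subtype.ext
  apply Subtype.ext
  exact congrArg (fun z : Module.End.eigenspace T ω => (z : V)) hxy

end Quot

theorem exists_prime_order_pow {K : Type*} [Monoid K] (p : ℕ) :
    ∀ (j : ℕ) (μ : K), μ ≠ 1 → μ ^ (p ^ j) = 1 →
      ∃ i : ℕ, μ ^ (p ^ i) ≠ 1 ∧ (μ ^ (p ^ i)) ^ p = 1 := by
  intro j
  induction j with
  | zero =>
    intro μ h1 h2
    simp at h2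
    exact absurd h2 h1
  | succ j ih =>
    intro μ h1 h2
    by_cases h : μ ^ (p ^ j) = 1
    · exact ih μ h1 h
    · exact ⟨j, h, by rw [← pow_mul, ← pow_succ]; exact h2⟩

/-- If `p` is invertible in the algebraically closed field `K` and every element of the finite
`p`-group `P` has all its eigenspaces for eigenvalues of order `p` of dimension at most
`m < 2 ^ k`, then the `k`-th derived subgroup of `P` acts trivially. -/
theorem main_mult (p : ℕ) [Fact p.Prime] (K : Type*) [Field K] [IsAlgClosed K]
    (hpK : (p : K) ≠ 0) (m k : ℕ) (hmk : m < 2 ^ k) :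
    ∀ (n : ℕ) (V : Type*) [AddCommGroup V] [Module K V] [FiniteDimensional K V],
      Module.finrank K V = n →
      ∀ (P : Type*) [Group P] [Finite P], IsPGroup p P →
        ∀ (ρ : P →* Module.End K V),
          (∀ x : P, ∀ ω : K, ω ≠ 1 → ω ^ p = 1 →
            Module.finrank K (Module.End.eigenspace (ρ x) ω) ≤ m) →
          derivedSeries P k ≤ ρ.ker := by
  intro n
  induction n using Nat.strong_induction_on with
  | _ n ih =>
  intro V _ _ _ hn P _ _ hP ρ hmult
  rcases Nat.eq_zero_or_pos n with h0 | hpos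
  · haveI : Subsingleton V := Module.finrank_zero_iff.1 (hn.trans h0)
    intro x _
    rw [MonoidHom.mem_ker]
    ext v
    exact Subsingleton.elim _ _
  haveI : Nontrivial V := Module.nontrivial_of_finrank_pos (R := K) (by omega)
  by_cases hred : ∃ W : Submodule K V, (∀ g : P, ∀ v ∈ W, ρ g v ∈ W) ∧ W ≠ ⊥ ∧ W ≠ ⊤
  · obtain ⟨W, hW, hW0, hW1⟩ := hred
    have hq : Module.finrank K (V ⧸ W) + Module.finrank K W = Module.finrank K V :=
      Submodule.finrank_quotient_add_finrank W
    have hWpos : 0 < Module.finrank K W := by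
      rw [Module.finrank_pos_iff]
      exact (Submodule.nontrivial_iff_ne_bot).2 hW0
    have hWlt : Module.finrank K W < Module.finrank K V :=
      Submodule.finrank_lt hW1
    have h1 : derivedSeries P k ≤ (resHom ρ W hW).ker :=
      ih _ (by omega) W rfl P hP _ (by
        intro x ω hω1 hωp
        exact le_trans (finrank_eigen_res_le (ρ x) W (hW x) ω) (hmult x ω hω1 hωp))
    have h2 : derivedSeries P k ≤ (quotHom ρ W hW).ker :=
      ih _ (by omega) (V ⧸ W) rfl P hP _ (by
        intro x ω hω1 hωp
        refine le_trans ?_ (hmult x ω hω1 hωp)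
        obtain ⟨j, hj⟩ := hP x
        exact finrank_eigen_quot_le (ρ x) W (hW x) (p ^ (j + 1))
          (by push_cast; exact pow_ne_zero _ hpK)
          (by rw [← map_pow, pow_succ, pow_mul, hj, one_pow, map_one]) ω
          (by rw [pow_succ', pow_mul, hωp, one_pow]))
    intro x hx
    exact trivial_of_res_quot ρ p hpK hP (h1 hx) (h2 hx)
  · have hirr : ∀ W : Submodule K V, (∀ g : P, ∀ v ∈ W, ρ g v ∈ W) → W = ⊥ ∨ W = ⊤ := by
      intro W hW
      by_contra h
      push Not at h
      exact hred ⟨W, hW, h.1, h.2⟩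
    by_cases htriv : ∀ g : P, ρ g = 1
    · intro x _
      exact htriv x
    · push Not at htriv
      haveI : Nontrivial (P ⧸ ρ.ker) := by
        by_contra hnt
        rw [not_nontrivial_iff_subsingleton] at hnt
        obtain ⟨g, hg⟩ := htriv
        apply hg
        have : g ∈ ρ.ker := (QuotientGroup.eq_one_iff g).1 (Subsingleton.elim _ _)
        exact this
      have hPQ : IsPGroup p (P ⧸ ρ.ker) := hP.to_quotient _
      haveI := hPQ.center_nontrivial
      obtain ⟨⟨zbar, hzbar⟩, hne⟩ := exists_ne (1 : Subgroup.center (P ⧸ ρ.ker))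
      obtain ⟨z, rfl⟩ := QuotientGroup.mk_surjective zbar
      have hz1 : ρ z ≠ 1 := by
        intro h
        apply hne
        apply Subtype.ext
        exact (QuotientGroup.eq_one_iff z).2 h
      have hzc : ∀ g : P, ρ g * ρ z = ρ z * ρ g := by
        intro g
        have h1 : (QuotientGroup.mk g : P ⧸ ρ.ker) * QuotientGroup.mk z =
            QuotientGroup.mk z * QuotientGroup.mk g := Subgroup.mem_center_iff.1 hzbar _
        have h2 : (z * g)⁻¹ * (g * z) ∈ ρ.ker := by
          rw [← QuotientGroup.eq]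
          exact h1.symm
        have h3 : ρ ((z * g)⁻¹ * (g * z)) = 1 := h2
        have e : g * z = z * g * ((z * g)⁻¹ * (g * z)) := by group
        calc ρ g * ρ z = ρ (g * z) := (map_mul ρ g z).symm
          _ = ρ (z * g) * ρ ((z * g)⁻¹ * (g * z)) := by rw [← map_mul, ← e]
          _ = ρ z * ρ g := by rw [h3, mul_one, map_mul]
      obtain ⟨μ, hμ⟩ := schur ρ hirr (ρ z) hzc
      have hμ1 : μ ≠ 1 := by
        rintro rfl
        exact hz1 (by rw [hμ, one_smul])
      obtain ⟨j, hj⟩ := hP z
      obtain ⟨v, hv⟩ := exists_ne (0 : V)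
      have hμj : μ ^ (p ^ j) = 1 := by
        have h1 : (ρ z) ^ (p ^ j) = 1 := by rw [← map_pow, hj, map_one]
        rw [hμ, smul_pow, one_pow] at h1
        have h2 := congrArg (fun f : Module.End K V => f v) h1
        simp only [LinearMap.smul_apply, Module.End.one_apply] at h2
        have h3 : (μ ^ (p ^ j) - 1) • v = 0 := by rw [sub_smul, h2, one_smul, sub_self]
        exact sub_eq_zero.1 ((smul_eq_zero.1 h3).resolve_right hv)
      obtain ⟨i, hi1, hi2⟩ := exists_prime_order_pow p j μ hμ1 hμj
      have hfin : Module.finrank K V ≤ m := by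
        have h1 := hmult (z ^ (p ^ i)) (μ ^ (p ^ i)) hi1 hi2
        have h2 : Module.End.eigenspace (ρ (z ^ (p ^ i))) (μ ^ (p ^ i)) = ⊤ := by
          rw [eq_top_iff]
          intro v _
          rw [Module.End.mem_eigenspace_iff, map_pow, hμ, smul_pow, one_pow]
          simp
        rw [h2, finrank_top] at h1
        exact h1
      exact main_ne p K hpK n V hn P hP ρ k (by omega)

end Cfsg.Agent.Lib.helper73.DLin
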