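import Cfsg.Agent.Lib.helper73.DLinD

set_option autoImplicit false

/-!
# Eigenvalue multiplicities of matrices fixed by a Frobenius map
-/

namespace Cfsg.Agent.Lib.helper73.DLin

section Frob
variable {K : Type*} [Field K]

theorem finrank_biSup_eigenspace {V : Type*} [AddCommGroup V] [Module K V]
    [FiniteDimensional K V] (T : Module.End K V) (s : Finset K) :
    Module.finrank K (⨆ μ ∈ s, Module.End.eigenspace T μ : Submodule K V) =
      ∑ μ ∈ s, Module.finrank K (Module.End.eigenspace T μ) := by
  classical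
  induction s using Finset.induction_on with
  | empty => simp
  | insert a s ha ih =>
    rw [Finset.sum_insert ha, Finset.iSup_insert, ← ih]
    have hd : Disjoint (Module.End.eigenspace T a) (⨆ μ ∈ s, Module.End.eigenspace T μ) :=
      (Module.End.eigenspaces_iSupIndep T).disjoint_biSup (y := (s : Set K)) (by simpa using ha)
    have h1 := Submodule.finrank_sup_add_finrank_inf_eq (Module.End.eigenspace T a)
      (⨆ μ ∈ s, Module.End.eigenspace T μ)
    rw [disjoint_iff.1 hd, finrank_bot, add_zero] at h1
    exact h1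

variable {n : ℕ}

/-- The `q`-power map as a ring homomorphism. -/
def frobHom (q : ℕ) (hq : 0 < q) (hadd : ∀ a b : K, (a + b) ^ q = a ^ q + b ^ q) : K →+* K where
  toFun a := a ^ q
  map_one' := one_pow q
  map_mul' a b := mul_pow a b q
  map_zero' := zero_pow hq.ne'
  map_add' := hadd

theorem frob_step [IsAlgClosed K] (q : ℕ) (hq : 0 < q)
    (hadd : ∀ a b : K, (a + b) ^ q = a ^ q + b ^ q)
    (M : Matrix (Fin n) (Fin n) K) (hM : ∀ i j, (M i j) ^ q = M i j) (ω : K) :
    Module.finrank K (Module.End.eigenspace (Matrix.toLinAlgEquiv' M) ω) ≤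
      Module.finrank K (Module.End.eigenspace (Matrix.toLinAlgEquiv' M) (ω ^ q)) := by
  classical
  set E := Module.End.eigenspace (Matrix.toLinAlgEquiv' M) ω with hE
  set E' := Module.End.eigenspace (Matrix.toLinAlgEquiv' M) (ω ^ q) with hE'
  let φ := frobHom q hq hadd
  have hφ : ∀ a : K, φ a = a ^ q := fun a => rfl
  let b := Module.finBasis K E
  let w : Fin (Module.finrank K E) → (Fin n → K) := fun j i => ((b j : Fin n → K) i) ^ q
  have hw : ∀ j, w j ∈ E' := by
    intro j
    rw [hE', Module.End.mem_eigenspace_iff]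
    have hb := Module.End.mem_eigenspace_iff.1 (b j).2
    ext i
    have hbi := congrFun hb i
    simp only [Matrix.toLinAlgEquiv'_apply, Matrix.mulVec, dotProduct, Pi.smul_apply,
      smul_eq_mul] at hbi ⊢
    simp only [w]
    calc ∑ l, M i l * ((b j : Fin n → K) l) ^ q
        = ∑ l, φ (M i l * (b j : Fin n → K) l) := by
          refine Finset.sum_congr rfl fun l _ => ?_
          rw [hφ, mul_pow, hM]
      _ = φ (∑ l, M i l * (b j : Fin n → K) l) := (map_sum φ _ _).symm
      _ = φ (ω * (b j : Fin n → K) i) := by rw [hbi]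
      _ = ω ^ q * ((b j : Fin n → K) i) ^ q := by rw [hφ, mul_pow]
  have hli : LinearIndependent K w := by
    rw [Fintype.linearIndependent_iff]
    intro c hc
    have hex : ∀ j, ∃ d : K, d ^ q = c j := fun j => IsAlgClosed.exists_pow_nat_eq (c j) hq
    choose d hd using hex
    have hb := b.linearIndependent.map' E.subtype (Submodule.ker_subtype E)
    rw [Fintype.linearIndependent_iff] at hb
    have h0 : ∑ j, d j • (E.subtype ∘ b) j = 0 := by
      ext i
      have hci := congrFun hc i
      simp only [Finset.sum_apply, Pi.smul_apply, smul_eq_mul, Pi.zero_apply, w] at hci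
      simp only [Finset.sum_apply, Pi.smul_apply, smul_eq_mul, Pi.zero_apply,
        Function.comp_apply, Submodule.subtype_apply]
      have h1 : φ (∑ j, d j * (b j : Fin n → K) i) = 0 := by
        rw [map_sum, ← hci]
        refine Finset.sum_congr rfl fun j _ => ?_
        rw [hφ, mul_pow, hd]
      rw [hφ] at h1
      exact pow_eq_zero_iff hq.ne' |>.1 h1
    intro j
    rw [← hd j, hb d h0 j, zero_pow hq.ne']
  let w' : Fin (Module.finrank K E) → E' := fun j => ⟨w j, hw j⟩
  have hli' : LinearIndependent K w' := LinearIndependent.of_comp E'.subtype hli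
  have := hli'.fintype_card_le_finrank
  simpa using this

theorem frob_iter [IsAlgClosed K] (q : ℕ) (hq : 0 < q)
    (hadd : ∀ a b : K, (a + b) ^ q = a ^ q + b ^ q)
    (M : Matrix (Fin n) (Fin n) K) (hM : ∀ i j, (M i j) ^ q = M i j) (ω : K) (i : ℕ) :
    Module.finrank K (Module.End.eigenspace (Matrix.toLinAlgEquiv' M) ω) ≤
      Module.finrank K (Module.End.eigenspace (Matrix.toLinAlgEquiv' M) (ω ^ (q ^ i))) := by
  induction i with
  | zero => rw [pow_zero, pow_one]
  | succ i ih =>
    refine ih.trans ?_
    rw [pow_succ, pow_mul]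
    exact frob_step q hq hadd M hM _

/-- A matrix fixed by the `q`-power Frobenius has each eigenvalue of prime order `p ∤ q` with
multiplicity at most `n / e`, `e` the order of `q` modulo `p`. -/
theorem frob_mult [IsAlgClosed K] (q : ℕ) (hq : 0 < q)
    (hadd : ∀ a b : K, (a + b) ^ q = a ^ q + b ^ q)
    (M : Matrix (Fin n) (Fin n) K) (hM : ∀ i j, (M i j) ^ q = M i j)
    (p : ℕ) [Fact p.Prime] (hqp : (q : ZMod p) ≠ 0) (ω : K) (hω1 : ω ≠ 1) (hωp : ω ^ p = 1) :
    orderOf (q : ZMod p) *
      Module.finrank K (Module.End.eigenspace (Matrix.toLinAlgEquiv' M) ω) ≤ n := by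
  classical
  have hp : p.Prime := Fact.out
  set T := Matrix.toLinAlgEquiv' M with hT
  set e := orderOf (q : ZMod p) with he
  have hω0 : ω ≠ 0 := by
    intro h
    rw [h, zero_pow hp.ne_zero] at hωp
    exact zero_ne_one hωp
  have hinj : Set.InjOn (fun i : ℕ => ω ^ (q ^ i)) (Finset.range e : Set ℕ) := by
    intro i hi j hj hij
    have hi' : i < e := Finset.mem_range.1 hi
    have hj' : j < e := Finset.mem_range.1 hj
    let ω' : Kˣ := Units.mk0 ω hω0
    have h1 : ω' ^ (q ^ i) = ω' ^ (q ^ j) := by
      apply Units.ext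
      simpa [ω'] using hij
    have hord : orderOf ω' = p := by
      apply orderOf_eq_prime
      · apply Units.ext
        simpa [ω'] using hωp
      · intro h
        apply hω1
        have := congrArg (fun u : Kˣ => (u : K)) h
        simpa [ω'] using this
    rw [pow_eq_pow_iff_modEq, hord] at h1
    have h2 : ((q ^ i : ℕ) : ZMod p) = ((q ^ j : ℕ) : ZMod p) :=
      (ZMod.natCast_eq_natCast_iff _ _ _).2 h1
    push_cast at h2
    let u : (ZMod p)ˣ := Units.mk0 (q : ZMod p) hqp
    have h3 : u ^ i = u ^ j := by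
      apply Units.ext
      simpa [u] using h2
    rw [pow_eq_pow_iff_modEq] at h3
    have hu : orderOf u = e := by
      rw [he, ← orderOf_units]
      rfl
    rw [hu] at h3
    exact Nat.ModEq.eq_of_lt_of_lt h3 hi' hj'
  set s := (Finset.range e).image (fun i : ℕ => ω ^ (q ^ i)) with hs
  have h1 : ∑ μ ∈ s, Module.finrank K (Module.End.eigenspace T μ) ≤ n := by
    rw [← finrank_biSup_eigenspace]
    have := Submodule.finrank_le (⨆ μ ∈ s, Module.End.eigenspace T μ : Submodule K (Fin n → K))
    rw [Module.finrank_fin_fun] at this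
    exact this
  have h2 : ∑ μ ∈ s, Module.finrank K (Module.End.eigenspace T μ) =
      ∑ i ∈ Finset.range e, Module.finrank K (Module.End.eigenspace T (ω ^ (q ^ i))) := by
    rw [hs, Finset.sum_image hinj]
  have h3 : ∑ i ∈ Finset.range e, Module.finrank K (Module.End.eigenspace T ω) ≤
      ∑ i ∈ Finset.range e, Module.finrank K (Module.End.eigenspace T (ω ^ (q ^ i))) :=
    Finset.sum_le_sum fun i _ => frob_iter q hq hadd M hM ω i
  rw [Finset.sum_const, Finset.card_range, smul_eq_mul] at h3
  omega

end Frob

end Cfsg.Agent.Lib.helper73.DLin
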