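import Cfsg.Agent.Lib.helper73.DLinE

set_option autoImplicit false

/-!
# Derived length of finite linear `p`-groups in cross characteristic: the bound `log_p`
-/

namespace Cfsg.Agent.Lib.helper73.DLin

/-- If `p` is invertible in the algebraically closed field `K`, the `k`-th derived subgroup of a
finite `p`-group acts trivially on every representation of dimension less than `p ^ k`. -/
theorem main_ne_p (p : ℕ) [Fact p.Prime] (K : Type*) [Field K] [IsAlgClosed K] (hpK : (p : K) ≠ 0) :
    ∀ (n : ℕ) (V : Type*) [AddCommGroup V] [Module K V] [FiniteDimensional K V],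
      Module.finrank K V = n →
      ∀ (P : Type*) [Group P] [Finite P], IsPGroup p P →
        ∀ (ρ : P →* Module.End K V) (k : ℕ), n < p ^ k → derivedSeries P k ≤ ρ.ker := by
  intro n
  induction n using Nat.strong_induction_on with
  | _ n ih =>
  intro V _ _ _ hn P _ _ hP ρ k hk
  rcases Nat.eq_zero_or_pos n with h0 | hpos
  · haveI : Subsingleton V := Module.finrank_zero_iff.1 (hn.trans h0)
    intro x _
    rw [MonoidHom.mem_ker]
    ext v
    exact Subsingleton.elim _ _
  haveI : Nontrivial V := Module.nontrivial_of_finrank_pos (R := K) (by omega)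
  have hk1 : 1 ≤ k := by
    rcases Nat.eq_zero_or_pos k with h | h
    · rw [h, pow_zero] at hk; omega
    · exact h
  by_cases hred : ∃ W : Submodule K V, (∀ g : P, ∀ v ∈ W, ρ g v ∈ W) ∧ W ≠ ⊥ ∧ W ≠ ⊤
  · obtain ⟨W, hW, hW0, hW1⟩ := hred
    have hq : Module.finrank K (V ⧸ W) + Module.finrank K W = Module.finrank K V :=
      Submodule.finrank_quotient_add_finrank W
    have hWpos : 0 < Module.finrank K W := by
      rw [Module.finrank_pos_iff]
      exact (Submodule.nontrivial_iff_ne_bot).2 hW0
    have hWlt : Module.finrank K W < Module.finrank K V :=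
      Submodule.finrank_lt hW1
    have h1 : derivedSeries P k ≤ (resHom ρ W hW).ker :=
      ih _ (by omega) W rfl P hP _ k (by omega)
    have h2 : derivedSeries P k ≤ (quotHom ρ W hW).ker :=
      ih _ (by omega) (V ⧸ W) rfl P hP _ k (by omega)
    intro x hx
    exact trivial_of_res_quot ρ p hpK hP (h1 hx) (h2 hx)
  · have hirr : ∀ W : Submodule K V, (∀ g : P, ∀ v ∈ W, ρ g v ∈ W) → W = ⊥ ∨ W = ⊤ := by
      intro W hW
      by_contra h
      push Not at h
      exact hred ⟨W, hW, h.1, h.2⟩
    by_cases hab : ∀ g h : P, ρ g * ρ h = ρ h * ρ g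
    · refine (derivedSeries_antitone P hk1).trans ?_
      rw [derivedSeries_one]
      exact commutator_le_ker_of_comm ρ hab
    · -- the nonabelian irreducible case
      let Z : Subgroup P := ⨅ g : P, commSub ρ (ρ g)
      have hZmem : ∀ z : P, z ∈ Z ↔ ∀ g, ρ z * ρ g = ρ g * ρ z := by
        intro z
        simp only [Z, Subgroup.mem_iInf, mem_commSub]
      haveI hZn : Z.Normal := by
        constructor
        intro z hz h
        rw [hZmem] at hz ⊢
        intro g
        have e : ρ (h * z * h⁻¹) = ρ z := by
          rw [map_mul, map_mul, ← hz h, mul_assoc, rho_mul_inv, mul_one]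
        rw [e]; exact hz g
      have hZtop : Z ≠ ⊤ := by
        intro h
        apply hab
        intro g g'
        exact (hZmem g).1 (h ▸ Subgroup.mem_top g) g'
      haveI : Nontrivial (P ⧸ Z) := by
        by_contra hnt
        rw [not_nontrivial_iff_subsingleton] at hnt
        apply hZtop
        rw [eq_top_iff]
        intro g _
        exact (QuotientGroup.eq_one_iff g).1 (Subsingleton.elim _ _)
      have hPQ : IsPGroup p (P ⧸ Z) := hP.to_quotient Z
      haveI := hPQ.center_nontrivial
      obtain ⟨⟨abar, habar⟩, hne⟩ := exists_ne (1 : Subgroup.center (P ⧸ Z))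
      obtain ⟨a, rfl⟩ := QuotientGroup.mk_surjective abar
      have haZ : a ∉ Z := by
        intro h
        apply hne
        apply Subtype.ext
        exact (QuotientGroup.eq_one_iff a).2 h
      have hrel : ∀ g : P, ∃ ζ : K, ζ ≠ 0 ∧ Rel ρ a g ζ := by
        intro g
        have h1 : (QuotientGroup.mk g : P ⧸ Z) * QuotientGroup.mk a =
            QuotientGroup.mk a * QuotientGroup.mk g := Subgroup.mem_center_iff.1 habar _
        have h2 : (a * g)⁻¹ * (g * a) ∈ Z := by
          rw [← QuotientGroup.eq]
          exact h1.symm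
        obtain ⟨μ, hμ⟩ := schur ρ hirr (ρ ((a * g)⁻¹ * (g * a)))
          (fun g' => ((hZmem _).1 h2 g').symm)
        refine ⟨μ, ?_, ?_⟩
        · intro h0
          rw [h0, zero_smul] at hμ
          have h3 := rho_inv_mul ρ ((a * g)⁻¹ * (g * a))
          rw [hμ, mul_zero] at h3
          obtain ⟨v, hv⟩ := exists_ne (0 : V)
          have h4 := congrArg (fun f : Module.End K V => f v) h3
          simp only [LinearMap.zero_apply, Module.End.one_apply] at h4
          exact hv h4.symm
        · unfold Rel
          have e : g * a = a * g * ((a * g)⁻¹ * (g * a)) := by group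
          calc ρ g * ρ a = ρ (g * a) := (map_mul ρ g a).symm
            _ = ρ (a * g) * ρ ((a * g)⁻¹ * (g * a)) := by rw [← map_mul, ← e]
            _ = ρ (a * g) * (μ • 1) := by rw [hμ]
            _ = μ • (ρ a * ρ g) := by rw [mul_smul_comm, mul_one, map_mul]
      choose ζ hζ0 hζ using hrel
      let C : Subgroup P := commSub ρ (ρ a)
      have hCcomm : commutator P ≤ C := by
        rw [commutator_def, Subgroup.commutator_le]
        intro g _ h _
        refine (mem_commSub ρ).2 ?_
        have r := rel_mul ρ (rel_mul ρ (rel_mul ρ (hζ g) (hζ h)) (rel_inv ρ (hζ g) (hζ0 g)))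
          (rel_inv ρ (hζ h) (hζ0 h))
        have e : ζ g * ζ h * (ζ g)⁻¹ * (ζ h)⁻¹ = 1 := by
          have := hζ0 g
          have := hζ0 h
          field_simp
        rw [e] at r
        unfold Rel at r
        rw [one_smul] at r
        rw [commutatorElement_def]
        exact r
      obtain ⟨μ, hμ⟩ := Module.End.exists_eigenvalue (ρ a)
      set E := Module.End.eigenspace (ρ a) μ with hE
      have hE0 : E ≠ ⊥ := hμ
      have hμ0 : μ ≠ 0 := by
        intro h0
        obtain ⟨v, hv, hv0⟩ := Submodule.exists_mem_ne_zero_of_ne_bot hE0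
        rw [hE, Module.End.mem_eigenspace_iff, h0, zero_smul] at hv
        apply hv0
        have := rho_inv_apply ρ a v
        rw [hv, map_zero] at this
        exact this.symm
      let F : P → Submodule K V := fun g => Module.End.eigenspace (ρ a) (μ / ζ g)
      have hEF : ∀ g : P, ∀ v ∈ E, ρ g v ∈ F g :=
        fun g v hv => rel_eigen ρ (hζ g) (hζ0 g) hv
      have hFE : ∀ g : P, ∀ v ∈ F g, ρ g⁻¹ v ∈ E := by
        intro g v hv
        have := rel_eigen ρ (rel_inv ρ (hζ g) (hζ0 g)) (inv_ne_zero (hζ0 g)) hv
        have e : μ / ζ g / (ζ g)⁻¹ = μ := by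
          have := hζ0 g
          field_simp
        rwa [e] at this
      have hsup : (⨆ g : P, F g) = ⊤ := by
        let S : Submodule K V := ⨆ g : P, E.map (ρ g)
        have hSinv : ∀ h : P, ∀ v ∈ S, ρ h v ∈ S := by
          intro h v hv
          refine Submodule.iSup_induction (motive := fun v => ρ h v ∈ S) _ hv ?_ ?_ ?_
          · intro g x hx
            obtain ⟨y, hy, rfl⟩ := Submodule.mem_map.1 hx
            have : ρ h (ρ g y) = ρ (h * g) y := by simp
            rw [this]
            exact Submodule.mem_iSup_of_mem (h * g) (Submodule.mem_map_of_mem hy)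
          · rw [map_zero]; exact S.zero_mem
          · intro x y hx hy
            rw [map_add]; exact S.add_mem hx hy
        have hS0 : S ≠ ⊥ := by
          intro h
          apply hE0
          rw [eq_bot_iff, ← h]
          intro v hv
          refine Submodule.mem_iSup_of_mem 1 ?_
          exact ⟨v, hv, by simp⟩
        have hS1 : S = ⊤ := (hirr S hSinv).resolve_left hS0
        rw [eq_top_iff, ← hS1]
        refine iSup_le fun g => ?_
        intro x hx
        obtain ⟨y, hy, rfl⟩ := Submodule.mem_map.1 hx
        exact Submodule.mem_iSup_of_mem g (hEF g y hy)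
      have hex : ∃ g₀ : P, ζ g₀ ≠ 1 := by
        by_contra h
        push Not at h
        apply haZ
        rw [hZmem]
        intro g
        have := hζ g
        unfold Rel at this
        rw [h g, one_smul] at this
        exact this.symm
      obtain ⟨g₀, hg₀⟩ := hex
      obtain ⟨v₀, hv₀⟩ := exists_ne (0 : V)
      have hrel1 : Rel ρ a 1 1 := by
        unfold Rel
        simp
      have hrelpow : ∀ (g : P) (ξ : K), Rel ρ a g ξ → ∀ t : ℕ, Rel ρ a (g ^ t) (ξ ^ t) := by
        intro g ξ h t
        induction t with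
        | zero => simpa using hrel1
        | succ t ih' =>
          rw [pow_succ, pow_succ]
          exact rel_mul ρ ih' h
      have hreluniq : ∀ (g : P) (ξ ξ' : K), Rel ρ a g ξ → Rel ρ a g ξ' → ξ = ξ' := by
        intro g ξ ξ' h h'
        unfold Rel at h h'
        have h3 : (ξ - ξ') • (ρ a * ρ g) = 0 := by rw [sub_smul, ← h, ← h', sub_self]
        have h4 := congrArg (fun f : Module.End K V => f v₀) h3
        simp only [LinearMap.smul_apply, Module.End.mul_apply, LinearMap.zero_apply] at h4
        rcases smul_eq_zero.1 h4 with h5 | h5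
        · exact sub_eq_zero.1 h5
        · exfalso
          apply hv₀
          apply rho_injective ρ g
          apply rho_injective ρ a
          rw [h5, map_zero, map_zero]
      obtain ⟨j₀, hj₀⟩ := hP g₀
      have hζ₀pow : ζ g₀ ^ (p ^ j₀) = 1 := by
        have h1 := hrelpow g₀ (ζ g₀) (hζ g₀) (p ^ j₀)
        rw [hj₀] at h1
        exact hreluniq 1 _ _ h1 hrel1
      obtain ⟨i₀, hi1, hi2⟩ := exists_prime_order_pow p j₀ (ζ g₀) hg₀ hζ₀pow
      set ζ₁ := ζ g₀ ^ (p ^ i₀) with hζ₁
      set g₁ := g₀ ^ (p ^ i₀) with hg₁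
      have hrel₁ : Rel ρ a g₁ ζ₁ := hrelpow g₀ (ζ g₀) (hζ g₀) (p ^ i₀)
      have hζ₁0 : ζ₁ ≠ 0 := pow_ne_zero _ (hζ0 g₀)
      have hpp : p.Prime := Fact.out
      have hd2 : ∀ t : ℕ, Module.finrank K E ≤
          Module.finrank K (Module.End.eigenspace (ρ a) (μ / ζ₁ ^ t)) := by
        intro t
        have hr := hrelpow g₁ ζ₁ hrel₁ t
        let f : E →ₗ[K] Module.End.eigenspace (ρ a) (μ / ζ₁ ^ t) :=
          (ρ (g₁ ^ t)).restrict (fun v hv => rel_eigen ρ hr (pow_ne_zero _ hζ₁0) hv)
        apply LinearMap.finrank_le_finrank_of_injective (f := f)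
        intro x y hxy
        apply Subtype.ext
        apply rho_injective ρ (g₁ ^ t)
        exact congrArg (fun z : Module.End.eigenspace (ρ a) (μ / ζ₁ ^ t) => (z : V)) hxy
      have hinj : Set.InjOn (fun t : ℕ => μ / ζ₁ ^ t) (Finset.range p : Set ℕ) := by
        intro s hs t ht hst
        have hs' : s < p := Finset.mem_range.1 hs
        have ht' : t < p := Finset.mem_range.1 ht
        have h1 : ζ₁ ^ s = ζ₁ ^ t := by
          have h2 : μ / ζ₁ ^ s = μ / ζ₁ ^ t := hst
          have hs0 : ζ₁ ^ s ≠ 0 := pow_ne_zero _ hζ₁0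
          have ht0 : ζ₁ ^ t ≠ 0 := pow_ne_zero _ hζ₁0
          rw [div_eq_div_iff hs0 ht0] at h2
          exact (mul_left_cancel₀ hμ0 h2).symm
        let u : Kˣ := Units.mk0 ζ₁ hζ₁0
        have h3 : u ^ s = u ^ t := by
          apply Units.ext
          simpa [u] using h1
        have hord : orderOf u = p := by
          apply orderOf_eq_prime
          · apply Units.ext
            simpa [u] using hi2
          · intro h
            apply hi1
            have := congrArg (fun u : Kˣ => (u : K)) h
            simpa [u] using this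
        rw [pow_eq_pow_iff_modEq, hord] at h3
        exact Nat.ModEq.eq_of_lt_of_lt h3 hs' ht'
      have hd3 : p * Module.finrank K E ≤ n := by
        classical
        set s := (Finset.range p).image (fun t : ℕ => μ / ζ₁ ^ t) with hs
        have h1 : ∑ ν ∈ s, Module.finrank K (Module.End.eigenspace (ρ a) ν) ≤ n := by
          rw [← finrank_biSup_eigenspace, ← hn]
          exact Submodule.finrank_le _
        have h2 : ∑ ν ∈ s, Module.finrank K (Module.End.eigenspace (ρ a) ν) =
            ∑ t ∈ Finset.range p,
              Module.finrank K (Module.End.eigenspace (ρ a) (μ / ζ₁ ^ t)) := by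
          rw [hs, Finset.sum_image hinj]
        have h3 : ∑ t ∈ Finset.range p, Module.finrank K E ≤
            ∑ t ∈ Finset.range p,
              Module.finrank K (Module.End.eigenspace (ρ a) (μ / ζ₁ ^ t)) :=
          Finset.sum_le_sum fun t _ => hd2 t
        rw [Finset.sum_const, Finset.card_range, smul_eq_mul] at h3
        omega
      have hEpos : 0 < Module.finrank K E := by
        rw [Module.finrank_pos_iff]
        exact (Submodule.nontrivial_iff_ne_bot).2 hE0
      have hElt : Module.finrank K E < n := by
        have h2 : 2 * Module.finrank K E ≤ p * Module.finrank K E :=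
          Nat.mul_le_mul_right _ hpp.two_le
        omega
      have hd1 : ∀ g : P, Module.finrank K (F g) ≤ Module.finrank K E := by
        intro g
        let f : F g →ₗ[K] E := (ρ g⁻¹).restrict (hFE g)
        apply LinearMap.finrank_le_finrank_of_injective (f := f)
        intro x y hxy
        apply Subtype.ext
        apply rho_injective ρ g⁻¹
        exact congrArg (fun z : E => (z : V)) hxy
      have hFC : ∀ g : P, ∀ c : C, ∀ v ∈ F g, (ρ.comp C.subtype) c v ∈ F g := by
        intro g c v hv
        have hc : ρ c * ρ a = ρ a * ρ c := c.2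
        show ρ c v ∈ Module.End.eigenspace (ρ a) (μ / ζ g)
        have hv' : v ∈ Module.End.eigenspace (ρ a) (μ / ζ g) := hv
        rw [Module.End.mem_eigenspace_iff] at hv' ⊢
        have := congrArg (fun f : Module.End K V => f v) hc
        simp only [Module.End.mul_apply] at this
        rw [← this, hv', map_smul]
      obtain ⟨k', rfl⟩ : ∃ k', k = k' + 1 := ⟨k - 1, by omega⟩
      have hCk : ∀ g : P,
          derivedSeries C k' ≤ (resHom (ρ.comp C.subtype) (F g) (hFC g)).ker := by
        intro g
        have hlt : Module.finrank K (F g) < n := by have := hd1 g; omega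
        refine ih _ hlt (F g) rfl C (hP.to_subgroup C) _ k' ?_
        have h1 := hd1 g
        rw [pow_succ, mul_comm] at hk
        have h2 : p * Module.finrank K (F g) ≤ p * Module.finrank K E :=
          Nat.mul_le_mul_left _ h1
        exact lt_of_mul_lt_mul_left (lt_of_le_of_lt (h2.trans hd3) hk) (Nat.zero_le p)
      refine (ds_succ_le_map C hCcomm k').trans ?_
      intro x hx
      obtain ⟨c, hc, rfl⟩ := Subgroup.mem_map.1 hx
      rw [MonoidHom.mem_ker]
      have hfix : ∀ g : P, F g ≤ LinearMap.eqLocus (ρ (C.subtype c)) 1 := by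
        intro g v hv
        have := res_trivial (ρ.comp C.subtype) (hCk g hc) v hv
        rw [LinearMap.mem_eqLocus]
        simpa using this
      have htop : LinearMap.eqLocus (ρ (C.subtype c)) 1 = ⊤ := by
        rw [eq_top_iff, ← hsup]
        exact iSup_le hfix
      ext v
      have : v ∈ LinearMap.eqLocus (ρ (C.subtype c)) 1 := htop ▸ Submodule.mem_top
      exact (LinearMap.mem_eqLocus).1 this


/-- If `p` is invertible in the algebraically closed field `K` and every element of the finite
`p`-group `P` has all its eigenspaces for eigenvalues of order `p` of dimension at most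
`m < p ^ k`, then the `k`-th derived subgroup of `P` acts trivially. -/
theorem main_mult_p (p : ℕ) [Fact p.Prime] (K : Type*) [Field K] [IsAlgClosed K]
    (hpK : (p : K) ≠ 0) (m k : ℕ) (hmk : m < p ^ k) :
    ∀ (n : ℕ) (V : Type*) [AddCommGroup V] [Module K V] [FiniteDimensional K V],
      Module.finrank K V = n →
      ∀ (P : Type*) [Group P] [Finite P], IsPGroup p P →
        ∀ (ρ : P →* Module.End K V),
          (∀ x : P, ∀ ω : K, ω ≠ 1 → ω ^ p = 1 →
            Module.finrank K (Module.End.eigenspace (ρ x) ω) ≤ m) →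
          derivedSeries P k ≤ ρ.ker := by
  intro n
  induction n using Nat.strong_induction_on with
  | _ n ih =>
  intro V _ _ _ hn P _ _ hP ρ hmult
  rcases Nat.eq_zero_or_pos n with h0 | hpos
  · haveI : Subsingleton V := Module.finrank_zero_iff.1 (hn.trans h0)
    intro x _
    rw [MonoidHom.mem_ker]
    ext v
    exact Subsingleton.elim _ _
  haveI : Nontrivial V := Module.nontrivial_of_finrank_pos (R := K) (by omega)
  by_cases hred : ∃ W : Submodule K V, (∀ g : P, ∀ v ∈ W, ρ g v ∈ W) ∧ W ≠ ⊥ ∧ W ≠ ⊤
  · obtain ⟨W, hW, hW0, hW1⟩ := hred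
    have hq : Module.finrank K (V ⧸ W) + Module.finrank K W = Module.finrank K V :=
      Submodule.finrank_quotient_add_finrank W
    have hWpos : 0 < Module.finrank K W := by
      rw [Module.finrank_pos_iff]
      exact (Submodule.nontrivial_iff_ne_bot).2 hW0
    have hWlt : Module.finrank K W < Module.finrank K V :=
      Submodule.finrank_lt hW1
    have h1 : derivedSeries P k ≤ (resHom ρ W hW).ker :=
      ih _ (by omega) W rfl P hP _ (by
        intro x ω hω1 hωp
        exact le_trans (finrank_eigen_res_le (ρ x) W (hW x) ω) (hmult x ω hω1 hωp))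
    have h2 : derivedSeries P k ≤ (quotHom ρ W hW).ker :=
      ih _ (by omega) (V ⧸ W) rfl P hP _ (by
        intro x ω hω1 hωp
        refine le_trans ?_ (hmult x ω hω1 hωp)
        obtain ⟨j, hj⟩ := hP x
        exact finrank_eigen_quot_le (ρ x) W (hW x) (p ^ (j + 1))
          (by push_cast; exact pow_ne_zero _ hpK)
          (by rw [← map_pow, pow_succ, pow_mul, hj, one_pow, map_one]) ω
          (by rw [pow_succ', pow_mul, hωp, one_pow]))
    intro x hx
    exact trivial_of_res_quot ρ p hpK hP (h1 hx) (h2 hx)
  · have hirr : ∀ W : Submodule K V, (∀ g : P, ∀ v ∈ W, ρ g v ∈ W) → W = ⊥ ∨ W = ⊤ := by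
      intro W hW
      by_contra h
      push Not at h
      exact hred ⟨W, hW, h.1, h.2⟩
    by_cases htriv : ∀ g : P, ρ g = 1
    · intro x _
      exact htriv x
    · push Not at htriv
      haveI : Nontrivial (P ⧸ ρ.ker) := by
        by_contra hnt
        rw [not_nontrivial_iff_subsingleton] at hnt
        obtain ⟨g, hg⟩ := htriv
        apply hg
        have : g ∈ ρ.ker := (QuotientGroup.eq_one_iff g).1 (Subsingleton.elim _ _)
        exact this
      have hPQ : IsPGroup p (P ⧸ ρ.ker) := hP.to_quotient _
      haveI := hPQ.center_nontrivial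
      obtain ⟨⟨zbar, hzbar⟩, hne⟩ := exists_ne (1 : Subgroup.center (P ⧸ ρ.ker))
      obtain ⟨z, rfl⟩ := QuotientGroup.mk_surjective zbar
      have hz1 : ρ z ≠ 1 := by
        intro h
        apply hne
        apply Subtype.ext
        exact (QuotientGroup.eq_one_iff z).2 h
      have hzc : ∀ g : P, ρ g * ρ z = ρ z * ρ g := by
        intro g
        have h1 : (QuotientGroup.mk g : P ⧸ ρ.ker) * QuotientGroup.mk z =
            QuotientGroup.mk z * QuotientGroup.mk g := Subgroup.mem_center_iff.1 hzbar _
        have h2 : (z * g)⁻¹ * (g * z) ∈ ρ.ker := by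
          rw [← QuotientGroup.eq]
          exact h1.symm
        have h3 : ρ ((z * g)⁻¹ * (g * z)) = 1 := h2
        have e : g * z = z * g * ((z * g)⁻¹ * (g * z)) := by group
        calc ρ g * ρ z = ρ (g * z) := (map_mul ρ g z).symm
          _ = ρ (z * g) * ρ ((z * g)⁻¹ * (g * z)) := by rw [← map_mul, ← e]
          _ = ρ z * ρ g := by rw [h3, mul_one, map_mul]
      obtain ⟨μ, hμ⟩ := schur ρ hirr (ρ z) hzc
      have hμ1 : μ ≠ 1 := by
        rintro rfl
        exact hz1 (by rw [hμ, one_smul])
      obtain ⟨j, hj⟩ := hP z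
      obtain ⟨v, hv⟩ := exists_ne (0 : V)
      have hμj : μ ^ (p ^ j) = 1 := by
        have h1 : (ρ z) ^ (p ^ j) = 1 := by rw [← map_pow, hj, map_one]
        rw [hμ, smul_pow, one_pow] at h1
        have h2 := congrArg (fun f : Module.End K V => f v) h1
        simp only [LinearMap.smul_apply, Module.End.one_apply] at h2
        have h3 : (μ ^ (p ^ j) - 1) • v = 0 := by rw [sub_smul, h2, one_smul, sub_self]
        exact sub_eq_zero.1 ((smul_eq_zero.1 h3).resolve_right hv)
      obtain ⟨i, hi1, hi2⟩ := exists_prime_order_pow p j μ hμ1 hμj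
      have hfin : Module.finrank K V ≤ m := by
        have h1 := hmult (z ^ (p ^ i)) (μ ^ (p ^ i)) hi1 hi2
        have h2 : Module.End.eigenspace (ρ (z ^ (p ^ i))) (μ ^ (p ^ i)) = ⊤ := by
          rw [eq_top_iff]
          intro v _
          rw [Module.End.mem_eigenspace_iff, map_pow, hμ, smul_pow, one_pow]
          simp
        rw [h2, finrank_top] at h1
        exact h1
      exact main_ne_p p K hpK n V hn P hP ρ k (by omega)


/-- Cross-characteristic `p`-subgroups of `GL_n(F)`, `F` finite with `q` elements: the `k`-th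
derived subgroup is trivial as soon as `n / e < p ^ k`, `e` the order of `q` modulo `p`. -/
theorem gl_pgroup_dl {F : Type*} [Field F] [Fintype F] (q : ℕ) (hF : Fintype.card F = q) (p : ℕ)
    [Fact p.Prime] (hpq : ¬ p ∣ q) (n : ℕ) (P : Subgroup (Matrix.GeneralLinearGroup (Fin n) F))
    (hP : IsPGroup p P) (k : ℕ) (hk : n / orderOf (q : ZMod p) < p ^ k) :
    derivedSeries ↥P k = ⊥ := by
  classical
  let K := AlgebraicClosure F
  let φ : Matrix.GeneralLinearGroup (Fin n) F →* Module.End K (Fin n → K) :=
    ((Matrix.toLinAlgEquiv' : Matrix (Fin n) (Fin n) K ≃ₐ[K] Module.End K (Fin n → K)) :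
        Matrix (Fin n) (Fin n) K →* Module.End K (Fin n → K)).comp
      ((Units.coeHom (Matrix (Fin n) (Fin n) K)).comp
        (Matrix.GeneralLinearGroup.map (algebraMap F K)))
  have hφ : Function.Injective φ := by
    intro A B h
    have h1 : ((Matrix.GeneralLinearGroup.map (algebraMap F K) A :
        Matrix.GeneralLinearGroup (Fin n) K) : Matrix (Fin n) (Fin n) K) =
        ((Matrix.GeneralLinearGroup.map (algebraMap F K) B :
        Matrix.GeneralLinearGroup (Fin n) K) : Matrix (Fin n) (Fin n) K) :=
      (Matrix.toLinAlgEquiv' : Matrix (Fin n) (Fin n) K ≃ₐ[K] Module.End K (Fin n → K)).injective h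
    apply Units.ext
    ext i j
    have h2 := congrFun (congrFun h1 i) j
    have h3 : algebraMap F K (A i j) = algebraMap F K (B i j) := by
      rw [← Matrix.GeneralLinearGroup.map_apply, ← Matrix.GeneralLinearGroup.map_apply]
      exact h2
    exact (algebraMap F K).injective h3
  let ρ' : P →* Module.End K (Fin n → K) := φ.comp P.subtype
  have hker : ρ'.ker = ⊥ := (MonoidHom.ker_eq_bot_iff _).2 (hφ.comp P.subtype_injective)
  have hfin : Module.finrank K (Fin n → K) = n := Module.finrank_fin_fun K
  have hp : p.Prime := Fact.out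
  obtain ⟨r, hr⟩ := CharP.exists F
  haveI := hr
  obtain ⟨⟨f, hfpos⟩, hr', hcard⟩ := FiniteField.card F r
  haveI : Fact r.Prime := ⟨hr'⟩
  have hq : q = r ^ f := by rw [← hF]; exact hcard
  haveI : CharP K r := charP_of_injective_algebraMap (algebraMap F K).injective r
  have hpK : (p : K) ≠ 0 := by
    intro h
    have h1 : r ∣ p := (CharP.cast_eq_zero_iff K r p).1 h
    have h2 : r = p := (Nat.prime_dvd_prime_iff_eq hr' hp).1 h1
    apply hpq
    rw [hq, ← h2]
    exact dvd_pow_self r hfpos.ne'
  have hq0 : 0 < q := by rw [hq]; exact pow_pos hr'.pos f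
  have hadd : ∀ a b : K, (a + b) ^ q = a ^ q + b ^ q := by
    intro a b
    rw [hq]
    exact add_pow_char_pow a b r f
  have hqp : (q : ZMod p) ≠ 0 := by
    intro h
    exact hpq ((ZMod.natCast_eq_zero_iff q p).1 h)
  have hepos : 0 < orderOf (q : ZMod p) := by
    rw [orderOf_pos_iff, isOfFinOrder_iff_pow_eq_one]
    exact ⟨p - 1, by have := hp.two_le; omega, ZMod.pow_card_sub_one_eq_one hqp⟩
  have hmult : ∀ x : P, ∀ ω : K, ω ≠ 1 → ω ^ p = 1 →
      Module.finrank K (Module.End.eigenspace (ρ' x) ω) ≤ n / orderOf (q : ZMod p) := by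
    intro x ω h1 h2
    rw [Nat.le_div_iff_mul_le hepos, mul_comm]
    exact frob_mult q hq0 hadd
      ((Matrix.GeneralLinearGroup.map (algebraMap F K) (x : Matrix.GeneralLinearGroup (Fin n) F) :
        Matrix.GeneralLinearGroup (Fin n) K) : Matrix (Fin n) (Fin n) K) (by
      intro i j
      rw [Matrix.GeneralLinearGroup.map_apply, ← map_pow, ← hF, FiniteField.pow_card]) p hqp ω h1 h2
  rw [eq_bot_iff, ← hker]
  exact main_mult_p p K hpK (n / orderOf (q : ZMod p)) k hk n (Fin n → K) hfin P hP ρ' hmult

end Cfsg.Agent.Lib.helper73.DLin
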