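import Cfsg.Agent.Lib.helper69.SymSylowDL
import Cfsg.Agent.Lib.helper73.DLinA

set_option autoImplicit false

/-!
# Linear `p`-groups of large derived length: iterated induced representations
-/

namespace Cfsg.Agent.Lib.helper73.DLin

open Equiv Cfsg.Agent.Lib.helper69

universe u

section Ind
variable (p : ℕ) [Fact p.Prime] {Ω : Type*} {F : Type*} [Field F] {V : Type*} [AddCommGroup V]
  [Module F V]

theorem wr2Perm_inj [Nonempty Ω] {c c' : ZMod p} {h h' : ZMod p → Perm Ω}
    (e : wr2Perm p c h = wr2Perm p c' h') : c = c' ∧ h = h' := by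
  obtain ⟨ω₀⟩ := ‹Nonempty Ω›
  have hc : c = c' := by
    have := congrArg (fun g : Perm (ZMod p × Ω) => (g (0, ω₀)).1) e
    simpa using this
  refine ⟨hc, ?_⟩
  funext x
  apply Equiv.ext
  intro ω
  have := congrArg (fun g : Perm (ZMod p × Ω) => (g (x, ω)).2) e
  simpa using this

/-- The twisted permutation operator on `ZMod p → V`. -/
def indOp (H : Subgroup (Perm Ω)) (ρ : H →* Module.End F V) (c : ZMod p) (h : ZMod p → H) :
    Module.End F (ZMod p → V) :=
  LinearMap.pi (fun x => (ρ (h (x - c))).comp (LinearMap.proj (x - c)))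

theorem indOp_apply (H : Subgroup (Perm Ω)) (ρ : H →* Module.End F V) (c : ZMod p)
    (h : ZMod p → H) (f : ZMod p → V) (x : ZMod p) :
    indOp p H ρ c h f x = ρ (h (x - c)) (f (x - c)) := rfl

theorem indOp_mul (H : Subgroup (Perm Ω)) (ρ : H →* Module.End F V) (c d : ZMod p)
    (h k : ZMod p → H) :
    indOp p H ρ c h * indOp p H ρ d k = indOp p H ρ (d + c) (fun x => h (x + d) * k x) := by
  apply LinearMap.ext
  intro f
  funext x
  have e1 : x - (d + c) + d = x - c := by ring
  have e2 : x - c - d = x - (d + c) := by ring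
  rw [Module.End.mul_apply, indOp_apply, indOp_apply, indOp_apply, e1, e2, map_mul,
    Module.End.mul_apply]

theorem indOp_one (H : Subgroup (Perm Ω)) (ρ : H →* Module.End F V) :
    indOp p H ρ 0 1 = 1 := by
  apply LinearMap.ext
  intro f
  funext x
  rw [indOp_apply, sub_zero, Pi.one_apply, map_one, Module.End.one_apply, Module.End.one_apply]

theorem wr2_data (H : Subgroup (Perm Ω)) (g : wr2Sub p H) :
    ∃ (c : ZMod p) (h : ZMod p → H),
      (g : Perm (ZMod p × Ω)) = wr2Perm p c (fun x => (h x : Perm Ω)) := by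
  obtain ⟨c, h, hh, hg⟩ := g.2
  exact ⟨c, fun x => ⟨h x, hh x⟩, hg⟩

noncomputable def wrC (H : Subgroup (Perm Ω)) (g : wr2Sub p H) : ZMod p :=
  (wr2_data p H g).choose

noncomputable def wrH (H : Subgroup (Perm Ω)) (g : wr2Sub p H) : ZMod p → H :=
  (wr2_data p H g).choose_spec.choose

theorem wr_spec (H : Subgroup (Perm Ω)) (g : wr2Sub p H) :
    (g : Perm (ZMod p × Ω)) = wr2Perm p (wrC p H g) (fun x => (wrH p H g x : Perm Ω)) :=
  (wr2_data p H g).choose_spec.choose_spec

theorem wr_uniq [Nonempty Ω] (H : Subgroup (Perm Ω)) (g : wr2Sub p H) (c : ZMod p)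
    (h : ZMod p → H) (e : (g : Perm (ZMod p × Ω)) = wr2Perm p c (fun x => (h x : Perm Ω))) :
    wrC p H g = c ∧ wrH p H g = h := by
  have := wr2Perm_inj p ((wr_spec p H g).symm.trans e)
  refine ⟨this.1, ?_⟩
  funext x
  exact Subtype.ext (congrFun this.2 x)

/-- The representation of `H ≀ Z_p` induced from a representation of `H`. -/
noncomputable def indHom [Nonempty Ω] (H : Subgroup (Perm Ω)) (ρ : H →* Module.End F V) :
    wr2Sub p H →* Module.End F (ZMod p → V) where
  toFun g := indOp p H ρ (wrC p H g) (wrH p H g)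
  map_one' := by
    have := wr_uniq p H 1 0 1 (wr2Perm_one p).symm
    rw [this.1, this.2]
    exact indOp_one p H ρ
  map_mul' g g' := by
    have := wr_uniq p H (g * g') (wrC p H g' + wrC p H g)
      (fun x => wrH p H g (x + wrC p H g') * wrH p H g' x) (by
        rw [Subgroup.coe_mul]
        conv_lhs => rw [wr_spec p H g, wr_spec p H g']
        rw [wr2Perm_mul]
        rfl)
    rw [this.1, this.2, indOp_mul]

theorem indHom_injective [Nonempty Ω] [Nontrivial V] (H : Subgroup (Perm Ω))
    (ρ : H →* Module.End F V) (hρ : Function.Injective ρ) :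
    Function.Injective (indHom p H ρ) := by
  rw [injective_iff_map_eq_one]
  intro g hg
  have hg' : indOp p H ρ (wrC p H g) (wrH p H g) = 1 := hg
  obtain ⟨v, hv⟩ := exists_ne (0 : V)
  have hc : wrC p H g = 0 := by
    by_contra hc
    have h1 := congrFun (congrArg (fun T : Module.End F (ZMod p → V) => T (Pi.single 0 v)) hg')
      (wrC p H g)
    simp only [indOp_apply, sub_self, Module.End.one_apply] at h1
    rw [Pi.single_eq_same, Pi.single_eq_of_ne hc] at h1
    exact hv (rho_injective ρ _ (by rw [h1, map_zero]))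
  have hh : wrH p H g = 1 := by
    funext x
    apply hρ
    rw [Pi.one_apply, map_one]
    ext w
    have h1 := congrFun (congrArg (fun T : Module.End F (ZMod p → V) => T (fun _ => w)) hg') x
    simp only [indOp_apply, Module.End.one_apply] at h1
    rw [hc, sub_zero] at h1
    simpa using h1
  apply Subtype.ext
  rw [wr_spec p H g, hc, hh]
  exact wr2Perm_one p

end Ind

section Exists
variable (p : ℕ) [Fact p.Prime] (F : Type u) [Field F] [Fintype F]

/-- A `p`-group of derived length greater than `k` with a faithful representation of degree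
`e * p ^ k` over the finite field `F`, where `p` divides `|F| ^ e - 1`. -/
theorem exists_pgroup_rep (e : ℕ) (he : 0 < e) (hpe : p ∣ Fintype.card F ^ e - 1) (k : ℕ) :
    ∃ (Ω : Type u) (_ : Finite Ω) (_ : Nonempty Ω) (K : Subgroup (Perm Ω)) (V : Type u)
      (_ : AddCommGroup V) (_ : Module F V) (_ : Module.Finite F V),
      IsPGroup p K ∧ derivedSeries K k ≠ ⊥ ∧ Module.finrank F V = e * p ^ k ∧
        ∃ ρ : K →* Module.End F V, Function.Injective ρ := by
  classical
  induction k with
  | zero =>
    let G := Matrix.GeneralLinearGroup (Fin e) F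
    have hcard : p ∣ Nat.card G := by
      rw [Matrix.card_GL_field]
      have h0 : (Fintype.card F ^ e - 1) =
          Fintype.card F ^ e - Fintype.card F ^ ((⟨0, he⟩ : Fin e) : ℕ) := by simp
      rw [h0] at hpe
      exact hpe.trans (Finset.dvd_prod_of_mem _ (Finset.mem_univ _))
    obtain ⟨g, hg⟩ := exists_prime_orderOf_dvd_card' p hcard
    have hinj : Function.Injective (MulAction.toPermHom G G) := MulAction.toPerm_injective
    let K : Subgroup (Perm G) := (Subgroup.zpowers g).map (MulAction.toPermHom G G)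
    let φ₀ : G →* Module.End F (Fin e → F) :=
      ((Matrix.toLinAlgEquiv' : Matrix (Fin e) (Fin e) F ≃ₐ[F] Module.End F (Fin e → F)) :
        Matrix (Fin e) (Fin e) F →* Module.End F (Fin e → F)).comp (Units.coeHom _)
    have hφ₀ : Function.Injective φ₀ := by
      intro A B h
      apply Units.ext
      exact (Matrix.toLinAlgEquiv' :
        Matrix (Fin e) (Fin e) F ≃ₐ[F] Module.End F (Fin e → F)).injective h
    let eq := (Subgroup.zpowers g).equivMapOfInjective _ hinj
    refine ⟨G, inferInstance, ⟨1⟩, K, Fin e → F, inferInstance, inferInstance, inferInstance,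
      ?_, ?_, ?_, (φ₀.comp (Subgroup.zpowers g).subtype).comp eq.symm.toMonoidHom, ?_⟩
    · have h1 : IsPGroup p (Subgroup.zpowers g) :=
        IsPGroup.of_card (n := 1) (by rw [Nat.card_zpowers, hg, pow_one])
      exact h1.map _
    · rw [derivedSeries_zero]
      intro h
      have hg1 : g ≠ 1 := by
        intro h1
        rw [h1, orderOf_one] at hg
        exact (Fact.out : p.Prime).one_lt.ne hg
      have hmem : (eq ⟨g, Subgroup.mem_zpowers g⟩ : K) ∈ (⊤ : Subgroup K) := Subgroup.mem_top _
      rw [h, Subgroup.mem_bot] at hmem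
      have h2 := eq.injective (hmem.trans (map_one eq).symm)
      exact hg1 (congrArg Subtype.val h2)
    · simp
    · exact (hφ₀.comp Subtype.val_injective).comp eq.symm.injective
  | succ k ih =>
    obtain ⟨Ω, hfin, hne, K, V, i1, i2, i3, hK, hd, hV, ρ, hρ⟩ := ih
    haveI : Nontrivial V := Module.nontrivial_of_finrank_pos (R := F) (by
      rw [hV]
      exact Nat.mul_pos he (pow_pos (Fact.out : p.Prime).pos _))
    refine ⟨ZMod p × Ω, inferInstance, inferInstance, wr2Sub p K, ZMod p → V, inferInstance,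
      inferInstance, inferInstance, isPGroup_wr2Sub p K hK,
      derivedSeries_wr2Sub_ne_bot p K k hd, ?_, indHom p K ρ, indHom_injective p K ρ hρ⟩
    rw [Module.finrank_pi_fintype, Finset.sum_const, Finset.card_univ, ZMod.card, smul_eq_mul,
      hV, pow_succ]
    ring

/-- A `p`-subgroup of `GL_n(F)` of derived length greater than `k`, for `n ≥ e * p ^ k`. -/
theorem exists_sub_GL (e : ℕ) (he : 0 < e) (hpe : p ∣ Fintype.card F ^ e - 1) (k n : ℕ)
    (hn : e * p ^ k ≤ n) :
    ∃ Q : Subgroup (Matrix.GeneralLinearGroup (Fin n) F),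
      IsPGroup p Q ∧ derivedSeries Q k ≠ ⊥ := by
  classical
  obtain ⟨Ω, hfin, hne, K, V, i1, i2, i3, hK, hd, hV, ρ, hρ⟩ := exists_pgroup_rep p F e he hpe k
  let W := Fin (n - e * p ^ k) → F
  have hfr : Module.finrank F (V × W) = Module.finrank F (Fin n → F) := by
    rw [Module.finrank_prod, hV, Module.finrank_fin_fun, Module.finrank_fin_fun]
    omega
  let ε : (V × W) ≃ₗ[F] (Fin n → F) := LinearEquiv.ofFinrankEq _ _ hfr
  let ψ₁ : Module.End F V →* Module.End F (V × W) :=
    ((LinearMap.prodMapRingHom F V W : _ →+* _) : _ →* _).comp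
      (MonoidHom.inl (Module.End F V) (Module.End F W))
  have hψ₁ : Function.Injective ψ₁ := by
    intro S T h
    ext v
    have h1 := congrArg (fun X : Module.End F (V × W) => (X (v, 0)).1) h
    simpa [ψ₁] using h1
  let ψ₂ : Module.End F (V × W) →* Module.End F (Fin n → F) :=
    ((ε.conjRingEquiv : Module.End F (V × W) ≃+* Module.End F (Fin n → F)) : _ →* _)
  have hψ₂ : Function.Injective ψ₂ := ε.conjRingEquiv.injective
  let ψ₃ : Module.End F (Fin n → F) →* Matrix (Fin n) (Fin n) F :=
    ((LinearMap.toMatrixAlgEquiv' :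
      Module.End F (Fin n → F) ≃ₐ[F] Matrix (Fin n) (Fin n) F) : _ →* _)
  have hψ₃ : Function.Injective ψ₃ :=
    (LinearMap.toMatrixAlgEquiv' :
      Module.End F (Fin n → F) ≃ₐ[F] Matrix (Fin n) (Fin n) F).injective
  let θ : K →* Matrix (Fin n) (Fin n) F := ψ₃.comp (ψ₂.comp (ψ₁.comp ρ))
  have hθ : Function.Injective θ := hψ₃.comp (hψ₂.comp (hψ₁.comp hρ))
  let θ' : K →* Matrix.GeneralLinearGroup (Fin n) F := θ.toHomUnits
  have hθ' : Function.Injective θ' := by
    intro a b h
    apply hθ
    have h1 := congrArg (fun u : Matrix.GeneralLinearGroup (Fin n) F =>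
      (u : Matrix (Fin n) (Fin n) F)) h
    simpa [θ'] using h1
  refine ⟨θ'.range, hK.of_surjective θ'.rangeRestrict θ'.rangeRestrict_surjective, ?_⟩
  exact derivedSeries_ne_bot_of_injective θ'.rangeRestrict
    (MonoidHom.rangeRestrict_injective_iff.2 hθ') k hd

end Exists

end Cfsg.Agent.Lib.helper73.DLin
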