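/-
Tools for S4017 (helper73): p-elements, involutions, orbit counting for conjugation actions,
Burnside transfer for a subgroup, products of two abelian subgroups (Ito).
-/
import Mathlib

set_option autoImplicit false

open Subgroup

namespace Cfsg.Agent.Lib.helper73.EP

universe u
variable {G : Type u} [Group G]

/-- `x` is a `p`-element. -/
def Pel (p : ℕ) (x : G) : Prop := ∃ k : ℕ, x ^ p ^ k = 1

/-- `t` is an involution. -/
def Inv (t : G) : Prop := t ≠ 1 ∧ t * t = 1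

theorem pel_one (p : ℕ) : Pel p (1 : G) := ⟨0, by simp⟩

theorem Pel.conj {p : ℕ} {x : G} (h : Pel p x) (g : G) : Pel p (g * x * g⁻¹) := by
  obtain ⟨k, hk⟩ := h
  exact ⟨k, by rw [conj_pow, hk, mul_one, mul_inv_cancel]⟩

theorem Pel.pow {p : ℕ} {x : G} (h : Pel p x) (n : ℕ) : Pel p (x ^ n) := by
  obtain ⟨k, hk⟩ := h
  exact ⟨k, by rw [← pow_mul, mul_comm, pow_mul, hk, one_pow]⟩

theorem Pel.inv {p : ℕ} {x : G} (h : Pel p x) : Pel p x⁻¹ := by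
  obtain ⟨k, hk⟩ := h
  exact ⟨k, by rw [inv_pow, hk, inv_one]⟩

theorem Pel.of_mem {p : ℕ} {K : Subgroup G} (hK : IsPGroup p K) {x : G} (hx : x ∈ K) :
    Pel p x := by
  obtain ⟨k, hk⟩ := hK ⟨x, hx⟩
  exact ⟨k, by simpa using congrArg Subtype.val hk⟩

theorem Pel.isPGroup_zpowers {p : ℕ} {x : G} (h : Pel p x) : IsPGroup p (zpowers x) := by
  rintro ⟨y, hy⟩
  obtain ⟨n, rfl⟩ := mem_zpowers_iff.mp hy
  obtain ⟨k, hk⟩ := h
  refine ⟨k, Subtype.ext ?_⟩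
  simp only [SubmonoidClass.mk_pow, OneMemClass.coe_one]
  rw [← zpow_natCast, ← zpow_mul, mul_comm, zpow_mul, zpow_natCast, hk, one_zpow]

theorem Pel.orderOf {p : ℕ} (hp : p.Prime) {x : G} (h : Pel p x) : ∃ k : ℕ, orderOf x = p ^ k := by
  obtain ⟨k, hk⟩ := h
  obtain ⟨j, -, hj⟩ := (Nat.dvd_prime_pow hp).mp (orderOf_dvd_of_pow_eq_one hk)
  exact ⟨j, hj⟩

theorem pel_of_orderOf {p : ℕ} {x : G} {k : ℕ} (h : orderOf x = p ^ k) : Pel p x :=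
  ⟨k, by rw [← h, pow_orderOf_eq_one]⟩

/-- A `p`-element that is also an `r`-element for a different prime is trivial. -/
theorem Pel.eq_one_of_pel {p r : ℕ} (hp : p.Prime) (hr : r.Prime) (hpr : p ≠ r) {x : G}
    (h1 : Pel p x) (h2 : Pel r x) : x = 1 := by
  obtain ⟨i, hi⟩ := h1.orderOf hp
  obtain ⟨j, hj⟩ := h2.orderOf hr
  rcases Nat.eq_zero_or_pos i with h0 | h0
  · rw [h0, pow_zero] at hi
    exact orderOf_eq_one_iff.mp hi
  · exfalso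
    have : p ∣ r ^ j := by
      rw [← hj, hi]; exact dvd_pow_self p h0.ne'
    exact hpr ((Nat.prime_dvd_prime_iff_eq hp hr).mp (hp.dvd_of_dvd_pow this))

theorem Pel.eq_one_of_sq {p : ℕ} (hp : p.Prime) (hp2 : p ≠ 2) {x : G}
    (h1 : Pel p x) (h2 : x * x = 1) : x = 1 :=
  h1.eq_one_of_pel hp Nat.prime_two hp2 ⟨1, by rw [pow_one, pow_two, h2]⟩

theorem Inv.pel {t : G} (h : Inv t) : Pel 2 t := ⟨1, by rw [pow_one, pow_two, h.2]⟩

theorem Inv.inv_eq {t : G} (h : Inv t) : t⁻¹ = t := inv_eq_of_mul_eq_one_left h.2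

theorem Inv.conj {t : G} (h : Inv t) (g : G) : Inv (g * t * g⁻¹) := by
  refine ⟨fun h1 => h.1 ?_, ?_⟩
  · have : t = g⁻¹ * (g * t * g⁻¹) * g := by group
    rw [this, h1]; group
  · have : g * t * g⁻¹ * (g * t * g⁻¹) = g * (t * t) * g⁻¹ := by group
    rw [this, h.2]; group

/-- An involution is not a `p`-element for odd `p`. -/
theorem Inv.not_pel {p : ℕ} (hp : p.Prime) (hp2 : p ≠ 2) {t : G} (h : Inv t) : ¬ Pel p t :=
  fun h1 => h.1 (h1.eq_one_of_sq hp hp2 h.2)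

/-- In a finite group, one-sided normalising implies membership in the normaliser. -/
theorem mem_normalizer_of_conj_mem [Finite G] (H : Subgroup G) (g : G)
    (h : ∀ s ∈ H, g * s * g⁻¹ ∈ H) : g ∈ normalizer (H : Set G) := by
  intro n
  refine ⟨fun hn => h n hn, fun hn => ?_⟩
  let φ : H → H := fun s => ⟨g * s * g⁻¹, h s s.2⟩
  have hinj : Function.Injective φ := by
    intro a b hab
    have := congrArg Subtype.val hab
    simp only [φ] at this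
    exact Subtype.ext (mul_left_cancel (mul_right_cancel this))
  obtain ⟨s, hs⟩ := (Finite.injective_iff_surjective.mp hinj) ⟨g * n * g⁻¹, hn⟩
  have := congrArg Subtype.val hs
  simp only [φ] at this
  have e : (s : G) = n := mul_left_cancel (mul_right_cancel this)
  rw [← e]; exact s.2

theorem conj_mem_of_mem_normalizer {H : Subgroup G} {g : G} (hg : g ∈ normalizer (H : Set G))
    {s : G} (hs : s ∈ H) : g * s * g⁻¹ ∈ H := (hg s).mp hs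

theorem conj_inv_mem_of_mem_normalizer {H : Subgroup G} {g : G} (hg : g ∈ normalizer (H : Set G))
    {s : G} (hs : s ∈ H) : g⁻¹ * s * g ∈ H := by
  have := (inv_mem hg s).mp hs
  simpa using this

/-- A `q`-element normalising a Sylow `q`-subgroup lies in it. -/
theorem mem_sylow_of_pel [Finite G] {q : ℕ} [Fact q.Prime] (Q : Sylow q G) {g : G}
    (hg : Pel q g) (hn : ∀ s ∈ Q, g * s * g⁻¹ ∈ Q) : g ∈ Q := by
  have h1 : zpowers g ≤ normalizer ((Q : Subgroup G) : Set G) := by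
    rw [zpowers_le]; exact mem_normalizer_of_conj_mem _ g hn
  have h2 : IsPGroup q (zpowers g ⊔ (Q : Subgroup G) : Subgroup G) :=
    hg.isPGroup_zpowers.to_sup_of_normal_right' Q.isPGroup' h1
  have h3 := Q.is_maximal' h2 le_sup_right
  have : g ∈ (zpowers g ⊔ (Q : Subgroup G) : Subgroup G) := le_sup_left (a := zpowers g) (mem_zpowers g)
  rw [h3] at this
  exact this


/-- Orbit counting for the conjugation action of a `p`-subgroup on an invariant set. -/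
theorem card_modEq_fixed [Finite G] {p : ℕ} [Fact p.Prime] (K : Subgroup G) (hK : IsPGroup p K)
    (S : Set G) (hS : ∀ k ∈ K, ∀ s ∈ S, k * s * k⁻¹ ∈ S) :
    S.ncard ≡ {s | s ∈ S ∧ ∀ k ∈ K, k * s * k⁻¹ = s}.ncard [MOD p] := by
  classical
  letI : MulAction K S :=
    { smul := fun k s => ⟨(k : G) * s * (k : G)⁻¹, hS k k.2 s s.2⟩
      one_smul := fun s => Subtype.ext (by
        show ((1 : K) : G) * s * ((1 : K) : G)⁻¹ = s
        simp)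
      mul_smul := fun a b s => Subtype.ext (by
        show ((a * b : K) : G) * s * ((a * b : K) : G)⁻¹ = (a : G) * ((b : G) * s * (b : G)⁻¹) * (a : G)⁻¹
        simp [mul_assoc]) }
  have h := hK.card_modEq_card_fixedPoints S
  rw [Nat.card_coe_set_eq] at h
  have e : Nat.card (MulAction.fixedPoints K S) =
      {s | s ∈ S ∧ ∀ k ∈ K, k * s * k⁻¹ = s}.ncard := by
    rw [Nat.card_coe_set_eq, ← Set.ncard_image_of_injective _ Subtype.val_injective]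
    congr 1
    ext x
    simp only [Set.mem_image, MulAction.mem_fixedPoints, Set.mem_setOf_eq]
    constructor
    · rintro ⟨⟨y, hy⟩, hfix, rfl⟩
      exact ⟨hy, fun k hk => congrArg Subtype.val (hfix ⟨k, hk⟩)⟩
    · rintro ⟨hx, hfix⟩
      exact ⟨⟨x, hx⟩, fun k => Subtype.ext (hfix k k.2), rfl⟩
  rw [e] at h
  exact h

/-- Burnside's transfer theorem applied inside a `{2,p}`-subgroup `L` containing a Sylow
`2`-subgroup `Q` of `G` with `N_L(Q) = C_L(Q)`. -/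
theorem burnside_sub [Finite G] {p : ℕ} (hp : p.Prime) (hp2 : p ≠ 2) (L : Subgroup G)
    (Q : Sylow 2 G) (hQL : (Q : Subgroup G) ≤ L)
    (hNC : ∀ g ∈ L, (∀ s ∈ Q, g * s * g⁻¹ ∈ Q) → ∀ s ∈ Q, g * s * g⁻¹ = s)
    (hL : ∀ r : ℕ, r.Prime → r ∣ Nat.card L → r = 2 ∨ r = p) :
    ∃ K : Subgroup G, K ≤ L ∧ IsPGroup p K ∧ (∀ g ∈ L, ∀ x ∈ K, g * x * g⁻¹ ∈ K) ∧
      Nat.card K * Nat.card Q = Nat.card L ∧ (∀ x ∈ L, Pel p x → x ∈ K) := by
  haveI : Fact (Nat.Prime 2) := ⟨Nat.prime_two⟩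
  let QL : Sylow 2 L := Q.subtype hQL
  have hQLcoe : (QL : Subgroup L) = (Q : Subgroup G).subgroupOf L := Sylow.coe_subtype _ _
  have hP : normalizer ((QL : Subgroup L) : Set L) ≤ centralizer ((QL : Subgroup L) : Set L) := by
    intro g hg
    rw [mem_centralizer_iff]
    intro s hs
    have hs' : (s : G) ∈ (Q : Subgroup G) := by
      have hs2 : s ∈ (QL : Subgroup L) := hs
      rw [hQLcoe] at hs2; exact mem_subgroupOf.mp hs2
    have hgn : ∀ s' ∈ (Q : Subgroup G), (g : G) * s' * (g : G)⁻¹ ∈ (Q : Subgroup G) := by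
      intro s' hs''
      have h1 : (⟨s', hQL hs''⟩ : L) ∈ (QL : Subgroup L) := by
        rw [hQLcoe]; exact mem_subgroupOf.mpr hs''
      have h2 := (hg ⟨s', hQL hs''⟩).mp h1
      have h3 : g * ⟨s', hQL hs''⟩ * g⁻¹ ∈ (QL : Subgroup L) := h2
      rw [hQLcoe] at h3
      exact mem_subgroupOf.mp h3
    have h4 := hNC g g.2 hgn s hs'
    apply Subtype.ext
    simp only [Subgroup.coe_mul]
    calc (s : G) * g = ((g : G) * s * (g : G)⁻¹) * g := by rw [h4]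
      _ = g * s := by group
  let f := MonoidHom.transferSylow QL hP
  have hc : IsComplement' f.ker (QL : Subgroup L) := MonoidHom.ker_transferSylow_isComplement' QL hP
  have hcard : Nat.card f.ker * Nat.card (QL : Subgroup L) = Nat.card L := hc.card_mul_card
  have hQLcard : Nat.card (QL : Subgroup L) = Nat.card (Q : Subgroup G) := by
    rw [hQLcoe]; exact Nat.card_congr (Subgroup.subgroupOfEquivOfLe hQL).toEquiv
  have hKcard : Nat.card (f.ker.map L.subtype) = Nat.card f.ker :=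
    Subgroup.card_map_of_injective L.subtype_injective
  refine ⟨f.ker.map L.subtype, map_subtype_le _, ?_, ?_, ?_, ?_⟩
  · -- p-group
    have hidx : Nat.card f.ker = (QL : Subgroup L).index := by
      have h1 := (QL : Subgroup L).card_mul_index
      have hpos : 0 < Nat.card (QL : Subgroup L) := Nat.card_pos
      have : Nat.card f.ker * Nat.card (QL : Subgroup L) =
          (QL : Subgroup L).index * Nat.card (QL : Subgroup L) := by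
        rw [hcard, mul_comm, h1]
      exact Nat.eq_of_mul_eq_mul_right hpos this
    have hodd : ¬ 2 ∣ Nat.card f.ker := by
      rw [hidx]; exact QL.not_dvd_index
    have hpos : Nat.card f.ker ≠ 0 := Nat.card_pos.ne'
    have hpow := Nat.eq_prime_pow_of_unique_prime_dvd (p := p) hpos (by
      intro d hd hdvd
      have h1 : d ∣ Nat.card L := by rw [← hcard]; exact Dvd.dvd.mul_right hdvd _
      rcases hL d hd h1 with h2 | h2
      · exact absurd (h2 ▸ hdvd) hodd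
      · exact h2)
    exact IsPGroup.of_card (hKcard.trans hpow)
  · intro g hg x hx
    obtain ⟨x', hx', rfl⟩ := Subgroup.mem_map.mp hx
    refine Subgroup.mem_map.mpr ⟨⟨g, hg⟩ * x' * ⟨g, hg⟩⁻¹, ?_, by simp⟩
    exact (inferInstance : f.ker.Normal).conj_mem x' hx' ⟨g, hg⟩
  · rw [hKcard, ← hQLcard]; exact hcard
  · intro x hx hpel
    refine Subgroup.mem_map.mpr ⟨⟨x, hx⟩, ?_, rfl⟩
    rw [MonoidHom.mem_ker]
    obtain ⟨k, hk⟩ := hpel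
    have h1 : Pel p (f ⟨x, hx⟩) := ⟨k, by
      rw [← map_pow]
      have : (⟨x, hx⟩ : L) ^ p ^ k = 1 := Subtype.ext (by simpa using hk)
      rw [this, map_one]⟩
    have h2 : Pel 2 (f ⟨x, hx⟩) := by
      obtain ⟨j, hj⟩ := QL.isPGroup' (f ⟨x, hx⟩)
      exact ⟨j, hj⟩
    exact h1.eq_one_of_pel hp Nat.prime_two hp2 h2


/-! ### Ito: a product of two abelian subgroups has abelian commutator `[A,B]`. -/

theorem ito_step1 (A B L : Subgroup G) (hA : ∀ a ∈ A, ∀ a' ∈ A, a * a' = a' * a)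
    (hAL : A ≤ L) (hBL : B ≤ L) (hfac : ∀ g ∈ L, ∃ a ∈ A, ∃ b ∈ B, g = a * b)
    {a₁ b : G} (ha₁ : a₁ ∈ A) (hb : b ∈ B) :
    ∃ b₂ ∈ B, ∀ a ∈ A, a₁ * (a * b * a⁻¹ * b⁻¹) * a₁⁻¹ = a * b₂ * a⁻¹ * b₂⁻¹ := by
  have hg : (a₁ * b * a₁⁻¹)⁻¹ ∈ L :=
    L.inv_mem (L.mul_mem (L.mul_mem (hAL ha₁) (hBL hb)) (L.inv_mem (hAL ha₁)))
  obtain ⟨a', ha', b', hb', h⟩ := hfac _ hg
  refine ⟨b'⁻¹, B.inv_mem hb', fun a ha => ?_⟩
  have hg2 : a₁ * b * a₁⁻¹ = b'⁻¹ * a'⁻¹ := by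
    rw [← mul_inv_rev, ← h, inv_inv]
  have hc1 : a₁ * a * a₁⁻¹ = a := by rw [hA a₁ ha₁ a ha]; group
  have hc2 : a'⁻¹ * a⁻¹ * a' = a⁻¹ := by
    have := hA a' ha' a ha
    calc a'⁻¹ * a⁻¹ * a' = a'⁻¹ * a⁻¹ * (a' * a) * a⁻¹ := by group
      _ = a'⁻¹ * a⁻¹ * (a * a') * a⁻¹ := by rw [this]
      _ = a⁻¹ := by group
  calc a₁ * (a * b * a⁻¹ * b⁻¹) * a₁⁻¹
      = (a₁ * a * a₁⁻¹) * (a₁ * b * a₁⁻¹) * (a₁ * a * a₁⁻¹)⁻¹ * (a₁ * b * a₁⁻¹)⁻¹ := by group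
    _ = a * (b'⁻¹ * a'⁻¹) * a⁻¹ * (b'⁻¹ * a'⁻¹)⁻¹ := by rw [hg2, hc1]
    _ = a * b'⁻¹ * (a'⁻¹ * a⁻¹ * a') * b'⁻¹⁻¹ := by group
    _ = a * b'⁻¹ * a⁻¹ * b'⁻¹⁻¹ := by rw [hc2]

theorem ito_step2 (A B L : Subgroup G) (hB : ∀ b ∈ B, ∀ b' ∈ B, b * b' = b' * b)
    (hAL : A ≤ L) (hBL : B ≤ L) (hfac : ∀ g ∈ L, ∃ a ∈ A, ∃ b ∈ B, g = a * b)
    {b₁ a : G} (hb₁ : b₁ ∈ B) (ha : a ∈ A) :
    ∃ a₃ ∈ A, ∀ b ∈ B, b₁ * (a * b * a⁻¹ * b⁻¹) * b₁⁻¹ = a₃ * b * a₃⁻¹ * b⁻¹ := by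
  have hg : b₁ * a * b₁⁻¹ ∈ L :=
    L.mul_mem (L.mul_mem (hBL hb₁) (hAL ha)) (L.inv_mem (hBL hb₁))
  obtain ⟨a', ha', b', hb', h⟩ := hfac _ hg
  refine ⟨a', ha', fun b hb => ?_⟩
  have hc1 : b₁ * b * b₁⁻¹ = b := by rw [hB b₁ hb₁ b hb]; group
  have hc2 : b' * b * b'⁻¹ = b := by rw [hB b' hb' b hb]; group
  calc b₁ * (a * b * a⁻¹ * b⁻¹) * b₁⁻¹
      = (b₁ * a * b₁⁻¹) * (b₁ * b * b₁⁻¹) * (b₁ * a * b₁⁻¹)⁻¹ * (b₁ * b * b₁⁻¹)⁻¹ := by group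
    _ = (a' * b') * b * (a' * b')⁻¹ * b⁻¹ := by rw [h, hc1]
    _ = a' * (b' * b * b'⁻¹) * a'⁻¹ * b⁻¹ := by group
    _ = a' * b * a'⁻¹ * b⁻¹ := by rw [hc2]

/-- Ito's lemma: commutators `[a,b]`, `a ∈ A`, `b ∈ B` pairwise commute when `L = A B`
with `A`, `B` abelian. -/
theorem ito_comm (A B L : Subgroup G) (hA : ∀ a ∈ A, ∀ a' ∈ A, a * a' = a' * a)
    (hB : ∀ b ∈ B, ∀ b' ∈ B, b * b' = b' * b) (hAL : A ≤ L) (hBL : B ≤ L)
    (hfac : ∀ g ∈ L, ∃ a ∈ A, ∃ b ∈ B, g = a * b)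
    {a a₁ b b₁ : G} (ha : a ∈ A) (ha₁ : a₁ ∈ A) (hb : b ∈ B) (hb₁ : b₁ ∈ B) :
    (a * b * a⁻¹ * b⁻¹) * (a₁ * b₁ * a₁⁻¹ * b₁⁻¹) =
      (a₁ * b₁ * a₁⁻¹ * b₁⁻¹) * (a * b * a⁻¹ * b⁻¹) := by
  -- apply the two steps with `a₁⁻¹`, `b₁⁻¹`
  have ha₁' := A.inv_mem ha₁
  have hb₁' := B.inv_mem hb₁
  obtain ⟨b₂, hb₂, h1⟩ := ito_step1 A B L hA hAL hBL hfac ha₁' hb
  obtain ⟨a₃, ha₃, h2⟩ := ito_step2 A B L hB hAL hBL hfac hb₁' ha
  set c := a * b * a⁻¹ * b⁻¹ with hc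
  have e1 : (a₁⁻¹ * b₁⁻¹) * c * (a₁⁻¹ * b₁⁻¹)⁻¹ = a₃ * b₂ * a₃⁻¹ * b₂⁻¹ := by
    calc (a₁⁻¹ * b₁⁻¹) * c * (a₁⁻¹ * b₁⁻¹)⁻¹ = a₁⁻¹ * (b₁⁻¹ * c * b₁⁻¹⁻¹) * a₁⁻¹⁻¹ := by group
      _ = a₁⁻¹ * (a₃ * b * a₃⁻¹ * b⁻¹) * a₁⁻¹⁻¹ := by rw [hc, h2 b hb]
      _ = a₃ * b₂ * a₃⁻¹ * b₂⁻¹ := h1 a₃ ha₃
  have e2 : (b₁⁻¹ * a₁⁻¹) * c * (b₁⁻¹ * a₁⁻¹)⁻¹ = a₃ * b₂ * a₃⁻¹ * b₂⁻¹ := by
    calc (b₁⁻¹ * a₁⁻¹) * c * (b₁⁻¹ * a₁⁻¹)⁻¹ = b₁⁻¹ * (a₁⁻¹ * c * a₁⁻¹⁻¹) * b₁⁻¹⁻¹ := by group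
      _ = b₁⁻¹ * (a * b₂ * a⁻¹ * b₂⁻¹) * b₁⁻¹⁻¹ := by rw [hc, h1 a ha]
      _ = a₃ * b₂ * a₃⁻¹ * b₂⁻¹ := h2 b₂ hb₂
  have e3 : (a₁⁻¹ * b₁⁻¹) * c * (a₁⁻¹ * b₁⁻¹)⁻¹ = (b₁⁻¹ * a₁⁻¹) * c * (b₁⁻¹ * a₁⁻¹)⁻¹ := by
    rw [e1, e2]
  calc c * (a₁ * b₁ * a₁⁻¹ * b₁⁻¹)
      = (b₁⁻¹ * a₁⁻¹)⁻¹ * ((b₁⁻¹ * a₁⁻¹) * c * (b₁⁻¹ * a₁⁻¹)⁻¹) * (b₁⁻¹ * a₁⁻¹) *
          (a₁ * b₁ * a₁⁻¹ * b₁⁻¹) := by group
    _ = (b₁⁻¹ * a₁⁻¹)⁻¹ * ((a₁⁻¹ * b₁⁻¹) * c * (a₁⁻¹ * b₁⁻¹)⁻¹) * (b₁⁻¹ * a₁⁻¹) *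
          (a₁ * b₁ * a₁⁻¹ * b₁⁻¹) := by rw [e3]
    _ = (a₁ * b₁ * a₁⁻¹ * b₁⁻¹) * c := by group

/-- If `L = Q B` with `Q` an elementary abelian Sylow `2`-subgroup, `B` abelian, and some
`y ∈ B` normalises `Q` without nontrivial fixed points, then `L` normalises `Q`. -/
theorem normal_of_ito [Finite G] (Q : Sylow 2 G) (B L : Subgroup G)
    (hQab : ∀ a ∈ Q, ∀ a' ∈ Q, a * a' = a' * a) (hQ2 : ∀ s ∈ Q, s * s = 1)
    (hB : ∀ b ∈ B, ∀ b' ∈ B, b * b' = b' * b) (hQL : (Q : Subgroup G) ≤ L) (hBL : B ≤ L)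
    (hfac : ∀ g ∈ L, ∃ a ∈ Q, ∃ b ∈ B, g = a * b)
    (y : G) (hy : y ∈ B) (hyn : ∀ s ∈ Q, y * s * y⁻¹ ∈ Q)
    (hyf : ∀ s ∈ Q, y * s * y⁻¹ = s → s = 1) :
    ∀ g ∈ L, ∀ s ∈ Q, g * s * g⁻¹ ∈ Q := by
  haveI : Fact (Nat.Prime 2) := ⟨Nat.prime_two⟩
  -- every element of `Q` is a commutator `s * y * s⁻¹ * y⁻¹`
  have hsurj : ∀ s ∈ Q, ∃ s' ∈ Q, s = s' * y * s'⁻¹ * y⁻¹ := by
    let φ : ↥(Q : Subgroup G) → ↥(Q : Subgroup G) := fun s =>
      ⟨s * y * (s : G)⁻¹ * y⁻¹, by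
        have h1 := hyn _ ((Q : Subgroup G).inv_mem s.2)
        have : (s : G) * y * (s : G)⁻¹ * y⁻¹ = s * (y * (s : G)⁻¹ * y⁻¹) := by group
        rw [this]; exact (Q : Subgroup G).mul_mem s.2 h1⟩
    have hinj : Function.Injective φ := by
      intro s₁ s₂ h
      have h1 := congrArg Subtype.val h
      simp only [φ] at h1
      have h2 : y * ((s₂ : G)⁻¹ * s₁) * y⁻¹ = (s₂ : G)⁻¹ * s₁ := by
        have h3 : (s₁ : G) * y * (s₁ : G)⁻¹ = s₂ * y * (s₂ : G)⁻¹ := mul_right_cancel h1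
        calc y * ((s₂ : G)⁻¹ * s₁) * y⁻¹
            = (s₂ : G)⁻¹ * (s₂ * y * (s₂ : G)⁻¹) * s₁ * y⁻¹ := by group
          _ = (s₂ : G)⁻¹ * (s₁ * y * (s₁ : G)⁻¹) * s₁ * y⁻¹ := by rw [h3]
          _ = (s₂ : G)⁻¹ * s₁ := by group
      have h4 := hyf _ ((Q : Subgroup G).mul_mem ((Q : Subgroup G).inv_mem s₂.2) s₁.2) h2
      exact Subtype.ext (by
        have : (s₁ : G) = s₂ * ((s₂ : G)⁻¹ * s₁) := by group
        rw [this, h4, mul_one])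
    intro s hs
    obtain ⟨s', hs'⟩ := (Finite.injective_iff_surjective.mp hinj) ⟨s, hs⟩
    exact ⟨s', s'.2, (congrArg Subtype.val hs').symm⟩
  -- conjugation by elements of `B`
  have hBn : ∀ x ∈ B, ∀ s ∈ Q, x * s * x⁻¹ ∈ Q := by
    intro x hx s hs
    set c := x * s * x⁻¹ * s⁻¹ with hc
    have hcomm : ∀ s'' ∈ Q, c * s'' = s'' * c := by
      intro s'' hs''
      obtain ⟨s', hs', rfl⟩ := hsurj s'' hs''
      have h1 := ito_comm (Q : Subgroup G) B L hQab hB hQL hBL hfac hs hs' hx hy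
      -- c = (s * x * s⁻¹ * x⁻¹)⁻¹
      have h2 : c = (s * x * s⁻¹ * x⁻¹)⁻¹ := by rw [hc]; group
      rw [h2]
      have h3 : (s * x * s⁻¹ * x⁻¹)⁻¹ * (s' * y * s'⁻¹ * y⁻¹) * (s * x * s⁻¹ * x⁻¹) =
          (s' * y * s'⁻¹ * y⁻¹) := by
        rw [mul_assoc, ← h1]; group
      calc (s * x * s⁻¹ * x⁻¹)⁻¹ * (s' * y * s'⁻¹ * y⁻¹)
          = ((s * x * s⁻¹ * x⁻¹)⁻¹ * (s' * y * s'⁻¹ * y⁻¹) * (s * x * s⁻¹ * x⁻¹)) *
              (s * x * s⁻¹ * x⁻¹)⁻¹ := by group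
        _ = (s' * y * s'⁻¹ * y⁻¹) * (s * x * s⁻¹ * x⁻¹)⁻¹ := by rw [h3]
    have hcs : c * s = s * c := hcomm s hs
    have hc2 : c * c = 1 := by
      have hs2 := hQ2 s hs
      have hsinv : s⁻¹ = s := inv_eq_of_mul_eq_one_left hs2
      calc c * c = c * (x * s * x⁻¹ * s⁻¹) := by rw [← hc]
        _ = c * (x * s * x⁻¹ * s) := by rw [hsinv]
        _ = x * s * x⁻¹ * s⁻¹ * (x * s * x⁻¹) * s := by rw [hc]; group
        _ = x * s * x⁻¹ * (s * c) := by rw [hc, hsinv]; group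
        _ = x * s * x⁻¹ * (c * s) := by rw [hcs]
        _ = x * (s * s) * x⁻¹ * (s⁻¹ * s) := by rw [hc]; group
        _ = 1 := by rw [hs2]; group
    have hcQ : c ∈ Q := by
      apply mem_sylow_of_pel Q ⟨1, by rw [pow_one, pow_two, hc2]⟩
      intro s'' hs''
      have := hcomm s'' hs''
      have e : c * s'' * c⁻¹ = s'' := by rw [this]; group
      rw [e]; exact hs''
    have : x * s * x⁻¹ = c * s := by rw [hc]; group
    rw [this]; exact (Q : Subgroup G).mul_mem hcQ hs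
  intro g hg s hs
  obtain ⟨a, ha, b, hb, rfl⟩ := hfac g hg
  have h1 := hBn b hb s hs
  have : a * b * s * (a * b)⁻¹ = a * (b * s * b⁻¹) * a⁻¹ := by group
  rw [this]
  exact (Q : Subgroup G).mul_mem ((Q : Subgroup G).mul_mem ha h1) ((Q : Subgroup G).inv_mem ha)


/-! ### `{2,p}`-subgroups -/

/-- `H` is a `{2,p}`-group. -/
def TwoP (p : ℕ) (H : Subgroup G) : Prop :=
  ∀ r : ℕ, r.Prime → r ∣ Nat.card H → r = 2 ∨ r = p

theorem TwoP.mono {p : ℕ} {H K : Subgroup G} [Finite H] (hH : TwoP p H) (hKH : K ≤ H) : TwoP p K :=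
  fun r hr hd => hH r hr (hd.trans (Subgroup.card_dvd_of_le hKH))

theorem TwoP.card_dvd [Finite G] {p : ℕ} (hp : p.Prime) {H : Subgroup G}
    (hH : TwoP p H) :
    Nat.card H ∣ 2 ^ (Nat.card G).factorization 2 * p ^ (Nat.card G).factorization p := by
  have hG0 : Nat.card G ≠ 0 := Nat.card_pos.ne'
  have hn0 : Nat.card H ≠ 0 := Nat.card_pos.ne'
  have hdvd : Nat.card H ∣ Nat.card G := Subgroup.card_subgroup_dvd_card H
  have h1 : 2 ^ (Nat.card H).factorization 2 * (Nat.card H / 2 ^ (Nat.card H).factorization 2) =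
      Nat.card H := Nat.ordProj_mul_ordCompl_eq_self (Nat.card H) 2
  have h2 : ¬ 2 ∣ Nat.card H / 2 ^ (Nat.card H).factorization 2 :=
    Nat.not_dvd_ordCompl Nat.prime_two hn0
  have hm0 : Nat.card H / 2 ^ (Nat.card H).factorization 2 ≠ 0 :=
    (Nat.ordCompl_pos 2 hn0).ne'
  have hmd : Nat.card H / 2 ^ (Nat.card H).factorization 2 ∣ Nat.card H :=
    Nat.ordCompl_dvd (Nat.card H) 2
  have h3 := Nat.eq_prime_pow_of_unique_prime_dvd (p := p) hm0 (by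
    intro d hd hdvd'
    rcases hH d hd (hdvd'.trans hmd) with h | h
    · exact absurd (h ▸ hdvd') h2
    · exact h)
  rw [← h1, h3]
  apply mul_dvd_mul
  · exact Nat.ordProj_dvd_ordProj_of_dvd hG0 hdvd 2
  · apply pow_dvd_pow
    have : p ^ (Nat.card H / 2 ^ (Nat.card H).factorization 2).primeFactorsList.length ∣
        Nat.card G := by
      rw [← h3]; exact hmd.trans hdvd
    exact (hp.pow_dvd_iff_le_factorization hG0).mp this

theorem TwoP.isPGroup_of_odd [Finite G] {p : ℕ} (hp : p.Prime) {H : Subgroup G}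
    (hH : TwoP p H) (hodd : ¬ 2 ∣ Nat.card H) : IsPGroup p H := by
  have h := hH.card_dvd hp
  have hc : (Nat.card H).Coprime (2 ^ (Nat.card G).factorization 2) :=
    Nat.Coprime.pow_right _ ((Nat.prime_two.coprime_iff_not_dvd).mpr hodd).symm
  exact IsPGroup.of_card_dvd_pow (hc.dvd_of_dvd_mul_left h)

/-- A `{2,p}`-subgroup containing Sylow `2`- and `p`-subgroups of `G` is a maximal
`{2,p}`-subgroup. -/
theorem twoP_eq_of_le [Finite G] {p : ℕ} (hp : p.Prime) (hp2 : p ≠ 2) (Q : Sylow 2 G)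
    (P : Sylow p G) {H H' : Subgroup G} (hQ : (Q : Subgroup G) ≤ H) (hP : (P : Subgroup G) ≤ H)
    (hH' : TwoP p H') (hle : H ≤ H') : H = H' := by
  haveI : Fact (Nat.Prime 2) := ⟨Nat.prime_two⟩
  haveI : Fact p.Prime := ⟨hp⟩
  have h1 : Nat.card (Q : Subgroup G) ∣ Nat.card H := Subgroup.card_dvd_of_le hQ
  have h2 : Nat.card (P : Subgroup G) ∣ Nat.card H := Subgroup.card_dvd_of_le hP
  rw [Sylow.card_eq_multiplicity] at h1 h2
  have hc : (2 ^ (Nat.card G).factorization 2).Coprime (p ^ (Nat.card G).factorization p) :=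
    Nat.Coprime.pow _ _ ((Nat.coprime_primes Nat.prime_two hp).mpr (Ne.symm hp2))
  have h3 := hc.mul_dvd_of_dvd_of_dvd h1 h2
  have h4 := hH'.card_dvd hp
  have h5 : Nat.card H' ≤ Nat.card H :=
    (Nat.le_of_dvd (Nat.mul_pos (pow_pos (by norm_num) _) (pow_pos hp.pos _)) h4).trans
      (Nat.le_of_dvd Nat.card_pos h3)
  exact Subgroup.eq_of_le_of_card_ge hle h5

/-- `|HK|` divides `|H||K|` when `K` normalises `H`. -/
theorem card_sup_dvd [Finite G] (H K : Subgroup G) (h : ∀ k ∈ K, ∀ x ∈ H, k * x * k⁻¹ ∈ H) :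
    Nat.card (H ⊔ K : Subgroup G) ∣ Nat.card H * Nat.card K := by
  have hM : H ⊔ K ≤ normalizer (H : Set G) :=
    sup_le le_normalizer (le_normalizer_iff.mpr h)
  haveI : (H.subgroupOf (H ⊔ K)).Normal :=
    (normal_subgroupOf_iff_le_normalizer le_sup_left).mpr hM
  have h1 : (H.subgroupOf (H ⊔ K)) ⊔ (K.subgroupOf (H ⊔ K)) = ⊤ :=
    codisjoint_iff.mp (codisjoint_subgroupOf_sup H K)
  have h2 : (H.subgroupOf (H ⊔ K)).index ∣ Nat.card (K.subgroupOf (H ⊔ K)) := by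
    rw [← relIndex_top_right, ← h1, relIndex_sup_left]
    exact relIndex_dvd_card _ _
  have h3 : Nat.card (H.subgroupOf (H ⊔ K)) = Nat.card H :=
    Nat.card_congr (Subgroup.subgroupOfEquivOfLe le_sup_left).toEquiv
  have h4 : Nat.card (K.subgroupOf (H ⊔ K)) = Nat.card K :=
    Nat.card_congr (Subgroup.subgroupOfEquivOfLe le_sup_right).toEquiv
  rw [← (H.subgroupOf (H ⊔ K)).card_mul_index, h3]
  exact mul_dvd_mul_left _ (h4 ▸ h2)

/-! ### Two involutions -/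

theorem Inv.conj_mul {t u : G} (ht : Inv t) (hu : Inv u) : t * (t * u) * t⁻¹ = (t * u)⁻¹ := by
  rw [ht.inv_eq, mul_inv_rev, ht.inv_eq, hu.inv_eq]
  calc t * (t * u) * t = (t * t) * u * t := by group
    _ = u * t := by rw [ht.2, one_mul]

theorem Inv.conj_mul' {t u : G} (ht : Inv t) (hu : Inv u) : u * (t * u) * u⁻¹ = (t * u)⁻¹ := by
  rw [hu.inv_eq, mul_inv_rev, ht.inv_eq, hu.inv_eq]
  calc u * (t * u) * u = u * t * (u * u) := by group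
    _ = u * t := by rw [hu.2, mul_one]

/-- If the product of two involutions has even order, some involution commutes with both. -/
theorem exists_inv_commute_of_even {t u : G} (ht : Inv t) (hu : Inv u) (hfin : 0 < orderOf (t * u))
    (heven : 2 ∣ orderOf (t * u)) :
    ∃ z : G, Inv z ∧ z * t = t * z ∧ z * u = u * z ∧ z ∈ zpowers (t * u) := by
  obtain ⟨k, hk⟩ := heven
  have hk0 : 0 < k := by
    rcases Nat.eq_zero_or_pos k with h | h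
    · rw [h] at hk; omega
    · exact h
  refine ⟨(t * u) ^ k, ⟨?_, ?_⟩, ?_, ?_, pow_mem (mem_zpowers _) k⟩
  · intro h
    have := orderOf_dvd_of_pow_eq_one h
    have := Nat.le_of_dvd hk0 this
    omega
  · rw [← pow_add, ← two_mul, ← hk, pow_orderOf_eq_one]
  · have h1 : t * (t * u) ^ k * t⁻¹ = ((t * u) ^ k)⁻¹ := by
      rw [← conj_pow, ht.conj_mul hu, inv_pow]
    have h2 : ((t * u) ^ k)⁻¹ = (t * u) ^ k := by
      apply inv_eq_of_mul_eq_one_left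
      rw [← pow_add, ← two_mul, ← hk, pow_orderOf_eq_one]
    rw [h2] at h1
    calc (t * u) ^ k * t = (t * (t * u) ^ k * t⁻¹) * t := by rw [h1]
      _ = t * (t * u) ^ k := by group
  · have h1 : u * (t * u) ^ k * u⁻¹ = ((t * u) ^ k)⁻¹ := by
      rw [← conj_pow, ht.conj_mul' hu, inv_pow]
    have h2 : ((t * u) ^ k)⁻¹ = (t * u) ^ k := by
      apply inv_eq_of_mul_eq_one_left
      rw [← pow_add, ← two_mul, ← hk, pow_orderOf_eq_one]
    rw [h2] at h1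
    calc (t * u) ^ k * u = (u * (t * u) ^ k * u⁻¹) * u := by rw [h1]
      _ = u * (t * u) ^ k := by group

end Cfsg.Agent.Lib.helper73.EP
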