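/-
S4017 (helper73): the configuration of a minimal counterexample with `q = 2`; basic structure.
-/
import Cfsg.Agent.Lib.helper73.EvenA

set_option autoImplicit false

open Subgroup

namespace Cfsg.Agent.Lib.helper73.EP

universe u
variable {G : Type u} [Group G]

theorem mem_smul_sylow {q : ℕ} (g : G) (Q : Sylow q G) (s : G) :
    s ∈ g • Q ↔ g⁻¹ * s * g ∈ Q := by
  show s ∈ ((g • Q : Sylow q G) : Subgroup G) ↔ _
  rw [Sylow.coe_subgroup_smul, Subgroup.mem_pointwise_smul_iff_inv_smul_mem]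
  simp [MulAut.smul_def]
  rfl

/-- The configuration reached in a minimal counterexample (with `q = 2`). -/
structure Pkg (G : Type u) [Group G] (p : ℕ) : Prop where
  hp : p.Prime
  hp2 : p ≠ 2
  star : ∀ H : Subgroup G, H ≠ ⊤ → 2 ∣ Nat.card H → TwoP p H
  exQ : ∃ Q : Sylow 2 G, Nat.card (Q : Subgroup G) = p + 1 ∧ ∃ y : G, Pel p y ∧
    (∀ s ∈ Q, y * s * y⁻¹ ∈ Q) ∧ (∀ s ∈ Q, y * s * y⁻¹ = s → s = 1)
  pab : ∀ K : Subgroup G, IsPGroup p K → ∀ a ∈ K, ∀ b ∈ K, a * b = b * a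
  exr : ∃ r : ℕ, r.Prime ∧ r ∣ Nat.card G ∧ r ≠ 2 ∧ r ≠ p

namespace Pkg

variable [Finite G] {p : ℕ} (h : Pkg G p)
include h

theorem three_le : 3 ≤ p := by
  have := h.hp.two_le
  have := h.hp2
  omega

theorem allQ (Q : Sylow 2 G) : Nat.card (Q : Subgroup G) = p + 1 ∧ ∃ y : G, Pel p y ∧
    (∀ s ∈ Q, y * s * y⁻¹ ∈ Q) ∧ (∀ s ∈ Q, y * s * y⁻¹ = s → s = 1) := by
  haveI : Fact (Nat.Prime 2) := ⟨Nat.prime_two⟩
  obtain ⟨Q₀, hc, y, hy, hn, hf⟩ := h.exQ
  obtain ⟨g, rfl⟩ := MulAction.exists_smul_eq G Q₀ Q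
  refine ⟨?_, g * y * g⁻¹, hy.conj g, ?_, ?_⟩
  · rw [Sylow.card_eq_multiplicity, ← hc, Sylow.card_eq_multiplicity]
  · intro s hs
    rw [mem_smul_sylow] at hs ⊢
    have := hn _ hs
    have e : g⁻¹ * (g * y * g⁻¹ * s * (g * y * g⁻¹)⁻¹) * g = y * (g⁻¹ * s * g) * y⁻¹ := by group
    rw [e]; exact this
  · intro s hs hfix
    rw [mem_smul_sylow] at hs
    have e : y * (g⁻¹ * s * g) * y⁻¹ = g⁻¹ * s * g := by
      calc y * (g⁻¹ * s * g) * y⁻¹ = g⁻¹ * (g * y * g⁻¹ * s * (g * y * g⁻¹)⁻¹) * g := by group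
        _ = g⁻¹ * s * g := by rw [hfix]
    have := hf _ hs e
    calc s = g * (g⁻¹ * s * g) * g⁻¹ := by group
      _ = 1 := by rw [this]; group

theorem card_Q (Q : Sylow 2 G) : Nat.card (Q : Subgroup G) = p + 1 := (h.allQ Q).1

/-- the set of nonidentity elements of `Q` has `p` elements -/
theorem ncard_Q (Q : Sylow 2 G) : {x : G | x ∈ Q ∧ x ≠ 1}.ncard = p := by
  have h1 : {x : G | x ∈ Q ∧ x ≠ 1} = ((Q : Subgroup G) : Set G) \ {1} := by
    ext x; simp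
  rw [h1, Set.ncard_diff (by simpa using (Q : Subgroup G).one_mem)]
  rw [Set.ncard_singleton, ← Nat.card_coe_set_eq]
  have := h.card_Q Q
  change Nat.card (Q : Subgroup G) - 1 = p
  omega

/-- a `p`-element normalising `Q` without fixed points is transitive on `Q ∖ 1` -/
theorem trans_of (Q : Sylow 2 G) {y : G} (hy : Pel p y) (hn : ∀ s ∈ Q, y * s * y⁻¹ ∈ Q)
    (hf : ∀ s ∈ Q, y * s * y⁻¹ = s → s = 1) {s s' : G} (hs : s ∈ Q) (hs1 : s ≠ 1) (hs' : s' ∈ Q)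
    (hs'1 : s' ≠ 1) : ∃ g ∈ zpowers y, (∀ x ∈ Q, g * x * g⁻¹ ∈ Q) ∧ g * s * g⁻¹ = s' := by
  haveI : Fact p.Prime := ⟨h.hp⟩
  -- orbit of `s` under `zpowers y`
  have hKn : ∀ k ∈ zpowers y, ∀ x ∈ Q, k * x * k⁻¹ ∈ Q := by
    have := mem_normalizer_of_conj_mem (Q : Subgroup G) y hn
    intro k hk x hx
    exact conj_mem_of_mem_normalizer ((zpowers_le.mpr this) hk) hx
  set O : Set G := {x | ∃ k ∈ zpowers y, k * s * k⁻¹ = x} with hO
  have hOS : O ⊆ {x : G | x ∈ Q ∧ x ≠ 1} := by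
    rintro x ⟨k, hk, rfl⟩
    refine ⟨hKn k hk s hs, fun h1 => hs1 ?_⟩
    have : s = k⁻¹ * (k * s * k⁻¹) * k := by group
    rw [this, h1]; group
  have hOinv : ∀ k ∈ zpowers y, ∀ x ∈ O, k * x * k⁻¹ ∈ O := by
    rintro k hk x ⟨k', hk', rfl⟩
    exact ⟨k * k', (zpowers y).mul_mem hk hk', by group⟩
  have hmod := card_modEq_fixed (zpowers y) hy.isPGroup_zpowers O hOinv
  have hfix : {x | x ∈ O ∧ ∀ k ∈ zpowers y, k * x * k⁻¹ = x} = ∅ := by
    ext x
    simp only [Set.mem_setOf_eq, Set.mem_empty_iff_false, iff_false, not_and]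
    intro hx hall
    exact (hOS hx).2 (hf x (hOS hx).1 (hall y (mem_zpowers y)))
  rw [hfix, Set.ncard_empty] at hmod
  have hdvd : p ∣ O.ncard := (Nat.modEq_zero_iff_dvd).mp hmod
  have hfin : {x : G | x ∈ Q ∧ x ≠ 1}.Finite := Set.toFinite _
  have hle : O.ncard ≤ p := by
    rw [← h.ncard_Q Q]; exact Set.ncard_le_ncard hOS hfin
  have hsO : s ∈ O := ⟨1, (zpowers y).one_mem, by group⟩
  have hpos : 0 < O.ncard := (Set.ncard_pos (Set.toFinite _)).mpr ⟨s, hsO⟩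
  have hcard : O.ncard = p := le_antisymm hle (Nat.le_of_dvd hpos hdvd)
  have hEq : O = {x : G | x ∈ Q ∧ x ≠ 1} :=
    Set.eq_of_subset_of_ncard_le hOS (by rw [hcard, h.ncard_Q Q]) hfin
  have : s' ∈ O := by rw [hEq]; exact ⟨hs', hs'1⟩
  obtain ⟨k, hk, hks⟩ := this
  exact ⟨k, hk, hKn k hk, hks⟩

/-- transitivity on `Q ∖ 1` -/
theorem trans_Q (Q : Sylow 2 G) {s s' : G} (hs : s ∈ Q) (hs1 : s ≠ 1) (hs' : s' ∈ Q)
    (hs'1 : s' ≠ 1) : ∃ g : G, (∀ x ∈ Q, g * x * g⁻¹ ∈ Q) ∧ g * s * g⁻¹ = s' := by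
  obtain ⟨-, y, hy, hn, hf⟩ := h.allQ Q
  obtain ⟨g, -, h1, h2⟩ := h.trans_of Q hy hn hf hs hs1 hs' hs'1
  exact ⟨g, h1, h2⟩

theorem exists_inv_mem (Q : Sylow 2 G) : ∃ t : G, t ∈ Q ∧ Inv t := by
  haveI : Fact (Nat.Prime 2) := ⟨Nat.prime_two⟩
  have hc := h.card_Q Q
  have h2 : 2 ∣ Nat.card (Q : Subgroup G) := by
    rw [hc]
    rcases h.hp.eq_two_or_odd with h1 | h1
    · exact absurd h1 h.hp2
    · omega
  obtain ⟨x, hx⟩ := exists_prime_orderOf_dvd_card' 2 h2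
  refine ⟨x, x.2, ?_, ?_⟩
  · intro h1
    have : x = 1 := Subtype.ext h1
    rw [this, orderOf_one] at hx
    omega
  · have := pow_orderOf_eq_one x
    rw [hx, pow_two] at this
    exact congrArg Subtype.val this

theorem sq_Q (Q : Sylow 2 G) {s : G} (hs : s ∈ Q) : s * s = 1 := by
  by_cases hs1 : s = 1
  · rw [hs1, mul_one]
  · obtain ⟨t, ht, hti⟩ := h.exists_inv_mem Q
    obtain ⟨g, -, rfl⟩ := h.trans_Q Q ht hti.1 hs hs1
    exact (hti.conj g).2

theorem inv_of_mem (Q : Sylow 2 G) {s : G} (hs : s ∈ Q) (hs1 : s ≠ 1) : Inv s :=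
  ⟨hs1, h.sq_Q Q hs⟩

theorem comm_Q (Q : Sylow 2 G) {a b : G} (ha : a ∈ Q) (hb : b ∈ Q) : a * b = b * a := by
  have h1 := h.sq_Q Q ((Q : Subgroup G).mul_mem ha hb)
  have h2 := h.sq_Q Q ha
  have h3 := h.sq_Q Q hb
  calc a * b = a * (a * b * (a * b)) * b := by rw [h1, mul_one]
    _ = (a * a) * b * a * (b * b) := by group
    _ = b * a := by rw [h2, h3, one_mul, mul_one]

theorem exists_sylow_of_inv {t : G} (ht : Inv t) : ∃ Q : Sylow 2 G, t ∈ Q := by
  haveI : Fact (Nat.Prime 2) := ⟨Nat.prime_two⟩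
  obtain ⟨Q, hQ⟩ := ht.pel.isPGroup_zpowers.exists_le_sylow
  exact ⟨Q, hQ (mem_zpowers t)⟩

/-- all involutions are conjugate -/
theorem conj_inv {t u : G} (ht : Inv t) (hu : Inv u) : ∃ g : G, g * t * g⁻¹ = u := by
  haveI : Fact (Nat.Prime 2) := ⟨Nat.prime_two⟩
  obtain ⟨Q₁, h1⟩ := h.exists_sylow_of_inv ht
  obtain ⟨Q₂, h2⟩ := h.exists_sylow_of_inv hu
  obtain ⟨g, rfl⟩ := MulAction.exists_smul_eq G Q₁ Q₂
  have h3 : g * t * g⁻¹ ∈ g • Q₁ := by
    rw [mem_smul_sylow]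
    have : g⁻¹ * (g * t * g⁻¹) * g = t := by group
    rw [this]; exact h1
  obtain ⟨k, -, hk⟩ := h.trans_Q (g • Q₁) h3 (ht.conj g).1 h2 hu.1
  exact ⟨k * g, by rw [← hk]; group⟩

theorem four_dvd : 4 ∣ Nat.card G := by
  haveI : Fact (Nat.Prime 2) := ⟨Nat.prime_two⟩
  obtain ⟨Q, hc, -⟩ := h.exQ
  have h1 : Nat.card (Q : Subgroup G) ∣ Nat.card G := Subgroup.card_subgroup_dvd_card _
  obtain ⟨n, hn⟩ := IsPGroup.iff_card.mp Q.isPGroup'
  have h3 := h.three_le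
  have hn2 : 2 ≤ n := by
    by_contra hlt
    have : n = 0 ∨ n = 1 := by omega
    rcases this with rfl | rfl <;> omega
  have : (4 : ℕ) ∣ 2 ^ n := by
    have : (4 : ℕ) = 2 ^ 2 := by norm_num
    rw [this]; exact pow_dvd_pow 2 hn2
  rw [← hn] at this
  exact this.trans h1

theorem p_dvd : p ∣ Nat.card G := by
  obtain ⟨Q, -, y, hy, -, hf⟩ := h.exQ
  obtain ⟨t, ht, hti⟩ := h.exists_inv_mem Q
  obtain ⟨k, hk⟩ := hy.orderOf h.hp
  have hk0 : k ≠ 0 := by
    rintro rfl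
    rw [pow_zero, orderOf_eq_one_iff] at hk
    exact hti.1 (hf t ht (by rw [hk]; group))
  have : p ∣ orderOf y := by rw [hk]; exact dvd_pow_self p hk0
  exact this.trans (orderOf_dvd_natCard y)

theorem exists_other (Q : Sylow 2 G) (t : G) : ∃ s ∈ Q, s ≠ 1 ∧ s ≠ t := by
  by_contra hcon
  push Not at hcon
  have hsub : ((Q : Subgroup G) : Set G) ⊆ {1, t} := by
    intro s hs
    by_cases h1 : s = 1
    · simp [h1]
    · simp [hcon s hs h1]
  have h1 := Set.ncard_le_ncard hsub (Set.toFinite _)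
  have h2 : ({1, t} : Set G).ncard ≤ 2 := Set.ncard_insert_le _ _ |>.trans (by simp)
  have h3 := h.card_Q Q
  have h4 := h.three_le
  rw [← Nat.card_coe_set_eq] at h1
  change Nat.card (Q : Subgroup G) ≤ _ at h1
  omega

theorem exists_other2 (Q : Sylow 2 G) (a b : G) : ∃ s ∈ Q, s ≠ 1 ∧ s ≠ a ∧ s ≠ b := by
  by_contra hcon
  push Not at hcon
  have hsub : ((Q : Subgroup G) : Set G) ⊆ {1, a, b} := by
    intro s hs
    by_cases h1 : s = 1
    · simp [h1]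
    · by_cases h2 : s = a
      · simp [h2]
      · simp [hcon s hs h1 h2]
  have h1 := Set.ncard_le_ncard hsub (Set.toFinite _)
  have h2 : ({1, a, b} : Set G).ncard ≤ 3 :=
    (Set.ncard_insert_le _ _).trans (by
      have := Set.ncard_insert_le a ({b} : Set G)
      simp only [Set.ncard_singleton] at this
      omega)
  have h3 := h.card_Q Q
  have h4 := h.three_le
  rw [← Nat.card_coe_set_eq] at h1
  change Nat.card (Q : Subgroup G) ≤ _ at h1
  omega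

theorem exists_other3 (hp5 : 5 ≤ p) (Q : Sylow 2 G) (a b c : G) :
    ∃ s ∈ Q, s ≠ 1 ∧ s ≠ a ∧ s ≠ b ∧ s ≠ c := by
  by_contra hcon
  push Not at hcon
  have hsub : ((Q : Subgroup G) : Set G) ⊆ {1, a, b, c} := by
    intro s hs
    by_cases h1 : s = 1
    · simp [h1]
    · by_cases h2 : s = a
      · simp [h2]
      · by_cases h3 : s = b
        · simp [h3]
        · simp [hcon s hs h1 h2 h3]
  have h1 := Set.ncard_le_ncard hsub (Set.toFinite _)
  have h2 : ({1, a, b, c} : Set G).ncard ≤ 4 :=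
    (Set.ncard_insert_le _ _).trans (by
      have h5 := Set.ncard_insert_le a ({b, c} : Set G)
      have h6 := Set.ncard_insert_le b ({c} : Set G)
      simp only [Set.ncard_singleton] at h6
      omega)
  have h3 := h.card_Q Q
  rw [← Nat.card_coe_set_eq] at h1
  change Nat.card (Q : Subgroup G) ≤ _ at h1
  omega

theorem no_central_inv {t : G} (ht : Inv t) : ∃ g : G, g * t ≠ t * g := by
  obtain ⟨Q, hQ⟩ := h.exists_sylow_of_inv ht
  obtain ⟨s, hs, hs1, hst⟩ := h.exists_other Q t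
  obtain ⟨g, -, hg⟩ := h.trans_Q Q hQ ht.1 hs hs1
  refine ⟨g, fun hc => hst ?_⟩
  rw [← hg, hc]; group


theorem two_dvd_card_Q (Q : Sylow 2 G) : 2 ∣ Nat.card (Q : Subgroup G) := by
  rw [h.card_Q Q]
  rcases h.hp.eq_two_or_odd with h1 | h1
  · exact absurd h1 h.hp2
  · omega

theorem even_of_le (Q : Sylow 2 G) {L : Subgroup G} (hQL : (Q : Subgroup G) ≤ L) :
    2 ∣ Nat.card L :=
  (h.two_dvd_card_Q Q).trans (Subgroup.card_dvd_of_le hQL)

theorem twoP_of_le (Q : Sylow 2 G) {L : Subgroup G} (hQL : (Q : Subgroup G) ≤ L)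
    (hne : L ≠ ⊤) : TwoP p L :=
  h.star L hne (h.even_of_le Q hQL)

theorem Q_not_normal (Q : Sylow 2 G) : ¬ ∀ g : G, ∀ s ∈ Q, g * s * g⁻¹ ∈ Q := by
  haveI : Fact (Nat.Prime 2) := ⟨Nat.prime_two⟩
  intro hn
  obtain ⟨r, hr, hrG, hr2, hrp⟩ := h.exr
  haveI : Fact r.Prime := ⟨hr⟩
  obtain ⟨R⟩ : Nonempty (Sylow r G) := Sylow.nonempty
  have hM : Nat.card ((Q : Subgroup G) ⊔ (R : Subgroup G) : Subgroup G) ∣
      Nat.card (Q : Subgroup G) * Nat.card (R : Subgroup G) :=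
    card_sup_dvd _ _ (fun k _ x hx => hn k x hx)
  have hne : ((Q : Subgroup G) ⊔ (R : Subgroup G) : Subgroup G) ≠ ⊤ := by
    intro htop
    rw [htop, card_top] at hM
    have hp := h.p_dvd.trans hM
    rcases (Nat.Prime.dvd_mul h.hp).mp hp with h1 | h1
    · obtain ⟨n, hn⟩ := IsPGroup.iff_card.mp Q.isPGroup'
      rw [hn] at h1
      exact h.hp2 ((Nat.prime_dvd_prime_iff_eq h.hp Nat.prime_two).mp (h.hp.dvd_of_dvd_pow h1))
    · obtain ⟨n, hn⟩ := IsPGroup.iff_card.mp R.isPGroup'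
      rw [hn] at h1
      exact hrp ((Nat.prime_dvd_prime_iff_eq h.hp hr).mp (h.hp.dvd_of_dvd_pow h1)).symm
  have hT := h.twoP_of_le Q le_sup_left hne
  have hrR : r ∣ Nat.card (R : Subgroup G) := by
    rw [Sylow.card_eq_multiplicity]
    exact dvd_pow_self r (Nat.Prime.factorization_pos_of_dvd hr Nat.card_pos.ne' hrG).ne'
  rcases hT r hr (hrR.trans (Subgroup.card_dvd_of_le le_sup_right)) with h3 | h3
  exacts [hr2 h3, hrp h3]

theorem normalizer_ne_top (Q : Sylow 2 G) : normalizer ((Q : Subgroup G) : Set G) ≠ ⊤ := by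
  intro htop
  refine h.Q_not_normal Q (fun g s hs => ?_)
  have : g ∈ normalizer ((Q : Subgroup G) : Set G) := by rw [htop]; exact mem_top g
  exact conj_mem_of_mem_normalizer this hs

theorem twoP_normalizer (Q : Sylow 2 G) : TwoP p (normalizer ((Q : Subgroup G) : Set G)) :=
  h.twoP_of_le Q le_normalizer (h.normalizer_ne_top Q)

/-- a `p`-element normalising `Q` and fixing a nonidentity element of `Q` centralises `Q`. -/
theorem nreg_pel (Q : Sylow 2 G) {g t : G} (hgp : Pel p g) (hg : ∀ s ∈ Q, g * s * g⁻¹ ∈ Q)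
    (ht : t ∈ Q) (ht1 : t ≠ 1) (hfix : g * t * g⁻¹ = t) : ∀ s ∈ Q, g * s * g⁻¹ = s := by
  haveI : Fact p.Prime := ⟨h.hp⟩
  have hgN := mem_normalizer_of_conj_mem (Q : Subgroup G) g hg
  have hKn : ∀ k ∈ zpowers g, ∀ x ∈ {x : G | x ∈ Q ∧ x ≠ 1}, k * x * k⁻¹ ∈ {x : G | x ∈ Q ∧ x ≠ 1} := by
    intro k hk x hx
    refine ⟨conj_mem_of_mem_normalizer ((zpowers_le.mpr hgN) hk) hx.1, fun h1 => hx.2 ?_⟩
    have : x = k⁻¹ * (k * x * k⁻¹) * k := by group
    rw [this, h1]; group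
  have hmod := card_modEq_fixed (zpowers g) hgp.isPGroup_zpowers _ hKn
  rw [h.ncard_Q Q] at hmod
  have hgC : g ∈ centralizer ({t} : Set G) := by
    rw [mem_centralizer_iff]
    intro x hx
    rw [Set.mem_singleton_iff.mp hx]
    calc t * g = (g * t * g⁻¹) * g := by rw [hfix]
      _ = g * t := by group
  have htF : t ∈ {s | s ∈ {x : G | x ∈ Q ∧ x ≠ 1} ∧ ∀ k ∈ zpowers g, k * s * k⁻¹ = s} := by
    refine ⟨⟨ht, ht1⟩, fun k hk => ?_⟩
    have := mem_centralizer_iff.mp ((zpowers_le.mpr hgC) hk) t rfl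
    rw [← this]; group
  have hdvd : p ∣ {s | s ∈ {x : G | x ∈ Q ∧ x ≠ 1} ∧ ∀ k ∈ zpowers g, k * s * k⁻¹ = s}.ncard :=
    (Nat.modEq_zero_iff_dvd).mp (hmod.symm.trans (Nat.modEq_zero_iff_dvd.mpr (dvd_refl p)))
  have hFS : {s | s ∈ {x : G | x ∈ Q ∧ x ≠ 1} ∧ ∀ k ∈ zpowers g, k * s * k⁻¹ = s} ⊆
      {x : G | x ∈ Q ∧ x ≠ 1} := fun x hx => hx.1
  have hpos : 0 < {s | s ∈ {x : G | x ∈ Q ∧ x ≠ 1} ∧ ∀ k ∈ zpowers g, k * s * k⁻¹ = s}.ncard :=
    (Set.ncard_pos (Set.toFinite _)).mpr ⟨t, htF⟩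
  have hEq := Set.eq_of_subset_of_ncard_le hFS
    (by rw [h.ncard_Q Q]; exact Nat.le_of_dvd hpos hdvd) (Set.toFinite _)
  intro s hs
  by_cases hs1 : s = 1
  · rw [hs1]; group
  · have : s ∈ {s | s ∈ {x : G | x ∈ Q ∧ x ≠ 1} ∧ ∀ k ∈ zpowers g, k * s * k⁻¹ = s} := by
      rw [hEq]; exact ⟨hs, hs1⟩
    exact this.2 g (mem_zpowers g)

/-- an element normalising `Q` and fixing a nonidentity element of `Q` centralises `Q`. -/
theorem nreg (Q : Sylow 2 G) {g t : G} (hg : ∀ s ∈ Q, g * s * g⁻¹ ∈ Q)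
    (ht : t ∈ Q) (ht1 : t ≠ 1) (hfix : g * t * g⁻¹ = t) : ∀ s ∈ Q, g * s * g⁻¹ = s := by
  haveI : Fact (Nat.Prime 2) := ⟨Nat.prime_two⟩
  have hN := h.twoP_normalizer Q
  have hgN : g ∈ normalizer ((Q : Subgroup G) : Set G) := mem_normalizer_of_conj_mem _ g hg
  have hd := hN.card_dvd h.hp
  have hgo : g ^ (2 ^ (Nat.card G).factorization 2 * p ^ (Nat.card G).factorization p) = 1 := by
    have h1 : g ^ Nat.card (normalizer ((Q : Subgroup G) : Set G)) = 1 := by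
      have h0 := pow_card_eq_one' (G := normalizer ((Q : Subgroup G) : Set G)) (x := ⟨g, hgN⟩)
      have h0' := congrArg Subtype.val h0
      rw [SubmonoidClass.coe_pow] at h0'
      exact h0'
    obtain ⟨c, hc⟩ := hd
    rw [hc, pow_mul, h1, one_pow]
  have hgC' : g ∈ centralizer ({t} : Set G) := by
    rw [mem_centralizer_iff]
    intro x hx
    rw [Set.mem_singleton_iff.mp hx]
    calc t * g = (g * t * g⁻¹) * g := by rw [hfix]
      _ = g * t := by group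
  have h2 : Pel 2 (g ^ p ^ (Nat.card G).factorization p) :=
    ⟨(Nat.card G).factorization 2, by rw [← pow_mul, mul_comm, hgo]⟩
  have hg2Q : g ^ p ^ (Nat.card G).factorization p ∈ Q :=
    mem_sylow_of_pel Q h2 (fun s hs => conj_mem_of_mem_normalizer (pow_mem hgN _) hs)
  have hC2 : g ^ p ^ (Nat.card G).factorization p ∈ centralizer ((Q : Subgroup G) : Set G) := by
    rw [mem_centralizer_iff]; intro s hs; exact h.comm_Q Q hs hg2Q
  have hp' : Pel p (g ^ 2 ^ (Nat.card G).factorization 2) :=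
    ⟨(Nat.card G).factorization p, by rw [← pow_mul, hgo]⟩
  have hCp : g ^ 2 ^ (Nat.card G).factorization 2 ∈ centralizer ((Q : Subgroup G) : Set G) := by
    rw [mem_centralizer_iff]; intro s hs
    have hfix' : g ^ 2 ^ (Nat.card G).factorization 2 * t *
        (g ^ 2 ^ (Nat.card G).factorization 2)⁻¹ = t := by
      have := mem_centralizer_iff.mp (pow_mem hgC' (2 ^ (Nat.card G).factorization 2)) t rfl
      rw [← this]; group
    have := h.nreg_pel Q hp' (fun s hs => conj_mem_of_mem_normalizer (pow_mem hgN _) hs)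
      ht ht1 hfix' s hs
    calc s * g ^ 2 ^ (Nat.card G).factorization 2
        = (g ^ 2 ^ (Nat.card G).factorization 2 * s *
            (g ^ 2 ^ (Nat.card G).factorization 2)⁻¹) * g ^ 2 ^ (Nat.card G).factorization 2 := by
          rw [this]
      _ = g ^ 2 ^ (Nat.card G).factorization 2 * s := by group
  have hcop : IsCoprime ((p ^ (Nat.card G).factorization p : ℕ) : ℤ)
      ((2 ^ (Nat.card G).factorization 2 : ℕ) : ℤ) :=
    Nat.isCoprime_iff_coprime.mpr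
      (Nat.Coprime.pow _ _ ((Nat.coprime_primes h.hp Nat.prime_two).mpr h.hp2))
  obtain ⟨a, b, hab⟩ := hcop
  have hgC : g ∈ centralizer ((Q : Subgroup G) : Set G) := by
    have : g = (g ^ p ^ (Nat.card G).factorization p) ^ a *
        (g ^ 2 ^ (Nat.card G).factorization 2) ^ b := by
      rw [← zpow_natCast g (p ^ (Nat.card G).factorization p),
        ← zpow_natCast g (2 ^ (Nat.card G).factorization 2), ← zpow_mul, ← zpow_mul, ← zpow_add,
        mul_comm _ a, mul_comm _ b, hab, zpow_one]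
    rw [this]; exact mul_mem (zpow_mem hC2 a) (zpow_mem hCp b)
  intro s hs
  have := mem_centralizer_iff.mp hgC s hs
  rw [← this]; group

theorem cent_ne_top {t : G} (ht : Inv t) : centralizer ({t} : Set G) ≠ ⊤ := by
  intro htop
  obtain ⟨g, hg⟩ := h.no_central_inv ht
  have : g ∈ centralizer ({t} : Set G) := by rw [htop]; exact mem_top g
  exact hg (mem_centralizer_iff.mp this t rfl).symm

theorem Q_le_cent (Q : Sylow 2 G) {t : G} (ht : t ∈ Q) :
    (Q : Subgroup G) ≤ centralizer ({t} : Set G) := by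
  intro s hs
  rw [mem_centralizer_iff]
  intro x hx
  rw [Set.mem_singleton_iff.mp hx]
  exact h.comm_Q Q ht hs

theorem cent_inv (Q : Sylow 2 G) {t : G} (ht : t ∈ Q) (ht1 : t ≠ 1) :
    ∃ K : Subgroup G, K ≤ centralizer ({t} : Set G) ∧ IsPGroup p K ∧
      Nat.card K * (p + 1) = Nat.card (centralizer ({t} : Set G)) ∧
      (∀ x ∈ centralizer ({t} : Set G), Pel p x → x ∈ K) := by
  have hti := h.inv_of_mem Q ht ht1
  have hT := h.twoP_of_le Q (h.Q_le_cent Q ht) (h.cent_ne_top hti)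
  obtain ⟨K, hK1, hK2, -, hK4, hK5⟩ := burnside_sub h.hp h.hp2 (centralizer ({t} : Set G)) Q
    (h.Q_le_cent Q ht) (fun g hg hn => by
      refine h.nreg Q hn ht ht1 ?_
      have := mem_centralizer_iff.mp hg t rfl
      rw [← this]; group) hT
  exact ⟨K, hK1, hK2, by rw [← h.card_Q Q]; exact hK4, hK5⟩

end Pkg

/-- the subgroup generated by the `p`-elements centralising `t` -/
def Kt (p : ℕ) (t : G) : Subgroup G := closure {x | t * x = x * t ∧ Pel p x}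

namespace Pkg

variable [Finite G] {p : ℕ} (h : Pkg G p)
include h

theorem Kt_spec {t : G} (ht : Inv t) : IsPGroup p (Kt p t) ∧
    (∀ x, x ∈ Kt p t ↔ t * x = x * t ∧ Pel p x) ∧
    Nat.card (Kt p t) * (p + 1) = Nat.card (centralizer ({t} : Set G)) := by
  obtain ⟨Q, hQ⟩ := h.exists_sylow_of_inv ht
  obtain ⟨K, hK1, hK2, hK3, hK4⟩ := h.cent_inv Q hQ ht.1
  have hS : {x | t * x = x * t ∧ Pel p x} = (K : Set G) := by
    ext x
    constructor
    · rintro ⟨hx1, hx2⟩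
      refine hK4 x ?_ hx2
      rw [mem_centralizer_iff]; intro y hy; rw [Set.mem_singleton_iff.mp hy]; exact hx1
    · intro hx
      exact ⟨mem_centralizer_iff.mp (hK1 hx) t rfl, Pel.of_mem hK2 hx⟩
  have hKt : Kt p t = K := by
    unfold Kt; rw [hS]; exact closure_eq K
  rw [hKt]
  refine ⟨hK2, fun x => ?_, hK3⟩
  have : x ∈ K ↔ x ∈ (K : Set G) := Iff.rfl
  rw [this, ← hS]; rfl

theorem mem_Kt {t : G} (ht : Inv t) {x : G} : x ∈ Kt p t ↔ t * x = x * t ∧ Pel p x :=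
  (h.Kt_spec ht).2.1 x

theorem Kt_isPGroup {t : G} (ht : Inv t) : IsPGroup p (Kt p t) := (h.Kt_spec ht).1

theorem card_cent {t : G} (ht : Inv t) :
    Nat.card (Kt p t) * (p + 1) = Nat.card (centralizer ({t} : Set G)) := (h.Kt_spec ht).2.2

theorem Kt_comm {t : G} (ht : Inv t) {a b : G} (ha : a ∈ Kt p t) (hb : b ∈ Kt p t) :
    a * b = b * a := h.pab _ (h.Kt_isPGroup ht) a ha b hb

end Pkg

end Cfsg.Agent.Lib.helper73.EP
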