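/-
S4017 (helper73): products of two involutions, centralisers of inverted `p`-elements,
and the case where involution centralisers are `2`-groups.
-/
import Cfsg.Agent.Lib.helper73.EvenB

set_option autoImplicit false

open Subgroup

namespace Cfsg.Agent.Lib.helper73.EP

universe u
variable {G : Type u} [Group G]

/-- class equation for one element -/
theorem ncard_conj_mul_card_cent [Finite G] (a : G) :
    {x : G | ∃ g : G, g * a * g⁻¹ = x}.ncard * Nat.card (centralizer ({a} : Set G)) =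
      Nat.card G := by
  have h1 : Nat.card (MulAction.orbit (ConjAct G) a) *
      Nat.card (MulAction.stabilizer (ConjAct G) a) = Nat.card (ConjAct G) := by
    rw [← Nat.card_prod]
    exact Nat.card_congr (MulAction.orbitProdStabilizerEquivGroup (ConjAct G) a)
  have h2 : MulAction.orbit (ConjAct G) a = {x : G | ∃ g : G, g * a * g⁻¹ = x} := by
    ext x
    constructor
    · rintro ⟨c, rfl⟩
      exact ⟨ConjAct.ofConjAct c, (ConjAct.smul_def c a).symm⟩
    · rintro ⟨g, rfl⟩
      exact ⟨ConjAct.toConjAct g, by simp [ConjAct.smul_def]⟩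
  rw [← Subgroup.nat_card_centralizer_nat_card_stabilizer, Nat.card_coe_set_eq, h2] at h1
  rw [h1]
  exact Nat.card_congr ConjAct.ofConjAct.toEquiv

namespace Pkg

variable [Finite G] {p : ℕ} (h : Pkg G p)
include h

/-- The product of two involutions is a `p`-element, unless some involution commutes
with both. -/
theorem prod_inv {t u : G} (ht : Inv t) (hu : Inv u) :
    (∃ z : G, Inv z ∧ z * t = t * z ∧ z * u = u * z ∧ z ∈ zpowers (t * u)) ∨ Pel p (t * u) := by
  have hpos : 0 < orderOf (t * u) := orderOf_pos (t * u)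
  by_cases heven : 2 ∣ orderOf (t * u)
  · exact Or.inl (exists_inv_commute_of_even ht hu hpos heven)
  · right
    have key : ∀ {d : ℕ}, d.Prime → d ∣ orderOf (t * u) → d = p := by
      intro l hl hdvd
      by_contra hlp
      have hl2 : l ≠ 2 := fun h2 => heven (h2 ▸ hdvd)
      set w' := (t * u) ^ (orderOf (t * u) / l) with hw'
      have ho : orderOf w' = l := orderOf_pow_orderOf_div hpos.ne' hdvd
      have hinv : t * w' * t⁻¹ = w'⁻¹ := by
        rw [hw', ← conj_pow, ht.conj_mul hu, inv_pow]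
      have hnorm : ∀ k ∈ zpowers t, ∀ x ∈ zpowers w', k * x * k⁻¹ ∈ zpowers w' := by
        have : t ∈ normalizer ((zpowers w' : Subgroup G) : Set G) := by
          apply mem_normalizer_of_conj_mem
          intro x hx
          obtain ⟨n, rfl⟩ := mem_zpowers_iff.mp hx
          have : t * w' ^ n * t⁻¹ = (w'⁻¹) ^ n := by
            rw [← hinv, conj_zpow]
          rw [this]
          exact zpow_mem (inv_mem (mem_zpowers w')) n
        intro k hk x hx
        exact conj_mem_of_mem_normalizer ((zpowers_le.mpr this) hk) hx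
      have hcard := card_sup_dvd (zpowers w') (zpowers t) hnorm
      have hc1 : Nat.card (zpowers w') = l := by rw [Nat.card_zpowers, ho]
      have hot : orderOf t = 2 := by
        apply orderOf_eq_prime
        · rw [pow_two]; exact ht.2
        · exact ht.1
      have hc2 : Nat.card (zpowers t) = 2 := by rw [Nat.card_zpowers, hot]
      rw [hc1, hc2] at hcard
      have hne : (zpowers w' ⊔ zpowers t : Subgroup G) ≠ ⊤ := by
        intro htop
        rw [htop, card_top] at hcard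
        have h4 : 4 ∣ l * 2 := h.four_dvd.trans hcard
        have : 2 ∣ l := by omega
        exact hl2 ((Nat.prime_dvd_prime_iff_eq Nat.prime_two hl).mp this).symm
      have h2 : 2 ∣ Nat.card (zpowers w' ⊔ zpowers t : Subgroup G) := by
        have : Nat.card (zpowers t) ∣ Nat.card (zpowers w' ⊔ zpowers t : Subgroup G) :=
          Subgroup.card_dvd_of_le le_sup_right
        rwa [hc2] at this
      have hT := h.star _ hne h2
      have hl' : l ∣ Nat.card (zpowers w' ⊔ zpowers t : Subgroup G) := by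
        have : Nat.card (zpowers w') ∣ Nat.card (zpowers w' ⊔ zpowers t : Subgroup G) :=
          Subgroup.card_dvd_of_le le_sup_left
        rwa [hc1] at this
      rcases hT l hl hl' with h3 | h3
      exacts [hl2 h3, hlp h3]
    exact pel_of_orderOf (Nat.eq_prime_pow_of_unique_prime_dvd hpos.ne' key)

/-- If an involution inverts the `p`-element `w` and no involution centralises `w`, then
`C_G(w)` is a Sylow `p`-subgroup. -/
theorem cent_inverted {t w : G} (ht : Inv t) (hw : Pel p w) (hinv : t * w * t⁻¹ = w⁻¹)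
    (hno : ∀ z : G, Inv z → z * w ≠ w * z) :
    ∃ P : Sylow p G, (P : Subgroup G) = centralizer ({w} : Set G) := by
  haveI : Fact (Nat.Prime 2) := ⟨Nat.prime_two⟩
  haveI : Fact p.Prime := ⟨h.hp⟩
  have hodd : ¬ 2 ∣ Nat.card (centralizer ({w} : Set G)) := by
    intro h2
    obtain ⟨x, hx⟩ := exists_prime_orderOf_dvd_card' 2 h2
    have hxi : Inv (x : G) := by
      refine ⟨fun h1 => ?_, ?_⟩
      · have : x = 1 := Subtype.ext h1
        rw [this, orderOf_one] at hx
        omega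
      · have := pow_orderOf_eq_one x
        rw [hx, pow_two] at this
        exact congrArg Subtype.val this
    exact hno x hxi (mem_centralizer_iff.mp x.2 w rfl).symm
  have hnorm : ∀ k ∈ zpowers t, ∀ x ∈ centralizer ({w} : Set G),
      k * x * k⁻¹ ∈ centralizer ({w} : Set G) := by
    have : t ∈ normalizer ((centralizer ({w} : Set G) : Subgroup G) : Set G) := by
      apply mem_normalizer_of_conj_mem
      intro x hx
      rw [mem_centralizer_iff]
      intro y hy
      rw [Set.mem_singleton_iff.mp hy]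
      have hxw : w * x = x * w := mem_centralizer_iff.mp hx w rfl
      have hw' : w = t * w⁻¹ * t⁻¹ := by
        have e : t * w⁻¹ * t⁻¹ = (t * w * t⁻¹)⁻¹ := by group
        rw [e, hinv, inv_inv]
      have hxw' : w⁻¹ * x = x * w⁻¹ := by
        calc w⁻¹ * x = w⁻¹ * (x * w) * w⁻¹ := by group
          _ = w⁻¹ * (w * x) * w⁻¹ := by rw [hxw]
          _ = x * w⁻¹ := by group
      calc w * (t * x * t⁻¹) = (t * w⁻¹ * t⁻¹) * (t * x * t⁻¹) := by rw [← hw']
        _ = t * (w⁻¹ * x) * t⁻¹ := by group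
        _ = t * (x * w⁻¹) * t⁻¹ := by rw [hxw']
        _ = (t * x * t⁻¹) * (t * w⁻¹ * t⁻¹) := by group
        _ = (t * x * t⁻¹) * w := by rw [← hw']
    intro k hk x hx
    exact conj_mem_of_mem_normalizer ((zpowers_le.mpr this) hk) hx
  have hcard := card_sup_dvd (centralizer ({w} : Set G)) (zpowers t) hnorm
  have hot : orderOf t = 2 := by
    apply orderOf_eq_prime
    · rw [pow_two]; exact ht.2
    · exact ht.1
  have hc2 : Nat.card (zpowers t) = 2 := by rw [Nat.card_zpowers, hot]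
  rw [hc2] at hcard
  have hne : (centralizer ({w} : Set G) ⊔ zpowers t : Subgroup G) ≠ ⊤ := by
    intro htop
    rw [htop, card_top] at hcard
    have h4 : 4 ∣ Nat.card (centralizer ({w} : Set G)) * 2 := h.four_dvd.trans hcard
    exact hodd (by omega)
  have h2 : 2 ∣ Nat.card (centralizer ({w} : Set G) ⊔ zpowers t : Subgroup G) := by
    have : Nat.card (zpowers t) ∣ Nat.card (centralizer ({w} : Set G) ⊔ zpowers t : Subgroup G) :=
      Subgroup.card_dvd_of_le le_sup_right
    rwa [hc2] at this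
  have hT : TwoP p (centralizer ({w} : Set G)) := (h.star _ hne h2).mono le_sup_left
  have hPG : IsPGroup p (centralizer ({w} : Set G)) := hT.isPGroup_of_odd h.hp hodd
  obtain ⟨P, hP⟩ := hw.isPGroup_zpowers.exists_le_sylow
  have hPle : (P : Subgroup G) ≤ centralizer ({w} : Set G) := by
    intro x hx
    rw [mem_centralizer_iff]
    intro y hy
    rw [Set.mem_singleton_iff.mp hy]
    exact h.pab _ P.isPGroup' w (hP (mem_zpowers w)) x hx
  exact ⟨P, (P.is_maximal' hPG hPle).symm⟩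

theorem Kt_conj {t : G} (ht : Inv t) (g : G) {x : G} (hx : x ∈ Kt p t) :
    g * x * g⁻¹ ∈ Kt p (g * t * g⁻¹) := by
  rw [h.mem_Kt (ht.conj g)]
  obtain ⟨h1, h2⟩ := (h.mem_Kt ht).mp hx
  refine ⟨?_, h2.conj g⟩
  calc g * t * g⁻¹ * (g * x * g⁻¹) = g * (t * x) * g⁻¹ := by group
    _ = g * (x * t) * g⁻¹ := by rw [h1]
    _ = g * x * g⁻¹ * (g * t * g⁻¹) := by group


omit h in
theorem conj_mem_cent_of_inv {g w x : G} (hg : g * w * g⁻¹ = w⁻¹)
    (hx : x ∈ centralizer ({w} : Set G)) : g * x * g⁻¹ ∈ centralizer ({w} : Set G) := by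
  rw [mem_centralizer_iff]
  intro y hy
  rw [Set.mem_singleton_iff.mp hy]
  have hxw : w * x = x * w := mem_centralizer_iff.mp hx w rfl
  have hw' : w = g * w⁻¹ * g⁻¹ := by
    have e : g * w⁻¹ * g⁻¹ = (g * w * g⁻¹)⁻¹ := by group
    rw [e, hg, inv_inv]
  have hxw' : w⁻¹ * x = x * w⁻¹ := by
    calc w⁻¹ * x = w⁻¹ * (x * w) * w⁻¹ := by group
      _ = w⁻¹ * (w * x) * w⁻¹ := by rw [hxw]
      _ = x * w⁻¹ := by group
  calc w * (g * x * g⁻¹) = (g * w⁻¹ * g⁻¹) * (g * x * g⁻¹) := by rw [← hw']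
    _ = g * (w⁻¹ * x) * g⁻¹ := by group
    _ = g * (x * w⁻¹) * g⁻¹ := by rw [hxw']
    _ = (g * x * g⁻¹) * (g * w⁻¹ * g⁻¹) := by group
    _ = (g * x * g⁻¹) * w := by rw [← hw']

theorem exists_ne_one_sylow (P : Sylow p G) : ∃ x ∈ P, x ≠ 1 := by
  haveI : Fact p.Prime := ⟨h.hp⟩
  have hc : Nat.card (P : Subgroup G) ≠ 1 := by
    rw [Sylow.card_eq_multiplicity]
    have := Nat.Prime.factorization_pos_of_dvd h.hp Nat.card_pos.ne' h.p_dvd
    have h2 := h.hp.two_le
    have : p ^ 1 ≤ p ^ (Nat.card G).factorization p := Nat.pow_le_pow_right h.hp.pos this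
    rw [pow_one] at this
    omega
  have hne : (P : Subgroup G) ≠ ⊥ := fun hb => hc (by rw [hb, card_bot])
  obtain ⟨x, hx⟩ := (Subgroup.ne_bot_iff_exists_ne_one).mp hne
  exact ⟨x, x.2, fun h1 => hx (Subtype.ext h1)⟩

section CaseA

variable (hA : ∀ t : G, Inv t → ∀ x : G, t * x = x * t → Pel p x → x = 1)
include hA

theorem A_card_cent {t : G} (hti : Inv t) : Nat.card (centralizer ({t} : Set G)) = p + 1 := by
  have hK : Kt p t = ⊥ := by
    rw [eq_bot_iff]; intro y hy
    obtain ⟨h1, h2⟩ := (h.mem_Kt hti).mp hy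
    exact mem_bot.mpr (hA t hti y h1 h2)
  have hc := h.card_cent hti
  rw [hK, card_bot, one_mul] at hc
  exact hc.symm

/-- centraliser of an involution is its Sylow 2-subgroup -/
theorem A_cent (Q : Sylow 2 G) {t x : G} (ht : t ∈ Q) (ht1 : t ≠ 1) (hx : t * x = x * t) :
    x ∈ Q := by
  have hti := h.inv_of_mem Q ht ht1
  have hc := h.A_card_cent hA hti
  have hle := h.Q_le_cent Q ht
  have heq : (Q : Subgroup G) = centralizer ({t} : Set G) :=
    Subgroup.eq_of_le_of_card_ge hle (by rw [hc, h.card_Q Q])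
  have : x ∈ centralizer ({t} : Set G) := by
    rw [mem_centralizer_iff]; intro y hy; rw [Set.mem_singleton_iff.mp hy]; exact hx
  rw [← heq] at this; exact this

theorem A_comm {t u z : G} (hz : Inv z) (hzt : z * t = t * z) (hzu : z * u = u * z) :
    t * u = u * t := by
  obtain ⟨Q, hQ⟩ := h.exists_sylow_of_inv hz
  exact h.comm_Q Q (h.A_cent hA Q hQ hz.1 hzt) (h.A_cent hA Q hQ hz.1 hzu)

theorem A_prod {t u : G} (ht : Inv t) (hu : Inv u) (hne : t * u ≠ u * t) :
    Pel p (t * u) ∧ t * u ≠ 1 ∧ ∀ z, Inv z → z * (t * u) ≠ (t * u) * z := by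
  have h1 : Pel p (t * u) := by
    rcases h.prod_inv ht hu with ⟨z, hz, h1, h2, -⟩ | h1
    · exact absurd (h.A_comm hA hz h1 h2) hne
    · exact h1
  have h2 : t * u ≠ 1 := by
    intro h1
    apply hne
    have : u = t := by
      have := eq_inv_of_mul_eq_one_right h1
      rw [this, ht.inv_eq]
    rw [this]
  exact ⟨h1, h2, fun z hz hzw => h2 (hA z hz (t * u) hzw h1)⟩

theorem A_inverts (P : Sylow p G) {t : G} (ht : Inv t) (hn : ∀ x ∈ P, t * x * t⁻¹ ∈ P) {x : G}
    (hx : x ∈ P) : t * x * t⁻¹ = x⁻¹ := by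
  have hcomm := h.pab _ P.isPGroup' x hx _ (hn x hx)
  have he : t * (x * (t * x * t⁻¹)) = (x * (t * x * t⁻¹)) * t := by
    have h1 : t * (x * (t * x * t⁻¹)) * t⁻¹ = x * (t * x * t⁻¹) := by
      calc t * (x * (t * x * t⁻¹)) * t⁻¹ = (t * x * t⁻¹) * ((t * t) * x * (t * t)⁻¹) := by group
        _ = (t * x * t⁻¹) * x := by rw [ht.2]; group
        _ = x * (t * x * t⁻¹) := hcomm.symm
    calc t * (x * (t * x * t⁻¹)) = (t * (x * (t * x * t⁻¹)) * t⁻¹) * t := by group
      _ = (x * (t * x * t⁻¹)) * t := by rw [h1]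
  have hpe : Pel p (x * (t * x * t⁻¹)) :=
    Pel.of_mem P.isPGroup' ((P : Subgroup G).mul_mem hx (hn x hx))
  exact eq_inv_of_mul_eq_one_right (hA t ht _ he hpe)

theorem A_exists {t u : G} (ht : Inv t) (hu : Inv u) (hne : t * u ≠ u * t) :
    ∃ P : Sylow p G, (P : Subgroup G) = centralizer ({t * u} : Set G) ∧
      (∀ x ∈ P, t * x * t⁻¹ ∈ P) ∧ (∀ x ∈ P, u * x * u⁻¹ ∈ P) := by
  obtain ⟨hp, h1, hno⟩ := h.A_prod hA ht hu hne
  obtain ⟨P, hP⟩ := h.cent_inverted ht hp (ht.conj_mul hu) hno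
  refine ⟨P, hP, fun x hx => ?_, fun x hx => ?_⟩
  · have hx' : x ∈ (P : Subgroup G) := hx
    rw [hP] at hx'
    have := conj_mem_cent_of_inv (ht.conj_mul hu) hx'
    rw [← hP] at this; exact this
  · have hx' : x ∈ (P : Subgroup G) := hx
    rw [hP] at hx'
    have := conj_mem_cent_of_inv (ht.conj_mul' hu) hx'
    rw [← hP] at this; exact this

theorem A_unique {t u : G} (ht : Inv t) (hu : Inv u) (P P' : Sylow p G)
    (hP : (P : Subgroup G) = centralizer ({t * u} : Set G))
    (ht' : ∀ x ∈ P', t * x * t⁻¹ ∈ P') (hu' : ∀ x ∈ P', u * x * u⁻¹ ∈ P') : P' = P := by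
  have hle : (P' : Subgroup G) ≤ P := by
    intro x hx
    rw [hP, mem_centralizer_iff]; intro y hy; rw [Set.mem_singleton_iff.mp hy]
    have h1 := h.A_inverts hA P' hu hu' hx
    have h2 := h.A_inverts hA P' ht ht' ((P' : Subgroup G).inv_mem hx)
    rw [inv_inv] at h2
    calc t * u * x = t * (u * x * u⁻¹) * t⁻¹ * (t * u) := by group
      _ = x * (t * u) := by rw [h1, h2]
  exact Sylow.ext (P'.is_maximal' P.isPGroup' hle).symm

theorem A_J_noncomm (P : Sylow p G) {t u : G} (ht : Inv t) (hu : Inv u)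
    (hnt : ∀ x ∈ P, t * x * t⁻¹ ∈ P) (hnu : ∀ x ∈ P, u * x * u⁻¹ ∈ P) (htu : t ≠ u) :
    t * u ≠ u * t := by
  intro hc
  have hi : Inv (t * u) := by
    refine ⟨fun h1 => htu ?_, ?_⟩
    · have := eq_inv_of_mul_eq_one_right h1
      rw [this, ht.inv_eq]
    · calc t * u * (t * u) = t * (u * t) * u := by group
        _ = t * (t * u) * u := by rw [hc]
        _ = (t * t) * (u * u) := by group
        _ = 1 := by rw [ht.2, hu.2, one_mul]
  obtain ⟨x, hx, hx1⟩ := h.exists_ne_one_sylow P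
  have h1 := h.A_inverts hA P hu hnu hx
  have h2 := h.A_inverts hA P ht hnt ((P : Subgroup G).inv_mem hx)
  rw [inv_inv] at h2
  have : t * u * x = x * (t * u) := by
    calc t * u * x = t * (u * x * u⁻¹) * t⁻¹ * (t * u) := by group
      _ = x * (t * u) := by rw [h1, h2]
  exact hx1 (hA _ hi x this (Pel.of_mem P.isPGroup' hx))

theorem A_J_eq (P : Sylow p G) {t₀ : G} (ht₀ : Inv t₀) (hn₀ : ∀ x ∈ P, t₀ * x * t₀⁻¹ ∈ P) :
    {t : G | Inv t ∧ ∀ x ∈ P, t * x * t⁻¹ ∈ P} = (fun x => x * t₀) '' ((P : Subgroup G) : Set G) := by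
  haveI : Fact p.Prime := ⟨h.hp⟩
  ext t
  constructor
  · rintro ⟨ht, hnt⟩
    obtain ⟨w₀, hw₀, hw₀1⟩ := h.exists_ne_one_sylow P
    have hinv₀ := h.A_inverts hA P ht₀ hn₀ hw₀
    have hpw : Pel p w₀ := Pel.of_mem P.isPGroup' hw₀
    obtain ⟨P', hP'⟩ := h.cent_inverted ht₀ hpw hinv₀
      (fun z hz hzw => hw₀1 (hA z hz w₀ hzw hpw))
    have hPle : (P : Subgroup G) ≤ P' := by
      intro x hx
      rw [hP', mem_centralizer_iff]; intro y hy; rw [Set.mem_singleton_iff.mp hy]
      exact h.pab _ P.isPGroup' w₀ hw₀ x hx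
    have hPeq : (P' : Subgroup G) = P := P.is_maximal' P'.isPGroup' hPle
    have hmem : t * t₀ ∈ (P : Subgroup G) := by
      rw [← hPeq, hP', mem_centralizer_iff]; intro y hy; rw [Set.mem_singleton_iff.mp hy]
      have h1 := h.A_inverts hA P ht hnt ((P : Subgroup G).inv_mem hw₀)
      rw [inv_inv] at h1
      have h3 : t₀ * w₀ = w₀⁻¹ * t₀ := by
        calc t₀ * w₀ = (t₀ * w₀ * t₀⁻¹) * t₀ := by group
          _ = w₀⁻¹ * t₀ := by rw [hinv₀]
      have h4 : t * w₀⁻¹ = w₀ * t := by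
        calc t * w₀⁻¹ = (t * w₀⁻¹ * t⁻¹) * t := by group
          _ = w₀ * t := by rw [h1]
      calc w₀ * (t * t₀) = (w₀ * t) * t₀ := by group
        _ = (t * w₀⁻¹) * t₀ := by rw [h4]
        _ = t * (w₀⁻¹ * t₀) := by group
        _ = t * (t₀ * w₀) := by rw [h3]
        _ = t * t₀ * w₀ := by group
    refine ⟨t * t₀, hmem, ?_⟩
    show t * t₀ * t₀ = t
    rw [mul_assoc, ht₀.2, mul_one]
  · rintro ⟨x, hx, rfl⟩
    have hx' : x ∈ P := hx
    have hinv := h.A_inverts hA P ht₀ hn₀ hx'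
    refine ⟨⟨fun h1 => ?_, ?_⟩, fun y hy => ?_⟩
    · have : t₀ = x⁻¹ := (eq_inv_of_mul_eq_one_right h1)
      exact ht₀.not_pel h.hp h.hp2 (this ▸ (Pel.of_mem P.isPGroup' hx').inv)
    · show x * t₀ * (x * t₀) = 1
      calc x * t₀ * (x * t₀) = x * (t₀ * x * t₀⁻¹) * (t₀ * t₀) := by group
        _ = 1 := by rw [hinv, ht₀.2]; group
    · show x * t₀ * y * (x * t₀)⁻¹ ∈ P
      have : x * t₀ * y * (x * t₀)⁻¹ = x * (t₀ * y * t₀⁻¹) * x⁻¹ := by group
      rw [this]
      exact (P : Subgroup G).mul_mem ((P : Subgroup G).mul_mem hx' (hn₀ y hy))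
        ((P : Subgroup G).inv_mem hx')

theorem A_exists_noncomm : ∃ t u : G, Inv t ∧ Inv u ∧ t * u ≠ u * t := by
  obtain ⟨Q, -⟩ := h.exQ
  obtain ⟨t, htQ, hti⟩ := h.exists_inv_mem Q
  have hnn := h.Q_not_normal Q
  push Not at hnn
  obtain ⟨g, s, hs, hgs⟩ := hnn
  have hs1 : s ≠ 1 := by
    rintro rfl
    apply hgs
    have : g * 1 * g⁻¹ = 1 := by group
    rw [this]; exact (Q : Subgroup G).one_mem
  have hu := (h.inv_of_mem Q hs hs1).conj g
  exact ⟨t, g * s * g⁻¹, hti, hu, fun hc => hgs (h.A_cent hA Q htQ hti.1 hc)⟩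

theorem A_J_nonempty (P : Sylow p G) : ∃ t : G, Inv t ∧ ∀ x ∈ P, t * x * t⁻¹ ∈ P := by
  haveI : Fact p.Prime := ⟨h.hp⟩
  obtain ⟨t, u, ht, hu, hne⟩ := h.A_exists_noncomm hA
  obtain ⟨P₀, -, hn, -⟩ := h.A_exists hA ht hu hne
  obtain ⟨g, rfl⟩ := MulAction.exists_smul_eq G P₀ P
  refine ⟨g * t * g⁻¹, ht.conj g, fun x hx => ?_⟩
  rw [mem_smul_sylow] at hx ⊢
  have := hn _ hx
  have e : g⁻¹ * (g * t * g⁻¹ * x * (g * t * g⁻¹)⁻¹) * g = t * (g⁻¹ * x * g) * t⁻¹ := by group
  rw [e]; exact this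


/-- The case where involution centralisers are `2`-groups is impossible. -/
theorem A_false : False := by
  classical
  haveI : Fact p.Prime := ⟨h.hp⟩
  haveI := Fintype.ofFinite G
  haveI := Fintype.ofFinite (Sylow p G)
  set IF : Finset G := Finset.univ.filter (fun t => Inv t) with hIF
  set JF : Sylow p G → Finset G := fun P => IF.filter (fun t => ∀ x ∈ P, t * x * t⁻¹ ∈ P) with hJF
  set n := IF.card with hn
  obtain ⟨P₀⟩ : Nonempty (Sylow p G) := Sylow.nonempty
  set c := Nat.card (P₀ : Subgroup G) with hc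
  have hmemIF : ∀ t, t ∈ IF ↔ Inv t := by
    intro t; simp [hIF]
  have hJcard : ∀ P : Sylow p G, (JF P).card = c := by
    intro P
    obtain ⟨t₀, ht₀, hn₀⟩ := h.A_J_nonempty hA P
    have h1 := h.A_J_eq hA P ht₀ hn₀
    have e : ((JF P : Finset G) : Set G) = {t | Inv t ∧ ∀ x ∈ P, t * x * t⁻¹ ∈ P} := by
      ext t; simp [hJF, hmemIF]
    rw [← Set.ncard_coe_finset, e, h1, Set.ncard_image_of_injective _ (mul_left_injective t₀),
      ← Nat.card_coe_set_eq]
    show Nat.card (P : Subgroup G) = c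
    rw [hc, Sylow.card_eq_multiplicity, Sylow.card_eq_multiplicity]
  have hfib : ∀ t ∈ IF, (IF.filter (fun u => t * u ≠ u * t)).card = n - p := by
    intro t ht
    have hti : Inv t := (hmemIF t).mp ht
    obtain ⟨Q, hQ⟩ := h.exists_sylow_of_inv hti
    have h1 := Finset.card_filter_add_card_filter_not (s := IF) (fun u => t * u = u * t)
    have h2 : (IF.filter (fun u => t * u = u * t)).card = p := by
      rw [← Set.ncard_coe_finset, ← h.ncard_Q Q]
      congr 1
      ext u
      simp only [Finset.coe_filter, hmemIF, Set.mem_setOf_eq]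
      constructor
      · rintro ⟨hu, hcm⟩; exact ⟨h.A_cent hA Q hQ hti.1 hcm, hu.1⟩
      · rintro ⟨hu, hu1⟩; exact ⟨h.inv_of_mem Q hu hu1, h.comm_Q Q hQ hu⟩
    have h3 : (IF.filter (fun u => ¬ (t * u = u * t))).card = n - p := by omega
    exact h3
  have hN : (IF.sigma (fun t => IF.filter (fun u => t * u ≠ u * t))).card = n * (n - p) := by
    rw [Finset.card_sigma, Finset.sum_congr rfl hfib, Finset.sum_const, smul_eq_mul]
  have hT : ((Finset.univ : Finset (Sylow p G)).sigma (fun P => (JF P).offDiag)).card =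
      Fintype.card (Sylow p G) * (c * c - c) := by
    rw [Finset.card_sigma]
    simp only [Finset.offDiag_card, hJcard]
    rw [Finset.sum_const, smul_eq_mul, Finset.card_univ]
  have hbij : ((Finset.univ : Finset (Sylow p G)).sigma (fun P => (JF P).offDiag)).card =
      (IF.sigma (fun t => IF.filter (fun u => t * u ≠ u * t))).card := by
    apply Finset.card_bij (fun a _ => (⟨a.2.1, a.2.2⟩ : Σ _ : G, G))
    · rintro ⟨P, t, u⟩ ha
      simp only [Finset.mem_sigma, Finset.mem_univ, true_and, Finset.mem_offDiag, hJF,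
        Finset.mem_filter, hmemIF] at ha ⊢
      obtain ⟨⟨ht, hnt⟩, ⟨hu, hnu⟩, htu⟩ := ha
      exact ⟨ht, hu, h.A_J_noncomm hA P ht hu hnt hnu htu⟩
    · rintro ⟨P, t, u⟩ ha ⟨P', t', u'⟩ ha' heq
      simp only [Finset.mem_sigma, Finset.mem_univ, true_and, Finset.mem_offDiag, hJF,
        Finset.mem_filter, hmemIF] at ha ha'
      obtain ⟨⟨ht, hnt⟩, ⟨hu, hnu⟩, htu⟩ := ha
      obtain ⟨⟨ht', hnt'⟩, ⟨hu', hnu'⟩, htu'⟩ := ha'
      simp only [Sigma.mk.injEq, heq_eq_eq] at heq
      obtain ⟨rfl, rfl⟩ := heq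
      have hne := h.A_J_noncomm hA P ht hu hnt hnu htu
      obtain ⟨P₁, hP₁, -, -⟩ := h.A_exists hA ht hu hne
      have e1 := h.A_unique hA ht hu P₁ P hP₁ hnt hnu
      have e2 := h.A_unique hA ht hu P₁ P' hP₁ hnt' hnu'
      rw [e1, e2]
    · rintro ⟨t, u⟩ hb
      simp only [Finset.mem_sigma, Finset.mem_filter, hmemIF] at hb
      obtain ⟨ht, hu, hne⟩ := hb
      obtain ⟨P₁, -, h1, h2⟩ := h.A_exists hA ht hu hne
      refine ⟨⟨P₁, t, u⟩, ?_, rfl⟩
      simp only [Finset.mem_sigma, Finset.mem_univ, true_and, Finset.mem_offDiag, hJF,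
        Finset.mem_filter, hmemIF]
      exact ⟨⟨ht, h1⟩, ⟨hu, h2⟩, fun e => hne (by rw [e])⟩
  have hEq : n * (n - p) = Fintype.card (Sylow p G) * (c * c - c) := by
    rw [← hN, ← hT, hbij]
  -- the class equation
  obtain ⟨t₀, u₀, ht₀, -, -⟩ := h.A_exists_noncomm hA
  have hE1 : n * (p + 1) = Nat.card G := by
    have h1 := ncard_conj_mul_card_cent t₀
    rw [h.A_card_cent hA ht₀] at h1
    have h2 : {x : G | ∃ g : G, g * t₀ * g⁻¹ = x} = ((IF : Finset G) : Set G) := by
      ext x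
      simp only [Set.mem_setOf_eq, Finset.mem_coe, hmemIF]
      constructor
      · rintro ⟨g, rfl⟩; exact ht₀.conj g
      · intro hx; exact h.conj_inv ht₀ hx
    rw [h2, Set.ncard_coe_finset] at h1
    exact h1
  have hcG : c ∣ Nat.card G := Subgroup.card_subgroup_dvd_card _
  have hcpow : c = p ^ (Nat.card G).factorization p := by rw [hc, Sylow.card_eq_multiplicity]
  have hm : 0 < (Nat.card G).factorization p :=
    Nat.Prime.factorization_pos_of_dvd h.hp Nat.card_pos.ne' h.p_dvd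
  have hpc : p ∣ c := by rw [hcpow]; exact dvd_pow_self p hm.ne'
  have hcpos : 0 < c := Nat.card_pos
  have hcop : c.Coprime (p + 1) := by
    rw [hcpow]
    apply Nat.Coprime.pow_left
    simp
  have hcn : c ∣ n := hcop.dvd_of_dvd_mul_right (hE1 ▸ hcG)
  obtain ⟨k, hk⟩ := hcn
  have hfinal : k * (c * k - p) = Fintype.card (Sylow p G) * (c - 1) := by
    have h1 : c * (k * (c * k - p)) = c * (Fintype.card (Sylow p G) * (c - 1)) := by
      calc c * (k * (c * k - p)) = (c * k) * (c * k - p) := by ring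
        _ = Fintype.card (Sylow p G) * (c * c - c) := by rw [← hk]; exact hEq
        _ = c * (Fintype.card (Sylow p G) * (c - 1)) := by
          have e : c * c - c = c * (c - 1) := (Nat.mul_sub_one c c).symm
          rw [e]; ring
    exact Nat.eq_of_mul_eq_mul_left hcpos h1
  have hd1 : p ∣ c * k - p := Nat.dvd_sub (hpc.mul_right k) (dvd_refl p)
  have hd2 : p ∣ Fintype.card (Sylow p G) * (c - 1) := by
    rw [← hfinal]; exact hd1.mul_left k
  rcases (Nat.Prime.dvd_mul h.hp).mp hd2 with h1 | h1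
  · have h2 := card_sylow_modEq_one p G
    rw [Nat.card_eq_fintype_card] at h2
    have h3 : Fintype.card (Sylow p G) % p = 0 := Nat.mod_eq_zero_of_dvd h1
    have h4 : 1 % p = 1 := Nat.mod_eq_of_lt h.hp.one_lt
    unfold Nat.ModEq at h2
    omega
  · have h2 : p ∣ c - (c - 1) := Nat.dvd_sub hpc h1
    have h3 : c - (c - 1) = 1 := by omega
    rw [h3] at h2
    exact h.hp.one_lt.ne' (Nat.dvd_one.mp h2)

end CaseA

end Pkg

end Cfsg.Agent.Lib.helper73.EP
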