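/-
S4017 (helper73): general helpers, the normality criterion for a Sylow 2-subgroup, and the
case where a nonidentity `p`-element centralises a Sylow `2`-subgroup.
-/
import Cfsg.Agent.Lib.helper73.EvenC

set_option autoImplicit false

open Subgroup

namespace Cfsg.Agent.Lib.helper73.EP

universe u
variable {G : Type u} [Group G]

/-- elements of `H ⊔ K` factor when `K` normalises `H` -/
theorem mem_sup_of_normalizes (H K : Subgroup G) (hn : ∀ k ∈ K, ∀ x ∈ H, k * x * k⁻¹ ∈ H)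
    {g : G} (hg : g ∈ H ⊔ K) : ∃ x ∈ H, ∃ k ∈ K, g = x * k := by
  let S : Subgroup G :=
    { carrier := {g | ∃ x ∈ H, ∃ k ∈ K, g = x * k}
      mul_mem' := by
        rintro _ _ ⟨x, hx, k, hk, rfl⟩ ⟨x', hx', k', hk', rfl⟩
        refine ⟨x * (k * x' * k⁻¹), H.mul_mem hx (hn k hk x' hx'), k * k', K.mul_mem hk hk', ?_⟩
        group
      one_mem' := ⟨1, H.one_mem, 1, K.one_mem, by group⟩
      inv_mem' := by
        rintro _ ⟨x, hx, k, hk, rfl⟩
        refine ⟨k⁻¹ * x⁻¹ * k⁻¹⁻¹, hn k⁻¹ (K.inv_mem hk) x⁻¹ (H.inv_mem hx), k⁻¹, K.inv_mem hk, ?_⟩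
        group }
  have hle : H ⊔ K ≤ S := by
    apply sup_le
    · intro x hx; exact ⟨x, hx, 1, K.one_mem, by group⟩
    · intro k hk; exact ⟨1, H.one_mem, k, hk, by group⟩
  exact hle hg

theorem nat_eq_two_pow_mul {p : ℕ} (hp2 : p ≠ 2) {n : ℕ} (hn : n ≠ 0)
    (h : ∀ r : ℕ, r.Prime → r ∣ n → r = 2 ∨ r = p) :
    n = 2 ^ n.factorization 2 * p ^ n.factorization p := by
  conv_lhs => rw [← Nat.prod_factorization_pow_eq_self hn]
  rw [Finsupp.prod_of_support_subset (s := {2, p})]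
  · rw [Finset.prod_pair (Ne.symm hp2)]
  · intro r hr
    rw [Nat.support_factorization] at hr
    have := Nat.mem_primeFactors.mp hr
    rcases h r this.1 this.2.1 with rfl | rfl <;> simp
  · intro r _; exact pow_zero r

/-- a product decomposition from coprime orders -/
theorem exists_mul_of_card [Finite G] (A B L : Subgroup G) (hA : A ≤ L) (hB : B ≤ L)
    (hcop : (Nat.card A).Coprime (Nat.card B)) (hcard : Nat.card L ≤ Nat.card A * Nat.card B) :
    ∀ g ∈ L, ∃ a ∈ A, ∃ b ∈ B, g = a * b := by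
  let φ : A × B → L := fun x => ⟨x.1 * x.2, L.mul_mem (hA x.1.2) (hB x.2.2)⟩
  have hinj : Function.Injective φ := by
    rintro ⟨a, b⟩ ⟨a', b'⟩ hab
    have h1 : (a : G) * b = a' * b' := congrArg Subtype.val hab
    have h2 : (a' : G)⁻¹ * a = b' * (b : G)⁻¹ := by
      calc (a' : G)⁻¹ * a = (a' : G)⁻¹ * (a * b) * (b : G)⁻¹ := by group
        _ = (a' : G)⁻¹ * (a' * b') * (b : G)⁻¹ := by rw [h1]
        _ = b' * (b : G)⁻¹ := by group
    have h3 : (a' : G)⁻¹ * a ∈ A ⊓ B :=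
      ⟨A.mul_mem (A.inv_mem a'.2) a.2, by rw [h2]; exact B.mul_mem b'.2 (B.inv_mem b.2)⟩
    rw [(Subgroup.disjoint_of_coprime_natCard hcop).eq_bot, mem_bot] at h3
    have h4 : (a : G) = a' := by
      calc (a : G) = a' * ((a' : G)⁻¹ * a) := by group
        _ = a' := by rw [h3, mul_one]
    have h5 : (b : G) = b' := by
      rw [h4] at h1; exact mul_left_cancel h1
    exact Prod.ext (Subtype.ext h4) (Subtype.ext h5)
  have hbij := hinj.bijective_of_nat_card_le (by rw [Nat.card_prod]; exact hcard)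
  intro g hg
  obtain ⟨⟨a, b⟩, hab⟩ := hbij.2 ⟨g, hg⟩
  exact ⟨a, a.2, b, b.2, (congrArg Subtype.val hab).symm⟩

theorem conj_zpowers_mem {g x : G} (h : g * x * g⁻¹ ∈ zpowers x) :
    ∀ y ∈ zpowers x, g * y * g⁻¹ ∈ zpowers x := by
  intro y hy
  obtain ⟨n, rfl⟩ := mem_zpowers_iff.mp hy
  rw [← conj_zpow]
  exact zpow_mem h n

theorem comm_of_conj_eq {g x : G} (h : g * x * g⁻¹ = x) : g * x = x * g := by
  calc g * x = (g * x * g⁻¹) * g := by group
    _ = x * g := by rw [h]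

theorem conj_eq_of_comm {g x : G} (h : g * x = x * g) : g * x * g⁻¹ = x := by
  rw [h]; group

namespace Pkg

variable [Finite G] {p : ℕ} (h : Pkg G p)
include h

/-- **Normality criterion**: a proper subgroup containing `Q` and a `p`-element acting
fixed-point-freely on `Q` normalises `Q`. -/
theorem normal_of_fpf (Q : Sylow 2 G) (L : Subgroup G) (hL : L ≠ ⊤)
    (hQL : (Q : Subgroup G) ≤ L) {y : G} (hyL : y ∈ L) (hy : Pel p y)
    (hn : ∀ s ∈ Q, y * s * y⁻¹ ∈ Q) (hf : ∀ s ∈ Q, y * s * y⁻¹ = s → s = 1) :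
    ∀ g ∈ L, ∀ s ∈ Q, g * s * g⁻¹ ∈ Q := by
  haveI : Fact (Nat.Prime 2) := ⟨Nat.prime_two⟩
  haveI : Fact p.Prime := ⟨h.hp⟩
  have hT := h.twoP_of_le Q hQL hL
  have hpy : IsPGroup p (zpowers (⟨y, hyL⟩ : L)) := by
    apply Pel.isPGroup_zpowers
    obtain ⟨k, hk⟩ := hy
    exact ⟨k, Subtype.ext (by simpa using hk)⟩
  obtain ⟨PL, hPL⟩ := hpy.exists_le_sylow
  set B : Subgroup G := (PL : Subgroup L).map L.subtype with hB
  have hBL : B ≤ L := map_subtype_le _
  have hBcard : Nat.card B = p ^ (Nat.card L).factorization p := by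
    rw [hB, Subgroup.card_map_of_injective L.subtype_injective, Sylow.card_eq_multiplicity]
  have hBp : IsPGroup p B := IsPGroup.of_card hBcard
  have hyB : y ∈ B := Subgroup.mem_map.mpr ⟨⟨y, hyL⟩, hPL (mem_zpowers _), rfl⟩
  have hQcard : Nat.card (Q : Subgroup G) = 2 ^ (Nat.card G).factorization 2 :=
    Sylow.card_eq_multiplicity Q
  have hLcard := nat_eq_two_pow_mul h.hp2 (Nat.card_pos (α := L)).ne' hT
  have hle2 : 2 ^ (Nat.card L).factorization 2 ≤ 2 ^ (Nat.card G).factorization 2 := by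
    apply Nat.pow_le_pow_right (by norm_num)
    exact (Nat.factorization_le_iff_dvd (Nat.card_pos (α := L)).ne' Nat.card_pos.ne').mpr
      (Subgroup.card_subgroup_dvd_card L) 2
  have hcard : Nat.card L ≤ Nat.card (Q : Subgroup G) * Nat.card B := by
    rw [hQcard, hBcard]
    calc Nat.card L = 2 ^ (Nat.card L).factorization 2 * p ^ (Nat.card L).factorization p := hLcard
      _ ≤ _ := Nat.mul_le_mul_right _ hle2
  have hcop : (Nat.card (Q : Subgroup G)).Coprime (Nat.card B) := by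
    rw [hQcard, hBcard]
    exact Nat.Coprime.pow _ _ ((Nat.coprime_primes Nat.prime_two h.hp).mpr (Ne.symm h.hp2))
  have hfac := exists_mul_of_card (Q : Subgroup G) B L hQL hBL hcop hcard
  exact normal_of_ito Q B L (fun a ha a' ha' => h.comm_Q Q ha ha') (fun s hs => h.sq_Q Q hs)
    (fun b hb b' hb' => h.pab B hBp b hb b' hb') hQL hBL hfac y hyB hn hf

/-- a `p`-element normalising `Q` commutes with the `p`-elements centralising `Q` -/
theorem comm_of_cent (Q : Sylow 2 G) {y d : G} (hy : Pel p y)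
    (hn : ∀ s ∈ Q, y * s * y⁻¹ ∈ Q) (hd : Pel p d) (hdc : ∀ s ∈ Q, d * s = s * d) :
    y * d = d * y := by
  haveI : Fact (Nat.Prime 2) := ⟨Nat.prime_two⟩
  set L := centralizer ((Q : Subgroup G) : Set G) with hLdef
  have hQL : (Q : Subgroup G) ≤ L := by
    intro s hs
    rw [hLdef, mem_centralizer_iff]
    intro x hx; exact h.comm_Q Q hx hs
  have hLN : L ≤ normalizer ((Q : Subgroup G) : Set G) := centralizer_le_normalizer _
  have hL : L ≠ ⊤ := by
    intro htop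
    apply h.normalizer_ne_top Q
    rw [eq_top_iff, ← htop]; exact hLN
  have hT := h.twoP_of_le Q hQL hL
  obtain ⟨K, hKL, hKp, -, -, hKall⟩ := burnside_sub h.hp h.hp2 L Q hQL (fun g hg _ s hs => by
    have := mem_centralizer_iff.mp hg s hs
    rw [← this]; group) hT
  have hyN := mem_normalizer_of_conj_mem (Q : Subgroup G) y hn
  have hyK : zpowers y ≤ normalizer (K : Set G) := by
    rw [zpowers_le]
    apply mem_normalizer_of_conj_mem
    intro x hx
    refine hKall _ ?_ ((Pel.of_mem hKp hx).conj y)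
    rw [hLdef, mem_centralizer_iff]
    intro s hs
    have hs' : y⁻¹ * s * y ∈ (Q : Subgroup G) := conj_inv_mem_of_mem_normalizer hyN hs
    have hx' := mem_centralizer_iff.mp (hKL hx) _ hs'
    calc s * (y * x * y⁻¹) = y * ((y⁻¹ * s * y) * x) * y⁻¹ := by group
      _ = y * (x * (y⁻¹ * s * y)) * y⁻¹ := by rw [hx']
      _ = y * x * y⁻¹ * s := by group
  have hsup : IsPGroup p (zpowers y ⊔ K : Subgroup G) :=
    hy.isPGroup_zpowers.to_sup_of_normal_right' hKp hyK
  have hdK : d ∈ K := by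
    refine hKall d ?_ hd
    rw [hLdef, mem_centralizer_iff]
    intro s hs; exact (hdc s hs).symm
  exact h.pab _ hsup y (le_sup_left (a := zpowers y) (mem_zpowers y)) d
    (le_sup_right (a := zpowers y) hdK)

/-- `C_G(t) = K_t Q` -/
theorem cent_eq_sup (Q : Sylow 2 G) {t : G} (ht : t ∈ Q) (ht1 : t ≠ 1) :
    centralizer ({t} : Set G) = Kt p t ⊔ (Q : Subgroup G) := by
  haveI : Fact (Nat.Prime 2) := ⟨Nat.prime_two⟩
  have hti := h.inv_of_mem Q ht ht1
  have hKle : Kt p t ≤ centralizer ({t} : Set G) := by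
    intro x hx
    rw [mem_centralizer_iff]; intro y hy; rw [Set.mem_singleton_iff.mp hy]
    exact ((h.mem_Kt hti).mp hx).1
  have hle : Kt p t ⊔ (Q : Subgroup G) ≤ centralizer ({t} : Set G) :=
    sup_le hKle (h.Q_le_cent Q ht)
  symm
  apply Subgroup.eq_of_le_of_card_ge hle
  have hc := h.card_cent hti
  rw [← hc, ← h.card_Q Q]
  haveI : Fact p.Prime := ⟨h.hp⟩
  have hcop : (Nat.card (Kt p t)).Coprime (Nat.card (Q : Subgroup G)) :=
    IsPGroup.coprime_card_of_ne p 2 h.hp2 _ _ (h.Kt_isPGroup hti) Q.isPGroup'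
  exact Nat.le_of_dvd Nat.card_pos (hcop.mul_dvd_of_dvd_of_dvd
    (Subgroup.card_dvd_of_le le_sup_left) (Subgroup.card_dvd_of_le le_sup_right))

/-- exponent of an element normalising `Q` -/
theorem pow_eq_one_of_norm (Q : Sylow 2 G) {g : G} (hg : ∀ s ∈ Q, g * s * g⁻¹ ∈ Q) :
    g ^ (2 ^ (Nat.card G).factorization 2 * p ^ (Nat.card G).factorization p) = 1 := by
  have hN := h.twoP_normalizer Q
  have hgN : g ∈ normalizer ((Q : Subgroup G) : Set G) := mem_normalizer_of_conj_mem _ g hg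
  have hd := hN.card_dvd h.hp
  have h1 : g ^ Nat.card (normalizer ((Q : Subgroup G) : Set G)) = 1 := by
    have h0 := pow_card_eq_one' (G := normalizer ((Q : Subgroup G) : Set G)) (x := ⟨g, hgN⟩)
    have h0' := congrArg Subtype.val h0
    rw [SubmonoidClass.coe_pow] at h0'
    exact h0'
  obtain ⟨c, hc⟩ := hd
  rw [hc, pow_mul, h1, one_pow]

theorem pel_ppart (Q : Sylow 2 G) {g : G} (hg : ∀ s ∈ Q, g * s * g⁻¹ ∈ Q) :
    Pel p (g ^ 2 ^ (Nat.card G).factorization 2) :=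
  ⟨(Nat.card G).factorization p, by rw [← pow_mul, h.pow_eq_one_of_norm Q hg]⟩

/-- an element normalising `Q` whose `p`-part centralises `Q` centralises `Q` -/
theorem cent_of_ppart (Q : Sylow 2 G) {g : G} (hg : ∀ s ∈ Q, g * s * g⁻¹ ∈ Q)
    (hpp : ∀ s ∈ Q, g ^ 2 ^ (Nat.card G).factorization 2 * s *
      (g ^ 2 ^ (Nat.card G).factorization 2)⁻¹ = s) : ∀ s ∈ Q, g * s * g⁻¹ = s := by
  haveI : Fact (Nat.Prime 2) := ⟨Nat.prime_two⟩
  have hgN : g ∈ normalizer ((Q : Subgroup G) : Set G) := mem_normalizer_of_conj_mem _ g hg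
  have hgo := h.pow_eq_one_of_norm Q hg
  have h2 : Pel 2 (g ^ p ^ (Nat.card G).factorization p) :=
    ⟨(Nat.card G).factorization 2, by rw [← pow_mul, mul_comm, hgo]⟩
  have hg2Q : g ^ p ^ (Nat.card G).factorization p ∈ Q :=
    mem_sylow_of_pel Q h2 (fun s hs => conj_mem_of_mem_normalizer (pow_mem hgN _) hs)
  have hC2 : g ^ p ^ (Nat.card G).factorization p ∈ centralizer ((Q : Subgroup G) : Set G) := by
    rw [mem_centralizer_iff]; intro s hs; exact h.comm_Q Q hs hg2Q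
  have hCp : g ^ 2 ^ (Nat.card G).factorization 2 ∈ centralizer ((Q : Subgroup G) : Set G) := by
    rw [mem_centralizer_iff]; intro s hs
    exact (comm_of_conj_eq (hpp s hs)).symm
  have hcop : IsCoprime ((p ^ (Nat.card G).factorization p : ℕ) : ℤ)
      ((2 ^ (Nat.card G).factorization 2 : ℕ) : ℤ) :=
    Nat.isCoprime_iff_coprime.mpr
      (Nat.Coprime.pow _ _ ((Nat.coprime_primes h.hp Nat.prime_two).mpr h.hp2))
  obtain ⟨a, b, hab⟩ := hcop
  have hgC : g ∈ centralizer ((Q : Subgroup G) : Set G) := by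
    have : g = (g ^ p ^ (Nat.card G).factorization p) ^ a *
        (g ^ 2 ^ (Nat.card G).factorization 2) ^ b := by
      rw [← zpow_natCast g (p ^ (Nat.card G).factorization p),
        ← zpow_natCast g (2 ^ (Nat.card G).factorization 2), ← zpow_mul, ← zpow_mul, ← zpow_add,
        mul_comm _ a, mul_comm _ b, hab, zpow_one]
    rw [this]; exact mul_mem (zpow_mem hC2 a) (zpow_mem hCp b)
  intro s hs
  have := mem_centralizer_iff.mp hgC s hs
  rw [← this]; group

section CaseI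

variable (hO : ∀ N : Subgroup G, N.Normal → IsPGroup p N → N = ⊥)
include hO

theorem cent_ne_top_of_pel {d : G} (hd : Pel p d) (hd1 : d ≠ 1) :
    centralizer ({d} : Set G) ≠ ⊤ := by
  intro htop
  have hc : ∀ g : G, g * d = d * g := by
    intro g
    have : g ∈ centralizer ({d} : Set G) := by rw [htop]; exact mem_top g
    exact (mem_centralizer_iff.mp this d rfl).symm
  have hN : (zpowers d).Normal := by
    refine ⟨fun x hx g => ?_⟩
    exact conj_zpowers_mem (by rw [conj_eq_of_comm (hc g)]; exact mem_zpowers d) x hx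
  have := hO (zpowers d) hN hd.isPGroup_zpowers
  apply hd1
  have hd' : d ∈ zpowers d := mem_zpowers d
  rw [this, mem_bot] at hd'
  exact hd'

theorem normalizer_ne_top_of_pgroup {X : Subgroup G} (hX : IsPGroup p X) (hX1 : X ≠ ⊥) :
    normalizer (X : Set G) ≠ ⊤ := by
  intro htop
  exact hX1 (hO X (normalizer_eq_top_iff.mp htop) hX)

/-- the centraliser of a nonidentity `p`-element centralising `Q` normalises `Q` -/
theorem I_cent_le (Q : Sylow 2 G) {d : G} (hd : Pel p d) (hd1 : d ≠ 1)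
    (hdc : ∀ s ∈ Q, d * s = s * d) {g : G} (hg : g * d = d * g) : ∀ s ∈ Q, g * s * g⁻¹ ∈ Q := by
  obtain ⟨-, y, hy, hn, hf⟩ := h.allQ Q
  have hyd := h.comm_of_cent Q hy hn hd hdc
  have hL := h.cent_ne_top_of_pel hO hd hd1
  have hQL : (Q : Subgroup G) ≤ centralizer ({d} : Set G) := by
    intro s hs
    rw [mem_centralizer_iff]; intro x hx; rw [Set.mem_singleton_iff.mp hx]
    exact hdc s hs
  have hyL : y ∈ centralizer ({d} : Set G) := by
    rw [mem_centralizer_iff]; intro x hx; rw [Set.mem_singleton_iff.mp hx]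
    exact hyd.symm
  have hgL : g ∈ centralizer ({d} : Set G) := by
    rw [mem_centralizer_iff]; intro x hx; rw [Set.mem_singleton_iff.mp hx]
    exact hg.symm
  exact h.normal_of_fpf Q _ hL hQL hyL hy hn hf g hgL

theorem I_two_mem (Q : Sylow 2 G) {d : G} (hd : Pel p d) (hd1 : d ≠ 1)
    (hdc : ∀ s ∈ Q, d * s = s * d) {z : G} (hz : Pel 2 z) (hzd : z * d = d * z) : z ∈ Q := by
  haveI : Fact (Nat.Prime 2) := ⟨Nat.prime_two⟩
  exact mem_sylow_of_pel Q hz (h.I_cent_le hO Q hd hd1 hdc hzd)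

theorem I_norm (Q : Sylow 2 G) {d : G} (hd : Pel p d) (hd1 : d ≠ 1)
    (hdc : ∀ s ∈ Q, d * s = s * d) {g : G} (hg : g * d * g⁻¹ = d⁻¹) :
    ∀ s ∈ Q, g * s * g⁻¹ ∈ Q := by
  intro s hs
  have hs2 : Pel 2 (g * s * g⁻¹) := (Pel.of_mem Q.isPGroup' hs).conj g
  apply h.I_two_mem hO Q hd hd1 hdc hs2
  have h1 : s * d⁻¹ = d⁻¹ * s := by
    have := hdc s hs
    calc s * d⁻¹ = d⁻¹ * (d * s) * d⁻¹ := by group
      _ = d⁻¹ * (s * d) * d⁻¹ := by rw [this]
      _ = d⁻¹ * s := by group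
  have hd' : g * d⁻¹ * g⁻¹ = d := by
    have e : g * d⁻¹ * g⁻¹ = (g * d * g⁻¹)⁻¹ := by group
    rw [e, hg, inv_inv]
  calc g * s * g⁻¹ * d = g * s * g⁻¹ * (g * d⁻¹ * g⁻¹) := by rw [hd']
    _ = g * (s * d⁻¹) * g⁻¹ := by group
    _ = g * (d⁻¹ * s) * g⁻¹ := by rw [h1]
    _ = (g * d⁻¹ * g⁻¹) * (g * s * g⁻¹) := by group
    _ = d * (g * s * g⁻¹) := by rw [hd']

theorem I_cent (Q : Sylow 2 G) {d : G} (hd : Pel p d) (hd1 : d ≠ 1)
    (hdc : ∀ s ∈ Q, d * s = s * d) {t x : G} (ht : t ∈ Q) (ht1 : t ≠ 1) (hx : t * x = x * t) :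
    ∀ s ∈ Q, x * s = s * x := by
  have hti := h.inv_of_mem Q ht ht1
  have hxC : x ∈ centralizer ({t} : Set G) := by
    rw [mem_centralizer_iff]; intro y hy; rw [Set.mem_singleton_iff.mp hy]; exact hx
  rw [h.cent_eq_sup Q ht ht1] at hxC
  have hdK : d ∈ Kt p t := (h.mem_Kt hti).mpr ⟨(hdc t ht).symm, hd⟩
  have hle : Kt p t ⊔ (Q : Subgroup G) ≤ normalizer ((Q : Subgroup G) : Set G) := by
    apply sup_le _ le_normalizer
    intro k hk
    apply mem_normalizer_of_conj_mem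
    exact h.I_cent_le hO Q hd hd1 hdc (h.Kt_comm hti hk hdK)
  have hxN := hle hxC
  have := h.nreg Q (fun s hs => conj_mem_of_mem_normalizer hxN hs) ht ht1
    (conj_eq_of_comm hx.symm)
  intro s hs
  exact comm_of_conj_eq (this s hs)

theorem I_two_cent (Q : Sylow 2 G) {d : G} (hd : Pel p d) (hd1 : d ≠ 1)
    (hdc : ∀ s ∈ Q, d * s = s * d) {t z : G} (ht : t ∈ Q) (ht1 : t ≠ 1) (hz : Pel 2 z)
    (hzt : t * z = z * t) : z ∈ Q := by
  haveI : Fact (Nat.Prime 2) := ⟨Nat.prime_two⟩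
  have hc := h.I_cent hO Q hd hd1 hdc ht ht1 hzt
  exact mem_sylow_of_pel Q hz (fun s hs => by rw [conj_eq_of_comm (hc s hs)]; exact hs)

/-- **Case I**: no nonidentity `p`-element centralises a Sylow `2`-subgroup. -/
theorem I_false (hI : ∃ Q : Sylow 2 G, ∃ d : G, Pel p d ∧ d ≠ 1 ∧ ∀ s ∈ Q, d * s = s * d) :
    False := by
  haveI : Fact (Nat.Prime 2) := ⟨Nat.prime_two⟩
  haveI : Fact p.Prime := ⟨h.hp⟩
  obtain ⟨Q, d, hd, hd1, hdc⟩ := hI
  have hall : ∀ Q' : Sylow 2 G, ∃ d' : G, Pel p d' ∧ d' ≠ 1 ∧ ∀ s ∈ Q', d' * s = s * d' := by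
    intro Q'
    obtain ⟨g, rfl⟩ := MulAction.exists_smul_eq G Q Q'
    refine ⟨g * d * g⁻¹, hd.conj g, fun h1 => hd1 ?_, fun s hs => ?_⟩
    · have : d = g⁻¹ * (g * d * g⁻¹) * g := by group
      rw [this, h1]; group
    · rw [mem_smul_sylow] at hs
      have := hdc _ hs
      calc g * d * g⁻¹ * s = g * (d * (g⁻¹ * s * g)) * g⁻¹ := by group
        _ = g * ((g⁻¹ * s * g) * d) * g⁻¹ := by rw [this]
        _ = s * (g * d * g⁻¹) := by group
  obtain ⟨t, htQ, hti⟩ := h.exists_inv_mem Q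
  -- an involution outside `Q`
  have hnn := h.Q_not_normal Q
  push Not at hnn
  obtain ⟨g₀, s₀, hs₀, hgs₀⟩ := hnn
  have hs₀1 : s₀ ≠ 1 := by
    rintro rfl
    apply hgs₀
    have : g₀ * 1 * g₀⁻¹ = 1 := by group
    rw [this]; exact (Q : Subgroup G).one_mem
  have hui : Inv (g₀ * s₀ * g₀⁻¹) := (h.inv_of_mem Q hs₀ hs₀1).conj g₀
  generalize g₀ * s₀ * g₀⁻¹ = u at hgs₀ hui
  -- `w = t * u` is a `p`-element
  have hw : Pel p (t * u) := by
    rcases h.prod_inv hti hui with ⟨z, hz, hzt, hzu, -⟩ | hw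
    · exfalso
      have hzQ : z ∈ Q := h.I_two_cent hO Q hd hd1 hdc htQ hti.1 hz.pel hzt.symm
      exact hgs₀ (h.I_two_cent hO Q hd hd1 hdc hzQ hz.1 hui.pel hzu)
    · exact hw
  have hw1 : t * u ≠ 1 := by
    intro h1
    have : u = t := by
      have := eq_inv_of_mul_eq_one_right h1
      rw [this, hti.inv_eq]
    exact hgs₀ (this ▸ htQ)
  -- no involution centralises `w`
  have hno : ∀ z : G, Inv z → z * (t * u) ≠ (t * u) * z := by
    intro z hz hzw
    obtain ⟨Qz, hzQ⟩ := h.exists_sylow_of_inv hz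
    obtain ⟨dz, hdz, hdz1, hdzc⟩ := hall Qz
    have hwc := h.I_cent hO Qz hdz hdz1 hdzc hzQ hz.1 hzw
    have htn := h.I_norm hO Qz hw hw1 hwc (hti.conj_mul hui)
    have hun := h.I_norm hO Qz hw hw1 hwc (hti.conj_mul' hui)
    have htQz : t ∈ Qz := mem_sylow_of_pel Qz hti.pel htn
    have huQz : u ∈ Qz := mem_sylow_of_pel Qz hui.pel hun
    exact hgs₀ (h.I_two_cent hO Q hd hd1 hdc htQ hti.1 hui.pel (h.comm_Q Qz htQz huQz))
  obtain ⟨P, hP⟩ := h.cent_inverted hti hw (hti.conj_mul hui) hno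
  -- conjugate `d` into `P`
  obtain ⟨P', hP'⟩ := hd.isPGroup_zpowers.exists_le_sylow
  obtain ⟨g, hg⟩ := MulAction.exists_smul_eq G P' P
  have hd'P : g * d * g⁻¹ ∈ P := by
    rw [← hg, mem_smul_sylow]
    have : g⁻¹ * (g * d * g⁻¹) * g = d := by group
    rw [this]; exact hP' (mem_zpowers d)
  have hd'p : Pel p (g * d * g⁻¹) := hd.conj g
  have hd'1 : g * d * g⁻¹ ≠ 1 := by
    intro h1
    apply hd1
    have : d = g⁻¹ * (g * d * g⁻¹) * g := by group
    rw [this, h1]; group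
  have hd'c : ∀ s ∈ g • Q, (g * d * g⁻¹) * s = s * (g * d * g⁻¹) := by
    intro s hs
    rw [mem_smul_sylow] at hs
    have := hdc _ hs
    calc (g * d * g⁻¹) * s = g * (d * (g⁻¹ * s * g)) * g⁻¹ := by group
      _ = g * ((g⁻¹ * s * g) * d) * g⁻¹ := by rw [this]
      _ = s * (g * d * g⁻¹) := by group
  generalize g * d * g⁻¹ = d' at hd'P hd'p hd'1 hd'c
  -- `t` normalises `P`
  have htP : ∀ x ∈ P, t * x * t⁻¹ ∈ P := by
    intro x hx
    have hx' : x ∈ (P : Subgroup G) := hx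
    rw [hP] at hx'
    have := conj_mem_cent_of_inv (hti.conj_mul hui) hx'
    rw [← hP] at this; exact this
  have hwP : t * u ∈ P := by
    show t * u ∈ (P : Subgroup G)
    rw [hP]; exact mem_centralizer_iff.mpr (fun x hx => by rw [Set.mem_singleton_iff.mp hx])
  have heP : d' * (t * d' * t⁻¹) ∈ P := (P : Subgroup G).mul_mem hd'P (htP d' hd'P)
  have hcomm := h.pab _ P.isPGroup' d' hd'P _ (htP d' hd'P)
  have hte : t * (d' * (t * d' * t⁻¹)) = (d' * (t * d' * t⁻¹)) * t := by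
    have h1 : t * (d' * (t * d' * t⁻¹)) * t⁻¹ = d' * (t * d' * t⁻¹) := by
      calc t * (d' * (t * d' * t⁻¹)) * t⁻¹
          = (t * d' * t⁻¹) * ((t * t) * d' * (t * t)⁻¹) := by group
        _ = (t * d' * t⁻¹) * d' := by rw [hti.2]; group
        _ = d' * (t * d' * t⁻¹) := hcomm.symm
    exact comm_of_conj_eq h1
  have he1 : d' * (t * d' * t⁻¹) = 1 := by
    by_contra hne
    have hec := h.I_cent hO Q hd hd1 hdc htQ hti.1 hte
    have hwe : (t * u) * (d' * (t * d' * t⁻¹)) = (d' * (t * d' * t⁻¹)) * (t * u) :=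
      h.pab _ P.isPGroup' _ hwP _ heP
    have hwn := h.I_cent_le hO Q (Pel.of_mem P.isPGroup' heP) hne hec hwe
    have hun : ∀ s ∈ Q, u * s * u⁻¹ ∈ Q := by
      intro s hs
      have h1 := hwn s hs
      have h2 : u * s * u⁻¹ = t⁻¹ * ((t * u) * s * (t * u)⁻¹) * t := by group
      rw [h2]
      exact (Q : Subgroup G).mul_mem
        ((Q : Subgroup G).mul_mem ((Q : Subgroup G).inv_mem htQ) h1) htQ
    exact hgs₀ (mem_sylow_of_pel Q hui.pel hun)
  have hinv : t * d' * t⁻¹ = d'⁻¹ := eq_inv_of_mul_eq_one_right he1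
  have htQ' : t ∈ g • Q :=
    mem_sylow_of_pel (g • Q) hti.pel (h.I_norm hO (g • Q) hd'p hd'1 hd'c hinv)
  have h1 := hd'c t htQ'
  have h2 : d'⁻¹ = d' := by
    rw [← hinv, ← h1]; group
  apply hd'1
  apply hd'p.eq_one_of_sq h.hp h.hp2
  calc d' * d' = d'⁻¹ * d' := by rw [h2]
    _ = 1 := by group

end CaseI

end Pkg

end Cfsg.Agent.Lib.helper73.EP
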