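/-
S4017 (helper73): the case where no nonidentity `p`-element centralises a Sylow `2`-subgroup
(structure of `N_G(K_t)`, then the commuting graph of involutions is a friendship graph).
-/
import Cfsg.Agent.Lib.helper73.EvenD
import Cfsg.Agent.Lib.helper73.Friendship

set_option autoImplicit false

open Subgroup

namespace Cfsg.Agent.Lib.helper73.EP

universe u
variable {G : Type u} [Group G]

/-- the commuting graph on involutions -/
def invGraph (G : Type u) [Group G] : SimpleGraph {t : G // Inv t} where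
  Adj v w := v ≠ w ∧ (v : G) * w = w * v
  symm := ⟨fun _ _ h => ⟨h.1.symm, h.2.symm⟩⟩
  loopless := ⟨fun _ h => h.1 rfl⟩

theorem invGraph_adj {v w : {t : G // Inv t}} :
    (invGraph G).Adj v w ↔ v ≠ w ∧ (v : G) * w = w * v := Iff.rfl

theorem comm_zpowers {z x y : G} (hzx : z * x = x * z) (hy : y ∈ zpowers x) : z * y = y * z := by
  obtain ⟨n, rfl⟩ := mem_zpowers_iff.mp hy
  exact (Commute.zpow_right hzx n)

namespace Pkg

variable [Finite G] {p : ℕ} (h : Pkg G p)
include h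

theorem II_smul {t : G} (ht : Inv t) (P : Sylow p G) (hP : Kt p t ≤ P) (g : G) :
    Kt p (g * t * g⁻¹) ≤ ((g • P : Sylow p G) : Subgroup G) := by
  intro x hx
  show x ∈ g • P
  rw [mem_smul_sylow]
  have := h.Kt_conj (ht.conj g) g⁻¹ hx
  have e : g⁻¹ * (g * t * g⁻¹) * g⁻¹⁻¹ = t := by group
  rw [e, inv_inv] at this
  exact hP this

section CaseII

variable (hO : ∀ N : Subgroup G, N.Normal → IsPGroup p N → N = ⊥)
  (hII : ∀ Q : Sylow 2 G, ∀ x : G, Pel p x → (∀ s ∈ Q, x * s = s * x) → x = 1)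
  (hB : ∀ t : G, Inv t → ∃ x : G, x ≠ 1 ∧ t * x = x * t ∧ Pel p x)
include hO hII hB

theorem II_Kt_ne_bot {t : G} (ht : Inv t) : Kt p t ≠ ⊥ := by
  intro hb
  obtain ⟨x, hx1, hx2, hx3⟩ := hB t ht
  have : x ∈ Kt p t := (h.mem_Kt ht).mpr ⟨hx2, hx3⟩
  rw [hb, mem_bot] at this
  exact hx1 this

/-- the Sylow `p`-subgroup attached to an involution -/
theorem II_sylow (Q : Sylow 2 G) {t : G} (ht : t ∈ Q) (ht1 : t ≠ 1) :
    ∃ P : Sylow p G, Kt p t ≤ P ∧ (∀ q ∈ Q, ∀ x ∈ P, q * x * q⁻¹ ∈ P) ∧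
      ∀ P' : Sylow p G, Kt p t ≤ P' → P' = P := by
  haveI : Fact (Nat.Prime 2) := ⟨Nat.prime_two⟩
  haveI : Fact p.Prime := ⟨h.hp⟩
  have hti := h.inv_of_mem Q ht ht1
  set H := normalizer ((Kt p t : Subgroup G) : Set G) with hH
  have hKH : Kt p t ≤ H := le_normalizer
  have hQH : (Q : Subgroup G) ≤ H := by
    intro q hq
    apply mem_normalizer_of_conj_mem
    intro x hx
    have := h.Kt_conj hti q hx
    rwa [conj_eq_of_comm (h.comm_Q Q hq ht)] at this
  have hKne := h.II_Kt_ne_bot hO hII hB hti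
  have hHtop : H ≠ ⊤ := h.normalizer_ne_top_of_pgroup hO (h.Kt_isPGroup hti) hKne
  have hT := h.twoP_of_le Q hQH hHtop
  have hNC : ∀ g ∈ H, (∀ s ∈ Q, g * s * g⁻¹ ∈ Q) → ∀ s ∈ Q, g * s * g⁻¹ = s := by
    intro g hgH hgn
    apply h.cent_of_ppart Q hgn
    have hg'p : Pel p (g ^ 2 ^ (Nat.card G).factorization 2) := h.pel_ppart Q hgn
    have hg'H : g ^ 2 ^ (Nat.card G).factorization 2 ∈ H := pow_mem hgH _
    have hg'n : ∀ s ∈ Q, g ^ 2 ^ (Nat.card G).factorization 2 * s *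
        (g ^ 2 ^ (Nat.card G).factorization 2)⁻¹ ∈ Q := by
      have hgN := mem_normalizer_of_conj_mem (Q : Subgroup G) g hgn
      intro s hs; exact conj_mem_of_mem_normalizer (pow_mem hgN _) hs
    generalize g ^ 2 ^ (Nat.card G).factorization 2 = g' at hg'p hg'H hg'n ⊢
    by_contra hcon
    have hfpf : ∀ s ∈ Q, g' * s * g'⁻¹ = s → s = 1 := by
      intro s hs hfix
      by_contra hs1
      exact hcon (h.nreg_pel Q hg'p hg'n hs hs1 hfix)
    have hHn := h.normal_of_fpf Q H hHtop hQH hg'H hg'p hg'n hfpf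
    apply hKne
    rw [eq_bot_iff]
    intro k hk
    obtain ⟨hk1, hk2⟩ := (h.mem_Kt hti).mp hk
    have hkc := h.nreg_pel Q hk2 (hHn k (hKH hk)) ht ht1 (conj_eq_of_comm hk1.symm)
    exact mem_bot.mpr (hII Q k hk2 (fun s hs => comm_of_conj_eq (hkc s hs)))
  obtain ⟨K, hKL, hKp, hKn, -, hKall⟩ := burnside_sub h.hp h.hp2 H Q hQH hNC hT
  have hkey : ∀ P' : Sylow p G, Kt p t ≤ P' → (P' : Subgroup G) ≤ K := by
    intro P' hP' x hx
    refine hKall x ?_ (Pel.of_mem P'.isPGroup' hx)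
    apply mem_normalizer_of_conj_mem
    intro k hk
    have := h.pab _ P'.isPGroup' x hx k (hP' hk)
    rw [conj_eq_of_comm this]; exact hk
  have hKtK : Kt p t ≤ K := fun k hk => hKall k (hKH hk) (Pel.of_mem (h.Kt_isPGroup hti) hk)
  obtain ⟨P, hP⟩ := hKp.exists_le_sylow
  have hPK : (P : Subgroup G) = K := le_antisymm (hkey P (hKtK.trans hP)) hP
  refine ⟨P, hKtK.trans hP, fun q hq x hx => ?_, fun P' hP' => ?_⟩
  · have hx' : x ∈ (P : Subgroup G) := hx
    rw [hPK] at hx'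
    have := hKn q (hQH hq) x hx'
    rw [← hPK] at this; exact this
  · apply Sylow.ext
    have hle : (P' : Subgroup G) ≤ P := by rw [hPK]; exact hkey P' hP'
    exact (P'.is_maximal' P.isPGroup' hle).symm

theorem II_claim1 (Q : Sylow 2 G) {s : G} (hs : s ∈ Q) (hs1 : s ≠ 1)
    (P : Sylow p G) (hQP : ∀ q ∈ Q, ∀ x ∈ P, q * x * q⁻¹ ∈ P)
    {x : G} (hx : x ∈ P) (hx1 : x ≠ 1) (hsx : s * x = x * s) : Kt p s ≤ P := by
  haveI : Fact (Nat.Prime 2) := ⟨Nat.prime_two⟩
  haveI : Fact p.Prime := ⟨h.hp⟩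
  have hsi := h.inv_of_mem Q hs hs1
  obtain ⟨P', hP', hQP', -⟩ := h.II_sylow hO hII hB Q hs hs1
  have hxP' : x ∈ P' := hP' ((h.mem_Kt hsi).mpr ⟨hsx, Pel.of_mem P.isPGroup' hx⟩)
  have hxY : x ∈ (P : Subgroup G) ⊓ (P' : Subgroup G) := mem_inf.mpr ⟨hx, hxP'⟩
  have hY1 : (P : Subgroup G) ⊓ (P' : Subgroup G) ≠ ⊥ :=
    fun hb => hx1 (by rw [hb, mem_bot] at hxY; exact hxY)
  have hYp : IsPGroup p ((P : Subgroup G) ⊓ (P' : Subgroup G) : Subgroup G) :=
    P.isPGroup'.to_le inf_le_left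
  have hNtop := h.normalizer_ne_top_of_pgroup hO hYp hY1
  have hQN : (Q : Subgroup G) ≤
      normalizer (((P : Subgroup G) ⊓ (P' : Subgroup G) : Subgroup G) : Set G) := by
    intro q hq
    apply mem_normalizer_of_conj_mem
    intro y hy
    exact mem_inf.mpr ⟨hQP q hq y (mem_inf.mp hy).1, hQP' q hq y (mem_inf.mp hy).2⟩
  have hPN : (P : Subgroup G) ≤
      normalizer (((P : Subgroup G) ⊓ (P' : Subgroup G) : Subgroup G) : Set G) := by
    intro a ha
    apply mem_normalizer_of_conj_mem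
    intro y hy
    have := h.pab _ P.isPGroup' a ha y (mem_inf.mp hy).1
    rw [conj_eq_of_comm this]; exact hy
  have hP'N : (P' : Subgroup G) ≤
      normalizer (((P : Subgroup G) ⊓ (P' : Subgroup G) : Subgroup G) : Set G) := by
    intro a ha
    apply mem_normalizer_of_conj_mem
    intro y hy
    have := h.pab _ P'.isPGroup' a ha y (mem_inf.mp hy).2
    rw [conj_eq_of_comm this]; exact hy
  have hT := h.twoP_of_le Q hQN hNtop
  have hEq := twoP_eq_of_le h.hp h.hp2 Q P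
    (le_sup_right : (Q : Subgroup G) ≤ (P : Subgroup G) ⊔ (Q : Subgroup G)) le_sup_left hT
    (sup_le hPN hQN)
  have hle : (P' : Subgroup G) ≤ P := by
    intro a ha
    have haN : a ∈ (P : Subgroup G) ⊔ (Q : Subgroup G) := by rw [hEq]; exact hP'N ha
    have hsupN : (P : Subgroup G) ⊔ (Q : Subgroup G) ≤ normalizer ((P : Subgroup G) : Set G) :=
      sup_le le_normalizer (fun q hq => mem_normalizer_of_conj_mem _ q (hQP q hq))
    exact mem_sylow_of_pel P (Pel.of_mem P'.isPGroup' ha)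
      (fun y hy => conj_mem_of_mem_normalizer (hsupN haN) hy)
  have hPP' : (P' : Subgroup G) = P := (P'.is_maximal' P.isPGroup' hle).symm
  rw [← hPP']; exact hP'

theorem II_eq (Q : Sylow 2 G) {s t : G} (hs : s ∈ Q) (hs1 : s ≠ 1) (ht : t ∈ Q) (ht1 : t ≠ 1)
    (P : Sylow p G) (hP : Kt p t ≤ P) (hQP : ∀ q ∈ Q, ∀ x ∈ P, q * x * q⁻¹ ∈ P)
    (hsP : Kt p s ≤ P) : s = t := by
  haveI : Fact (Nat.Prime 2) := ⟨Nat.prime_two⟩
  haveI : Fact p.Prime := ⟨h.hp⟩
  have hti := h.inv_of_mem Q ht ht1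
  obtain ⟨-, y, hy, hn, hf⟩ := h.allQ Q
  obtain ⟨k, hk, -, hks⟩ := h.trans_of Q hy hn hf ht ht1 hs hs1
  have h1 : Kt p s ≤ ((k • P : Sylow p G) : Subgroup G) := by
    rw [← hks]; exact h.II_smul hti P hP k
  obtain ⟨P₀, -, -, huniq⟩ := h.II_sylow hO hII hB Q hs hs1
  have h2 : k • P = P := (huniq (k • P) h1).trans (huniq P hsP).symm
  have hkp : Pel p k := Pel.of_mem hy.isPGroup_zpowers hk
  have hkP : k ∈ P := by
    apply mem_sylow_of_pel P hkp
    intro x hx
    have : k * x * k⁻¹ ∈ k • P := by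
      rw [mem_smul_sylow]
      have e : k⁻¹ * (k * x * k⁻¹) * k = x := by group
      rw [e]; exact hx
    rw [h2] at this; exact this
  have h3 : s * t⁻¹ ∈ P := by
    have e : s * t⁻¹ = k * (t * k⁻¹ * t⁻¹) := by rw [← hks]; group
    rw [e]
    exact (P : Subgroup G).mul_mem hkP (hQP t ht _ ((P : Subgroup G).inv_mem hkP))
  have h4 : s * t⁻¹ ∈ Q := (Q : Subgroup G).mul_mem hs ((Q : Subgroup G).inv_mem ht)
  have h5 := (Pel.of_mem P.isPGroup' h3).eq_one_of_pel h.hp Nat.prime_two h.hp2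
    (Pel.of_mem Q.isPGroup' h4)
  exact mul_inv_eq_one.mp h5

theorem II_inverts (Q : Sylow 2 G) {s t : G} (hs : s ∈ Q) (hs1 : s ≠ 1) (ht : t ∈ Q)
    (ht1 : t ≠ 1) (P : Sylow p G) (hP : Kt p t ≤ P) (hQP : ∀ q ∈ Q, ∀ x ∈ P, q * x * q⁻¹ ∈ P)
    (hst : s ≠ t) {x : G} (hx : x ∈ P) : s * x * s⁻¹ = x⁻¹ := by
  have hsi := h.inv_of_mem Q hs hs1
  have hsx := hQP s hs x hx
  have hcomm := h.pab _ P.isPGroup' x hx _ hsx
  have he : s * (x * (s * x * s⁻¹)) = (x * (s * x * s⁻¹)) * s := by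
    have h1 : s * (x * (s * x * s⁻¹)) * s⁻¹ = x * (s * x * s⁻¹) := by
      calc s * (x * (s * x * s⁻¹)) * s⁻¹ = (s * x * s⁻¹) * ((s * s) * x * (s * s)⁻¹) := by group
        _ = (s * x * s⁻¹) * x := by rw [hsi.2]; group
        _ = x * (s * x * s⁻¹) := hcomm.symm
    exact comm_of_conj_eq h1
  by_contra hne
  have he1 : x * (s * x * s⁻¹) ≠ 1 := fun h1 => hne (eq_inv_of_mul_eq_one_right h1)
  have := h.II_claim1 hO hII hB Q hs hs1 P hQP ((P : Subgroup G).mul_mem hx hsx) he1 he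
  exact hst (h.II_eq hO hII hB Q hs hs1 ht ht1 P hP hQP this)

theorem II_prod (Q : Sylow 2 G) {a b c : G} (ha : a ∈ Q) (hb : b ∈ Q) (hc : c ∈ Q)
    (ha1 : a ≠ 1) (hb1 : b ≠ 1) (hc1 : c ≠ 1) (hab : a ≠ b) (hca : c ≠ a) (hcb : c ≠ b) :
    c = a * b := by
  haveI : Fact p.Prime := ⟨h.hp⟩
  obtain ⟨P, hP, hQP, -⟩ := h.II_sylow hO hII hB Q hc hc1
  obtain ⟨x, hx, hx1⟩ := h.exists_ne_one_sylow P
  by_contra hne
  have hab1 : a * b ≠ 1 := by
    intro h1
    apply hab
    have := eq_inv_of_mul_eq_one_right h1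
    rw [this, (h.inv_of_mem Q ha ha1).inv_eq]
  have h2 := h.II_inverts hO hII hB Q hb hb1 hc hc1 P hP hQP (Ne.symm hcb) hx
  have h1' := h.II_inverts hO hII hB Q ha ha1 hc hc1 P hP hQP (Ne.symm hca)
    ((P : Subgroup G).inv_mem hx)
  have h3 := h.II_inverts hO hII hB Q ((Q : Subgroup G).mul_mem ha hb) hab1 hc hc1 P hP hQP
    (fun e => hne e.symm) hx
  have h4 : (a * b) * x * (a * b)⁻¹ = x := by
    calc (a * b) * x * (a * b)⁻¹ = a * (b * x * b⁻¹) * a⁻¹ := by group
      _ = a * x⁻¹ * a⁻¹ := by rw [h2]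
      _ = x := by rw [h1', inv_inv]
  apply hx1
  apply (Pel.of_mem P.isPGroup' hx).eq_one_of_sq h.hp h.hp2
  have : x⁻¹ = x := by rw [← h3, h4]
  calc x * x = x⁻¹ * x := by rw [this]
    _ = 1 := by group

theorem II_central (Q : Sylow 2 G) {t : G} (ht : t ∈ Q) (ht1 : t ≠ 1)
    (P : Sylow p G) (hP : Kt p t ≤ P) (hQP : ∀ q ∈ Q, ∀ x ∈ P, q * x * q⁻¹ ∈ P)
    {x : G} (hx : x ∈ P) : t * x = x * t := by
  obtain ⟨s, hs, hs1, hst⟩ := h.exists_other Q t
  have hsi := h.inv_of_mem Q hs hs1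
  have hs' : s * t ∈ Q := (Q : Subgroup G).mul_mem hs ht
  have hs'1 : s * t ≠ 1 := by
    intro h1
    apply hst
    have := eq_inv_of_mul_eq_one_right h1
    rw [this, hsi.inv_eq]
  have hs't : s * t ≠ t := by
    intro h1
    apply hs1
    calc s = (s * t) * t⁻¹ := by group
      _ = t * t⁻¹ := by rw [h1]
      _ = 1 := by group
  have h1 := h.II_inverts hO hII hB Q hs hs1 ht ht1 P hP hQP hst ((P : Subgroup G).inv_mem hx)
  have h2 := h.II_inverts hO hII hB Q hs' hs'1 ht ht1 P hP hQP hs't hx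
  have h3 : t * x * t⁻¹ = x := by
    have e2 : s * ((s * t) * x * (s * t)⁻¹) * s⁻¹ = (s * s) * t * x * t⁻¹ * (s * s)⁻¹ := by group
    calc t * x * t⁻¹ = s * ((s * t) * x * (s * t)⁻¹) * s⁻¹ := by rw [e2, hsi.2]; group
      _ = s * x⁻¹ * s⁻¹ := by rw [h2]
      _ = x := by rw [h1, inv_inv]
  exact comm_of_conj_eq h3

/-- every `p`-element is centralised by an involution -/
theorem II_exists_inv {x : G} (hx : Pel p x) : ∃ z : G, Inv z ∧ z * x = x * z := by
  haveI : Fact p.Prime := ⟨h.hp⟩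
  obtain ⟨Px, hPx⟩ := hx.isPGroup_zpowers.exists_le_sylow
  obtain ⟨Q, -⟩ := h.exQ
  obtain ⟨t, htQ, hti⟩ := h.exists_inv_mem Q
  obtain ⟨P, hP, hQP, -⟩ := h.II_sylow hO hII hB Q htQ hti.1
  obtain ⟨g, hg⟩ := MulAction.exists_smul_eq G P Px
  refine ⟨g * t * g⁻¹, hti.conj g, ?_⟩
  have hxg : g⁻¹ * x * g ∈ P := by
    rw [← mem_smul_sylow, hg]; exact hPx (mem_zpowers x)
  have := h.II_central hO hII hB Q htQ hti.1 P hP hQP hxg
  calc g * t * g⁻¹ * x = g * (t * (g⁻¹ * x * g)) * g⁻¹ := by group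
    _ = g * ((g⁻¹ * x * g) * t) * g⁻¹ := by rw [this]
    _ = x * (g * t * g⁻¹) := by group

/-- a nonidentity `p`-element is centralised by at most one involution -/
theorem II_unique_inv {x z z' : G} (hx : Pel p x) (hx1 : x ≠ 1) (hz : Inv z) (hz' : Inv z')
    (hzx : z * x = x * z) (hz'x : z' * x = x * z') : z' = z := by
  haveI : Fact (Nat.Prime 2) := ⟨Nat.prime_two⟩
  haveI : Fact p.Prime := ⟨h.hp⟩
  obtain ⟨Q, hzQ⟩ := h.exists_sylow_of_inv hz
  obtain ⟨P, hP, hQP, -⟩ := h.II_sylow hO hII hB Q hzQ hz.1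
  have hxP : x ∈ P := hP ((h.mem_Kt hz).mpr ⟨hzx, hx⟩)
  have hY1 : zpowers x ≠ ⊥ := fun hb => hx1 (by
    have := mem_zpowers x
    rw [hb, mem_bot] at this; exact this)
  have hNtop := h.normalizer_ne_top_of_pgroup hO hx.isPGroup_zpowers hY1
  have hQN : (Q : Subgroup G) ≤ normalizer ((zpowers x : Subgroup G) : Set G) := by
    intro q hq
    apply mem_normalizer_of_conj_mem
    apply conj_zpowers_mem
    by_cases hq1 : q = 1
    · rw [hq1]; simp
    · by_cases hqz : q = z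
      · rw [hqz, conj_eq_of_comm hzx]; exact mem_zpowers x
      · rw [h.II_inverts hO hII hB Q hq hq1 hzQ hz.1 P hP hQP hqz hxP]
        exact inv_mem (mem_zpowers x)
  have hPN : (P : Subgroup G) ≤ normalizer ((zpowers x : Subgroup G) : Set G) := by
    intro a ha
    apply mem_normalizer_of_conj_mem
    apply conj_zpowers_mem
    rw [conj_eq_of_comm (h.pab _ P.isPGroup' a ha x hxP)]; exact mem_zpowers x
  have hz'N : z' ∈ normalizer ((zpowers x : Subgroup G) : Set G) := by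
    apply mem_normalizer_of_conj_mem
    apply conj_zpowers_mem
    rw [conj_eq_of_comm hz'x]; exact mem_zpowers x
  have hT := h.twoP_of_le Q hQN hNtop
  have hEq := twoP_eq_of_le h.hp h.hp2 Q P
    (le_sup_right : (Q : Subgroup G) ≤ (P : Subgroup G) ⊔ (Q : Subgroup G)) le_sup_left hT
    (sup_le hPN hQN)
  rw [← hEq] at hz'N
  obtain ⟨x₀, hx₀, q, hq, hz'eq⟩ :=
    mem_sup_of_normalizes (P : Subgroup G) (Q : Subgroup G) hQP hz'N
  have hx₀x : x₀ * x = x * x₀ := h.pab _ P.isPGroup' x₀ hx₀ x hxP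
  have hqx : q * x = x * q := by
    have e : q = x₀⁻¹ * z' := by rw [hz'eq]; group
    have hx₀x' : x₀⁻¹ * x = x * x₀⁻¹ := by
      calc x₀⁻¹ * x = x₀⁻¹ * (x * x₀) * x₀⁻¹ := by group
        _ = x₀⁻¹ * (x₀ * x) * x₀⁻¹ := by rw [hx₀x]
        _ = x * x₀⁻¹ := by group
    calc q * x = x₀⁻¹ * (z' * x) := by rw [e]; group
      _ = x₀⁻¹ * (x * z') := by rw [hz'x]
      _ = (x₀⁻¹ * x) * z' := by group
      _ = (x * x₀⁻¹) * z' := by rw [hx₀x']
      _ = x * q := by rw [e]; group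
  by_cases hq1 : q = 1
  · exfalso
    rw [hq1, mul_one] at hz'eq
    exact hz'.not_pel h.hp h.hp2 (by rw [hz'eq]; exact Pel.of_mem P.isPGroup' hx₀)
  · by_cases hqz : q = z
    · rw [hqz] at hz'eq
      have hzx₀ := h.II_central hO hII hB Q hzQ hz.1 P hP hQP hx₀
      have hsq : x₀ * x₀ = 1 := by
        have h1 := hz'.2
        rw [hz'eq] at h1
        calc x₀ * x₀ = x₀ * x₀ * (z * z) := by rw [hz.2, mul_one]
          _ = x₀ * (x₀ * z) * z := by group
          _ = x₀ * (z * x₀) * z := by rw [hzx₀]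
          _ = x₀ * z * (x₀ * z) := by group
          _ = 1 := h1
      have hx₀1 := (Pel.of_mem P.isPGroup' hx₀).eq_one_of_sq h.hp h.hp2 hsq
      rw [hz'eq, hx₀1, one_mul]
    · exfalso
      have hinv := h.II_inverts hO hII hB Q hq hq1 hzQ hz.1 P hP hQP hqz hxP
      apply hx1
      apply hx.eq_one_of_sq h.hp h.hp2
      have : x⁻¹ = x := by rw [← hinv, conj_eq_of_comm hqx]
      calc x * x = x⁻¹ * x := by rw [this]
        _ = 1 := by group

/-- three pairwise commuting involutions -/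
theorem II_triple {a b c : G} (ha : Inv a) (hb : Inv b) (hc : Inv c) (hab : a ≠ b)
    (hcomm : a * b = b * a) (hca : c * a = a * c) (hcb : c * b = b * c) :
    c = a ∨ c = b ∨ c = a * b := by
  haveI : Fact (Nat.Prime 2) := ⟨Nat.prime_two⟩
  have h1 : IsPGroup 2 (zpowers a ⊔ zpowers b : Subgroup G) := by
    apply ha.pel.isPGroup_zpowers.to_sup_of_normal_right' hb.pel.isPGroup_zpowers
    rw [zpowers_le]
    apply mem_normalizer_of_conj_mem
    apply conj_zpowers_mem
    rw [conj_eq_of_comm hcomm]; exact mem_zpowers b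
  have h2 : IsPGroup 2 ((zpowers a ⊔ zpowers b) ⊔ zpowers c : Subgroup G) := by
    apply h1.to_sup_of_normal_right' hc.pel.isPGroup_zpowers
    apply sup_le
    · rw [zpowers_le]
      apply mem_normalizer_of_conj_mem
      apply conj_zpowers_mem
      rw [conj_eq_of_comm hca.symm]; exact mem_zpowers c
    · rw [zpowers_le]
      apply mem_normalizer_of_conj_mem
      apply conj_zpowers_mem
      rw [conj_eq_of_comm hcb.symm]; exact mem_zpowers c
  obtain ⟨Q, hQ⟩ := h2.exists_le_sylow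
  have haQ : a ∈ Q := hQ (le_sup_left (a := zpowers a ⊔ zpowers b)
    (le_sup_left (a := zpowers a) (mem_zpowers a)))
  have hbQ : b ∈ Q := hQ (le_sup_left (a := zpowers a ⊔ zpowers b)
    (le_sup_right (a := zpowers a) (mem_zpowers b)))
  have hcQ : c ∈ Q := hQ (le_sup_right (a := zpowers a ⊔ zpowers b) (mem_zpowers c))
  by_cases h3 : c = a
  · left; exact h3
  by_cases h4 : c = b
  · right; left; exact h4
  right; right
  exact h.II_prod hO hII hB Q haQ hbQ hcQ ha.1 hb.1 hc.1 hab h3 h4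

/-- two distinct involutions have exactly one common neighbour in the commuting graph -/
theorem II_common {v w : G} (hv : Inv v) (hw : Inv w) (hvw : v ≠ w) :
    ∃ z : G, Inv z ∧ z ≠ v ∧ z ≠ w ∧ z * v = v * z ∧ z * w = w * z ∧
      ∀ z' : G, Inv z' → z' ≠ v → z' ≠ w → z' * v = v * z' → z' * w = w * z' → z' = z := by
  have hvw1 : v * w ≠ 1 := by
    intro h1
    apply hvw
    have := eq_inv_of_mul_eq_one_right h1
    rw [this, hv.inv_eq]
  by_cases hc : v * w = w * v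
  · refine ⟨v * w, ⟨hvw1, ?_⟩, ?_, ?_, ?_, ?_, ?_⟩
    · calc v * w * (v * w) = v * (w * v) * w := by group
        _ = v * (v * w) * w := by rw [hc]
        _ = (v * v) * (w * w) := by group
        _ = 1 := by rw [hv.2, hw.2, one_mul]
    · intro e
      apply hw.1
      calc w = v⁻¹ * (v * w) := by group
        _ = v⁻¹ * v := by rw [e]
        _ = 1 := by group
    · intro e
      apply hv.1
      calc v = (v * w) * w⁻¹ := by group
        _ = w * w⁻¹ := by rw [e]
        _ = 1 := by group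
    · calc v * w * v = v * (w * v) := by group
        _ = v * (v * w) := by rw [hc]
    · calc v * w * w = (v * w) * w := by group
        _ = (w * v) * w := by rw [hc]
        _ = w * (v * w) := by group
    · intro z' hz' hz'v hz'w hcv hcw
      rcases h.II_triple hO hII hB hv hw hz' hvw hc hcv hcw with h1 | h1 | h1
      · exact absurd h1 hz'v
      · exact absurd h1 hz'w
      · exact h1
  · rcases h.prod_inv hv hw with ⟨z₀, hz₀, hz₀v, hz₀w, hz₀mem⟩ | hpel
    · refine ⟨z₀, hz₀, ?_, ?_, hz₀v, hz₀w, ?_⟩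
      · intro e; rw [e] at hz₀w; exact hc hz₀w
      · intro e; rw [e] at hz₀v; exact hc hz₀v.symm
      · intro z' hz' hz'v hz'w hcv hcw
        have hz'x : z' * (v * w) = (v * w) * z' := by
          calc z' * (v * w) = (z' * v) * w := by group
            _ = (v * z') * w := by rw [hcv]
            _ = v * (z' * w) := by group
            _ = v * (w * z') := by rw [hcw]
            _ = (v * w) * z' := by group
        have hz'z₀ : z' * z₀ = z₀ * z' := comm_zpowers hz'x hz₀mem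
        by_contra hne
        have hvz₀ : v ≠ z₀ := by
          intro e; rw [← e] at hz₀w; exact hc hz₀w
        have hwz₀ : w ≠ z₀ := by
          intro e; rw [← e] at hz₀v; exact hc hz₀v.symm
        have e1 : z' = v * z₀ := by
          rcases h.II_triple hO hII hB hv hz₀ hz' hvz₀ hz₀v.symm hcv hz'z₀ with h1 | h1 | h1
          · exact absurd h1 hz'v
          · exact absurd h1 hne
          · exact h1
        have e2 : z' = w * z₀ := by
          rcases h.II_triple hO hII hB hw hz₀ hz' hwz₀ hz₀w.symm hcw hz'z₀ with h1 | h1 | h1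
          · exact absurd h1 hz'w
          · exact absurd h1 hne
          · exact h1
        exact hvw (mul_right_cancel (e1.symm.trans e2))
    · obtain ⟨z, hz, hzx⟩ := h.II_exists_inv hO hII hB hpel
      have hzinv : z * (v * w)⁻¹ = (v * w)⁻¹ * z := by
        calc z * (v * w)⁻¹ = (v * w)⁻¹ * ((v * w) * z) * (v * w)⁻¹ := by group
          _ = (v * w)⁻¹ * (z * (v * w)) * (v * w)⁻¹ := by rw [hzx]
          _ = (v * w)⁻¹ * z := by group
      have hconj : ∀ g : G, g * (v * w) * g⁻¹ = (v * w)⁻¹ → g * z = z * g := by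
        intro g hg
        have h1 : (g * z * g⁻¹) * (v * w) = (v * w) * (g * z * g⁻¹) := by
          have e : g * (v * w)⁻¹ * g⁻¹ = v * w := by
            have e' : g * (v * w)⁻¹ * g⁻¹ = (g * (v * w) * g⁻¹)⁻¹ := by group
            rw [e', hg, inv_inv]
          calc (g * z * g⁻¹) * (v * w) = (g * z * g⁻¹) * (g * (v * w)⁻¹ * g⁻¹) := by rw [e]
            _ = g * (z * (v * w)⁻¹) * g⁻¹ := by group
            _ = g * ((v * w)⁻¹ * z) * g⁻¹ := by rw [hzinv]
            _ = (g * (v * w)⁻¹ * g⁻¹) * (g * z * g⁻¹) := by group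
            _ = (v * w) * (g * z * g⁻¹) := by rw [e]
        have h2 := h.II_unique_inv hO hII hB hpel hvw1 hz (hz.conj g) hzx h1
        exact comm_of_conj_eq h2
      have hvz := hconj v (hv.conj_mul hw)
      have hwz := hconj w (hv.conj_mul' hw)
      refine ⟨z, hz, ?_, ?_, hvz.symm, hwz.symm, ?_⟩
      · intro e
        rw [e] at hzx
        apply hc
        have h1 : w = v * w * v := by
          calc w = (v * v) * w := by rw [hv.2, one_mul]
            _ = v * (v * w) := by group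
            _ = v * w * v := hzx
        calc v * w = v * w * (v * v) := by rw [hv.2, mul_one]
          _ = (v * w * v) * v := by group
          _ = w * v := by rw [← h1]
      · intro e
        rw [e] at hzx
        apply hc
        have h1 : w * v * w = v := by
          calc w * v * w = w * (v * w) := by group
            _ = v * w * w := hzx
            _ = v * (w * w) := by group
            _ = v := by rw [hw.2, mul_one]
        calc v * w = (w * v * w) * w := by rw [h1]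
          _ = w * v * (w * w) := by group
          _ = w * v := by rw [hw.2, mul_one]
      · intro z' hz' _ _ hcv hcw
        have hz'x : z' * (v * w) = (v * w) * z' := by
          calc z' * (v * w) = (z' * v) * w := by group
            _ = (v * z') * w := by rw [hcv]
            _ = v * (z' * w) := by group
            _ = v * (w * z') := by rw [hcw]
            _ = (v * w) * z' := by group
        exact h.II_unique_inv hO hII hB hpel hvw1 hz hz' hzx hz'x

/-- **Case II** is impossible. -/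
theorem II_false : False := by
  classical
  haveI : Fact p.Prime := ⟨h.hp⟩
  haveI := Fintype.ofFinite {t : G // Inv t}
  obtain ⟨Q, -⟩ := h.exQ
  obtain ⟨t₀, -, ht₀⟩ := h.exists_inv_mem Q
  haveI : Nonempty {t : G // Inv t} := ⟨⟨t₀, ht₀⟩⟩
  have hF : Friend.Friendship (invGraph G) := by
    intro v w hvw
    rw [Fintype.card_eq_one_iff]
    obtain ⟨z, hz, hzv, hzw, hcv, hcw, huniq⟩ :=
      h.II_common hO hII hB v.2 w.2 (fun e => hvw (Subtype.ext e))
    refine ⟨⟨⟨z, hz⟩, ?_⟩, ?_⟩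
    · rw [SimpleGraph.mem_commonNeighbors, invGraph_adj, invGraph_adj]
      exact ⟨⟨fun e => hzv (congrArg Subtype.val e).symm, hcv.symm⟩,
        ⟨fun e => hzw (congrArg Subtype.val e).symm, hcw.symm⟩⟩
    · rintro ⟨⟨z', hz'⟩, hmem⟩
      rw [SimpleGraph.mem_commonNeighbors, invGraph_adj, invGraph_adj] at hmem
      obtain ⟨⟨h1, h2⟩, ⟨h3, h4⟩⟩ := hmem
      apply Subtype.ext; apply Subtype.ext
      exact huniq z' hz' (fun e => h1 (Subtype.ext e.symm)) (fun e => h3 (Subtype.ext e.symm))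
        h2.symm h4.symm
  obtain ⟨⟨z₀, hz₀⟩, hpol⟩ := Friend.friendship_theorem hF
  obtain ⟨Q₀, hz₀Q⟩ := h.exists_sylow_of_inv hz₀
  obtain ⟨t, htQ, ht1, htz⟩ := h.exists_other Q₀ z₀
  obtain ⟨P, hP, hQP, -⟩ := h.II_sylow hO hII hB Q₀ htQ ht1
  obtain ⟨x, hx, hx1⟩ := h.exists_ne_one_sylow P
  have hinv := h.II_inverts hO hII hB Q₀ hz₀Q hz₀.1 htQ ht1 P hP hQP (Ne.symm htz) hx
  have hu : Inv (x * z₀ * x⁻¹) := hz₀.conj x
  have hu_eq : x * z₀ * x⁻¹ = x * x * z₀ := by
    have : z₀ * x⁻¹ * z₀⁻¹ = x := by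
      have e : z₀ * x⁻¹ * z₀⁻¹ = (z₀ * x * z₀⁻¹)⁻¹ := by group
      rw [e, hinv, inv_inv]
    calc x * z₀ * x⁻¹ = x * (z₀ * x⁻¹ * z₀⁻¹) * z₀ := by group
      _ = x * x * z₀ := by rw [this]
  have hne : x * z₀ * x⁻¹ ≠ z₀ := by
    intro e
    rw [hu_eq] at e
    have : x * x = 1 := by
      calc x * x = (x * x * z₀) * z₀⁻¹ := by group
        _ = z₀ * z₀⁻¹ := by rw [e]
        _ = 1 := by group
    exact hx1 ((Pel.of_mem P.isPGroup' hx).eq_one_of_sq h.hp h.hp2 this)
  have hadj' : z₀ * (x * z₀ * x⁻¹) = (x * z₀ * x⁻¹) * z₀ :=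
    (invGraph_adj.mp (hpol ⟨x * z₀ * x⁻¹, hu⟩ (fun e => hne (congrArg Subtype.val e).symm))).2
  rw [hu_eq] at hadj'
  have h4 : x⁻¹ * x⁻¹ = x * x := by
    have e1 : z₀ * (x * x) * z₀⁻¹ = x⁻¹ * x⁻¹ := by
      calc z₀ * (x * x) * z₀⁻¹ = (z₀ * x * z₀⁻¹) * (z₀ * x * z₀⁻¹) := by group
        _ = x⁻¹ * x⁻¹ := by rw [hinv]
    have e2 : z₀ * (x * x) * z₀⁻¹ = x * x := by
      calc z₀ * (x * x) * z₀⁻¹ = (z₀ * (x * x * z₀)) * z₀⁻¹ * z₀⁻¹ := by group
        _ = (x * x * z₀ * z₀) * z₀⁻¹ * z₀⁻¹ := by rw [hadj']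
        _ = x * x := by group
    rw [← e1, e2]
  have h5 : x ^ 2 ^ 2 = 1 := by
    have : x ^ 2 ^ 2 = (x * x) * (x * x) := by
      calc x ^ 2 ^ 2 = x ^ (2 + 2) := by norm_num
        _ = x ^ 2 * x ^ 2 := pow_add x 2 2
        _ = (x * x) * (x * x) := by rw [pow_two]
    rw [this]
    calc (x * x) * (x * x) = (x⁻¹ * x⁻¹) * (x * x) := by rw [h4]
      _ = 1 := by group
  exact hx1 ((Pel.of_mem P.isPGroup' hx).eq_one_of_pel h.hp Nat.prime_two h.hp2 ⟨2, h5⟩)

end CaseII

end Pkg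

end Cfsg.Agent.Lib.helper73.EP
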