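/-
S4017 (helper73): passage to the quotient by a normal `p`-subgroup, and the final
contradiction for the configuration `Pkg`.
-/
import Cfsg.Agent.Lib.helper73.EvenE

set_option autoImplicit false

open Subgroup

namespace Cfsg.Agent.Lib.helper73.EP

universe u
variable {G : Type u} [Group G]

theorem Pkg.quotient [Finite G] {p : ℕ} (h : Pkg G p) (N : Subgroup G) [N.Normal]
    (hN : IsPGroup p N) : Pkg (G ⧸ N) p := by
  haveI : Fact (Nat.Prime 2) := ⟨Nat.prime_two⟩
  haveI : Fact p.Prime := ⟨h.hp⟩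
  have hsurj : Function.Surjective (QuotientGroup.mk' N) := QuotientGroup.mk'_surjective N
  have hker : (QuotientGroup.mk' N).ker = N := QuotientGroup.ker_mk' N
  have hcardG : Nat.card G = Nat.card (G ⧸ N) * Nat.card N :=
    Subgroup.card_eq_card_quotient_mul_card_subgroup N
  obtain ⟨k, hk⟩ := IsPGroup.iff_card.mp hN
  refine ⟨h.hp, h.hp2, ?_, ?_, ?_, ?_⟩
  · intro H hH h2
    have hcomap : H.comap (QuotientGroup.mk' N) ≠ ⊤ := by
      intro htop
      apply hH
      rw [← Subgroup.map_comap_eq_self_of_surjective hsurj H, htop, ← MonoidHom.range_eq_map,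
        MonoidHom.range_eq_top.mpr hsurj]
    have hdvd : Nat.card H ∣ Nat.card (H.comap (QuotientGroup.mk' N)) := by
      have := Subgroup.card_map_dvd (H.comap (QuotientGroup.mk' N)) (QuotientGroup.mk' N)
      rwa [Subgroup.map_comap_eq_self_of_surjective hsurj H] at this
    have hT := h.star _ hcomap (h2.trans hdvd)
    intro r hr hrd
    exact hT r hr (hrd.trans hdvd)
  · obtain ⟨Q, hQc, y, hy, hn, hf⟩ := h.exQ
    refine ⟨Q.mapSurjective hsurj, ?_, QuotientGroup.mk' N y, ?_, ?_, ?_⟩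
    · rw [Sylow.card_eq_multiplicity, ← hQc, Sylow.card_eq_multiplicity]
      congr 1
      rw [hcardG, Nat.factorization_mul Nat.card_pos.ne' Nat.card_pos.ne', hk,
        Nat.factorization_pow, h.hp.factorization]
      simp [Finsupp.single_apply, h.hp2]
    · obtain ⟨j, hj⟩ := hy
      exact ⟨j, by rw [← map_pow, hj, map_one]⟩
    · intro s hs
      have hs' : s ∈ (Q.mapSurjective hsurj : Subgroup (G ⧸ N)) := hs
      rw [Sylow.coe_mapSurjective] at hs'
      obtain ⟨s₀, hs₀, rfl⟩ := Subgroup.mem_map.mp hs'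
      show _ ∈ (Q.mapSurjective hsurj : Subgroup (G ⧸ N))
      rw [Sylow.coe_mapSurjective]
      exact Subgroup.mem_map.mpr ⟨y * s₀ * y⁻¹, hn s₀ hs₀, by simp⟩
    · intro s hs hfix
      have hs' : s ∈ (Q.mapSurjective hsurj : Subgroup (G ⧸ N)) := hs
      rw [Sylow.coe_mapSurjective] at hs'
      obtain ⟨s₀, hs₀, rfl⟩ := Subgroup.mem_map.mp hs'
      have h1 : y * s₀ * y⁻¹ * s₀⁻¹ ∈ N := by
        rw [← hker, MonoidHom.mem_ker]
        simp only [map_mul, map_inv]
        rw [hfix, mul_inv_cancel]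
      have h2 : y * s₀ * y⁻¹ * s₀⁻¹ ∈ Q :=
        (Q : Subgroup G).mul_mem (hn s₀ hs₀) ((Q : Subgroup G).inv_mem hs₀)
      have h3 := (Pel.of_mem hN h1).eq_one_of_pel h.hp Nat.prime_two h.hp2
        (Pel.of_mem Q.isPGroup' h2)
      have h4 : y * s₀ * y⁻¹ = s₀ := mul_inv_eq_one.mp h3
      rw [hf s₀ hs₀ h4, map_one]
  · intro K hK a ha b hb
    have hKc : IsPGroup p (K.comap (QuotientGroup.mk' N)) :=
      hK.comap_of_ker_isPGroup _ (by rw [hker]; exact hN)
    obtain ⟨a₀, rfl⟩ := hsurj a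
    obtain ⟨b₀, rfl⟩ := hsurj b
    have := h.pab _ hKc a₀ (Subgroup.mem_comap.mpr ha) b₀ (Subgroup.mem_comap.mpr hb)
    rw [← map_mul, ← map_mul, this]
  · obtain ⟨r, hr, hrG, hr2, hrp⟩ := h.exr
    refine ⟨r, hr, ?_, hr2, hrp⟩
    rw [hcardG, hk] at hrG
    rcases (Nat.Prime.dvd_mul hr).mp hrG with h1 | h1
    · exact h1
    · exact absurd ((Nat.prime_dvd_prime_iff_eq hr h.hp).mp (hr.dvd_of_dvd_pow h1)) hrp

theorem Pkg.false_aux {p : ℕ} : ∀ (n : ℕ) (G : Type u) [Group G] [Finite G],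
    Nat.card G = n → Pkg G p → False := by
  intro n
  induction n using Nat.strong_induction_on with
  | _ n ih =>
    intro G _ _ hn h
    by_cases hO : ∀ N : Subgroup G, N.Normal → IsPGroup p N → N = ⊥
    · by_cases hA : ∀ t : G, Inv t → ∀ x : G, t * x = x * t → Pel p x → x = 1
      · exact h.A_false hA
      · push Not at hA
        obtain ⟨t₁, ht₁, x₁, hx₁c, hx₁p, hx₁1⟩ := hA
        have hB : ∀ t : G, Inv t → ∃ x : G, x ≠ 1 ∧ t * x = x * t ∧ Pel p x := by
          intro t ht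
          obtain ⟨g, rfl⟩ := h.conj_inv ht₁ ht
          refine ⟨g * x₁ * g⁻¹, fun e => hx₁1 ?_, ?_, hx₁p.conj g⟩
          · have : x₁ = g⁻¹ * (g * x₁ * g⁻¹) * g := by group
            rw [this, e]; group
          · calc g * t₁ * g⁻¹ * (g * x₁ * g⁻¹) = g * (t₁ * x₁) * g⁻¹ := by group
              _ = g * (x₁ * t₁) * g⁻¹ := by rw [hx₁c]
              _ = g * x₁ * g⁻¹ * (g * t₁ * g⁻¹) := by group
        by_cases hI : ∃ Q : Sylow 2 G, ∃ d : G, Pel p d ∧ d ≠ 1 ∧ ∀ s ∈ Q, d * s = s * d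
        · exact h.I_false hO hI
        · have hII : ∀ Q : Sylow 2 G, ∀ x : G, Pel p x → (∀ s ∈ Q, x * s = s * x) → x = 1 := by
            intro Q x hx hc
            by_contra hx1
            exact hI ⟨Q, x, hx, hx1, hc⟩
          exact h.II_false hO hII hB
    · push Not at hO
      obtain ⟨N, hNn, hNp, hN1⟩ := hO
      haveI := hNn
      have hlt : Nat.card (G ⧸ N) < n := by
        rw [← hn, Subgroup.card_eq_card_quotient_mul_card_subgroup N]
        have h1 : 1 < Nat.card N := (Subgroup.one_lt_card_iff_ne_bot N).mpr hN1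
        have h2 : 0 < Nat.card (G ⧸ N) := Nat.card_pos
        nlinarith
      exact ih _ hlt (G ⧸ N) rfl (h.quotient N hNp)

/-- The configuration `Pkg` is impossible. -/
theorem Pkg.false [Finite G] {p : ℕ} (h : Pkg G p) : False :=
  Pkg.false_aux _ G rfl h

end Cfsg.Agent.Lib.helper73.EP
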