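/-
S4017 (helper73): the reduction of the two-prime theorem to the configuration `Pkg`
(induction, Frobenius' normal complement criterion, orbit counting).
-/
import Cfsg.Agent.Lib.helper73.EvenF
import Cfsg.Agent.S0071

set_option autoImplicit false

open Subgroup

namespace Cfsg.Agent.Lib.helper73.EP

universe u

/-- the hypotheses of the two-prime theorem, in a form that passes to subgroups -/
structure Hyp (p q : ℕ) (G : Type u) [Group G] : Prop where
  hpG : p ∣ Nat.card G
  hqG : q ∣ Nat.card G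
  hmix : ∀ H : Subgroup G, H ≠ ⊤ → ¬ IsPGroup q H → q ∣ Nat.card H → p ∣ Nat.card H
  hlarge : q ^ (Nat.card G).factorization q - 1 < p ∨
      (p = q ^ (Nat.card G).factorization q - 1 ∧
        ∀ K : Subgroup G, IsPGroup p K → ∀ a ∈ K, ∀ b ∈ K, a * b = b * a)

variable {G : Type u} [Group G]

theorem Hyp.sub [Finite G] {p q : ℕ} (hq : q.Prime) (h : Hyp p q G) (H : Subgroup G)
    (hH : H ≠ ⊤) (hHq : ¬ IsPGroup q H) (hqH : q ∣ Nat.card H) : Hyp p q H := by
  haveI : Fact q.Prime := ⟨hq⟩
  refine ⟨h.hmix H hH hHq hqH, hqH, ?_, ?_⟩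
  · intro K _ hKq hqK
    have hcard : Nat.card (K.map H.subtype) = Nat.card K :=
      Subgroup.card_map_of_injective H.subtype_injective
    have hne : K.map H.subtype ≠ ⊤ := by
      intro htop
      apply hH
      rw [eq_top_iff, ← htop]
      exact Subgroup.map_subtype_le K
    have hnq : ¬ IsPGroup q (K.map H.subtype) := by
      intro hP
      apply hKq
      obtain ⟨n, hn⟩ := IsPGroup.iff_card.mp hP
      exact IsPGroup.of_card (hcard ▸ hn)
    have := h.hmix _ hne hnq (hcard ▸ hqK)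
    rwa [hcard] at this
  · have hle : (Nat.card H).factorization q ≤ (Nat.card G).factorization q :=
      (Nat.factorization_le_iff_dvd Nat.card_pos.ne' Nat.card_pos.ne').mpr
        (Subgroup.card_subgroup_dvd_card H) q
    have hpow : q ^ (Nat.card H).factorization q ≤ q ^ (Nat.card G).factorization q :=
      Nat.pow_le_pow_right hq.pos hle
    have hpos : 0 < q ^ (Nat.card H).factorization q := pow_pos hq.pos _
    rcases h.hlarge with h1 | ⟨h1, h2⟩
    · left; omega
    · rcases hle.eq_or_lt with he | hlt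
      · right
        refine ⟨by rw [he]; exact h1, fun K hK a ha b hb => ?_⟩
        have hKm : IsPGroup p (K.map H.subtype) := hK.map H.subtype
        have := h2 _ hKm a (Subgroup.mem_map_of_mem _ ha) b (Subgroup.mem_map_of_mem _ hb)
        exact Subtype.ext this
      · left
        have : q ^ (Nat.card H).factorization q < q ^ (Nat.card G).factorization q :=
          Nat.pow_lt_pow_right hq.one_lt hlt
        omega

theorem nat_split {m : ℕ} (hm0 : m ≠ 0) (hm1 : m ≠ 1) :
    ∃ ℓ k m₂ : ℕ, ℓ.Prime ∧ ℓ ∣ m ∧ 0 < k ∧ ℓ ^ k * m₂ = m ∧ (ℓ ^ k).Coprime m₂ ∧ 0 < m₂ := by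
  obtain ⟨ℓ, hℓ, hℓm⟩ := Nat.exists_prime_and_dvd hm1
  exact ⟨ℓ, m.factorization ℓ, m / ℓ ^ m.factorization ℓ, hℓ, hℓm,
    hℓ.factorization_pos_of_dvd hm0 hℓm, Nat.ordProj_mul_ordCompl_eq_self m ℓ,
    Nat.Coprime.pow_left _ (Nat.coprime_ordCompl hℓ hm0), Nat.ordCompl_pos ℓ hm0⟩

/-- an element of `q'`-order normalising but not centralising `U` can be taken of
prime power order -/
theorem exists_prime_pow_not_cent {q : ℕ} (U : Subgroup G) :
    ∀ (m : ℕ) (g : G), orderOf g = m → 0 < m → g ∈ normalizer (U : Set G) → m.Coprime q →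
      g ∉ centralizer (U : Set G) →
      ∃ g' : G, g' ∈ normalizer (U : Set G) ∧ g' ∉ centralizer (U : Set G) ∧
        ∃ ℓ k : ℕ, ℓ.Prime ∧ ℓ.Coprime q ∧ orderOf g' = ℓ ^ k := by
  intro m
  induction m using Nat.strong_induction_on with
  | _ m ih =>
    intro g hm hmpos hgN hcop hgC
    have hm1 : m ≠ 1 := by
      rintro rfl
      rw [orderOf_eq_one_iff] at hm
      exact hgC (hm ▸ one_mem _)
    obtain ⟨ℓ, k, m₂, hℓ, hℓm, hk, hmul, hcop12, hm₂0⟩ := nat_split hmpos.ne' hm1
    have hℓq : ℓ.Coprime q := Nat.Coprime.coprime_dvd_left hℓm hcop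
    by_cases h2 : m₂ = 1
    · refine ⟨g, hgN, hgC, ℓ, k, hℓ, hℓq, ?_⟩
      rw [hm, ← hmul, h2, mul_one]
    · have hm₁1 : 1 < ℓ ^ k := Nat.one_lt_pow hk.ne' hℓ.one_lt
      have hm₂1 : 1 < m₂ := by omega
      have hd1 : ℓ ^ k ∣ m := Dvd.intro m₂ hmul
      have hd2 : m₂ ∣ m := Dvd.intro_left (ℓ ^ k) hmul
      have ho1 : orderOf (g ^ ℓ ^ k) = m₂ := by
        rw [orderOf_pow_of_dvd (by omega) (hm ▸ hd1), hm, ← hmul]
        exact Nat.mul_div_cancel_left m₂ (by omega)
      have ho2 : orderOf (g ^ m₂) = ℓ ^ k := by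
        rw [orderOf_pow_of_dvd (by omega) (hm ▸ hd2), hm, ← hmul]
        exact Nat.mul_div_cancel (ℓ ^ k) hm₂0
      have hne : g ^ ℓ ^ k ∉ centralizer (U : Set G) ∨ g ^ m₂ ∉ centralizer (U : Set G) := by
        by_contra hcon
        push Not at hcon
        obtain ⟨a, b, hab⟩ :=
          (Nat.isCoprime_iff_coprime.mpr hcop12 : IsCoprime ((ℓ ^ k : ℕ) : ℤ) (m₂ : ℤ))
        apply hgC
        have : g = (g ^ ℓ ^ k) ^ a * (g ^ m₂) ^ b := by
          rw [← zpow_natCast g (ℓ ^ k), ← zpow_natCast g m₂, ← zpow_mul, ← zpow_mul, ← zpow_add,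
            mul_comm _ a, mul_comm _ b, hab, zpow_one]
        rw [this]; exact mul_mem (zpow_mem hcon.1 a) (zpow_mem hcon.2 b)
      have hlt1 : m₂ < m := by
        calc m₂ = 1 * m₂ := (one_mul _).symm
          _ < ℓ ^ k * m₂ := Nat.mul_lt_mul_of_pos_right hm₁1 hm₂0
          _ = m := hmul
      have hlt2 : ℓ ^ k < m := by
        calc ℓ ^ k = ℓ ^ k * 1 := (mul_one _).symm
          _ < ℓ ^ k * m₂ := Nat.mul_lt_mul_of_pos_left hm₂1 (by omega)
          _ = m := hmul
      rcases hne with h3 | h3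
      · exact ih m₂ hlt1 (g ^ ℓ ^ k) ho1 hm₂0 (pow_mem hgN _)
          (Nat.Coprime.coprime_dvd_left hd2 hcop) h3
      · exact ih (ℓ ^ k) hlt2 (g ^ m₂) ho2 (by omega) (pow_mem hgN _)
          (Nat.Coprime.coprime_dvd_left hd1 hcop) h3

/-- with a normal `q`-complement, some Sylow `q`-subgroup normalises a nontrivial
`r`-subgroup (Frattini argument) -/
theorem exists_sylow_normalizes [Finite G] {q r : ℕ} (hq : q.Prime) (hr : r.Prime) (hrq : r ≠ q)
    (hrG : r ∣ Nat.card G) (Q : Sylow q G) (N : Subgroup G) (hN : N.Normal)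
    (hc : N.IsComplement' (Q : Subgroup G)) :
    ∃ R Q' : Subgroup G, (∀ k ∈ Q', ∀ x ∈ R, k * x * k⁻¹ ∈ R) ∧
      (∃ c, 0 < c ∧ Nat.card R = r ^ c) ∧ Nat.card Q' = q ^ (Nat.card G).factorization q := by
  haveI : Fact q.Prime := ⟨hq⟩
  haveI : Fact r.Prime := ⟨hr⟩
  haveI := hN
  have hcard : Nat.card N * Nat.card (Q : Subgroup G) = Nat.card G := hc.card_mul_card
  have hQc : Nat.card (Q : Subgroup G) = q ^ (Nat.card G).factorization q :=
    Sylow.card_eq_multiplicity Q
  have hrN : r ∣ Nat.card N := by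
    have h0 : r ∣ Nat.card N * Nat.card (Q : Subgroup G) := by rw [hcard]; exact hrG
    rw [hQc] at h0
    rcases (Nat.Prime.dvd_mul hr).mp h0 with h1 | h1
    · exact h1
    · exact absurd ((Nat.prime_dvd_prime_iff_eq hr hq).mp (hr.dvd_of_dvd_pow h1)) hrq
  have hnd := Nat.pow_succ_factorization_not_dvd (Nat.card_pos (α := G)).ne' hq
  have hqN : ¬ q ∣ Nat.card N := by
    intro hd
    apply hnd
    have h1 : q ^ ((Nat.card G).factorization q + 1) ∣
        Nat.card N * Nat.card (Q : Subgroup G) := by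
      rw [hQc, pow_succ, mul_comm]
      exact mul_dvd_mul_right hd _
    rwa [hcard] at h1
  obtain ⟨Pr⟩ : Nonempty (Sylow r N) := Sylow.nonempty
  have hfr : normalizer (((Pr : Subgroup N).map N.subtype : Subgroup G) : Set G) ⊔ N = ⊤ :=
    Sylow.normalizer_sup_eq_top Pr
  have hRc : Nat.card ((Pr : Subgroup N).map N.subtype) = r ^ (Nat.card N).factorization r := by
    rw [Subgroup.card_map_of_injective N.subtype_injective, Sylow.card_eq_multiplicity]
  have hcpos : 0 < (Nat.card N).factorization r :=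
    hr.factorization_pos_of_dvd Nat.card_pos.ne' hrN
  generalize (Pr : Subgroup N).map N.subtype = R at hfr hRc
  have hdvd : Nat.card G ∣ Nat.card N * Nat.card (normalizer (R : Set G)) := by
    have h1 := card_sup_dvd N (normalizer (R : Set G)) (fun k _ x hx => hN.conj_mem x hx k)
    have h2 : (N ⊔ normalizer (R : Set G) : Subgroup G) = ⊤ := by rw [sup_comm]; exact hfr
    rwa [h2, Subgroup.card_top] at h1
  have hqM : q ^ (Nat.card G).factorization q ∣ Nat.card (normalizer (R : Set G)) := by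
    have h1 : q ^ (Nat.card G).factorization q ∣ Nat.card N * Nat.card (normalizer (R : Set G)) :=
      (Nat.ordProj_dvd _ _).trans hdvd
    exact (Nat.Coprime.pow_left _
      ((Nat.Prime.coprime_iff_not_dvd hq).mpr hqN)).dvd_of_dvd_mul_left h1
  obtain ⟨Sq⟩ : Nonempty (Sylow q (normalizer (R : Set G))) := Sylow.nonempty
  have hSq : Nat.card (Sq : Subgroup (normalizer (R : Set G))) =
      q ^ (Nat.card G).factorization q := by
    rw [Sylow.card_eq_multiplicity]
    congr 1
    apply le_antisymm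
    · exact (Nat.factorization_le_iff_dvd Nat.card_pos.ne' Nat.card_pos.ne').mpr
        (Subgroup.card_subgroup_dvd_card (normalizer (R : Set G))) q
    · exact (hq.pow_dvd_iff_le_factorization Nat.card_pos.ne').mp hqM
  refine ⟨R, (Sq : Subgroup (normalizer (R : Set G))).map (normalizer (R : Set G)).subtype, ?_,
    ⟨_, hcpos, hRc⟩, ?_⟩
  · intro k hk x hx
    obtain ⟨k', -, rfl⟩ := Subgroup.mem_map.mp hk
    exact conj_mem_of_mem_normalizer k'.2 hx
  · rw [Subgroup.card_map_of_injective (normalizer (R : Set G)).subtype_injective, hSq]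

theorem main_aux {p q : ℕ} (hp : p.Prime) (hq : q.Prime) (hpq : p ≠ q) (hp2 : p ≠ 2) :
    ∀ (n : ℕ) (G : Type u) [Group G] [Finite G], Nat.card G = n → Hyp p q G →
      ∀ r : ℕ, r.Prime → r ∣ Nat.card G → r = p ∨ r = q := by
  intro n
  induction n using Nat.strong_induction_on with
  | _ n ih =>
    intro G _ _ hn h r hr hrG
    haveI : Fact q.Prime := ⟨hq⟩
    haveI : Fact p.Prime := ⟨hp⟩
    by_contra hcon
    push Not at hcon
    obtain ⟨hrp, hrq⟩ := hcon
    -- Step 1: proper subgroups of order divisible by `q` are `{p,q}`-groups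
    have key : ∀ H : Subgroup G, H ≠ ⊤ → q ∣ Nat.card H →
        ∀ r' : ℕ, r'.Prime → r' ∣ Nat.card H → r' = p ∨ r' = q := by
      intro H hH hqH r' hr' hr'H
      by_cases hHq : IsPGroup q H
      · right
        obtain ⟨j, hj⟩ := IsPGroup.iff_card.mp hHq
        rw [hj] at hr'H
        exact (Nat.prime_dvd_prime_iff_eq hr' hq).mp (hr'.dvd_of_dvd_pow hr'H)
      · have hlt : Nat.card H < n := by
          rw [← hn]
          by_contra hge
          exact hH (Subgroup.eq_top_of_le_card H (not_lt.mp hge))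
        exact ih _ hlt H rfl (h.sub hq H hH hHq hqH) r' hr' hr'H
    -- Step 2: no normal `q`-complement
    obtain ⟨Q⟩ : Nonempty (Sylow q G) := Sylow.nonempty
    have hQc : Nat.card (Q : Subgroup G) = q ^ (Nat.card G).factorization q :=
      Sylow.card_eq_multiplicity Q
    have hapos : 0 < (Nat.card G).factorization q :=
      hq.factorization_pos_of_dvd Nat.card_pos.ne' h.hqG
    have hnc : ¬ ∃ N : Subgroup G, N.Normal ∧ N.IsComplement' (Q : Subgroup G) := by
      rintro ⟨N, hN, hc⟩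
      obtain ⟨R, Q', hnorm, ⟨c, hc0, hRc⟩, hQ'c⟩ :=
        exists_sylow_normalizes hq hr hrq hrG Q N hN hc
      have hT := card_sup_dvd R Q' hnorm
      rw [hRc, hQ'c] at hT
      have hqT : q ∣ Nat.card (R ⊔ Q' : Subgroup G) := by
        have : Nat.card Q' ∣ Nat.card (R ⊔ Q' : Subgroup G) :=
          Subgroup.card_dvd_of_le le_sup_right
        rw [hQ'c] at this
        exact (dvd_pow_self q hapos.ne').trans this
      have hrT : r ∣ Nat.card (R ⊔ Q' : Subgroup G) := by
        have : Nat.card R ∣ Nat.card (R ⊔ Q' : Subgroup G) := Subgroup.card_dvd_of_le le_sup_left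
        rw [hRc] at this
        exact (dvd_pow_self r hc0.ne').trans this
      have hTtop : (R ⊔ Q' : Subgroup G) ≠ ⊤ := by
        intro htop
        rw [htop, Subgroup.card_top] at hT
        have := h.hpG.trans hT
        rcases (Nat.Prime.dvd_mul hp).mp this with h1 | h1
        · exact hrp ((Nat.prime_dvd_prime_iff_eq hp hr).mp (hp.dvd_of_dvd_pow h1)).symm
        · exact hpq ((Nat.prime_dvd_prime_iff_eq hp hq).mp (hp.dvd_of_dvd_pow h1))
      rcases key _ hTtop hqT r hr hrT with h1 | h1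
      exacts [hrp h1, hrq h1]
    -- Step 3: Frobenius' criterion fails
    rw [Cfsg.Agent.S0071.result Q] at hnc
    push Not at hnc
    obtain ⟨U, hUQ, g₀, hg₀N, hg₀cop, hg₀C⟩ := hnc
    obtain ⟨g, hgN, hgC, ℓ, k, hℓ, hℓq, hgo⟩ :=
      exists_prime_pow_not_cent U _ g₀ rfl (orderOf_pos g₀) hg₀N hg₀cop hg₀C
    have hUp : IsPGroup q U := Q.isPGroup'.to_le hUQ
    obtain ⟨j, hj⟩ := IsPGroup.iff_card.mp hUp
    have hU1 : U ≠ ⊥ := by
      rintro rfl
      apply hgC
      rw [mem_centralizer_iff]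
      intro x hx
      rw [Subgroup.mem_bot.mp hx]; simp
    have hj0 : j ≠ 0 := by
      rintro rfl
      rw [pow_zero] at hj
      exact hU1 (Subgroup.card_eq_one.mp hj)
    have hk0 : k ≠ 0 := by
      rintro rfl
      rw [pow_zero, orderOf_eq_one_iff] at hgo
      exact hgC (hgo ▸ one_mem _)
    have hℓq' : ℓ ≠ q := by
      rintro rfl
      exact hq.one_lt.ne' ((Nat.coprime_self _).mp hℓq)
    have hgnorm : ∀ x ∈ zpowers g, ∀ u ∈ U, x * u * x⁻¹ ∈ U := by
      intro x hx u hu
      exact conj_mem_of_mem_normalizer ((zpowers_le.mpr hgN) hx) hu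
    have hT := card_sup_dvd U (zpowers g) hgnorm
    rw [hj, Nat.card_zpowers, hgo] at hT
    have hℓp : ℓ = p := by
      have hpT : p ∣ q ^ j * ℓ ^ k := by
        by_cases htop : (U ⊔ zpowers g : Subgroup G) = ⊤
        · rw [htop, Subgroup.card_top] at hT
          exact h.hpG.trans hT
        · have hqT : q ∣ Nat.card (U ⊔ zpowers g : Subgroup G) := by
            have : Nat.card U ∣ Nat.card (U ⊔ zpowers g : Subgroup G) :=
              Subgroup.card_dvd_of_le le_sup_left
            rw [hj] at this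
            exact (dvd_pow_self q hj0).trans this
          have hℓT : ℓ ∣ Nat.card (U ⊔ zpowers g : Subgroup G) := by
            have : Nat.card (zpowers g) ∣ Nat.card (U ⊔ zpowers g : Subgroup G) :=
              Subgroup.card_dvd_of_le le_sup_right
            rw [Nat.card_zpowers, hgo] at this
            exact (dvd_pow_self ℓ hk0).trans this
          have hnq : ¬ IsPGroup q (U ⊔ zpowers g : Subgroup G) := by
            intro hP
            obtain ⟨i, hi⟩ := IsPGroup.iff_card.mp hP
            rw [hi] at hℓT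
            exact hℓq' ((Nat.prime_dvd_prime_iff_eq hℓ hq).mp (hℓ.dvd_of_dvd_pow hℓT))
          exact (h.hmix _ htop hnq hqT).trans hT
      rcases (Nat.Prime.dvd_mul hp).mp hpT with h1 | h1
      · exact absurd ((Nat.prime_dvd_prime_iff_eq hp hq).mp (hp.dvd_of_dvd_pow h1)) hpq
      · exact ((Nat.prime_dvd_prime_iff_eq hp hℓ).mp (hp.dvd_of_dvd_pow h1)).symm
    rw [hℓp] at hgo
    have hgp : Pel p g := pel_of_orderOf hgo
    -- Step 4: orbit counting on `U ∖ 1`
    have hSinv : ∀ x ∈ zpowers g, ∀ s ∈ {x : G | x ∈ U ∧ x ≠ 1},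
        x * s * x⁻¹ ∈ {x : G | x ∈ U ∧ x ≠ 1} := by
      intro x hx s hs
      refine ⟨hgnorm x hx s hs.1, fun h1 => hs.2 ?_⟩
      have : s = x⁻¹ * (x * s * x⁻¹) * x := by group
      rw [this, h1]; group
    have hmod := card_modEq_fixed (zpowers g) hgp.isPGroup_zpowers _ hSinv
    have hScard : {x : G | x ∈ U ∧ x ≠ 1}.ncard = q ^ j - 1 := by
      have h1 : {x : G | x ∈ U ∧ x ≠ 1} = ((U : Subgroup G) : Set G) \ {1} := by
        ext x; simp
      rw [h1, Set.ncard_diff (by simpa using U.one_mem), Set.ncard_singleton,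
        ← Nat.card_coe_set_eq]
      change Nat.card U - 1 = q ^ j - 1
      rw [hj]
    have hFS : {s | s ∈ {x : G | x ∈ U ∧ x ≠ 1} ∧ ∀ x ∈ zpowers g, x * s * x⁻¹ = s} ⊆
        {x : G | x ∈ U ∧ x ≠ 1} := fun x hx => hx.1
    have hFne : {s | s ∈ {x : G | x ∈ U ∧ x ≠ 1} ∧ ∀ x ∈ zpowers g, x * s * x⁻¹ = s} ≠
        {x : G | x ∈ U ∧ x ≠ 1} := by
      intro heq
      apply hgC
      rw [mem_centralizer_iff]
      intro u hu
      by_cases hu1 : u = 1
      · rw [hu1]; simp
      · have : u ∈ {s | s ∈ {x : G | x ∈ U ∧ x ≠ 1} ∧ ∀ x ∈ zpowers g, x * s * x⁻¹ = s} := by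
          rw [heq]; exact ⟨hu, hu1⟩
        have h2 := this.2 g (mem_zpowers g)
        exact (comm_of_conj_eq h2).symm
    have hFlt := Set.ncard_lt_ncard (hFS.ssubset_of_ne hFne) (Set.toFinite _)
    have hple : p ≤ {x : G | x ∈ U ∧ x ≠ 1}.ncard -
        {s | s ∈ {x : G | x ∈ U ∧ x ≠ 1} ∧ ∀ x ∈ zpowers g, x * s * x⁻¹ = s}.ncard := by
      have hd := (Nat.modEq_iff_dvd' hFlt.le).mp hmod.symm
      exact Nat.le_of_dvd (by omega) hd
    have hjle : q ^ j ≤ q ^ (Nat.card G).factorization q := by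
      rw [← hj, ← hQc]; exact Nat.le_of_dvd Nat.card_pos (Subgroup.card_dvd_of_le hUQ)
    have hqj : 0 < q ^ j := pow_pos hq.pos _
    rcases h.hlarge with h1 | ⟨h1, h2⟩
    · omega
    · have hjeq : q ^ j = q ^ (Nat.card G).factorization q := by omega
      have hF0 : {s | s ∈ {x : G | x ∈ U ∧ x ≠ 1} ∧
          ∀ x ∈ zpowers g, x * s * x⁻¹ = s}.ncard = 0 := by omega
      have hUQeq : U = (Q : Subgroup G) :=
        Subgroup.eq_of_le_of_card_ge hUQ (by rw [hj, hQc, hjeq])
      have hq2 : q = 2 := by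
        have hpodd : p % 2 = 1 := by
          rcases hp.eq_two_or_odd with h3 | h3
          · exact absurd h3 hp2
          · exact h3
        have heven : 2 ∣ q ^ (Nat.card G).factorization q := by omega
        exact ((Nat.prime_dvd_prime_iff_eq Nat.prime_two hq).mp
          (Nat.prime_two.dvd_of_dvd_pow heven)).symm
      subst hq2
      have hFempty := (Set.ncard_eq_zero (Set.toFinite _)).mp hF0
      have hpkg : Pkg G p := by
        refine ⟨hp, hp2, ?_, ⟨Q, ?_, g, hgp, ?_, ?_⟩, h2, ⟨r, hr, hrG, hrq, hrp⟩⟩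
        · intro H hH h2H r' hr' hr'H
          exact (key H hH h2H r' hr' hr'H).symm
        · rw [hQc]; omega
        · intro s hs
          have hs' : s ∈ U := by rw [hUQeq]; exact hs
          have := hgnorm g (mem_zpowers g) s hs'
          rw [hUQeq] at this; exact this
        · intro s hs hfix
          by_contra hs1
          have hs' : s ∈ U := by rw [hUQeq]; exact hs
          have : s ∈ {s | s ∈ {x : G | x ∈ U ∧ x ≠ 1} ∧
              ∀ x ∈ zpowers g, x * s * x⁻¹ = s} := by
            refine ⟨⟨hs', hs1⟩, fun x hx => ?_⟩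
            have hgs : g * s = s * g := comm_of_conj_eq hfix
            have := comm_zpowers (z := s) (x := g) hgs.symm hx
            exact conj_eq_of_comm this.symm
          rw [hFempty] at this
          exact this
      exact hpkg.false

end Cfsg.Agent.Lib.helper73.EP
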