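import Mathlib
import Cfsg.Agent.Lib.helper42.FGDefs
import Cfsg.Agent.Lib.helper33.FGT1A
import Cfsg.Agent.Lib.helper79.FGLEMN
import Cfsg.Agent.Lib.helper10.FGLEMM

/-! S1915 split (helper42), piece T1C (racer copy by helper73): a `U`- and `S`-invariant
self-centralizing abelian subgroup `B` of `S` has index 2 in `S`. -/

set_option autoImplicit false

namespace Cfsg.Agent.Lib.helper42.FG

variable {G : Type*} [Group G] [Finite G]

/-- in a finite group, closure under conjugation by `t` gives membership in the normalizer -/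
theorem h73_mem_normalizer_of_conj_mem (K : Subgroup G) (t : G)
    (ht : ∀ x ∈ K, t * x * t⁻¹ ∈ K) : t ∈ Subgroup.normalizer (K : Set G) := by
  have hle : K.map (MulAut.conj t).toMonoidHom ≤ K := by
    rintro _ ⟨x, hx, rfl⟩
    exact ht x hx
  have hcard : Nat.card K ≤ Nat.card (K.map (MulAut.conj t).toMonoidHom) := by
    rw [Subgroup.card_map_of_injective (MulAut.conj t).injective]
  have heq : K.map (MulAut.conj t).toMonoidHom = K := Subgroup.eq_of_le_of_card_ge hle hcard
  rw [Subgroup.mem_normalizer_iff]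
  intro x
  constructor
  · exact ht x
  · intro hx
    rw [← heq] at hx
    obtain ⟨k, hk, hkx⟩ := hx
    have h1 : t * k * t⁻¹ = t * x * t⁻¹ := hkx
    have h2 : k = x := by
      have h3 : t⁻¹ * (t * k * t⁻¹) * t = t⁻¹ * (t * x * t⁻¹) * t := by rw [h1]
      calc k = t⁻¹ * (t * k * t⁻¹) * t := by group
      _ = t⁻¹ * (t * x * t⁻¹) * t := h3
      _ = x := by group
    exact h2 ▸ hk

/-- a cyclic subgroup whose order is divisible by 4 has an element of order 4 -/
theorem h73_exists_order4 (B : Subgroup G) (hcyc : IsCyclic B) (h4 : 4 ∣ Nat.card B) :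
    ∃ b ∈ B, orderOf b = 4 := by
  classical
  haveI := hcyc
  haveI : Fintype ↥B := Fintype.ofFinite _
  have h1 := IsCyclic.card_orderOf_eq_totient (α := ↥B) (d := 4)
    (by rw [← Nat.card_eq_fintype_card]; exact h4)
  have h2 : (Finset.univ.filter (fun a : ↥B => orderOf a = 4)).Nonempty := by
    rw [← Finset.card_pos, h1]
    decide
  obtain ⟨b, hb⟩ := h2
  refine ⟨(b : G), b.2, ?_⟩
  rw [Subgroup.orderOf_coe]
  exact (Finset.mem_filter.mp hb).2

/-- a cyclic subgroup has only two elements of order 4 -/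
theorem h73_cyc_two_order4 (B : Subgroup G) (hcyc : IsCyclic B) (b c : G) (hb : b ∈ B)
    (hb4 : orderOf b = 4) (hc : c ∈ B) (hc4 : orderOf c = 4) : c = b ∨ c = b⁻¹ := by
  classical
  haveI := hcyc
  haveI : Fintype ↥B := Fintype.ofFinite _
  have h4 : 4 ∣ Fintype.card ↥B := by
    rw [← Nat.card_eq_fintype_card, ← hb4]
    exact Subgroup.orderOf_dvd_natCard B hb
  have h1 := IsCyclic.card_orderOf_eq_totient (α := ↥B) (d := 4) h4
  have h2 : Nat.totient 4 = 2 := by decide
  by_contra hcon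
  push_neg at hcon
  have hbb : b ≠ b⁻¹ := by
    intro h
    have h3 : b ^ 2 = 1 := by
      rw [pow_two]
      nth_rewrite 2 [h]
      exact mul_inv_cancel b
    have h5 := orderOf_dvd_of_pow_eq_one h3
    rw [hb4] at h5
    norm_num at h5
  have hsub : ({⟨c, hc⟩, ⟨b, hb⟩, ⟨b⁻¹, B.inv_mem hb⟩} : Finset ↥B) ⊆
      Finset.univ.filter (fun a : ↥B => orderOf a = 4) := by
    intro a ha
    simp only [Finset.mem_insert, Finset.mem_singleton] at ha
    simp only [Finset.mem_filter, Finset.mem_univ, true_and]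
    rcases ha with rfl | rfl | rfl
    · rw [Subgroup.orderOf_mk]; exact hc4
    · rw [Subgroup.orderOf_mk]; exact hb4
    · rw [Subgroup.orderOf_mk, orderOf_inv]; exact hb4
  have hn1 : (⟨b, hb⟩ : ↥B) ∉ ({⟨b⁻¹, B.inv_mem hb⟩} : Finset ↥B) := by
    simp only [Finset.mem_singleton]
    intro h
    exact hbb (Subtype.mk.inj h)
  have hn2 : (⟨c, hc⟩ : ↥B) ∉ ({⟨b, hb⟩, ⟨b⁻¹, B.inv_mem hb⟩} : Finset ↥B) := by
    simp only [Finset.mem_insert, Finset.mem_singleton]
    rintro (h | h)
    · exact hcon.1 (Subtype.mk.inj h)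
    · exact hcon.2 (Subtype.mk.inj h)
  have hcard : ({⟨c, hc⟩, ⟨b, hb⟩, ⟨b⁻¹, B.inv_mem hb⟩} : Finset ↥B).card = 3 := by
    rw [Finset.card_insert_of_notMem hn2, Finset.card_insert_of_notMem hn1, Finset.card_singleton]
  have h6 := Finset.card_le_card hsub
  omega

/-- the subgroup `B ∪ B y⁻¹` for `y` normalizing `B` with `y * y ∈ B` -/
def h73_ext (B : Subgroup G) (y : G) (hy : y ∈ Subgroup.normalizer (B : Set G))
    (hyy : y * y ∈ B) : Subgroup G where
  carrier := {x | x ∈ B ∨ x * y ∈ B}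
  one_mem' := Or.inl B.one_mem
  mul_mem' := by
    intro a b ha hb
    have hn : ∀ x ∈ B, y⁻¹ * x * y ∈ B := by
      intro x hx
      have h1 := (Subgroup.mem_normalizer_iff.mp hy (y⁻¹ * x * y)).mpr
      apply h1
      have h2 : y * (y⁻¹ * x * y) * y⁻¹ = x := by group
      rw [h2]; exact hx
    rcases ha with ha | ha <;> rcases hb with hb | hb
    · exact Or.inl (B.mul_mem ha hb)
    · right
      have h1 : a * b * y = a * (b * y) := by group
      show a * b * y ∈ B
      rw [h1]; exact B.mul_mem ha hb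
    · right
      have h1 : a * b * y = (a * y) * (y⁻¹ * b * y) := by group
      show a * b * y ∈ B
      rw [h1]; exact B.mul_mem ha (hn b hb)
    · left
      have h1 : a * b = (a * y) * (y⁻¹ * (b * y) * y) * (y * y)⁻¹ := by group
      show a * b ∈ B
      rw [h1]; exact B.mul_mem (B.mul_mem ha (hn _ hb)) (B.inv_mem hyy)
  inv_mem' := by
    intro a ha
    rcases ha with ha | ha
    · exact Or.inl (B.inv_mem ha)
    · right
      have h1 : a⁻¹ * y = (y * (a * y)⁻¹ * y⁻¹) * (y * y) := by group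
      show a⁻¹ * y ∈ B
      rw [h1]
      exact B.mul_mem ((Subgroup.mem_normalizer_iff.mp hy _).mp (B.inv_mem ha)) hyy

theorem h73_mem_ext (B : Subgroup G) (y : G) (hy : y ∈ Subgroup.normalizer (B : Set G))
    (hyy : y * y ∈ B) (x : G) : x ∈ h73_ext B y hy hyy ↔ x ∈ B ∨ x * y ∈ B := Iff.rfl

theorem h73_index_two {A S U : Subgroup G} (h : Cfg A S U) (B : Subgroup G) (hBS : B ≤ S)
    (hSB : S ≤ Subgroup.normalizer (B : Set G)) (hUB : U ≤ Subgroup.normalizer (B : Set G))
    (hcomm : ∀ x ∈ B, ∀ y ∈ B, x * y = y * x)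
    (hself : ∀ y ∈ S, (∀ x ∈ B, y * x = x * y) → y ∈ B) : B.relIndex S = 2 := by
  classical
  haveI : Fact (Nat.Prime 2) := ⟨Nat.prime_two⟩
  have hcyc : IsCyclic B := cyclic_of_inv_comm h B hBS hUB hcomm
  have hS2 : IsPGroup 2 S := IsPGroup.of_card h.hSyl
  have hB2 : IsPGroup 2 B := hS2.to_le hBS
  have hU2 : IsPGroup 2 U := IsPGroup.of_card (n := 2) (by rw [h.hU.card_four]; norm_num)
  -- Step 1: `B ≠ S`
  have hne : B ≠ S := by
    intro hBS'
    obtain ⟨E, hES, hE, hcE⟩ := h.hc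
    have hEB : E ≤ B := hBS' ▸ hES
    haveI : IsCyclic ↥B := hcyc
    haveI : IsCyclic ↥(E.subgroupOf B) := Subgroup.isCyclic _
    haveI : IsCyclic ↥E :=
      isCyclic_of_surjective (Subgroup.subgroupOfEquivOfLe hEB)
        (Subgroup.subgroupOfEquivOfLe hEB).surjective
    haveI : Fintype ↥E := Fintype.ofFinite _
    have hle := IsCyclic.card_pow_eq_one_le (α := ↥E) (n := 2) (by norm_num)
    have hall : Finset.univ.filter (fun a : ↥E => a ^ 2 = 1) = Finset.univ := by
      apply Finset.filter_true_of_mem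
      intro a _
      exact Subtype.ext (hE.2 a a.2)
    rw [hall, Finset.card_univ, ← Nat.card_eq_fintype_card] at hle
    omega
  -- Step 2: `4 ∣ card B`
  have h4 : 4 ∣ Nat.card B := by
    obtain ⟨m, hm⟩ := (IsPGroup.iff_card (p := 2)).mp hB2
    have hcentral : (∀ y ∈ S, ∀ x ∈ B, y * x = x * y) → False := by
      intro hc
      apply hne
      exact le_antisymm hBS (fun y hy => hself y hy (hc y hy))
    rcases Nat.lt_or_ge m 2 with hm2 | hm2
    · exfalso
      apply hcentral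
      intro y hy x hx
      interval_cases m
      · -- card B = 1
        have hb : B = ⊥ := Subgroup.card_eq_one.mp (by rw [hm]; norm_num)
        rw [hb, Subgroup.mem_bot] at hx
        rw [hx, mul_one, one_mul]
      · -- card B = 2
        have h2 : Nat.card ↥B = 2 := by rw [hm]; norm_num
        obtain ⟨v, hv1, hvu⟩ := (Nat.card_eq_two_iff' (1 : ↥B)).mp h2
        by_cases hx1 : x = 1
        · rw [hx1, mul_one, one_mul]
        · have hyx : y * x * y⁻¹ ∈ B := (Subgroup.mem_normalizer_iff.mp (hSB hy) x).mp hx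
          have e1 : (⟨x, hx⟩ : ↥B) = v := hvu ⟨x, hx⟩ (fun h => hx1 (Subtype.mk.inj h))
          have e2 : (⟨y * x * y⁻¹, hyx⟩ : ↥B) = v := hvu ⟨y * x * y⁻¹, hyx⟩ (fun h => by
            apply hx1
            have h3 : y * x * y⁻¹ = 1 := Subtype.mk.inj h
            calc x = y⁻¹ * (y * x * y⁻¹) * y := by group
            _ = 1 := by rw [h3]; group)
          have e3 : y * x * y⁻¹ = x := Subtype.mk.inj (e2.trans e1.symm)
          calc y * x = (y * x * y⁻¹) * y := by group
          _ = x * y := by rw [e3]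
    · rw [hm]
      exact pow_dvd_pow 2 hm2
  obtain ⟨b0, hb0, hb04⟩ := h73_exists_order4 B hcyc h4
  -- Step 3: conjugates of `b0`
  have hconj : ∀ t ∈ Subgroup.normalizer (B : Set G),
      t * b0 * t⁻¹ = b0 ∨ t * b0 * t⁻¹ = b0⁻¹ := by
    intro t ht
    apply h73_cyc_two_order4 B hcyc b0 (t * b0 * t⁻¹) hb0 hb04
      ((Subgroup.mem_normalizer_iff.mp ht b0).mp hb0)
    have h1 : orderOf (t * b0 * t⁻¹) = orderOf b0 := (MulAut.conj t).orderOf_eq b0
    rw [h1, hb04]
  have hb0inv : ∀ x : G, x * b0 = b0 * x → x * b0⁻¹ = b0⁻¹ * x := by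
    intro x hx
    calc x * b0⁻¹ = b0⁻¹ * (b0 * x) * b0⁻¹ := by group
    _ = b0⁻¹ * (x * b0) * b0⁻¹ := by rw [hx]
    _ = b0⁻¹ * x := by group
  have hb0inv' : ∀ x : G, x * b0⁻¹ = b0⁻¹ * x → x * b0 = b0 * x := by
    intro x hx
    calc x * b0 = b0 * (b0⁻¹ * x) * b0 := by group
    _ = b0 * (x * b0⁻¹) * b0 := by rw [hx]
    _ = b0 * x := by group
  -- the centralizer of `b0` in `S`
  obtain ⟨C1, hC1⟩ : ∃ C1 : Subgroup G, C1 = S ⊓ Subgroup.centralizer ({b0} : Set G) := ⟨_, rfl⟩
  have hmemC1 : ∀ x, x ∈ C1 ↔ x ∈ S ∧ x * b0 = b0 * x := by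
    intro x
    rw [hC1, Subgroup.mem_inf, Subgroup.mem_centralizer_singleton_iff]
  have hBC1 : B ≤ C1 := by
    intro x hx
    rw [hmemC1]
    exact ⟨hBS hx, hcomm x hx b0 hb0⟩
  have hC1B : C1 = B := by
    by_contra hneC
    have hneBC : B ≠ C1 := fun h => hneC h.symm
    have hT : IsPGroup 2 ↥(S ⊔ U) := by
      have h1 := IsPGroup.to_sup_of_normal_right' hU2 hS2 h.hUS
      rwa [sup_comm] at h1
    have hTB : S ⊔ U ≤ Subgroup.normalizer (B : Set G) := sup_le hSB hUB
    have hnC : ∀ t, t ∈ Subgroup.normalizer (S : Set G) → t ∈ Subgroup.normalizer (B : Set G) →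
        t ∈ Subgroup.normalizer (C1 : Set G) := by
      intro t htS htB
      apply h73_mem_normalizer_of_conj_mem
      intro x hx
      rw [hmemC1] at hx ⊢
      refine ⟨(Subgroup.mem_normalizer_iff.mp htS x).mp hx.1, ?_⟩
      have hx2 := hx.2
      rcases hconj t htB with h1 | h1
      · -- t b0 t⁻¹ = b0
        have h2 : b0 * t = t * b0 := by
          calc b0 * t = (t * b0 * t⁻¹) * t := by rw [h1]
          _ = t * b0 := by group
        have h3 : t⁻¹ * b0 = b0 * t⁻¹ := by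
          calc t⁻¹ * b0 = t⁻¹ * (b0 * t) * t⁻¹ := by group
          _ = t⁻¹ * (t * b0) * t⁻¹ := by rw [h2]
          _ = b0 * t⁻¹ := by group
        calc t * x * t⁻¹ * b0 = t * x * (t⁻¹ * b0) := by group
        _ = t * x * (b0 * t⁻¹) := by rw [h3]
        _ = t * (x * b0) * t⁻¹ := by group
        _ = t * (b0 * x) * t⁻¹ := by rw [hx2]
        _ = (t * b0) * x * t⁻¹ := by group
        _ = (b0 * t) * x * t⁻¹ := by rw [h2]
        _ = b0 * (t * x * t⁻¹) := by group
      · -- t b0 t⁻¹ = b0⁻¹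
        have h2 : t * b0 = b0⁻¹ * t := by
          calc t * b0 = (t * b0 * t⁻¹) * t := by group
          _ = b0⁻¹ * t := by rw [h1]
        have h2' : t * b0⁻¹ = b0 * t := by
          calc t * b0⁻¹ = (t * b0 * t⁻¹)⁻¹ * t := by group
          _ = b0 * t := by rw [h1, inv_inv]
        have h3 : t⁻¹ * b0 = b0⁻¹ * t⁻¹ := by
          calc t⁻¹ * b0 = t⁻¹ * (b0 * t) * t⁻¹ := by group
          _ = t⁻¹ * (t * b0⁻¹) * t⁻¹ := by rw [h2']
          _ = b0⁻¹ * t⁻¹ := by group
        have hx3 := hb0inv x hx2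
        calc t * x * t⁻¹ * b0 = t * x * (t⁻¹ * b0) := by group
        _ = t * x * (b0⁻¹ * t⁻¹) := by rw [h3]
        _ = t * (x * b0⁻¹) * t⁻¹ := by group
        _ = t * (b0⁻¹ * x) * t⁻¹ := by rw [hx3]
        _ = (t * b0⁻¹) * x * t⁻¹ := by group
        _ = (b0 * t) * x * t⁻¹ := by rw [h2']
        _ = b0 * (t * x * t⁻¹) := by group
    have hTC : S ⊔ U ≤ Subgroup.normalizer (C1 : Set G) :=
      sup_le (fun t ht => hnC t (Subgroup.le_normalizer ht) (hSB ht))
        (fun t ht => hnC t (h.hUS ht) (hUB ht))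
    have hC1T : C1 ≤ S ⊔ U := by
      intro x hx
      exact le_sup_left (α := Subgroup G) ((hmemC1 x).mp hx).1
    obtain ⟨y, hyC, hyB, hyy, hyT⟩ :=
      exists_central_step (S ⊔ U) B C1 hT hBC1 hC1T hneBC hTB hTC
    have hyS : y ∈ S := ((hmemC1 y).mp hyC).1
    have hyb0 : y * b0 = b0 * y := ((hmemC1 y).mp hyC).2
    have hyN : y ∈ Subgroup.normalizer (B : Set G) := hSB hyS
    -- the subgroup `N = B ∪ B y⁻¹`
    obtain ⟨N, hN⟩ : ∃ N : Subgroup G, N = h73_ext B y hyN hyy := ⟨_, rfl⟩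
    have hmemN : ∀ x, x ∈ N ↔ x ∈ B ∨ x * y ∈ B := by
      intro x
      rw [hN]
      exact h73_mem_ext B y hyN hyy x
    have hBN : B ≤ N := fun x hx => (hmemN x).mpr (Or.inl hx)
    have hNS : N ≤ S := by
      intro x hx
      rcases (hmemN x).mp hx with hx | hx
      · exact hBS hx
      · have h1 : x = (x * y) * y⁻¹ := by group
        rw [h1]
        exact S.mul_mem (hBS hx) (S.inv_mem hyS)
    have hyNmem : y ∈ N := (hmemN y).mpr (Or.inr hyy)
    have hidx : B.relIndex N = 2 := by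
      rw [Subgroup.relIndex_eq_two_iff_exists_notMem_and]
      refine ⟨y, hyNmem, hyB, ?_⟩
      intro b hb
      rcases (hmemN b).mp hb with hb | hb
      · exact Or.inr hb
      · exact Or.inl hb
    have hselfN : ∀ y' ∈ N, (∀ x ∈ B, y' * x = x * y') → y' ∈ B :=
      fun y' hy' hc => hself y' (hNS hy') hc
    have hb0c : ∀ y' ∈ N, y' * b0 = b0 * y' := by
      intro y' hy'
      rcases (hmemN y').mp hy' with hy' | hy'
      · exact hcomm y' hy' b0 hb0
      · have h1 : (y' * y) * b0 = b0 * (y' * y) := hcomm _ hy' b0 hb0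
        have h2 : y⁻¹ * b0 = b0 * y⁻¹ := by
          calc y⁻¹ * b0 = y⁻¹ * (b0 * y) * y⁻¹ := by group
          _ = y⁻¹ * (y * b0) * y⁻¹ := by rw [hyb0]
          _ = b0 * y⁻¹ := by group
        calc y' * b0 = (y' * y) * (y⁻¹ * b0) := by group
        _ = (y' * y) * (b0 * y⁻¹) := by rw [h2]
        _ = ((y' * y) * b0) * y⁻¹ := by group
        _ = (b0 * (y' * y)) * y⁻¹ := by rw [h1]
        _ = b0 * y' := by group
    obtain ⟨X, hXN, hXall, hXEl, hXcard⟩ :=
      modular_omega N B hBN hcyc (hS2.to_le hNS) hidx hselfN b0 hb0 hb04 hb0c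
    have hUX : U ≤ Subgroup.normalizer (X : Set G) := by
      intro u hu
      apply h73_mem_normalizer_of_conj_mem
      intro x hx
      apply hXall
      · -- u x u⁻¹ ∈ N
        rw [hmemN]
        rcases (hmemN x).mp (hXN hx) with hxB | hxB
        · exact Or.inl ((Subgroup.mem_normalizer_iff.mp (hUB hu) x).mp hxB)
        · right
          have huT : u⁻¹ ∈ S ⊔ U := le_sup_right (α := Subgroup G) (U.inv_mem hu)
          have h1 := hyT u⁻¹ huT
          rw [inv_inv] at h1
          -- h1 : u⁻¹ * y * u * y⁻¹ ∈ B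
          have hn : ∀ w ∈ B, y⁻¹ * w * y ∈ B := by
            intro w hw
            apply (Subgroup.mem_normalizer_iff.mp hyN (y⁻¹ * w * y)).mpr
            have h2 : y * (y⁻¹ * w * y) * y⁻¹ = w := by group
            rw [h2]; exact hw
          have h3 : u * x * u⁻¹ * y
              = u * ((x * y) * (y⁻¹ * (u⁻¹ * y * u * y⁻¹) * y)) * u⁻¹ := by group
          rw [h3]
          exact (Subgroup.mem_normalizer_iff.mp (hUB hu) _).mp (B.mul_mem hxB (hn _ h1))
      · have h1 : (u * x * u⁻¹) ^ 2 = u * x ^ 2 * u⁻¹ := by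
          rw [pow_two, pow_two]; group
        rw [h1, hXEl.2 x hx]
        group
    have h5 := h.ha X (hXN.trans hNS) hUX hXEl
    omega
  -- conclusion
  have hout : ∀ s ∈ S, s ∉ B → s * b0 * s⁻¹ = b0⁻¹ := by
    intro s hs hsB
    rcases hconj s (hSB hs) with h1 | h1
    · exfalso
      apply hsB
      rw [← hC1B, hmemC1]
      refine ⟨hs, ?_⟩
      calc s * b0 = (s * b0 * s⁻¹) * s := by group
      _ = b0 * s := by rw [h1]
    · exact h1
  rw [Subgroup.relIndex_eq_two_iff_exists_notMem_and]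
  obtain ⟨a, haS, haB⟩ := SetLike.exists_of_lt (lt_of_le_of_ne hBS hne)
  refine ⟨a, haS, haB, ?_⟩
  intro b hb
  by_cases hbB : b ∈ B
  · exact Or.inr hbB
  · left
    rw [← hC1B, hmemC1]
    refine ⟨S.mul_mem hb haS, ?_⟩
    have h1 := hout a haS haB
    have h2 := hout b hb hbB
    have h3 : (b * a) * b0 * (b * a)⁻¹ = b0 := by
      calc (b * a) * b0 * (b * a)⁻¹ = b * (a * b0 * a⁻¹) * b⁻¹ := by group
      _ = b * b0⁻¹ * b⁻¹ := by rw [h1]
      _ = (b * b0 * b⁻¹)⁻¹ := by group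
      _ = b0 := by rw [h2, inv_inv]
    calc b * a * b0 = ((b * a) * b0 * (b * a)⁻¹) * (b * a) := by group
    _ = b0 * (b * a) := by rw [h3]

end Cfsg.Agent.Lib.helper42.FG
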