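import Mathlib
import Cfsg.Agent.Lib.helper73.Frattini

set_option autoImplicit false

/-!
Counting generating tuples; the Frattini quotient of a `p`-group is elementary abelian.
-/

namespace Cfsg.Agent.Lib.helper73

open scoped commutatorElement

/-- The number of generating `r`-tuples of an `𝔽_p`-vector space of order `p ^ r`. -/
theorem card_generating_tuples_zmod {V : Type*} [AddCommGroup V] [Finite V] {p r : ℕ}
    [Fact p.Prime] [Module (ZMod p) V] (h : Nat.card V = p ^ r) :
    Nat.card {f : Fin r → V // AddSubgroup.closure (Set.range f) = ⊤} =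
      ∏ i : Fin r, (p ^ r - p ^ (i : ℕ)) := by
  have hfin : Module.finrank (ZMod p) V = r := by
    have := Module.natCard_eq_pow_finrank (K := ZMod p) (V := V)
    rw [h, Nat.card_zmod] at this
    exact (Nat.pow_right_injective (Fact.out : p.Prime).two_le this).symm
  have hequiv : ∀ f : Fin r → V,
      AddSubgroup.closure (Set.range f) = ⊤ ↔ LinearIndependent (ZMod p) f := by
    intro f
    have h1 : AddSubgroup.closure (Set.range f) = ⊤ ↔
        Submodule.span (ZMod p) (Set.range f) = ⊤ := by
      constructor
      · intro hc
        rw [eq_top_iff]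
        intro x _
        have hx : x ∈ AddSubgroup.closure (Set.range f) := by rw [hc]; trivial
        have hle : AddSubgroup.closure (Set.range f) ≤
            (Submodule.span (ZMod p) (Set.range f)).toAddSubgroup :=
          (AddSubgroup.closure_le _).mpr Submodule.subset_span
        exact hle hx
      · intro hs
        rw [eq_top_iff]
        intro x _
        have hx : x ∈ Submodule.span (ZMod p) (Set.range f) := by rw [hs]; trivial
        have hle : Submodule.span (ZMod p) (Set.range f) ≤
            AddSubgroup.toZModSubmodule p (AddSubgroup.closure (Set.range f)) :=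
          Submodule.span_le.mpr AddSubgroup.subset_closure
        exact hle hx
    rw [h1]
    constructor
    · intro hs
      exact linearIndependent_of_top_le_span_of_card_eq_finrank hs.ge (by simp [hfin])
    · intro hli
      exact hli.span_eq_top_of_card_eq_finrank' (by simp [hfin])
  rw [Nat.card_congr (Equiv.subtypeEquivRight hequiv)]
  have := card_linearIndependent (K := ZMod p) (V := V) (k := r) (by rw [hfin])
  rw [this, hfin, ZMod.card]

/-- The number of generating `r`-tuples of an elementary abelian group of order `p ^ r`. -/
theorem card_generating_tuples {Q : Type*} [Group Q] [Finite Q] {p r : ℕ} [Fact p.Prime]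
    (hcomm : ∀ a b : Q, a * b = b * a) (hexp : ∀ a : Q, a ^ p = 1) (h : Nat.card Q = p ^ r) :
    Nat.card {f : Fin r → Q // Subgroup.closure (Set.range f) = ⊤} =
      ∏ i : Fin r, (p ^ r - p ^ (i : ℕ)) := by
  let _ : CommGroup Q := { (inferInstance : Group Q) with mul_comm := hcomm }
  let _ : Module (ZMod p) (Additive Q) := AddCommGroup.zmodModule (n := p) (fun x => by
    show Additive.ofMul ((Additive.toMul x) ^ p) = 0
    rw [hexp]
    rfl)
  have hfinA : Finite (Additive Q) := ‹Finite Q›
  have hcardA : Nat.card (Additive Q) = p ^ r := h
  rw [← card_generating_tuples_zmod (V := Additive Q) hcardA]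
  refine Nat.card_congr (Equiv.subtypeEquiv
    (Equiv.piCongrRight (fun _ : Fin r => (Additive.ofMul : Q ≃ Additive Q))) ?_)
  intro f
  have hpre : (Additive.toMul ⁻¹' (Set.range f) : Set (Additive Q)) =
      Set.range (fun i : Fin r => Additive.ofMul (f i)) := by
    ext x
    constructor
    · rintro ⟨i, hi⟩
      exact ⟨i, hi⟩
    · rintro ⟨i, hi⟩
      exact ⟨i, hi⟩
  show Subgroup.closure (Set.range f) = ⊤ ↔
    AddSubgroup.closure (Set.range (fun i : Fin r => Additive.ofMul (f i))) = ⊤
  rw [← hpre, ← Subgroup.toAddSubgroup_closure]
  constructor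
  · intro hc
    rw [hc]
    rfl
  · intro ha
    apply Subgroup.toAddSubgroup.injective
    rw [ha]
    rfl

end Cfsg.Agent.Lib.helper73
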