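import Mathlib
import Cfsg.Agent.Lib.helper3.GfDefs
import Cfsg.Agent.Lib.helper50.SymForm2

set_option autoImplicit false

namespace Cfsg.Agent.Lib.helper3.Gf

/-- Skew-symmetry of an alternating biadditive form. -/
theorem h73_invalt_skew {V : Type*} [AddCommGroup V] (p : ℕ) (T : V ≃+ V) (β : V → V → ZMod p)
    (hβ : InvAlt p T β) (u v : V) : β u v + β v u = 0 := by
  obtain ⟨hl, hr, halt, _⟩ := hβ
  have h := halt (u + v)
  rw [hl, hr, hr, halt u, halt v] at h
  linear_combination h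

/-- Invariance under the powers of `T`. -/
theorem h73_invalt_iter {V : Type*} [AddCommGroup V] (p : ℕ) (T : V ≃+ V) (β : V → V → ZMod p)
    (hβ : InvAlt p T β) (k : ℕ) (u v : V) : β ((⇑T)^[k] u) ((⇑T)^[k] v) = β u v := by
  induction k with
  | zero => rfl
  | succ k ih =>
    rw [Function.iterate_succ_apply', Function.iterate_succ_apply', hβ.2.2.2, ih]

/-- FORMS (racing copy of `forms`, verbatim statement). -/
theorem h73_forms (p q : ℕ) [Fact p.Prime] [Fact q.Prime] (hpq : p ≠ q) {V : Type*} [AddCommGroup V] [Finite V]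
    (T : V ≃+ V) (h : Irr p q T) (a : ℕ) (hcard : Nat.card V = p ^ a) :
    (a % 2 = 1 → ∀ β : V → V → ZMod p, InvAlt p T β → β = 0) ∧
    (a % 2 = 0 → Nat.card {β : V → V → ZMod p // InvAlt p T β} ≤ p ^ (a / 2)) := by
  classical
  have hp : p.Prime := Fact.out
  have instM : Module (ZMod p) V := AddCommGroup.zmodModule h.exp
  obtain ⟨R, hR⟩ : ∃ R : V →ₗ[ZMod p] V, ∀ v, R v = T v :=
    ⟨(T : V →+ V).toZModLinearMap p, fun v => rfl⟩
  have hsimple : ∀ U : Submodule (ZMod p) V, (∀ v ∈ U, R v ∈ U) → U = ⊥ ∨ U = ⊤ := by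
    intro U hU
    rcases h.irr U.toAddSubgroup (fun w hw => by
      have := hU w hw
      rw [hR] at this
      exact this) with h1 | h1
    · left
      apply Submodule.toAddSubgroup_injective
      rw [h1]; rfl
    · right
      apply Submodule.toAddSubgroup_injective
      rw [h1]; rfl
  have hfin : Module.Finite (ZMod p) V := Module.Finite.of_finite
  have hdim : Module.finrank (ZMod p) V = a := by
    have h1 := Module.natCard_eq_pow_finrank (K := ZMod p) (V := V)
    rw [hcard, Nat.card_eq_fintype_card, ZMod.card] at h1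
    exact (Nat.pow_right_injective hp.two_le h1).symm
  have hlin : ∀ f : V → ZMod p, (∀ x y, f (x + y) = f x + f y) →
      ∀ (c : ZMod p) (x : V), f (c • x) = c • f x := by
    intro f hf c x
    exact ((AddMonoidHom.mk' f hf).toZModLinearMap p).map_smul c x
  constructor
  · intro hodd β hβ
    by_contra hne
    obtain ⟨hl, hr, halt, hinv⟩ := hβ
    obtain ⟨ω, hω⟩ : ∃ ω : V →ₗ[ZMod p] V →ₗ[ZMod p] ZMod p, ∀ u v, ω u v = β u v :=
      ⟨LinearMap.mk₂ (ZMod p) β hl
        (fun c u v => hlin (fun x => β x v) (fun x y => hl x y v) c u) hr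
        (fun c u v => hlin (β u) (hr u) c v), fun u v => rfl⟩
    rcases hsimple (LinearMap.ker ω) (by
      intro v hv
      rw [LinearMap.mem_ker] at hv ⊢
      ext w
      rw [hω, hR, LinearMap.zero_apply]
      have h1 : β (T v) w = β (T v) (T (T.symm w)) := by rw [T.apply_symm_apply]
      rw [h1, hinv, ← hω, hv, LinearMap.zero_apply]) with h1 | h1
    · have hnd : ∀ v, (∀ w, ω v w = 0) → v = 0 := by
        intro v hv
        have h2 : v ∈ LinearMap.ker ω := by
          rw [LinearMap.mem_ker]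
          ext w
          rw [hv w]; rfl
        rw [h1] at h2
        exact (Submodule.mem_bot _).1 h2
      have heven := Cfsg.Agent.Lib.helper50.even_finrank_of_alt_nondeg
        (Module.finrank (ZMod p) V) V ω (fun v => by rw [hω]; exact halt v) hnd rfl
      rw [hdim, Nat.even_iff] at heven
      omega
    · apply hne
      funext u v
      have h2 : u ∈ LinearMap.ker ω := by rw [h1]; trivial
      rw [LinearMap.mem_ker] at h2
      rw [← hω, h2]; rfl
  · intro heven
    obtain ⟨v₀, hv₀⟩ : ∃ v₀ : V, v₀ ≠ 0 := by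
      obtain ⟨v, hv⟩ := h.ne
      exact ⟨v, by rintro rfl; exact hv (map_zero T)⟩
    obtain ⟨W, hWdef⟩ : ∃ W : Submodule (ZMod p) V, W = Submodule.span (ZMod p)
        (insert v₀ (Set.range fun k : ℕ => (⇑T)^[k] v₀ + (⇑T.symm)^[k] v₀)) := ⟨_, rfl⟩
    have hW0 : v₀ ∈ W := by
      rw [hWdef]; exact Submodule.subset_span (Set.mem_insert _ _)
    have hWk : ∀ k : ℕ, (⇑T)^[k] v₀ + (⇑T.symm)^[k] v₀ ∈ W := fun k => by
      rw [hWdef]; exact Submodule.subset_span (Set.mem_insert_of_mem _ ⟨k, rfl⟩)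
    -- the injection into the annihilator of `W`
    have hmem : ∀ β : {β : V → V → ZMod p // InvAlt p T β},
        (AddMonoidHom.mk' (fun v => β.1 v₀ v) (fun x y => β.2.2.1 v₀ x y)).toZModLinearMap p ∈
          W.dualAnnihilator := by
      intro β
      rw [Submodule.mem_dualAnnihilator]
      have hle : W ≤ LinearMap.ker
          ((AddMonoidHom.mk' (fun v => β.1 v₀ v) (fun x y => β.2.2.1 v₀ x y)).toZModLinearMap p) := by
        rw [hWdef, Submodule.span_le]
        intro x hx
        rw [SetLike.mem_coe, LinearMap.mem_ker]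
        rcases hx with rfl | ⟨k, rfl⟩
        · exact β.2.2.2.1 x
        · show β.1 v₀ ((⇑T)^[k] v₀ + (⇑T.symm)^[k] v₀) = 0
          rw [β.2.2.1]
          have h1 : β.1 v₀ ((⇑T.symm)^[k] v₀) = β.1 ((⇑T)^[k] v₀) v₀ := by
            have h0 : (⇑T)^[k] ((⇑T.symm)^[k] v₀) = v₀ :=
              (Function.LeftInverse.iterate (g := ⇑T) (f := ⇑T.symm) T.apply_symm_apply k) v₀
            rw [← h73_invalt_iter p T β.1 β.2 k v₀ ((⇑T.symm)^[k] v₀), h0]
          rw [h1]
          exact h73_invalt_skew p T β.1 β.2 _ _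
      intro w hw
      exact LinearMap.mem_ker.1 (hle hw)
    obtain ⟨f, hf⟩ : ∃ f : {β : V → V → ZMod p // InvAlt p T β} → ↥(W.dualAnnihilator),
        ∀ β v, (f β : Module.Dual (ZMod p) V) v = β.1 v₀ v :=
      ⟨fun β => ⟨_, hmem β⟩, fun β v => rfl⟩
    have hinj : Function.Injective f := by
      intro β β' hff
      have hφ : ∀ v, β.1 v₀ v = β'.1 v₀ v := by
        intro v
        rw [← hf β v, ← hf β' v, hff]
      obtain ⟨Ψ, hΨ⟩ : ∃ Ψ : V →+ (V → ZMod p), ∀ u, Ψ u = β.1 u :=
        ⟨AddMonoidHom.mk' (fun u => β.1 u) (fun x y => funext (fun v => β.2.1 x y v)), fun u => rfl⟩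
      obtain ⟨Ψ', hΨ'⟩ : ∃ Ψ' : V →+ (V → ZMod p), ∀ u, Ψ' u = β'.1 u :=
        ⟨AddMonoidHom.mk' (fun u => β'.1 u) (fun x y => funext (fun v => β'.2.1 x y v)),
          fun u => rfl⟩
      have hD : ∀ u ∈ Ψ.eqLocus Ψ', T u ∈ Ψ.eqLocus Ψ' := by
        intro u hu
        have hu' : Ψ u = Ψ' u := hu
        show Ψ (T u) = Ψ' (T u)
        rw [hΨ, hΨ']
        funext v
        have h1 : β.1 (T u) v = β.1 (T u) (T (T.symm v)) := by rw [T.apply_symm_apply]
        have h2 : β'.1 (T u) v = β'.1 (T u) (T (T.symm v)) := by rw [T.apply_symm_apply]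
        rw [h1, h2, β.2.2.2.2, β'.2.2.2.2, ← hΨ, ← hΨ', hu']
      have hv₀D : v₀ ∈ Ψ.eqLocus Ψ' := by
        show Ψ v₀ = Ψ' v₀
        rw [hΨ, hΨ']
        exact funext hφ
      rcases h.irr (Ψ.eqLocus Ψ') hD with h1 | h1
      · exfalso
        rw [h1] at hv₀D
        exact hv₀ ((AddSubgroup.mem_bot).1 hv₀D)
      · apply Subtype.ext
        funext u
        have hu : u ∈ Ψ.eqLocus Ψ' := by rw [h1]; trivial
        have hu' : Ψ u = Ψ' u := hu
        rw [← hΨ, ← hΨ', hu']
    have hfinD : Finite (Module.Dual (ZMod p) V) :=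
      Finite.of_injective (fun φ : Module.Dual (ZMod p) V => (φ : V → ZMod p))
        DFunLike.coe_injective
    have hcardle : Nat.card {β : V → V → ZMod p // InvAlt p T β} ≤
        Nat.card ↥(W.dualAnnihilator) := Nat.card_le_card_of_injective f hinj
    have hfr := Subspace.finrank_add_finrank_dualAnnihilator_eq W
    have hcardann : Nat.card ↥(W.dualAnnihilator) =
        p ^ Module.finrank (ZMod p) ↥(W.dualAnnihilator) := by
      rw [Module.natCard_eq_pow_finrank (K := ZMod p), Nat.card_eq_fintype_card, ZMod.card]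
    -- `V = W + R W`
    have hQ : ∀ k : ℕ, (⇑T)^[k] v₀ ∈ W ⊔ W.map R → (⇑T.symm)^[k] v₀ ∈ W ⊔ W.map R := by
      intro k hk
      have h1 : (⇑T)^[k] v₀ + (⇑T.symm)^[k] v₀ ∈ W ⊔ W.map R :=
        (le_sup_left : W ≤ W ⊔ W.map R) (hWk k)
      have h2 := (W ⊔ W.map R).sub_mem h1 hk
      rw [add_sub_cancel_left] at h2
      exact h2
    have hstep : ∀ k : ℕ, (⇑T.symm)^[k] v₀ ∈ W ⊔ W.map R → (⇑T)^[k + 2] v₀ ∈ W ⊔ W.map R := by
      intro k hk
      have h1 : R ((⇑T)^[k + 1] v₀ + (⇑T.symm)^[k + 1] v₀) ∈ W ⊔ W.map R :=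
        (le_sup_right : W.map R ≤ W ⊔ W.map R) (Submodule.mem_map_of_mem (hWk (k + 1)))
      rw [map_add, hR, hR, ← Function.iterate_succ_apply' (⇑T) (k + 1) v₀,
        Function.iterate_succ_apply' (⇑T.symm) k v₀, T.apply_symm_apply] at h1
      have h2 := (W ⊔ W.map R).sub_mem h1 hk
      rw [add_sub_cancel_right] at h2
      exact h2
    have hPP : ∀ k : ℕ, (⇑T)^[k] v₀ ∈ W ⊔ W.map R ∧ (⇑T)^[k + 1] v₀ ∈ W ⊔ W.map R := by
      intro k
      induction k with
      | zero =>
        refine ⟨(le_sup_left : W ≤ W ⊔ W.map R) hW0, ?_⟩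
        have h1 : R v₀ ∈ W ⊔ W.map R :=
          (le_sup_right : W.map R ≤ W ⊔ W.map R) (Submodule.mem_map_of_mem hW0)
        rw [hR] at h1
        exact h1
      | succ k ih => exact ⟨ih.2, hstep k (hQ k ih.1)⟩
    have hN : (⊤ : Submodule (ZMod p) V) ≤ W ⊔ W.map R := by
      obtain ⟨N, hNdef⟩ : ∃ N : Submodule (ZMod p) V,
          N = Submodule.span (ZMod p) (Set.range fun k : ℕ => (⇑T)^[k] v₀) := ⟨_, rfl⟩
      have hNle : N ≤ W ⊔ W.map R := by
        rw [hNdef, Submodule.span_le]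
        rintro x ⟨k, rfl⟩
        exact (hPP k).1
      have hNinv : ∀ v ∈ N, R v ∈ N := by
        intro v hv
        have hmap : N.map R ≤ N := by
          rw [hNdef, Submodule.map_span, Submodule.span_le]
          rintro x ⟨y, ⟨k, rfl⟩, rfl⟩
          apply Submodule.subset_span
          refine ⟨k + 1, ?_⟩
          show (⇑T)^[k + 1] v₀ = R ((⇑T)^[k] v₀)
          rw [hR, Function.iterate_succ_apply']
        exact hmap (Submodule.mem_map_of_mem hv)
      have hv₀N : v₀ ∈ N := by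
        rw [hNdef]
        exact Submodule.subset_span ⟨0, rfl⟩
      rcases hsimple N hNinv with h1 | h1
      · exfalso
        rw [h1] at hv₀N
        exact hv₀ ((Submodule.mem_bot _).1 hv₀N)
      · rw [← h1]; exact hNle
    have hdimW : a ≤ Module.finrank (ZMod p) ↥W + Module.finrank (ZMod p) ↥W := by
      have h1 : Module.finrank (ZMod p) ↥(W ⊔ W.map R) = Module.finrank (ZMod p) V := by
        rw [top_le_iff.1 hN]
        exact finrank_top (ZMod p) V
      have h2 := Submodule.finrank_add_le_finrank_add_finrank W (W.map R)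
      have h3 := Submodule.finrank_map_le R W
      omega
    rw [hcardann] at hcardle
    refine hcardle.trans (Nat.pow_le_pow_right hp.pos ?_)
    omega

end Cfsg.Agent.Lib.helper3.Gf
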