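import Mathlib
import Cfsg.Prelude.Def_Classical
import Cfsg.Prelude.Def_GeometricClasses
import Cfsg.Agent.Lib.helper24.SfoDefs

/-!
S5977 / S5978, sub-split `s5977i` (helper99), piece FORM (racer copy by helper73): the `E`-bilinear
form behind an `F`-bilinear symmetric form for which the scalars of `E` are self-adjoint.
-/

set_option autoImplicit false

namespace Cfsg.Agent.Lib.helper99.HCI

open Matrix Cfsg.Geo Cfsg.Agent.Lib.helper24

/-- `a ↦ lam (a * ·)` as an `F`-linear map `E → Dual F E` -/
noncomputable def h73_Lam {F : Type*} [Field F] {E : Type*} [Field E] [Algebra F E]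
    (lam : E →ₗ[F] F) : E →ₗ[F] Module.Dual F E :=
  (LinearMap.llcomp F E E F lam).comp (LinearMap.mul F E)

theorem h73_Lam_apply {F : Type*} [Field F] {E : Type*} [Field E] [Algebra F E]
    (lam : E →ₗ[F] F) (a b : E) : h73_Lam lam a b = lam (a * b) := rfl

theorem h73_Lam_injective {F : Type*} [Field F] {E : Type*} [Field E] [Algebra F E]
    (lam : E →ₗ[F] F) (hlam : lam ≠ 0) : Function.Injective (h73_Lam lam) := by
  rw [← LinearMap.ker_eq_bot, LinearMap.ker_eq_bot']
  intro a ha
  by_contra ha0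
  apply hlam
  ext b
  have h1 : h73_Lam lam a (a⁻¹ * b) = 0 := by rw [ha]; rfl
  rw [h73_Lam_apply, ← mul_assoc, mul_inv_cancel₀ ha0, one_mul] at h1
  rw [h1]; rfl

theorem h73_Lam_surjective {F : Type*} [Field F] {E : Type*} [Field E] [Algebra F E]
    [FiniteDimensional F E] (lam : E →ₗ[F] F) (hlam : lam ≠ 0) :
    Function.Surjective (h73_Lam lam) :=
  (LinearMap.injective_iff_surjective_of_finrank_eq_finrank
    (Subspace.dual_finrank_eq (K := F) (V := E)).symm).mp (h73_Lam_injective lam hlam)

theorem h73_hci_form {F : Type*} [Field F] {E : Type*} [Field E] [Algebra F E] [FiniteDimensional F E]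
    {V : Type*} [AddCommGroup V] [Module F V] [Module E V] [IsScalarTower F E V]
    (B : V →ₗ[F] V →ₗ[F] F) (hsymm : ∀ u v, B u v = B v u)
    (hnd : ∀ u, (∀ v, B u v = 0) → u = 0) (hsa : ∀ (a : E) (u v : V), B (a • u) v = B u (a • v))
    (lam : E →ₗ[F] F) (hlam : lam ≠ 0) :
    ∃ β : V →ₗ[E] V →ₗ[E] E, (∀ u v, β u v = β v u) ∧ (∀ u, (∀ v, β u v = 0) → u = 0) ∧
      ∀ u v, B u v = lam (β u v) := by
  classical
  have hinj := h73_Lam_injective lam hlam
  have hsurj := h73_Lam_surjective lam hlam
  -- the functional `a ↦ B (a • u) v`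
  have hex : ∀ u v : V, ∃ c : E, ∀ a : E, lam (c * a) = B (a • u) v := by
    intro u v
    obtain ⟨c, hc⟩ := hsurj
      ((B.flip v).comp ((LinearMap.toSpanSingleton E V u).restrictScalars F))
    refine ⟨c, fun a => ?_⟩
    have h1 := congrArg (fun f : Module.Dual F E => f a) hc
    simpa [h73_Lam_apply] using h1
  choose β0 hβ0 using hex
  have huniq : ∀ (u v : V) (c : E), (∀ a : E, lam (c * a) = B (a • u) v) → c = β0 u v := by
    intro u v c hc
    apply hinj
    ext a
    rw [h73_Lam_apply, h73_Lam_apply, hc a, hβ0 u v a]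
  refine ⟨LinearMap.mk₂ E β0 ?_ ?_ ?_ ?_, ?_, ?_, ?_⟩
  · intro u1 u2 v
    symm
    apply huniq
    intro a
    rw [add_mul, map_add, hβ0, hβ0, smul_add, map_add, LinearMap.add_apply]
  · intro c u v
    symm
    apply huniq
    intro a
    have h1 : c • β0 u v * a = β0 u v * (a * c) := by rw [smul_eq_mul]; ring
    rw [h1, hβ0, mul_smul]
  · intro u v1 v2
    symm
    apply huniq
    intro a
    rw [add_mul, map_add, hβ0, hβ0, map_add]
  · intro c u v
    symm
    apply huniq
    intro a
    have h1 : c • β0 u v * a = β0 u v * (c * a) := by rw [smul_eq_mul]; ring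
    rw [h1, hβ0, mul_smul, hsa]
  · intro u v
    show β0 u v = β0 v u
    apply huniq
    intro a
    rw [hβ0, hsa, hsymm]
  · intro u hu
    apply hnd
    intro v
    have h1 := hβ0 u v 1
    have h2 : β0 u v = 0 := hu v
    rw [one_smul, h2, zero_mul, map_zero] at h1
    exact h1.symm
  · intro u v
    show B u v = lam (β0 u v)
    have h1 := hβ0 u v 1
    rw [one_smul, mul_one] at h1
    exact h1.symm

end Cfsg.Agent.Lib.helper99.HCI
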