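import Mathlib
import Cfsg.Prelude.Def_LieTypeChar
import Cfsg.Agent.Lib.helper44.LODefs
import Cfsg.Agent.Lib.helper6.LOARITH
import Cfsg.Agent.S1163

set_option autoImplicit false

namespace Cfsg.Agent.Lib.helper44.LO

open Cfsg

/-- Arithmetic core of SZ: `q ^ 2 * (q - 1) * (q ^ 2 + 1)` with `q = 2 ^ f`. -/
theorem h73_lo_sz_core (f : ℕ) (hf : 1 ≤ f) (n : ℕ)
    (hn : n = (2 ^ f) ^ 2 * (2 ^ f - 1) * ((2 ^ f) ^ 2 + 1)) : LOGood 2 n := by
  have hq2 : 2 ∣ 2 ^ f := dvd_pow_self 2 (by omega)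
  obtain ⟨t, ht⟩ := hq2
  have ht1 : 1 ≤ t := by
    rcases Nat.eq_zero_or_pos t with h | h
    · rw [h] at ht; simp at ht
    · exact h
  refine lo_good Nat.prime_two f hf 1 n 2 ((2 ^ f - 1) * ((2 ^ f) ^ 2 + 1)) 3 ?_ ?_ ?_ ?_
    (by norm_num) (by norm_num)
  · rw [hn]; ring
  · norm_num
  · rw [Nat.Prime.dvd_mul Nat.prime_two]
    push_neg
    constructor
    · omega
    · rw [ht]
      intro h
      have h2 : (2 * t) ^ 2 + 1 = 2 * (2 * t ^ 2) + 1 := by ring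
      rw [h2] at h
      omega
  · rw [ht, one_mul]
    obtain ⟨s, rfl⟩ : ∃ s, t = s + 1 := ⟨t - 1, by omega⟩
    have h3 : 2 * (s + 1) - 1 = 2 * s + 1 := by omega
    rw [h3]
    nlinarith [sq_nonneg s]

/-- SZ (racer copy, verbatim Skel statement of `lo_sz`). -/
theorem h73_lo_sz {F : Type} [Field F] [Fintype F] (m : ℕ) (hm : 1 ≤ m) (hF : Fintype.card F = 2 ^ (2 * m + 1)) :
    LOGood 2 (Nat.card ↥(Cfsg.Lie.Sz F (2 ^ (m + 1)))) := by
  exact h73_lo_sz_core (2 * m + 1) (by omega) _ (Cfsg.Agent.S1163.result hm hF).1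

end Cfsg.Agent.Lib.helper44.LO
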