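import Mathlib
import Cfsg.Agent.Lib.helper73.SylInter

/-!
# Local counting lemmas for Sylow subgroups

* `card_inf_normalizer_mul`: `|H ∩ N(P)| * n_p(H) = |H|` for a Sylow `p`-subgroup `P ≤ H`;
* `card_sylow_containing`: the Sylow `p`-subgroups of `G` containing a `p`-subgroup `E` are
  counted by the Sylow `p`-subgroups of `M` when they all lie in `M ≤ N(E)`;
* `card_le_card_disjoint`: if some Sylow `p`-subgroup meets `P` trivially, at least `|P|` do;
* `card_prime_subgroups_le`: a group of order 25 has at most 6 subgroups of order 5.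
-/

set_option autoImplicit false

namespace Cfsg.Agent.Lib.helper73.SylLocal

open Cfsg.Agent.Lib.helper73
open scoped Pointwise

variable {G : Type*} [Group G] [Finite G] {p : ℕ} [Fact p.Prime]

theorem subtype_injective (H : Subgroup G) (P R : Sylow p G) (hP : (P : Subgroup G) ≤ H)
    (hR : (R : Subgroup G) ≤ H) (h : P.subtype hP = R.subtype hR) : P = R := by
  have h1 : ((P.subtype hP : Sylow p ↥H) : Subgroup ↥H) =
      ((R.subtype hR : Sylow p ↥H) : Subgroup ↥H) := by rw [h]
  rw [Sylow.coe_subtype, Sylow.coe_subtype, Subgroup.subgroupOf_inj, inf_of_le_left hP,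
    inf_of_le_left hR] at h1
  exact Sylow.ext h1

/-- Two distinct Sylow subgroups of `G` inside `H` give more than one Sylow subgroup of `H`. -/
theorem one_lt_card_sylow_of_two (P R : Sylow p G) (hne : P ≠ R) (H : Subgroup G)
    (hP : (P : Subgroup G) ≤ H) (hR : (R : Subgroup G) ≤ H) : 1 < Nat.card (Sylow p ↥H) := by
  rw [Finite.one_lt_card_iff_nontrivial]
  exact ⟨⟨P.subtype hP, R.subtype hR, fun h => hne (subtype_injective H P R hP hR h)⟩⟩

/-- `|H ∩ N(P)| * n_p(H) = |H|`. -/
theorem card_inf_normalizer_mul (P : Sylow p G) (H : Subgroup G) (hP : (P : Subgroup G) ≤ H) :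
    Nat.card ↥(H ⊓ Subgroup.normalizer ((P : Subgroup G) : Set G)) * Nat.card (Sylow p ↥H) =
      Nat.card ↥H := by
  rw [Sylow.card_eq_index_normalizer (P.subtype hP)]
  have h0 : Subgroup.normalizer ((P.subtype hP : Sylow p ↥H) : Set ↥H) =
      Subgroup.normalizer (((P : Subgroup G).subgroupOf H : Subgroup ↥H) : Set ↥H) := rfl
  rw [h0, ← Subgroup.subgroupOf_normalizer_eq hP]
  have h1 : ((Subgroup.normalizer ((P : Subgroup G) : Set G)).subgroupOf H).index =
      (H ⊓ Subgroup.normalizer ((P : Subgroup G) : Set G)).relIndex H := by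
    rw [Subgroup.inf_relIndex_left]
    rfl
  rw [h1]
  exact SylInter.card_mul_relIndex_of_le inf_le_left

/-- The Sylow `p`-subgroups of `G` containing `E` correspond to the Sylow `p`-subgroups of `M`
when they all lie in `M ≤ N(E)`. -/
theorem card_sylow_containing (E M : Subgroup G) (hE : IsPGroup p E) (hEM : E ≤ M)
    (hMN : M ≤ Subgroup.normalizer (E : Set G))
    (hin : ∀ Q : Sylow p G, E ≤ (Q : Subgroup G) → (Q : Subgroup G) ≤ M) :
    Nat.card {Q : Sylow p G // E ≤ (Q : Subgroup G)} = Nat.card (Sylow p ↥M) := by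
  apply le_antisymm
  · apply Nat.card_le_card_of_injective
      (fun Q : {Q : Sylow p G // E ≤ (Q : Subgroup G)} => (Q.1.subtype (hin Q.1 Q.2) : Sylow p ↥M))
    intro Q Q' h
    exact Subtype.ext (subtype_injective M Q.1 Q'.1 _ _ h)
  · have hnormal : (E.subgroupOf M).Normal :=
      (Subgroup.normal_subgroupOf_iff_le_normalizer hEM).mpr hMN
    have hEp : IsPGroup p ↥(E.subgroupOf M) := hE.comap_subtype
    have key : ∀ Q' : Sylow p ↥M, ∃ Q : Sylow p G,
        (Q : Subgroup G).comap M.subtype = (Q' : Subgroup ↥M) ∧ E ≤ (Q : Subgroup G) := by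
      intro Q'
      obtain ⟨Q, hQ⟩ := Q'.exists_comap_subtype_eq
      refine ⟨Q, hQ, ?_⟩
      intro x hx
      have h1 : (⟨x, hEM hx⟩ : ↥M) ∈ E.subgroupOf M := by
        rw [Subgroup.mem_subgroupOf]
        exact hx
      have h2 : (⟨x, hEM hx⟩ : ↥M) ∈ (Q' : Subgroup ↥M) := hEp.le_sylow_of_normal Q' h1
      rw [← hQ, Subgroup.mem_comap] at h2
      exact h2
    choose f hf1 hf2 using key
    apply Nat.card_le_card_of_injective
      (fun Q' : Sylow p ↥M => (⟨f Q', hf2 Q'⟩ : {Q : Sylow p G // E ≤ (Q : Subgroup G)}))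
    intro Q₁ Q₂ h
    have h' : f Q₁ = f Q₂ := congrArg Subtype.val h
    apply Sylow.ext
    rw [← hf1 Q₁, ← hf1 Q₂, h']

/-- A `p`-element of `P` normalizing the Sylow subgroup `Q` lies in `Q`. -/
theorem mem_of_mem_normalizer (P Q : Sylow p G) (z : G) (hzP : z ∈ (P : Subgroup G))
    (hzN : z ∈ Subgroup.normalizer ((Q : Subgroup G) : Set G)) : z ∈ (Q : Subgroup G) := by
  set N : Subgroup G := Subgroup.normalizer ((Q : Subgroup G) : Set G) with hN
  have hQN : (Q : Subgroup G) ≤ N := Subgroup.le_normalizer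
  have hnormal : ((Q : Subgroup G).subgroupOf N).Normal :=
    (Subgroup.normal_subgroupOf_iff_le_normalizer hQN).mpr le_rfl
  have hz : IsPGroup p (Subgroup.zpowers z) := P.isPGroup'.to_le (by
    rw [Subgroup.zpowers_le]
    exact hzP)
  obtain ⟨R, hR⟩ := (hz.comap_subtype (K := N)).exists_le_sylow
  have hQp : IsPGroup p ↥((Q : Subgroup G).subgroupOf N) := Q.isPGroup'.comap_subtype
  have hQR : (Q : Subgroup G).subgroupOf N ≤ (R : Subgroup ↥N) := hQp.le_sylow_of_normal R
  have hmax := (Q.subtype hQN).is_maximal' R.isPGroup' (by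
    rw [Sylow.coe_subtype]
    exact hQR)
  rw [Sylow.coe_subtype] at hmax
  have h1 : (⟨z, hzN⟩ : ↥N) ∈ (R : Subgroup ↥N) := hR (by
    show (⟨z, hzN⟩ : ↥N) ∈ (Subgroup.zpowers z).subgroupOf N
    rw [Subgroup.mem_subgroupOf]
    exact Subgroup.mem_zpowers z)
  rw [hmax, Subgroup.mem_subgroupOf] at h1
  exact h1

/-- If some Sylow `p`-subgroup meets `P` trivially then at least `|P|` of them do. -/
theorem card_le_card_disjoint (P Q : Sylow p G) (h : (P : Subgroup G) ⊓ (Q : Subgroup G) = ⊥) :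
    Nat.card (P : Subgroup G) ≤
      Nat.card {Q' : Sylow p G // (P : Subgroup G) ⊓ (Q' : Subgroup G) = ⊥} := by
  have hmem : ∀ x : ↥(P : Subgroup G),
      (P : Subgroup G) ⊓ (((x : G) • Q : Sylow p G) : Subgroup G) = ⊥ := by
    intro x
    rw [eq_bot_iff]
    intro y hy
    obtain ⟨hyP, hyQ⟩ := hy
    have hyQ' : y ∈ (((x : G) • Q : Sylow p G) : Subgroup G) := hyQ
    rw [Sylow.coe_subgroup_smul, Subgroup.mem_smul_pointwise_iff_exists] at hyQ'
    obtain ⟨q, hq, hqy⟩ := hyQ'
    have hqy' : (x : G) * q * (x : G)⁻¹ = y := hqy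
    have hqP : q ∈ (P : Subgroup G) := by
      have : q = (x : G)⁻¹ * y * (x : G) := by
        rw [← hqy']
        group
      rw [this]
      exact Subgroup.mul_mem _ (Subgroup.mul_mem _ (Subgroup.inv_mem _ x.2) hyP) x.2
    have hq1 : q = 1 := by
      have : q ∈ (P : Subgroup G) ⊓ (Q : Subgroup G) := ⟨hqP, hq⟩
      rw [h, Subgroup.mem_bot] at this
      exact this
    rw [Subgroup.mem_bot, ← hqy', hq1]
    group
  apply Nat.card_le_card_of_injective
    (fun x : ↥(P : Subgroup G) =>
      (⟨(x : G) • Q, hmem x⟩ : {Q' : Sylow p G // (P : Subgroup G) ⊓ (Q' : Subgroup G) = ⊥}))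
  intro x y hxy
  have hxy' : (x : G) • Q = (y : G) • Q := congrArg Subtype.val hxy
  have h1 : ((y : G)⁻¹ * (x : G)) • Q = Q := by
    rw [mul_smul, hxy', ← mul_smul, inv_mul_cancel, one_smul]
  have h2 : (y : G)⁻¹ * (x : G) ∈ Subgroup.normalizer ((Q : Subgroup G) : Set G) :=
    Sylow.smul_eq_iff_mem_normalizer.mp h1
  have h3 : (y : G)⁻¹ * (x : G) ∈ (P : Subgroup G) :=
    Subgroup.mul_mem _ (Subgroup.inv_mem _ y.2) x.2
  have h4 : (y : G)⁻¹ * (x : G) ∈ (P : Subgroup G) ⊓ (Q : Subgroup G) :=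
    ⟨h3, mem_of_mem_normalizer P Q _ h3 h2⟩
  rw [h, Subgroup.mem_bot] at h4
  apply Subtype.ext
  have : (x : G) = (y : G) := by
    have h5 : (y : G) * ((y : G)⁻¹ * (x : G)) = (y : G) * 1 := by rw [h4]
    rw [mul_inv_cancel_left, mul_one] at h5
    exact h5
  exact this

omit [Finite G] [Fact p.Prime] in
/-- A subgroup of order 25 has at most 6 subgroups of order 5. -/
theorem card_prime_subgroups_le [Finite G] (P : Subgroup G) (hP : Nat.card P = 25) :
    Nat.card {E : Subgroup G // E ≤ P ∧ Nat.card E = 5} ≤ 6 := by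
  classical
  haveI : Fact (Nat.Prime 5) := ⟨by norm_num⟩
  -- a generator for each subgroup
  have key : ∀ E : {E : Subgroup G // E ≤ P ∧ Nat.card E = 5}, ∃ x : G, x ∈ E.1 ∧ x ≠ 1 := by
    intro E
    have hnt : Nontrivial ↥E.1 := by
      rw [← Finite.one_lt_card_iff_nontrivial, E.2.2]
      norm_num
    obtain ⟨x, hx⟩ := exists_ne (1 : ↥E.1)
    exact ⟨x, x.2, fun h => hx (Subtype.ext h)⟩
  choose gen hgen1 hgen2 using key
  have hzp : ∀ (E : {E : Subgroup G // E ≤ P ∧ Nat.card E = 5}) (y : G), y ∈ E.1 → y ≠ 1 →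
      Subgroup.zpowers y = E.1 := by
    intro E y hy hy1
    have hle : Subgroup.zpowers y ≤ E.1 := by
      rw [Subgroup.zpowers_le]
      exact hy
    have hd : Nat.card ↥(Subgroup.zpowers y) ∣ 5 := by
      rw [← E.2.2]
      exact Subgroup.card_dvd_of_le hle
    have hc : Nat.card ↥(Subgroup.zpowers y) = 5 := by
      rcases (Nat.dvd_prime (by norm_num : Nat.Prime 5)).mp hd with h | h
      · exfalso
        rw [Nat.card_zpowers, orderOf_eq_one_iff] at h
        exact hy1 h
      · exact h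
    exact Subgroup.eq_of_le_of_card_ge hle (by rw [hc, E.2.2])
  have hord : ∀ E : {E : Subgroup G // E ≤ P ∧ Nat.card E = 5}, orderOf (gen E) = 5 := by
    intro E
    rw [← Nat.card_zpowers, hzp E (gen E) (hgen1 E) (hgen2 E), E.2.2]
  let f : Option ({E : Subgroup G // E ≤ P ∧ Nat.card E = 5} × Fin 4) → ↥P := fun o =>
    match o with
    | none => 1
    | some (E, j) => ⟨gen E ^ (j.1 + 1), E.2.1 (Subgroup.pow_mem _ (hgen1 E) _)⟩
  have hne1 : ∀ (E : {E : Subgroup G // E ≤ P ∧ Nat.card E = 5}) (j : Fin 4),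
      gen E ^ (j.1 + 1) ≠ 1 := by
    intro E j h
    have h1 : orderOf (gen E) ∣ j.1 + 1 := orderOf_dvd_of_pow_eq_one h
    rw [hord E] at h1
    have := j.2
    omega
  have hinj : Function.Injective f := by
    intro a b hab
    match a, b with
    | none, none => rfl
    | none, some (E, j) =>
      exfalso
      have h1 : (1 : G) = gen E ^ (j.1 + 1) := congrArg Subtype.val hab
      exact hne1 E j h1.symm
    | some (E, j), none =>
      exfalso
      have h1 : gen E ^ (j.1 + 1) = (1 : G) := congrArg Subtype.val hab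
      exact hne1 E j h1
    | some (E, j), some (E', j') =>
      have h1 : gen E ^ (j.1 + 1) = gen E' ^ (j'.1 + 1) := congrArg Subtype.val hab
      have hE : E = E' := by
        apply Subtype.ext
        rw [← hzp E _ (Subgroup.pow_mem _ (hgen1 E) _) (hne1 E j), h1,
          hzp E' _ (Subgroup.pow_mem _ (hgen1 E') _) (hne1 E' j')]
      subst hE
      have hj : j = j' := by
        have h2 := (pow_inj_mod (x := gen E) (n := j.1 + 1) (m := j'.1 + 1)).mp h1
        rw [hord E] at h2
        have := j.2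
        have := j'.2
        apply Fin.ext
        omega
      rw [hj]
  have hcard := Nat.card_le_card_of_injective f hinj
  rw [Finite.card_option, Nat.card_prod, hP, Nat.card_fin] at hcard
  omega

end Cfsg.Agent.Lib.helper73.SylLocal
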