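import Mathlib
import Cfsg.Agent.S0985
import Cfsg.Agent.Lib.helper73.OrdTools
import Cfsg.Agent.Lib.helper73.SylLocal

/-!
# S0434, piece T3: the normalizer of a Sylow 3-subgroup of a simple group of order 7920

If every element of order `3` of a simple group `G` of order `7920` has a centralizer of order
`18`, then the Sylow `3`-subgroups of `G` intersect trivially, so their number is `1` mod `9`,
divides `880` and is neither `1` nor `10`: it is `55`, and the normalizer has order `144`.
-/

set_option autoImplicit false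

namespace Cfsg.Agent.Lib.helper73

open Cfsg.Agent.Lib.helper73

/-- Two Sylow `3`-subgroups of order `9` sharing a nontrivial element are equal, when the
centralizers of the elements of order `3` have order `18`. -/
theorem m11T3_ti {G : Type*} [Group G] [Finite G]
    (h18 : ∀ z : G, orderOf z = 3 → Nat.card (Subgroup.centralizer ({z} : Set G)) = 18)
    (P Q : Sylow 3 G) (hP : Nat.card (P : Subgroup G) = 9)
    (w : G) (hwP : w ∈ (P : Subgroup G)) (hwQ : w ∈ (Q : Subgroup G)) (hw1 : w ≠ 1) :
    Q = P := by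
  have hQ : Nat.card (Q : Subgroup G) = 9 := by
    rw [← hP, Sylow.card_eq_multiplicity, Sylow.card_eq_multiplicity]
  -- an element of order 3 in the intersection
  have hdvd : orderOf w ∣ 3 ^ 2 := by
    have h1 : orderOf (⟨w, hwP⟩ : (P : Subgroup G)) ∣ Nat.card (P : Subgroup G) :=
      orderOf_dvd_natCard _
    rw [hP] at h1
    have h2 : orderOf (⟨w, hwP⟩ : (P : Subgroup G)) = orderOf w :=
      Subgroup.orderOf_mk w hwP
    rw [h2] at h1
    exact h1
  obtain ⟨k, hk, hk2⟩ := (Nat.dvd_prime_pow (by norm_num : Nat.Prime 3)).mp hdvd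
  have h3 : 3 ∣ orderOf w := by
    rw [hk2]
    rcases Nat.eq_zero_or_pos k with h0 | h0
    · exfalso
      rw [h0, pow_zero] at hk2
      exact hw1 (orderOf_eq_one_iff.mp hk2)
    · exact dvd_pow_self 3 (by omega)
  have hne0 : orderOf w ≠ 0 := (orderOf_pos w).ne'
  set z : G := w ^ (orderOf w / 3) with hz
  have hz3 : orderOf z = 3 := orderOf_pow_orderOf_div hne0 h3
  have hzP : z ∈ (P : Subgroup G) := Subgroup.pow_mem _ hwP _
  have hzQ : z ∈ (Q : Subgroup G) := Subgroup.pow_mem _ hwQ _
  set C : Subgroup G := Subgroup.centralizer ({z} : Set G) with hC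
  have hcC : Nat.card C = 18 := h18 z hz3
  -- `P` and `Q` are abelian, hence inside `C`
  have hle : ∀ R : Sylow 3 G, Nat.card (R : Subgroup G) = 9 → z ∈ (R : Subgroup G) →
      (R : Subgroup G) ≤ C := by
    intro R hR hzR g hg
    have hcomm' := IsPGroup.isMulCommutative_of_card_eq_prime_sq (p := 3)
      (G := (R : Subgroup G)) (by rw [hR]; norm_num)
    have hcomm : ∀ a b : (R : Subgroup G), a * b = b * a := fun a b => hcomm'.is_comm.comm a b
    rw [hC, Subgroup.mem_centralizer_iff]
    intro y hy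
    rw [Set.mem_singleton_iff] at hy
    subst hy
    have h1 := hcomm ⟨z, hzR⟩ ⟨g, hg⟩
    exact congrArg Subtype.val h1
  have hPC : (P : Subgroup G) ≤ C := hle P hP hzP
  have hQC : (Q : Subgroup G) ≤ C := hle Q hQ hzQ
  -- `P` has index 2 in `C`
  have hidx : ((P : Subgroup G).subgroupOf C).index = 2 := by
    have h1 := SylInter.card_mul_relIndex_of_le hPC
    rw [hP, hcC] at h1
    have h2 : (P : Subgroup G).relIndex C = 2 := by omega
    exact h2
  have hnormal : ((P : Subgroup G).subgroupOf C).Normal := Subgroup.normal_of_index_eq_two hidx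
  have hCN : C ≤ Subgroup.normalizer ((P : Subgroup G) : Set G) :=
    (Subgroup.normal_subgroupOf_iff_le_normalizer hPC).mp hnormal
  have hQP : (Q : Subgroup G) ≤ (P : Subgroup G) := fun g hg =>
    SylLocal.mem_of_mem_normalizer Q P g hg (hCN (hQC hg))
  exact Sylow.ext (Subgroup.eq_of_le_of_card_ge hQP (by rw [hP, hQ]))

theorem m11T3_divisors : ∀ d ∈ Nat.divisors 880, d % 9 = 1 → d = 1 ∨ d = 10 ∨ d = 55 := by
  decide +kernel

/-- **Piece T3 of S0434.** -/
theorem m11_sylow_three_normalizer {G : Type*} [Group G] [Finite G] [IsSimpleGroup G]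
    (hG : Nat.card G = 7920)
    (h18 : ∀ z : G, orderOf z = 3 → Nat.card (Subgroup.centralizer ({z} : Set G)) = 18)
    (R : Sylow 3 G) : Nat.card (Subgroup.normalizer ((R : Subgroup G) : Set G)) = 144 := by
  obtain ⟨hcR, hnc, hNtop, hn3, hmod3, hdvd⟩ :=
    OrdTools.sylow_facts (G := G) (p := 3) 2 880 (by norm_num) (by rw [hG]; norm_num) (by norm_num)
      (by norm_num) R
  have hcR' : Nat.card (R : Subgroup G) = 9 := by rw [hcR]; norm_num
  set N : Subgroup G := Subgroup.normalizer ((R : Subgroup G) : Set G) with hN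
  -- the number of Sylow 3-subgroups is 1 mod 9
  have hmod9 : Nat.card (Sylow 3 G) ≡ 1 [MOD 3 ^ 2] := by
    by_contra hcon
    obtain ⟨P, Q, hne, hidx⟩ := Cfsg.Agent.S0985.result (G := G) 3 2 hcon
    have hcP : Nat.card (P : Subgroup G) = 9 := by
      rw [← hcR', Sylow.card_eq_multiplicity, Sylow.card_eq_multiplicity]
    have hD : (P : Subgroup G) ⊓ (Q : Subgroup G) ≠ ⊥ := by
      intro hbot
      have h1 := SylInter.card_mul_relIndex_of_le
        (inf_le_left : (P : Subgroup G) ⊓ (Q : Subgroup G) ≤ (P : Subgroup G))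
      rw [hbot, Subgroup.card_bot, one_mul, hcP] at h1
      have h2 : ((Q : Subgroup G).subgroupOf (P : Subgroup G)).index
          = ((P : Subgroup G) ⊓ (Q : Subgroup G)).relIndex (P : Subgroup G) := by
        rw [Subgroup.inf_relIndex_left]
        rfl
      rw [h2, hbot, h1] at hidx
      norm_num at hidx
    obtain ⟨w, hw, hw1⟩ := (Subgroup.ne_bot_iff_exists_ne_one
      (H := (P : Subgroup G) ⊓ (Q : Subgroup G))).mp hD |>.imp (fun w h => h) |> fun ⟨w, hw1⟩ =>
        (⟨(w : G), w.2, fun h => hw1 (Subtype.ext h)⟩ : ∃ w : G,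
          w ∈ (P : Subgroup G) ⊓ (Q : Subgroup G) ∧ w ≠ 1)
    exact hne (m11T3_ti h18 P Q hcP w hw.1 hw.2 hw1).symm
  rw [hn3] at hmod9
  have hmod9' : N.index % 9 = 1 := by
    have h : N.index % 9 = 1 % 9 := hmod9
    rw [h]
  have hmem : N.index ∈ Nat.divisors 880 := Nat.mem_divisors.mpr ⟨hdvd, by norm_num⟩
  obtain ⟨hfac, -, hmul⟩ := OrdTools.index_facts (G := G) hnc N hNtop
  rcases m11T3_divisors _ hmem hmod9' with h1 | h10 | h55
  · exact absurd (Subgroup.index_eq_one.mp h1) hNtop
  · exfalso
    rw [h10, hG] at hfac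
    revert hfac
    decide
  · rw [h55, hG] at hmul
    omega

end Cfsg.Agent.Lib.helper73

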