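import Mathlib
import Cfsg.Agent.S0434
import Cfsg.Agent.S0435
import Cfsg.Agent.Lib.helper21.M11Core
import Cfsg.Agent.Lib.helper46.M11U_D5
import Cfsg.Agent.Lib.helper18.M11N_N1

set_option autoImplicit false
open Cfsg Cfsg.Agent.Lib.helper4 Cfsg.Agent.Lib.helper21
universe u

namespace Cfsg.Agent.Lib.helper73.M11N

/-- If every element of prime order `p` has a centralizer of order `c`, then `|M| / c` divides the
number of elements of order `n`, for every multiple `n` of `p`. -/
theorem count_dvd_of_prime {M : Type*} [Group M] [Finite M] (n p c : ℕ) (hpn : p ∣ n)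
    (hn : 0 < n)
    (hc : ∀ y : M, orderOf y = p → Nat.card (Subgroup.centralizer ({y} : Set M)) = c) :
    Nat.card M / c ∣ Nat.card {g : M // orderOf g = n} := by
  apply Cfsg.Agent.Lib.helper18.M11N.card_orderOf_dvd n c
  intro x hx
  refine ⟨x ^ (n / p), hc _ ?_, ?_⟩
  · rw [← hx]
    exact orderOf_pow_orderOf_div (by rw [hx]; omega) (hx ▸ hpn)
  · intro z hz
    rw [Subgroup.mem_centralizer_singleton_iff] at hz ⊢
    exact ((Commute.pow_right (show Commute z x from hz) (n / p))).eq

/-- The number of elements of order `n` of a simple group of order `7920` avoids the values that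
the Sylow counts of a group of order `7920` could take otherwise. -/
theorem m11_count_not_bad {M : Type u} [Group M] [Finite M] (hM : IsM11 M) (n : ℕ)
    (hpos : 0 < Nat.card {g : M // orderOf g = n}) :
    Nat.card {g : M // orderOf g = n} ∉
      ({4, 10, 24, 44, 64, 120, 144, 264, 450, 704} : Set ℕ) := by
  classical
  obtain ⟨hsimple, hG⟩ := hM
  have : IsSimpleGroup M := hsimple
  have : Fintype M := Fintype.ofFinite M
  have : Fintype (IrrCharacter M) := Fintype.ofFinite _
  have hp11 : Fact (Nat.Prime 11) := ⟨by norm_num⟩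
  have hp5 : Fact (Nat.Prime 5) := ⟨by norm_num⟩
  -- centralizers of elements of prime order
  have h5 : ∀ Q : Subgroup M, Nat.card Q = 5 →
      Nat.card (Subgroup.normalizer (Q : Set M)) = 20 ∧ Subgroup.centralizer (Q : Set M) ≤ Q := by
    intro Q hQ
    obtain ⟨h1, h2⟩ := m11_core_five hG Q hQ
    exact ⟨h2, h1⟩
  have hcent5 := (Cfsg.Agent.Lib.helper46.M11U.m11_order_five_facts hG h5).2
  have hcent2 : ∀ t : M, orderOf t = 2 →
      Nat.card (Subgroup.centralizer ({t} : Set M)) = 48 := fun t ht =>
    Cfsg.Agent.S0435.result ⟨hsimple, hG⟩ t ht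
  obtain ⟨P, hP, α₁, α₂, α₃, β, γ₁, γ₂, ψ₁, ψ₂, ψ₃, hfull⟩ :=
    Cfsg.Agent.S0434.m11_full (G := M) hG
  have hcent3 : ∀ z : M, orderOf z = 3 →
      Nat.card (Subgroup.centralizer ({z} : Set M)) = 18 := fun z hz =>
    Cfsg.Agent.Lib.helper32.m11_order_three_centralizer hG P hP α₁ α₂ α₃ β γ₁ γ₂ ψ₁ ψ₂ ψ₃ hfull
      z hz
  have hcent11 : ∀ y : M, orderOf y = 11 →
      Nat.card (Subgroup.centralizer ({y} : Set M)) = 11 := by
    intro y hy
    have hZ : Nat.card (Subgroup.zpowers y) = 11 := by rw [Nat.card_zpowers, hy]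
    have hC := (Cfsg.Agent.Lib.helper46.m11_sylow_eleven hG
      (Sylow.ofCard (Subgroup.zpowers y)
        (by rw [hG, m11_factorization_eleven, pow_one, hZ]))).2
    rw [Sylow.coe_ofCard] at hC
    have heq : Subgroup.centralizer ({y} : Set M) = Subgroup.zpowers y := by
      apply le_antisymm
      · intro z hz
        apply hC
        rw [Subgroup.mem_centralizer_iff]
        intro w hw
        obtain ⟨j, rfl⟩ := hw
        rw [Subgroup.mem_centralizer_singleton_iff] at hz
        exact ((Commute.zpow_right (show Commute z y from hz) j)).eq.symm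
      · rw [Subgroup.zpowers_le, Subgroup.mem_centralizer_singleton_iff]
    rw [heq, hZ]
  -- an element of order n
  have hne : Nonempty {g : M // orderOf g = n} := by
    by_contra hcon
    rw [not_nonempty_iff] at hcon
    rw [Nat.card_of_isEmpty] at hpos
    exact lt_irrefl 0 hpos
  obtain ⟨⟨x₀, hx₀⟩⟩ := hne
  have hnd : n ∣ 7920 := by rw [← hG, ← hx₀]; exact orderOf_dvd_natCard x₀
  have hn0 : 0 < n := Nat.pos_of_dvd_of_pos hnd (by norm_num)
  by_cases hn1 : n = 1
  · -- only the identity
    have hcard1 : Nat.card {g : M // orderOf g = n} = 1 := by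
      rw [Nat.card_eq_one_iff_unique]
      refine ⟨⟨fun a b => ?_⟩, ⟨⟨x₀, hx₀⟩⟩⟩
      apply Subtype.ext
      have ha : orderOf (a : M) = 1 := a.2.trans hn1
      have hb : orderOf (b : M) = 1 := b.2.trans hn1
      rw [orderOf_eq_one_iff] at ha hb
      rw [ha, hb]
    rw [hcard1]
    simp
  · -- a prime divisor of n
    have hq := Nat.minFac_prime hn1
    have hqn : n.minFac ∣ n := Nat.minFac_dvd n
    have hq7920 : n.minFac ∣ 7920 := hqn.trans hnd
    have hqcases : n.minFac = 2 ∨ n.minFac = 3 ∨ n.minFac = 5 ∨ n.minFac = 11 := by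
      have h7920 : (7920 : ℕ) = 2 ^ 4 * 3 ^ 2 * 5 * 11 := by norm_num
      rw [h7920] at hq7920
      rcases (Nat.Prime.dvd_mul hq).1 hq7920 with h | h
      · rcases (Nat.Prime.dvd_mul hq).1 h with h | h
        · rcases (Nat.Prime.dvd_mul hq).1 h with h | h
          · left
            exact (Nat.prime_dvd_prime_iff_eq hq (by norm_num)).1 (hq.dvd_of_dvd_pow h)
          · right; left
            exact (Nat.prime_dvd_prime_iff_eq hq (by norm_num)).1 (hq.dvd_of_dvd_pow h)
        · right; right; left
          exact (Nat.prime_dvd_prime_iff_eq hq (by norm_num)).1 h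
      · right; right; right
        exact (Nat.prime_dvd_prime_iff_eq hq (by norm_num)).1 h
    intro hmem
    simp only [Set.mem_insert_iff, Set.mem_singleton_iff] at hmem
    rcases hqcases with h | h | h | h
    · have hd := count_dvd_of_prime (M := M) n 2 48 (h ▸ hqn) hn0 hcent2
      rw [hG] at hd
      rcases hmem with h' | h' | h' | h' | h' | h' | h' | h' | h' | h' <;>
        (rw [h'] at hd; omega)
    · have hd := count_dvd_of_prime (M := M) n 3 18 (h ▸ hqn) hn0 hcent3
      rw [hG] at hd
      rcases hmem with h' | h' | h' | h' | h' | h' | h' | h' | h' | h' <;>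
        (rw [h'] at hd; omega)
    · have hd := count_dvd_of_prime (M := M) n 5 5 (h ▸ hqn) hn0 hcent5
      rw [hG] at hd
      rcases hmem with h' | h' | h' | h' | h' | h' | h' | h' | h' | h' <;>
        (rw [h'] at hd; omega)
    · have hd := count_dvd_of_prime (M := M) n 11 11 (h ▸ hqn) hn0 hcent11
      rw [hG] at hd
      rcases hmem with h' | h' | h' | h' | h' | h' | h' | h' | h' | h' <;>
        (rw [h'] at hd; omega)

end Cfsg.Agent.Lib.helper73.M11N
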