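import Mathlib
import Cfsg.Prelude.Def_Sporadic_a
import Cfsg.Prelude.Def_Sporadic
import Cfsg.Prelude.Def_Spor_Mathieu

set_option autoImplicit false
open Cfsg
open scoped Pointwise

namespace Cfsg.Agent.Lib.helper73.M11N

/-- PIECE S1: the two descriptions of the concrete `M₁₁`. -/
theorem sporM11_equiv :
    Nonempty (↥(MulAction.stabilizer Cfsg.M24 Cfsg.Spor.squareDodecad ⊓
        MulAction.stabilizer Cfsg.M24 (some 0 : Cfsg.GolayPt)) ≃* ↥Cfsg.Spor.M11) := by
  have hmap : (MulAction.stabilizer Cfsg.M24 Cfsg.Spor.squareDodecad ⊓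
      MulAction.stabilizer Cfsg.M24 (some 0 : Cfsg.GolayPt)).map Cfsg.M24.subtype =
      Cfsg.Spor.M11 := by
    ext g
    constructor
    · rintro ⟨x, hx, rfl⟩
      obtain ⟨h1, h2⟩ := Subgroup.mem_inf.1 hx
      rw [MulAction.mem_stabilizer_iff] at h1 h2
      show (x : Equiv.Perm GolayPt) ∈ (Cfsg.M24 ⊓
        MulAction.stabilizer (Equiv.Perm GolayPt) Cfsg.Spor.squareDodecad) ⊓
        MulAction.stabilizer (Equiv.Perm GolayPt) (some 0 : GolayPt)
      refine Subgroup.mem_inf.2 ⟨Subgroup.mem_inf.2 ⟨x.2, ?_⟩, ?_⟩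
      · rw [MulAction.mem_stabilizer_iff]
        exact h1
      · rw [MulAction.mem_stabilizer_iff]
        exact h2
    · intro hg
      have hg' : g ∈ (Cfsg.M24 ⊓
          MulAction.stabilizer (Equiv.Perm GolayPt) Cfsg.Spor.squareDodecad) ⊓
          MulAction.stabilizer (Equiv.Perm GolayPt) (some 0 : GolayPt) := hg
      obtain ⟨h12, h3⟩ := Subgroup.mem_inf.1 hg'
      obtain ⟨h1, h2⟩ := Subgroup.mem_inf.1 h12
      rw [MulAction.mem_stabilizer_iff] at h2 h3
      refine ⟨⟨g, h1⟩, Subgroup.mem_inf.2 ⟨?_, ?_⟩, rfl⟩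
      · rw [MulAction.mem_stabilizer_iff]
        exact h2
      · rw [MulAction.mem_stabilizer_iff]
        exact h3
  exact ⟨((MulAction.stabilizer Cfsg.M24 Cfsg.Spor.squareDodecad ⊓
      MulAction.stabilizer Cfsg.M24 (some 0 : Cfsg.GolayPt)).equivMapOfInjective
      Cfsg.M24.subtype (Subgroup.subtype_injective _)).trans (MulEquiv.subgroupCongr hmap)⟩

end Cfsg.Agent.Lib.helper73.M11N
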