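import Mathlib
import Cfsg.Prelude.Def_Sporadic_a
import Cfsg.Prelude.Def_Sporadic
import Cfsg.Agent.S0426
import Cfsg.Agent.Lib.helper9.AutTransport

set_option autoImplicit false
open Cfsg
open scoped Pointwise

namespace Cfsg.Agent.Lib.helper73.M11U

/-- Number of fixed points: filter form versus `MulAction.fixedBy`. -/
theorem card_filter_fixed {G X : Type*} [Group G] [MulAction G X] [Fintype X] [DecidableEq X]
    (g : G) :
    (Finset.univ.filter fun x : X => g • x = x).card = Nat.card (MulAction.fixedBy X g) := by
  have h : Nat.card (MulAction.fixedBy X g) = Nat.card {x : X // g • x = x} := rfl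
  rw [h, Nat.card_eq_fintype_card, Fintype.card_subtype]

/-- The action of a simple group on the cosets of a proper subgroup is faithful. -/
theorem faithful_quotient {G : Type*} [Group G] [IsSimpleGroup G] (H : Subgroup G) (hH : H ≠ ⊤)
    (g : G) (hg : ∀ x : G ⧸ H, g • x = x) : g = 1 := by
  have hcore : H.normalCore = ⊥ := by
    rcases (H.normalCore_normal).eq_bot_or_eq_top with h | h
    · exact h
    · exact absurd (top_le_iff.1 (h ▸ H.normalCore_le)) hH
  have hker : g ∈ (MulAction.toPermHom G (G ⧸ H)).ker := by
    rw [MonoidHom.mem_ker]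
    ext x
    exact hg x
  rw [← Subgroup.normalCore_eq_ker, hcore, Subgroup.mem_bot] at hker
  exact hker

/-- Cardinality of a coset space. -/
theorem card_quotient {G : Type*} [Group G] [Finite G] (H : Subgroup G) [Fintype (G ⧸ H)]
    (n m : ℕ) (hG : Nat.card G = n * m) (hH : Nat.card H = n) (hn : 0 < n) :
    Fintype.card (G ⧸ H) = m := by
  rw [← Nat.card_eq_fintype_card, ← Subgroup.index_eq_card]
  have := Subgroup.card_mul_index H
  rw [hG, hH] at this
  exact Nat.eq_of_mul_eq_mul_left hn this

/-- PIECE K: a group of order `7920` acting faithfully on `11` points and preserving a Steiner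
system `S(4,5,11)` (given as an orbit) is its full automorphism group. -/
theorem equiv_aut_of_steiner {G : Type*} [Group G] [Finite G] (hG : Nat.card G = 7920)
    {X : Type*} [Fintype X] [DecidableEq X] [MulAction G X] (hX : Fintype.card X = 11)
    (hfaith : ∀ g : G, (∀ x : X, g • x = x) → g = 1)
    (B : Finset X) (hS : IsSteinerSystem 4 5 (MulAction.orbit G B)) :
    Nonempty (G ≃* setSystemAut (MulAction.orbit G B)) := by
  classical
  have hmem : ∀ g : G, MulAction.toPermHom G X g ∈ setSystemAut (MulAction.orbit G B) := by
    intro g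
    rw [Cfsg.Agent.Lib.helper9.mem_setSystemAut_iff_image]
    have h1 : (fun b : Finset X => b.image (MulAction.toPermHom G X g)) =
        fun b : Finset X => g • b := by
      funext b
      rfl
    rw [h1]
    have h2 : (fun b : Finset X => g • b) '' MulAction.orbit G B = g • MulAction.orbit G B := rfl
    rw [h2, MulAction.smul_orbit]
  let φ : G →* setSystemAut (MulAction.orbit G B) :=
    (MulAction.toPermHom G X).codRestrict _ hmem
  have hinj : Function.Injective φ := by
    rw [← MonoidHom.ker_eq_bot_iff, Subgroup.eq_bot_iff_forall]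
    intro g hg
    apply hfaith
    intro x
    have h1 : (φ g : Equiv.Perm X) = 1 := by
      rw [MonoidHom.mem_ker] at hg
      rw [hg]; rfl
    have h2 : (φ g : Equiv.Perm X) x = x := by rw [h1]; rfl
    exact h2
  have hcard : Nat.card (setSystemAut (MulAction.orbit G B)) = 7920 :=
    (Cfsg.Agent.S0426.result hX hS).1.2
  have hfin : Finite (setSystemAut (MulAction.orbit G B)) := inferInstance
  have hbij : Function.Bijective φ :=
    (Nat.bijective_iff_injective_and_card φ).2 ⟨hinj, by rw [hG, hcard]⟩
  exact ⟨MulEquiv.ofBijective φ hbij⟩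

end Cfsg.Agent.Lib.helper73.M11U
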