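import Mathlib
import Cfsg.Agent.S0434
import Cfsg.Agent.Lib.helper21.M11Core
import Cfsg.Agent.Lib.helper73.M11_V
import Cfsg.Agent.Lib.helper73.SylLocal
import Cfsg.Agent.Lib.helper81.CharOrtho
import Cfsg.Agent.Lib.helper20.M11U_A
import Cfsg.Agent.Lib.helper92.M11U_B2
import Cfsg.Agent.Lib.helper92.M11U_B3
import Cfsg.Agent.Lib.helper46.M11U_D5

set_option autoImplicit false
open Cfsg Cfsg.Agent.Lib.helper4 Cfsg.Agent.Lib.helper21
universe u

namespace Cfsg.Agent.Lib.helper73.M11U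

/-- Number of elements of a subgroup, as the cardinality of a filter. -/
theorem card_filter_mem {G : Type*} [Group G] [Fintype G] (K : Subgroup G)
    [DecidablePred (fun g : G => g ∈ K)] :
    (Finset.univ.filter (fun g : G => g ∈ K)).card = Nat.card K := by
  rw [Nat.card_eq_fintype_card, ← Fintype.card_subtype]

/-- In a group of prime order every element is a power of a given nonidentity element; version
inside a subgroup. -/
theorem comm_of_mem_prime {G : Type*} [Group G] (Q : Subgroup G) {p : ℕ} [Fact p.Prime]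
    (hQ : Nat.card Q = p) (x : G) (hx : x ∈ Q) (hx1 : x ≠ 1) (g : G) (hg : g * x = x * g)
    (y : G) (hy : y ∈ Q) : g * y = y * g := by
  have hmem : (⟨y, hy⟩ : Q) ∈ Subgroup.zpowers (⟨x, hx⟩ : Q) :=
    mem_zpowers_of_prime_card hQ (fun h => hx1 (by simpa using congrArg Subtype.val h))
  obtain ⟨j, hj⟩ := hmem
  have hy' : y = x ^ j := by
    have := congrArg Subtype.val hj
    simpa using this.symm
  rw [hy']
  exact ((Commute.zpow_right (show Commute g x from hg) j)).eq

/-- PART I: a simple group of order `7920` has a subgroup of order `660`. -/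
theorem exists_card_660 {G : Type u} [Group G] [Finite G] [IsSimpleGroup G]
    (hG : Nat.card G = 7920) : ∃ L : Subgroup G, Nat.card L = 660 := by
  classical
  have : Fintype G := Fintype.ofFinite G
  have : Fintype (IrrCharacter G) := Fintype.ofFinite _
  have h11 : Fact (Nat.Prime 11) := ⟨by norm_num⟩
  have h5 : Fact (Nat.Prime 5) := ⟨by norm_num⟩
  obtain ⟨P, hP, α₁, α₂, α₃, β, γ₁, γ₂, ψ₁, ψ₂, ψ₃, hfull⟩ :=
    Cfsg.Agent.S0434.m11_full (G := G) hG
  -- the Sylow 11-subgroup
  let P₁₁ : Sylow 11 G := Sylow.ofCard P (by rw [hG, m11_factorization_eleven, pow_one, hP])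
  have hP₁₁ : (P₁₁ : Subgroup G) = P := Sylow.coe_ofCard _ _
  obtain ⟨hN, hC⟩ := Cfsg.Agent.Lib.helper46.m11_sylow_eleven hG P₁₁
  rw [hP₁₁] at hN hC
  -- subgroups of order 5
  have h5facts : ∀ Q : Subgroup G, Nat.card Q = 5 →
      Nat.card (Subgroup.normalizer (Q : Set G)) = 20 ∧ Subgroup.centralizer (Q : Set G) ≤ Q := by
    intro Q hQ
    obtain ⟨h1, h2⟩ := m11_core_five hG Q hQ
    exact ⟨h2, h1⟩
  obtain ⟨hconj5, hcent5⟩ := Cfsg.Agent.Lib.helper46.M11U.m11_order_five_facts hG h5facts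
  -- values of ψ₁
  have hdeg : charDegree (ψ₁ : G → ℂ) = 11 := hfull.2.2.2.2.2.2.2.2.1
  have hψ1 : (ψ₁ : G → ℂ) 1 = 11 := by
    rw [Cfsg.Agent.Lib.helper81.irr_one_eq_charDegree, hdeg]; norm_num
  have hψ11 : ∀ x : G, orderOf x = 11 → (ψ₁ : G → ℂ) x = 0 := by
    intro x hx
    exact irr_vanish_of_defect_zero ψ₁ 11 1 (by norm_num) (by rw [hG]; norm_num)
      (by rw [hG]; norm_num) (by rw [hdeg]; norm_num) x (by rw [hx])
  have hψ5 : ∀ k : G, orderOf k = 5 → (ψ₁ : G → ℂ) k = 1 := by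
    intro k hk
    refine Cfsg.Agent.Lib.helper92.M11U.m11_psi_five hG P hP α₁ α₂ α₃ β γ₁ γ₂ ψ₁ ψ₂ ψ₃ hfull k hk (hcent5 k hk) ?_
    intro i hi
    refine hconj5 k (k ^ i) hk ?_
    rw [Nat.Coprime.orderOf_pow, hk]
    rw [hk]
    exact (Nat.Prime.coprime_iff_not_dvd (by norm_num)).2 hi
  have hψ2 : ∀ t : G, orderOf t = 2 → (ψ₁ : G → ℂ) t = 3 := fun t ht =>
    Cfsg.Agent.Lib.helper92.M11U.m11_psi_involution hG P hP hC hN α₁ α₂ α₃ β γ₁ γ₂ ψ₁ ψ₂ ψ₃ hfull t ht
  -- the normalizer N of P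
  set N : Subgroup G := Subgroup.normalizer (P : Set G) with hNdef
  have hPN : P ≤ N := Subgroup.le_normalizer
  have hordP : ∀ x ∈ P, x ≠ 1 → orderOf x = 11 := by
    intro x hx hx1
    have hd : orderOf x ∣ 11 := by
      have := orderOf_dvd_natCard (⟨x, hx⟩ : P)
      rw [hP, ← Subgroup.orderOf_coe] at this
      exact this
    rcases (Nat.dvd_prime (by norm_num)).1 hd with h | h
    · exact absurd (orderOf_eq_one_iff.1 h) hx1
    · exact h
  have hordN : ∀ n ∈ N, n ∉ P → orderOf n = 5 := by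
    intro n hn hnP
    have hnormal : (P.subgroupOf N).Normal := Subgroup.normal_in_normalizer
    have hidx : (P.subgroupOf N).index = 5 := by
      have h1 := Subgroup.card_mul_index (P.subgroupOf N)
      rw [Cfsg.Agent.Lib.helper73.SylInter.card_subgroupOf_of_le hPN, hP, hN] at h1
      omega
    have hpow : n ^ 5 ∈ P := by
      have h1 := Subgroup.pow_index_mem (P.subgroupOf N) (⟨n, hn⟩ : N)
      rw [hidx, Subgroup.mem_subgroupOf] at h1
      simpa using h1
    have hn5 : n ^ 5 = 1 := by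
      by_contra hne
      apply hnP
      apply hC
      rw [Subgroup.mem_centralizer_iff]
      intro y hy
      have hcomm : n * n ^ 5 = n ^ 5 * n := by
        rw [← pow_succ', ← pow_succ]
      exact (comm_of_mem_prime P hP (n ^ 5) hpow hne n hcomm y hy).symm
    have hn1 : n ≠ 1 := fun h => hnP (h ▸ P.one_mem)
    exact orderOf_eq_prime hn5 hn1
  -- an element of order 5 of N
  obtain ⟨k, hkN, hkP⟩ : ∃ k ∈ N, k ∉ P := by
    by_contra hcon
    push Not at hcon
    have hle : N ≤ P := fun x hx => hcon x hx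
    have := Subgroup.card_le_of_le hle
    rw [hN, hP] at this
    omega
  have hk5 : orderOf k = 5 := hordN k hkN hkP
  set Q : Subgroup G := Subgroup.zpowers k with hQdef
  have hQ : Nat.card Q = 5 := by rw [hQdef, Nat.card_zpowers, hk5]
  have hkQ : k ∈ Q := Subgroup.mem_zpowers k
  have hQN : Q ≤ N := by rw [hQdef, Subgroup.zpowers_le]; exact hkN
  obtain ⟨hNQ, hCQ⟩ := h5facts Q hQ
  -- an involution of N(Q)
  obtain ⟨t', ht'⟩ := exists_prime_orderOf_dvd_card' (G := ↥(Subgroup.normalizer (Q : Set G))) 2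
    (by rw [hNQ]; norm_num)
  set t : G := (t' : G) with htdef
  have ht2 : orderOf t = 2 := by rw [htdef, Subgroup.orderOf_coe]; exact ht'
  have htN : t ∈ Subgroup.normalizer (Q : Set G) := t'.2
  have htt : t * t = 1 := by
    have := pow_orderOf_eq_one t
    rw [ht2, pow_two] at this
    exact this
  have htinv : t⁻¹ = t := inv_eq_of_mul_eq_one_left htt
  have htQ : t ∉ Q := by
    intro h
    have hd : orderOf t ∣ 5 := by
      have := orderOf_dvd_natCard (⟨t, h⟩ : Q)
      rw [hQ, ← Subgroup.orderOf_coe] at this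
      exact this
    rw [ht2] at hd
    norm_num at hd
  have hnorm : ∀ q ∈ Q, t * q * t⁻¹ ∈ Q := fun q hq =>
    (Subgroup.mem_normalizer_iff.1 htN q).1 hq
  -- t inverts k
  have hkinv : t * k * t⁻¹ = k⁻¹ := by
    set k' : G := t * k * t⁻¹ with hk'
    have hk'Q : k' ∈ Q := hnorm k hkQ
    have hkk' : k * k' = k' * k := by
      obtain ⟨j, hj⟩ := hk'Q
      rw [← hj]
      exact ((Commute.refl k).zpow_right j).eq
    have hconj' : t * k' * t⁻¹ = k := by
      rw [hk', htinv]
      calc t * (t * k * t) * t = (t * t) * k * (t * t) := by group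
        _ = k := by rw [htt]; group
    have hq₀ : k * k' = 1 := by
      by_contra hne
      apply htQ
      apply hCQ
      rw [Subgroup.mem_centralizer_iff]
      intro y hy
      have hcomm : t * (k * k') = (k * k') * t := by
        have : t * (k * k') * t⁻¹ = k * k' := by
          calc t * (k * k') * t⁻¹ = (t * k * t⁻¹) * (t * k' * t⁻¹) := by group
            _ = k' * k := by rw [hconj']
            _ = k * k' := hkk'.symm
        calc t * (k * k') = (t * (k * k') * t⁻¹) * t := by group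
          _ = (k * k') * t := by rw [this]
      exact (comm_of_mem_prime Q hQ (k * k') (Q.mul_mem hkQ hk'Q) hne t hcomm y hy).symm
    exact eq_inv_of_mul_eq_one_right hq₀
  have hinv : ∀ q ∈ Q, t * q * t⁻¹ = q⁻¹ := by
    intro q hq
    obtain ⟨j, rfl⟩ := hq
    rw [← conj_zpow, hkinv, inv_zpow]
  have hinvol : ∀ q ∈ Q, orderOf (t * q) = 2 := by
    intro q hq
    have h1 : t * q = q⁻¹ * t := by
      calc t * q = (t * q * t⁻¹) * t := by group
        _ = q⁻¹ * t := by rw [hinv q hq]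
    refine orderOf_eq_prime ?_ ?_
    · rw [pow_two]
      calc t * q * (t * q) = q⁻¹ * t * (t * q) := by rw [h1]
        _ = q⁻¹ * (t * t) * q := by group
        _ = 1 := by rw [htt]; group
    · intro h
      apply htQ
      have : t = q⁻¹ := eq_inv_of_mul_eq_one_left h
      rw [this]
      exact Q.inv_mem hq
  -- the finsets
  set sN : Finset G := Finset.univ.filter (fun g : G => g ∈ N) with hsNdef
  set sQ : Finset G := Finset.univ.filter (fun g : G => g ∈ Q) with hsQdef
  set sP : Finset G := Finset.univ.filter (fun g : G => g ∈ P) with hsPdef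
  have hsN : ∀ g, g ∈ sN ↔ g ∈ N := fun g => by simp [hsNdef]
  have hsQ : ∀ g, g ∈ sQ ↔ g ∈ Q := fun g => by simp [hsQdef]
  have hsP : ∀ g, g ∈ sP ↔ g ∈ P := fun g => by simp [hsPdef]
  have hcN : sN.card = 55 := by rw [hsNdef, card_filter_mem, hN]
  have hcQ : sQ.card = 5 := by rw [hsQdef, card_filter_mem, hQ]
  have hcP : sP.card = 11 := by rw [hsPdef, card_filter_mem, hP]
  -- sum over P
  have hsumP : ∑ n ∈ sP, (ψ₁ : G → ℂ) n = 11 := by
    rw [← Finset.add_sum_erase sP _ ((hsP 1).2 P.one_mem), hψ1]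
    rw [Finset.sum_eq_zero]
    · ring
    · intro x hx
      rw [Finset.mem_erase] at hx
      exact hψ11 x (hordP x ((hsP x).1 hx.2) hx.1)
  -- sum over N
  have hsumN : ∑ n ∈ sN, (ψ₁ : G → ℂ) n = 55 := by
    rw [← Finset.sum_filter_add_sum_filter_not sN (fun g => g ∈ P)]
    have hf1 : sN.filter (fun g => g ∈ P) = sP := by
      ext g
      simp only [Finset.mem_filter, hsN, hsP]
      exact ⟨fun h => h.2, fun h => ⟨hPN h, h⟩⟩
    have hc2 : (sN.filter (fun g => ¬ g ∈ P)).card = 44 := by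
      have := Finset.card_filter_add_card_filter_not (s := sN) (fun g => g ∈ P)
      rw [hf1, hcP, hcN] at this
      omega
    rw [hf1, hsumP]
    have : ∑ n ∈ sN.filter (fun g => ¬ g ∈ P), (ψ₁ : G → ℂ) n =
        ∑ n ∈ sN.filter (fun g => ¬ g ∈ P), (1 : ℂ) := by
      refine Finset.sum_congr rfl ?_
      intro x hx
      rw [Finset.mem_filter] at hx
      exact hψ5 x (hordN x ((hsN x).1 hx.1) hx.2)
    rw [this, Finset.sum_const, hc2]
    norm_num
  -- sums over Q
  have hordQ : ∀ x ∈ Q, x ≠ 1 → orderOf x = 5 := by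
    intro x hx hx1
    have hd : orderOf x ∣ 5 := by
      have := orderOf_dvd_natCard (⟨x, hx⟩ : Q)
      rw [hQ, ← Subgroup.orderOf_coe] at this
      exact this
    rcases (Nat.dvd_prime (by norm_num)).1 hd with h | h
    · exact absurd (orderOf_eq_one_iff.1 h) hx1
    · exact h
  have hsumQ : ∑ q ∈ sQ, (ψ₁ : G → ℂ) q = 15 := by
    rw [← Finset.add_sum_erase sQ _ ((hsQ 1).2 Q.one_mem), hψ1]
    have : ∑ x ∈ sQ.erase 1, (ψ₁ : G → ℂ) x = ∑ x ∈ sQ.erase 1, (1 : ℂ) := by
      refine Finset.sum_congr rfl ?_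
      intro x hx
      rw [Finset.mem_erase] at hx
      exact hψ5 x (hordQ x ((hsQ x).1 hx.2) hx.1)
    rw [this, Finset.sum_const, Finset.card_erase_of_mem ((hsQ 1).2 Q.one_mem), hcQ]
    norm_num
  have hsumtQ : ∑ q ∈ sQ, (ψ₁ : G → ℂ) (t * q) = 15 := by
    have : ∑ q ∈ sQ, (ψ₁ : G → ℂ) (t * q) = ∑ q ∈ sQ, (3 : ℂ) := by
      refine Finset.sum_congr rfl ?_
      intro x hx
      exact hψ2 _ (hinvol x ((hsQ x).1 hx))
    rw [this, Finset.sum_const, hcQ]
    norm_num
  -- the stabilizer of a fixed vector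
  obtain ⟨S, hNS, htS, hStop⟩ := Cfsg.Agent.Lib.helper20.M11U.exists_proper_of_fixed_vector ψ₁
    (by rw [hψ1]; norm_num) N Q hQN t htt hnorm sN sQ hsN hsQ
    (by rw [hsumN]; norm_num) (by rw [hsumtQ, hsumQ])
  refine ⟨S, ?_⟩
  have hPS : (P₁₁ : Subgroup G) ≤ S := by rw [hP₁₁]; exact hPN.trans hNS
  have h1 := Cfsg.Agent.Lib.helper73.SylLocal.card_inf_normalizer_mul P₁₁ S hPS
  rw [hP₁₁, inf_eq_right.2 hNS, hN] at h1
  have h2 := (Cfsg.Agent.Lib.helper73.SylInter.card_sylow_subgroup P₁₁ S hPS).1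
  have h3 : Nat.card S ∣ 7920 := hG ▸ Subgroup.card_subgroup_dvd_card S
  have h4 : 2 ∣ Nat.card S := by
    have := orderOf_dvd_natCard (⟨t, htS⟩ : S)
    rw [← Subgroup.orderOf_coe] at this
    rw [← ht2]; exact this
  have h5' : Nat.card S ≠ 7920 := by
    intro h
    apply hStop
    rw [← Subgroup.card_eq_iff_eq_top, h, hG]
  set n := Nat.card (Sylow 11 ↥S) with hn
  have hdvd : n ∣ 144 := by
    rw [← h1] at h3
    exact Nat.dvd_of_mul_dvd_mul_left (by norm_num : 0 < 55) (by simpa using h3)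
  have hle : n ≤ 144 := Nat.le_of_dvd (by norm_num) hdvd
  have hcases : n = 1 ∨ n = 12 ∨ n = 144 := by
    clear_value n
    interval_cases n <;> omega
  rcases hcases with h | h | h
  · rw [h] at h1; omega
  · rw [h] at h1; omega
  · rw [h] at h1; omega

end Cfsg.Agent.Lib.helper73.M11U
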