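import Mathlib

set_option autoImplicit false

namespace Cfsg.Agent.Lib.helper73.M11U

/-- PIECE E: a nonabelian simple group acts by even permutations. -/
theorem sign_eq_one_of_simple {G : Type*} [Group G] [Finite G] [IsSimpleGroup G]
    (hG : ¬ (Nat.card G).Prime) {X : Type*} [Fintype X] [DecidableEq X] [MulAction G X] (g : G) :
    Equiv.Perm.sign (MulAction.toPerm g : Equiv.Perm X) = 1 := by
  classical
  set φ : G →* ℤˣ := (Equiv.Perm.sign).comp (MulAction.toPermHom G X) with hφ
  have hker : φ.ker = ⊥ ∨ φ.ker = ⊤ := (φ.normal_ker).eq_bot_or_eq_top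
  rcases hker with h | h
  · exfalso
    have hinj : Function.Injective φ := (MonoidHom.ker_eq_bot_iff φ).1 h
    have hle : Nat.card G ≤ Nat.card ℤˣ := Nat.card_le_card_of_injective φ hinj
    have h2 : Nat.card ℤˣ = 2 := by
      rw [Nat.card_eq_fintype_card]; exact Fintype.card_units_int
    have h1 : 1 < Nat.card G := Finite.one_lt_card
    have : Nat.card G = 2 := by omega
    exact hG (this ▸ Nat.prime_two)
  · have : g ∈ φ.ker := h ▸ Subgroup.mem_top g
    exact MonoidHom.mem_ker.1 this

end Cfsg.Agent.Lib.helper73.M11U
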