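import Mathlib
import Cfsg.Agent.S0434
import Cfsg.Agent.S0435
import Cfsg.Agent.Lib.helper73.M11U_K
import Cfsg.Agent.Lib.helper73.M11U_L660
import Cfsg.Agent.Lib.helper46.M11U_D
import Cfsg.Agent.Lib.helper46.M11U_D5
import Cfsg.Agent.Lib.helper17.M11U_F1
import Cfsg.Agent.Lib.helper17.M11U_I
import Cfsg.Agent.Lib.helper63.M11U_H
import Cfsg.Agent.Lib.helper33.M11U_C
import Cfsg.Agent.Lib.helper33.M11U_G1
import Cfsg.Agent.Lib.helper16.M11U_F2
import Cfsg.Agent.Lib.helper93.M11U_J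
import Cfsg.Agent.Lib.helper93.M11U_G2

set_option autoImplicit false
open Cfsg Cfsg.Agent.Lib.helper4 Cfsg.Agent.Lib.helper21
open scoped Pointwise
universe u

namespace Cfsg.Agent.Lib.helper73.M11U

/-- A simple group of order `7920` is the automorphism group of a Steiner system `S(4,5,11)`. -/
theorem m11_steiner {G : Type u} [Group G] [Finite G] (hM : IsM11 G) :
    ∃ (α : Type u) (_ : Fintype α) (_ : DecidableEq α) (B : Set (Finset α)),
      Fintype.card α = 11 ∧ IsSteinerSystem 4 5 B ∧ Nonempty (G ≃* setSystemAut B) := by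
  classical
  obtain ⟨hsimple, hG⟩ := hM
  have : IsSimpleGroup G := hsimple
  have : Fintype G := Fintype.ofFinite G
  have : Fintype (IrrCharacter G) := Fintype.ofFinite _
  have hp11 : Fact (Nat.Prime 11) := ⟨by norm_num⟩
  have hp5 : Fact (Nat.Prime 5) := ⟨by norm_num⟩
  -- local facts
  have h5 : ∀ Q : Subgroup G, Nat.card Q = 5 →
      Nat.card (Subgroup.normalizer (Q : Set G)) = 20 ∧ Subgroup.centralizer (Q : Set G) ≤ Q := by
    intro Q hQ
    obtain ⟨h1, h2⟩ := m11_core_five hG Q hQ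
    exact ⟨h2, h1⟩
  have h11 : ∀ P : Subgroup G, Nat.card P = 11 →
      Nat.card (Subgroup.normalizer (P : Set G)) = 55 := by
    intro P hP
    have h := (Cfsg.Agent.Lib.helper46.m11_sylow_eleven hG
      (Sylow.ofCard P (by rw [hG, m11_factorization_eleven, pow_one, hP]))).1
    rwa [Sylow.coe_ofCard] at h
  have hcent2 : ∀ t : G, orderOf t = 2 →
      Nat.card (Subgroup.centralizer ({t} : Set G)) = 48 := fun t ht =>
    Cfsg.Agent.S0435.result ⟨hsimple, hG⟩ t ht
  obtain ⟨P, hP, α₁, α₂, α₃, β, γ₁, γ₂, ψ₁, ψ₂, ψ₃, hfull⟩ :=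
    Cfsg.Agent.S0434.m11_full (G := G) hG
  have hcent3 : ∀ z : G, orderOf z = 3 →
      Nat.card (Subgroup.centralizer ({z} : Set G)) = 18 := fun z hz =>
    Cfsg.Agent.Lib.helper32.m11_order_three_centralizer hG P hP α₁ α₂ α₃ β γ₁ γ₂ ψ₁ ψ₂ ψ₃ hfull
      z hz
  have h144 : ∀ R : Sylow 3 G,
      Nat.card (Subgroup.normalizer ((R : Subgroup G) : Set G)) = 144 := fun R =>
    Cfsg.Agent.S0434.result ⟨hsimple, hG⟩ R
  obtain ⟨hconj3, h3⟩ := Cfsg.Agent.Lib.helper46.M11U.m11_order_three_facts hG hcent3 h144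
  obtain ⟨hconj5, hcent5⟩ := Cfsg.Agent.Lib.helper46.M11U.m11_order_five_facts hG h5
  -- Part I: a subgroup of order 660
  obtain ⟨L, hL⟩ := exists_card_660 hG
  -- Part II: a subgroup of order 720
  obtain ⟨H, hH⟩ : ∃ H : Subgroup G, Nat.card H = 720 := by
    have hX : Fintype.card (G ⧸ L) = 12 := card_quotient L 660 12 (by rw [hG]) hL (by norm_num)
    obtain ⟨hf5, hf3⟩ := Cfsg.Agent.Lib.helper33.M11U.m11_fix_twelve hG L hL hcent5 hconj5 hcent3 hconj3
    have hfix5 : ∀ k : G, orderOf k = 5 →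
        (Finset.univ.filter fun x : G ⧸ L => k • x = x).card = 2 := fun k hk => by
      rw [card_filter_fixed, hf5 k hk]
    have hfix3 : ∀ z : G, orderOf z = 3 →
        (Finset.univ.filter fun x : G ⧸ L => z • x = x).card = 3 := fun z hz => by
      rw [card_filter_fixed, hf3 z hz]
    exact Cfsg.Agent.Lib.helper16.M11U.exists_card_720_of_bisections hG hX h5 h11 hfix5 hfix3
      (fun Q hQ => Cfsg.Agent.Lib.helper17.M11U.bisections_of_sylow_five hG hX hfix5 Q hQ (h5 Q hQ).1 (h5 Q hQ).2)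
  -- Part III: the action on the 11 cosets of H
  have hX : Fintype.card (G ⧸ H) = 11 := card_quotient H 720 11 (by rw [hG]) hH (by norm_num)
  obtain ⟨hf5, hf3⟩ := Cfsg.Agent.Lib.helper33.M11U.m11_fix_eleven_odd hG H hH hcent5 hconj5 hcent3 hconj3 h3
  have hfix5 : ∀ k : G, orderOf k = 5 →
      (Finset.univ.filter fun x : G ⧸ H => k • x = x).card = 1 := fun k hk => by
    rw [card_filter_fixed, hf5 k hk]
  have hfix3 : ∀ z : G, orderOf z = 3 →
      (Finset.univ.filter fun x : G ⧸ H => z • x = x).card = 2 := fun z hz => by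
    rw [card_filter_fixed, hf3 z hz]
  have hHtop : H ≠ ⊤ := by
    intro h
    rw [h, Subgroup.card_top, hG] at hH
    norm_num at hH
  have hfaith : ∀ g : G, (∀ x : G ⧸ H, g • x = x) → g = 1 := fun g hg =>
    faithful_quotient H hHtop g hg
  obtain ⟨hfix2, hfix⟩ := Cfsg.Agent.Lib.helper93.M11U.m11_fix_eleven_all hG hX hfaith hcent2 hfix5 hfix3
  have hsharp := Cfsg.Agent.Lib.helper63.M11U.sharp_four_of_fix_le_three hG hX hfix
  obtain ⟨B, hB, hS⟩ := Cfsg.Agent.Lib.helper17.M11U.exists_block hG hX h5 hfix hfix5 hfix2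
  have hst := Cfsg.Agent.Lib.helper93.M11U.steiner_of_block hG hX hsharp B hB hS
  exact ⟨G ⧸ H, inferInstance, inferInstance, MulAction.orbit G B, hX, hst,
    equiv_aut_of_steiner hG hX hfaith B hst⟩

end Cfsg.Agent.Lib.helper73.M11U
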