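import Mathlib
import Cfsg.Agent.Lib.helper73.M24B_ENUM_B_Defs
import Cfsg.Agent.Lib.helper73.M24B_ENUM_A_Data

/-!
# S5006 piece ENUM_A (helper73): definitions of the kernel computation

The list of the 11385 involutions with eight fixed points is closed under conjugation by the three
generators of the group; a spanning tree shows that every entry is a conjugate of the
representative; the list is strictly increasing; the types of the products with the
representative are checked against a list of types.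
-/

set_option autoImplicit false

namespace Cfsg.Agent.Lib.helper73.M24B

open Cfsg Cfsg.Agent.Lib.helper94

/-- The number of entries. -/
def eaN : ℕ := 11385

/-- The index of the representative. -/
def eaJ0 : ℕ := 1975

/-- The `j`-th table of the list. -/
def eaE (j : ℕ) : ℕ := objAt 120 (eaChunk (Nat.div j 256)) (Nat.mod j 256)

/-- The index of the conjugate of the `j`-th table by the `c`-th generator. -/
def eaP0 (j : ℕ) : ℕ := objAt 16 (eaPChunk0 (Nat.div j 2048)) (Nat.mod j 2048)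
def eaP1 (j : ℕ) : ℕ := objAt 16 (eaPChunk1 (Nat.div j 2048)) (Nat.mod j 2048)
def eaP2 (j : ℕ) : ℕ := objAt 16 (eaPChunk2 (Nat.div j 2048)) (Nat.mod j 2048)

/-- The `j`-th tree field `4 * parent + generator`. -/
def eaPar (j : ℕ) : ℕ := objAt 16 (eaParChunk (Nat.div j 2048)) (Nat.mod j 2048)

/-- The depth of the `j`-th entry in the tree. -/
def eaRk (j : ℕ) : ℕ := objAt 8 (eaRkChunk (Nat.div j 4096)) (Nat.mod j 4096)

/-- The `j`-th certificate for even order. -/
def eaEV (j : ℕ) : ℕ := objAt 8 (eaEVChunk (Nat.div j 4096)) (Nat.mod j 4096)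

/-- The `j`-th type. -/
def eaTY (j : ℕ) : ℕ := objAt 4 (eaTYChunk (Nat.div j 8192)) (Nat.mod j 8192)

/-- Written-out packed table of the product `E * X2A`. -/
def mulTA (E : ℕ) : ℕ :=
  Nat.add (imgAt E 1) (Nat.mul 32 (Nat.add (imgAt E 0) (Nat.mul 32 (Nat.add (imgAt E 3) (Nat.mul 32 (Nat.add (imgAt E 2) (Nat.mul 32 (Nat.add (imgAt E 7) (Nat.mul 32 (Nat.add (imgAt E 23) (Nat.mul 32 (Nat.add (imgAt E 6) (Nat.mul 32 (Nat.add (imgAt E 4) (Nat.mul 32 (Nat.add (imgAt E 15) (Nat.mul 32 (Nat.add (imgAt E 9) (Nat.mul 32 (Nat.add (imgAt E 12) (Nat.mul 32 (Nat.add (imgAt E 11) (Nat.mul 32 (Nat.add (imgAt E 10) (Nat.mul 32 (Nat.add (imgAt E 13) (Nat.mul 32 (Nat.add (imgAt E 17) (Nat.mul 32 (Nat.add (imgAt E 8) (Nat.mul 32 (Nat.add (imgAt E 19) (Nat.mul 32 (Nat.add (imgAt E 14) (Nat.mul 32 (Nat.add (imgAt E 18) (Nat.mul 32 (Nat.add (imgAt E 16) (Nat.mul 32 (Nat.add (imgAt E 20) (Nat.mul 32 (Nat.add (imgAt E 21) (Nat.mul 32 (Nat.add (imgAt E 22) (Nat.mul 32 (Nat.add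 (imgAt E 5) (Nat.mul 32 (0))))))))))))))))))))))))))))))))))))))))))))))))

/-- The table packed again (a function of the 24 images only). -/
def canonT (E : ℕ) : ℕ :=
  Nat.add (imgAt E 0) (Nat.mul 32 (Nat.add (imgAt E 1) (Nat.mul 32 (Nat.add (imgAt E 2) (Nat.mul 32 (Nat.add (imgAt E 3) (Nat.mul 32 (Nat.add (imgAt E 4) (Nat.mul 32 (Nat.add (imgAt E 5) (Nat.mul 32 (Nat.add (imgAt E 6) (Nat.mul 32 (Nat.add (imgAt E 7) (Nat.mul 32 (Nat.add (imgAt E 8) (Nat.mul 32 (Nat.add (imgAt E 9) (Nat.mul 32 (Nat.add (imgAt E 10) (Nat.mul 32 (Nat.add (imgAt E 11) (Nat.mul 32 (Nat.add (imgAt E 12) (Nat.mul 32 (Nat.add (imgAt E 13) (Nat.mul 32 (Nat.add (imgAt E 14) (Nat.mul 32 (Nat.add (imgAt E 15) (Nat.mul 32 (Nat.add (imgAt E 16) (Nat.mul 32 (Nat.add (imgAt E 17) (Nat.mul 32 (Nat.add (imgAt E 18) (Nat.mul 32 (Nat.add (imgAt E 19) (Nat.mul 32 (Nat.add (imgAt E 20) (Nat.mul 32 (Nat.add (imgAt E 21) (Nat.mul 32 (Nat.add (imgAt E 22) (Nat.mul 32 (Nat.add (imgAt E 23) (Nat.mul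 32 (0))))))))))))))))))))))))))))))))))))))))))))))))

/-- The permutation `Y` has the type `ty`: 0 identity, 1 order 3 with 6 fixed points, 2 order 3
without fixed points, 3 order 5, 5 even order. -/
def typA (Y ev ty : ℕ) : Bool :=
  cond (Nat.beq ty 5) (evenOK Y ev)
    (cond (Nat.beq ty 3) (!(all24 fun i => Nat.beq (imgAt Y i) i) && all24 fun i => Nat.beq (p5 Y i) i)
      (cond (Nat.beq ty 1) ((all24 fun i => Nat.beq (p3 Y i) i) &&
          Nat.beq (cnt24 fun i => Nat.beq (imgAt Y i) i) 6)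
        (cond (Nat.beq ty 2) ((all24 fun i => Nat.beq (p3 Y i) i) &&
            Nat.beq (cnt24 fun i => Nat.beq (imgAt Y i) i) 0)
          (Nat.beq ty 0 && all24 fun i => Nat.beq (imgAt Y i) i))))

/-- The index of the conjugate by the generator `c` (`0`, `1`, otherwise the third). -/
def eaPc (c q : ℕ) : ℕ := cond (Nat.beq c 0) (eaP0 q) (cond (Nat.beq c 1) (eaP1 q) (eaP2 q))

/-- The tree check: the root is the representative; any other entry is the conjugate, by a
generator, of an entry of smaller depth. -/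
def eaTree (j E : ℕ) : Bool :=
  cond (Nat.beq j eaJ0) (Nat.beq E X2A)
    (forceNat (eaPar j) fun pr => forceNat (Nat.shiftRight pr 2) fun q =>
      forceNat (Nat.land pr 3) fun c =>
        Nat.blt q eaN && (Nat.blt (eaRk q) (eaRk j) && Nat.beq (eaPc c q) j))

/-- The check for the `j`-th entry. -/
def eaStep (j : ℕ) : Bool :=
  forceNat (eaE j) fun E =>
    (forceNat (eaP0 j) fun k => Nat.blt k eaN && forceNat (eaE k) fun E' => conjW0 E E') &&
    ((forceNat (eaP1 j) fun k => Nat.blt k eaN && forceNat (eaE k) fun E' => conjW1 E E') &&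
    ((forceNat (eaP2 j) fun k => Nat.blt k eaN && forceNat (eaE k) fun E' => conjW2 E E') &&
    ((forceNat (mulTA E) fun Y => typA Y (eaEV j) (eaTY j)) &&
    (eaTree j E && Nat.blt (canonT E) (canonT (eaE (Nat.succ j)))))))

end Cfsg.Agent.Lib.helper73.M24B
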