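import Mathlib
import Cfsg.Agent.Lib.helper73.M24B_ENUM_A_Defs

/-! S5006 piece ENUM_A (helper73): kernel counts of the types, and small checks. -/

set_option autoImplicit false

namespace Cfsg.Agent.Lib.helper73.M24B

open Cfsg Cfsg.Agent.Lib.helper94

set_option maxRecDepth 1000000 in
theorem ea_cnt : cntBelow (fun j => Nat.beq (eaTY j) 1) eaN = 896 ∧
    cntBelow (fun j => Nat.beq (eaTY j) 2) eaN = 128 ∧
    cntBelow (fun j => Nat.beq (eaTY j) 3) eaN = 1792 := by decide +kernel

theorem ea_root : powOne X2A 2 = true ∧ powOne X2A 1 = false := by decide +kernel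

end Cfsg.Agent.Lib.helper73.M24B
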