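import Mathlib
import Cfsg.Agent.Lib.helper73.M24B_ENUM_B_Snd
import Cfsg.Agent.Lib.helper73.M24B_ENUM_A_Defs

/-!
# S5006 piece ENUM_A (helper73): soundness of the table computations
-/

set_option autoImplicit false

namespace Cfsg.Agent.Lib.helper73.M24B

open Cfsg Cfsg.Agent.Lib.helper94

theorem imgAt_mulTA (E i : ℕ) (hi : i < 24) : imgAt (mulTA E) i = imgAt E (imgAt X2A i) := by
  have h1 : mulTA E = packList [imgAt E (imgAt X2A 0), imgAt E (imgAt X2A 1), imgAt E (imgAt X2A 2), imgAt E (imgAt X2A 3), imgAt E (imgAt X2A 4), imgAt E (imgAt X2A 5), imgAt E (imgAt X2A 6), imgAt E (imgAt X2A 7), imgAt E (imgAt X2A 8), imgAt E (imgAt X2A 9), imgAt E (imgAt X2A 10), imgAt E (imgAt X2A 11), imgAt E (imgAt X2A 12), imgAt E (imgAt X2A 13), imgAt E (imgAt X2A 14), imgAt E (imgAt X2A 15), imgAt E (imgAt X2A 16), imgAt E (imgAt X2A 17), imgAt E (imgAt X2A 18), imgAt E (imgAt X2A 19), imgAt E (imgAt X2A 20), imgAt E (imgAt X2A 21), imgAt E (imgAt X2A 22), imgAt E (imgAt X2A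 23)] := rfl
  rw [h1, imgAt_packList]
  · interval_cases i <;> rfl
  · intro x hx
    simp only [List.mem_cons, List.not_mem_nil, or_false] at hx
    rcases hx with rfl | rfl | rfl | rfl | rfl | rfl | rfl | rfl | rfl | rfl | rfl | rfl | rfl |
      rfl | rfl | rfl | rfl | rfl | rfl | rfl | rfl | rfl | rfl | rfl <;> exact imgAt_lt32 _ _

theorem mulTA_sound {E : ℕ} (hE : validPerm E = true) (hT : validPerm X2A = true) :
    validPerm (mulTA E) = true ∧ tperm E * tperm X2A = tperm (mulTA E) := by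
  have hY : validPerm (mulTA E) = true := valid_mul hE hT (fun i hi => imgAt_mulTA E i hi)
  refine ⟨hY, ?_⟩
  apply tperm_mul_of_mulOK hE hT hY
  rw [mulOK, allBelow_iff]
  intro i hi
  rw [imgAt_mulTA E i hi]
  exact Nat.beq_refl _

theorem canonT_congr (E E' : ℕ) (h : ∀ i < 24, imgAt E i = imgAt E' i) : canonT E = canonT E' := by
  unfold canonT
  rw [h 0 (by norm_num), h 1 (by norm_num), h 2 (by norm_num), h 3 (by norm_num), h 4 (by norm_num), h 5 (by norm_num), h 6 (by norm_num), h 7 (by norm_num), h 8 (by norm_num), h 9 (by norm_num), h 10 (by norm_num), h 11 (by norm_num), h 12 (by norm_num), h 13 (by norm_num), h 14 (by norm_num), h 15 (by norm_num), h 16 (by norm_num), h 17 (by norm_num), h 18 (by norm_num), h 19 (by norm_num), h 20 (by norm_num), h 21 (by norm_num), h 22 (by norm_num), h 23 (by norm_num)]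

theorem canonT_of_tperm_eq {E E' : ℕ} (hE : validPerm E = true) (hE' : validPerm E' = true)
    (h : tperm E = tperm E') : canonT E = canonT E' := by
  apply canonT_congr
  intro i hi
  have h1 := tperm_idxPt hE hi
  rw [h, tperm_idxPt hE' hi] at h1
  have h2 := congrArg ptIdx h1
  rw [ptIdx_idxPt (validPerm_lt hE' i hi), ptIdx_idxPt (validPerm_lt hE i hi)] at h2
  exact h2.symm

theorem typA_sound {Y ev ty : ℕ} (hY : validPerm Y = true) (h : typA Y ev ty = true) :
    Prof ty (orderOf (tperm Y)) (Finset.univ.filter fun p => tperm Y p = p).card ∧ ty ≠ 4 := by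
  rw [typA] at h
  rw [card_fixed_tperm hY]
  unfold Prof
  by_cases h5 : ty = 5
  · subst h5
    simp only [Nat.beq_refl, cond_true] at h
    exact ⟨Or.inl ⟨rfl, evenOK_sound hY h⟩, by norm_num⟩
  have b5 : Nat.beq ty 5 = false := by
    cases hb : Nat.beq ty 5
    · rfl
    · exact absurd (Nat.eq_of_beq_eq_true hb) h5
  rw [b5, cond_false] at h
  by_cases h3 : ty = 3
  · subst h3
    simp only [Nat.beq_refl, cond_true, Bool.and_eq_true, Bool.not_eq_true', powOne1,
      powOne5] at h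
    refine ⟨Or.inr (Or.inr (Or.inl ⟨rfl, ?_⟩)), by norm_num⟩
    have : Fact (Nat.Prime 5) := ⟨by norm_num⟩
    exact orderOf_eq_prime ((powOne_iff hY 5).mp h.2) (ne_one_of_powOne hY h.1)
  have b3 : Nat.beq ty 3 = false := by
    cases hb : Nat.beq ty 3
    · rfl
    · exact absurd (Nat.eq_of_beq_eq_true hb) h3
  rw [b3, cond_false] at h
  have hfix24 : tperm Y = 1 → fixCnt Y = 24 := by
    intro h1
    rw [← card_fixed_tperm hY, h1]
    simp
  have : Fact (Nat.Prime 3) := ⟨by norm_num⟩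
  by_cases h1 : ty = 1
  · subst h1
    simp only [Nat.beq_refl, cond_true, Bool.and_eq_true, powOne3, fixCnt24] at h
    have hf : fixCnt Y = 6 := Nat.eq_of_beq_eq_true h.2
    refine ⟨Or.inr (Or.inr (Or.inr (Or.inl ⟨rfl, ?_, hf⟩))), by norm_num⟩
    refine orderOf_eq_prime ((powOne_iff hY 3).mp h.1) ?_
    intro hcon
    have := hfix24 hcon
    omega
  have b1 : Nat.beq ty 1 = false := by
    cases hb : Nat.beq ty 1
    · rfl
    · exact absurd (Nat.eq_of_beq_eq_true hb) h1
  rw [b1, cond_false] at h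
  by_cases h2 : ty = 2
  · subst h2
    simp only [Nat.beq_refl, cond_true, Bool.and_eq_true, powOne3, fixCnt24] at h
    have hf : fixCnt Y = 0 := Nat.eq_of_beq_eq_true h.2
    refine ⟨Or.inr (Or.inr (Or.inr (Or.inr (Or.inl ⟨rfl, ?_, hf⟩)))), by norm_num⟩
    refine orderOf_eq_prime ((powOne_iff hY 3).mp h.1) ?_
    intro hcon
    have := hfix24 hcon
    omega
  have b2 : Nat.beq ty 2 = false := by
    cases hb : Nat.beq ty 2
    · rfl
    · exact absurd (Nat.eq_of_beq_eq_true hb) h2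
  rw [b2, cond_false, Bool.and_eq_true, powOne1] at h
  have h0 : ty = 0 := Nat.eq_of_beq_eq_true h.1
  refine ⟨Or.inr (Or.inr (Or.inr (Or.inr (Or.inr ⟨h0, ?_⟩)))), by omega⟩
  rw [orderOf_eq_one_iff]
  have := (powOne_iff hY 1).mp h.2
  rwa [pow_one] at this

end Cfsg.Agent.Lib.helper73.M24B
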