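import Mathlib
import Cfsg.Agent.Lib.helper73.M24B_ENUM_B
import Cfsg.Agent.Lib.helper73.M24B_ENUM_A_Snd
import Cfsg.Agent.Lib.helper73.M24B_ENUM_A_Chk0
import Cfsg.Agent.Lib.helper73.M24B_ENUM_A_Chk1
import Cfsg.Agent.Lib.helper73.M24B_ENUM_A_Chk2
import Cfsg.Agent.Lib.helper73.M24B_ENUM_A_Cnt

/-!
# S5006 piece ENUM_A (helper73): the products of two involutions with eight fixed points

The 11385 involutions with eight fixed points of the group of the length-24 code are listed.  The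
list is closed under conjugation by the three generators and contains the representative, so it
contains the whole class; a spanning tree shows that every entry is a conjugate of the
representative; the list is strictly increasing, so its entries are distinct.  The type of the
product of each entry with the representative is checked in the kernel.
-/

set_option autoImplicit false

namespace Cfsg.Agent.Lib.helper73.M24B

open Cfsg Cfsg.Agent.Lib.helper33.M24B Cfsg.Agent.Lib.helper94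

/-! ### The kernel checks, unpacked -/

theorem eaStep_all (j : ℕ) (hj : j < eaN) : eaStep j = true := by
  have h0 := (allBelow_iff _ _).mp ea_chk0
  have h1 := (allBelow_iff _ _).mp ea_chk1
  have h2 := (allBelow_iff _ _).mp ea_chk2
  have hN : eaN = 11385 := rfl
  rw [hN] at hj
  by_cases c0 : j < 4000
  · have h := h0 j c0
    have e : Nat.add 0 j = j := Nat.zero_add j
    have h' : eaStep (Nat.add 0 j) = true := h
    rw [e] at h'
    exact h'
  by_cases c1 : j < 8000
  · have h := h1 (j - 4000) (by omega)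
    have e : Nat.add 4000 (j - 4000) = j := by
      rw [Nat.add_eq]
      omega
    have h' : eaStep (Nat.add 4000 (j - 4000)) = true := h
    rw [e] at h'
    exact h'
  · have h := h2 (j - 8000) (by omega)
    have e : Nat.add 8000 (j - 8000) = j := by
      rw [Nat.add_eq]
      omega
    have h' : eaStep (Nat.add 8000 (j - 8000)) = true := h
    rw [e] at h'
    exact h'

theorem eaStep_spec (j : ℕ) (hj : j < eaN) :
    (eaP0 j < eaN ∧ conjOK ebGS (eaE j) (eaE (eaP0 j)) = true) ∧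
    (eaP1 j < eaN ∧ conjOK ebGI (eaE j) (eaE (eaP1 j)) = true) ∧
    (eaP2 j < eaN ∧ conjOK ebGT (eaE j) (eaE (eaP2 j)) = true) ∧
    typA (mulTA (eaE j)) (eaEV j) (eaTY j) = true ∧
    eaTree j (eaE j) = true ∧ canonT (eaE j) < canonT (eaE (Nat.succ j)) := by
  have h := eaStep_all j hj
  rw [eaStep] at h
  simp only [forceNat_eq, Bool.and_eq_true, conjW0_eq, conjW1_eq, conjW2_eq, Nat.blt_eq] at h
  exact h

/-! ### The representative -/

theorem eaX_valid : validPerm X2A = true := repsElts_ok.2.2.1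

theorem eaX_mem : tperm X2A ∈ M24 := tperm_mem_M24 repsElts_ok.2.2.2.2.2.2.1

theorem eaX_order : orderOf (tperm X2A) = 2 := by
  have : Fact (Nat.Prime 2) := ⟨by norm_num⟩
  exact orderOf_eq_prime ((powOne_iff eaX_valid 2).mp ea_root.1)
    (ne_one_of_powOne eaX_valid ea_root.2)

theorem eaX_fix : (Finset.univ.filter fun p => tperm X2A p = p).card = 8 := by
  rw [card_fixed_tperm eaX_valid]
  exact repsElts_ok.2.2.2.2.2.2.2.2.2.2.1

theorem eaX_not_fpf : ¬ ∀ p, tperm X2A p ≠ p := by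
  intro hall
  have h := eaX_fix
  have he : (Finset.univ.filter fun p : GolayPt => tperm X2A p = p) = ∅ := by
    rw [Finset.filter_eq_empty_iff]
    intro p _
    exact hall p
  rw [he] at h
  simp at h

/-- The representative involution with eight fixed points. -/
noncomputable def eaT : ↥M24 := ⟨tperm X2A, eaX_mem⟩

theorem eaT_order : orderOf eaT = 2 := by
  rw [← Subgroup.orderOf_coe]
  exact eaX_order

theorem eaT_fix : fixN eaT = 8 := eaX_fix

theorem not_fpf_of_fixN {x : ↥M24} (h : fixN x = 8) :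
    ¬ ∀ p, (x : Equiv.Perm GolayPt) p ≠ p := by
  intro hall
  unfold fixN at h
  have he : (Finset.univ.filter fun p : GolayPt => (x : Equiv.Perm GolayPt) p = p) = ∅ := by
    rw [Finset.filter_eq_empty_iff]
    intro p _
    exact hall p
  rw [he] at h
  simp at h

/-- Every involution with eight fixed points is conjugate to the representative. -/
theorem conj_of_oct (x : ↥M24) (h2 : orderOf x = 2) (h8 : fixN x = 8) :
    ∃ k : ↥M24, k * eaT * k⁻¹ = x := by
  have hx2 : orderOf (x : Equiv.Perm GolayPt) = 2 := by rw [Subgroup.orderOf_coe]; exact h2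
  obtain ⟨k, hk, hkx⟩ := Cfsg.Agent.S5394.result.2.2.2 (tperm X2A) eaX_mem (x : Equiv.Perm GolayPt)
    x.2 eaX_order hx2
    ⟨fun h => absurd h eaX_not_fpf, fun h => absurd h (not_fpf_of_fixN h8)⟩
  exact ⟨⟨k, hk⟩, Subtype.ext hkx⟩

/-! ### The set of the listed permutations -/

/-- The permutations of the list. -/
def eaSet : Set (Equiv.Perm GolayPt) :=
  {g | ∃ j, j < eaN ∧ validPerm (eaE j) = true ∧ g = tperm (eaE j)}

theorem eaSet_conj_gen {G : ℕ} (hG : validPerm G = true)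
    (hstep : ∀ j, j < eaN → ∃ k, k < eaN ∧ conjOK G (eaE j) (eaE k) = true)
    (g : Equiv.Perm GolayPt) (hg : g ∈ eaSet) : tperm G * g * (tperm G)⁻¹ ∈ eaSet := by
  obtain ⟨j, hj, hv, rfl⟩ := hg
  obtain ⟨k, hk, hc⟩ := hstep j hj
  have hvk := valid_conj hG hv hc
  exact ⟨k, hk, hvk, (tperm_conj hG hv hvk hc).symm⟩

theorem eaSet_conj (k : Equiv.Perm GolayPt) (hk : k ∈ M24) :
    ∀ g ∈ eaSet, k * g * k⁻¹ ∈ eaSet := by
  rw [← Cfsg.Agent.Lib.helper9.genGroup_eq_M24] at hk
  unfold Cfsg.Agent.Lib.helper9.genGroup at hk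
  induction hk using Subgroup.closure_induction with
  | mem x hx =>
    intro g hg
    rcases hx with rfl | rfl | rfl
    · rw [eb_shift]
      exact eaSet_conj_gen eb_root.2.1
        (fun j hj => ⟨eaP0 j, (eaStep_spec j hj).1⟩) g hg
    · rw [eb_inv]
      exact eaSet_conj_gen eb_root.2.2.1
        (fun j hj => ⟨eaP1 j, (eaStep_spec j hj).2.1⟩) g hg
    · rw [eb_twist]
      exact eaSet_conj_gen eb_root.2.2.2.1
        (fun j hj => ⟨eaP2 j, (eaStep_spec j hj).2.2.1⟩) g hg
  | one =>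
    intro g hg
    simpa using hg
  | mul x y _ _ ihx ihy =>
    intro g hg
    have := ihx _ (ihy g hg)
    have e : x * y * g * (x * y)⁻¹ = x * (y * g * y⁻¹) * x⁻¹ := by group
    rw [e]
    exact this
  | inv x _ ih =>
    have hpow : ∀ n : ℕ, ∀ g ∈ eaSet, x ^ n * g * (x ^ n)⁻¹ ∈ eaSet := by
      intro n
      induction n with
      | zero =>
        intro g hg
        simpa using hg
      | succ n ihn =>
        intro g hg
        have := ih _ (ihn g hg)
        have e : x ^ (n + 1) * g * (x ^ (n + 1))⁻¹ = x * (x ^ n * g * (x ^ n)⁻¹) * x⁻¹ := by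
          rw [pow_succ']
          group
        rw [e]
        exact this
    have hinv : x⁻¹ = x ^ (orderOf x - 1) := by
      apply inv_eq_of_mul_eq_one_left
      rw [← pow_succ, Nat.sub_add_cancel (orderOf_pos x), pow_orderOf_eq_one]
    rw [hinv]
    exact hpow _

theorem ea_root_entry : eaE eaJ0 = X2A := by
  have ht := (eaStep_spec eaJ0 (by decide)).2.2.2.2.1
  rw [eaTree, Nat.beq_refl, cond_true] at ht
  exact Nat.eq_of_beq_eq_true ht

theorem eaX_mem_eaSet : tperm X2A ∈ eaSet :=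
  ⟨eaJ0, by decide, by rw [ea_root_entry]; exact eaX_valid, by rw [ea_root_entry]⟩

theorem mem_eaSet_of_oct (x : ↥M24) (h2 : orderOf x = 2) (h8 : fixN x = 8) :
    (x : Equiv.Perm GolayPt) ∈ eaSet := by
  obtain ⟨k, rfl⟩ := conj_of_oct x h2 h8
  exact eaSet_conj k k.2 _ eaX_mem_eaSet

/-! ### Every entry is a conjugate of the representative -/

/-- A valid table of a conjugate of the representative. -/
def EaGood (E : ℕ) : Prop :=
  validPerm E = true ∧ ∃ k ∈ M24, tperm E = k * tperm X2A * k⁻¹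

theorem eaGood_step {G X E : ℕ} (hG : validPerm G = true) (hGm : tperm G ∈ M24)
    (hc : conjOK G X E = true) (hX : EaGood X) : EaGood E := by
  obtain ⟨hv, k, hk, hkx⟩ := hX
  have hvE := valid_conj hG hv hc
  refine ⟨hvE, tperm G * k, mul_mem hGm hk, ?_⟩
  rw [tperm_conj hG hv hvE hc, hkx]
  group

theorem ea_gens : (validPerm ebGS = true ∧ tperm ebGS ∈ M24) ∧
    (validPerm ebGI = true ∧ tperm ebGI ∈ M24) ∧ (validPerm ebGT = true ∧ tperm ebGT ∈ M24) := by
  refine ⟨⟨eb_root.2.1, ?_⟩, ⟨eb_root.2.2.1, ?_⟩, ⟨eb_root.2.2.2.1, ?_⟩⟩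
  · rw [← eb_shift]
    exact Cfsg.Agent.Lib.helper9.shift_mem_M24
  · rw [← eb_inv]
    exact Cfsg.Agent.Lib.helper9.projInv_mem_M24
  · rw [← eb_twist]
    exact Cfsg.Agent.Lib.helper9.cubeTwist_mem_M24

theorem eaPc_spec (c q : ℕ) (hq : q < eaN) :
    ∃ G, validPerm G = true ∧ tperm G ∈ M24 ∧ conjOK G (eaE q) (eaE (eaPc c q)) = true := by
  have hs := eaStep_spec q hq
  unfold eaPc
  cases h0 : Nat.beq c 0
  · cases h1 : Nat.beq c 1
    · simp only [cond_false]
      exact ⟨ebGT, ea_gens.2.2.1, ea_gens.2.2.2, hs.2.2.1.2⟩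
    · simp only [cond_false, cond_true]
      exact ⟨ebGI, ea_gens.2.1.1, ea_gens.2.1.2, hs.2.1.2⟩
  · simp only [cond_true]
    exact ⟨ebGS, ea_gens.1.1, ea_gens.1.2, hs.1.2⟩

theorem ea_good (n : ℕ) : ∀ j, j < eaN → eaRk j = n → EaGood (eaE j) := by
  induction n using Nat.strong_induction_on with
  | _ n ih =>
    intro j hj hr
    have ht := (eaStep_spec j hj).2.2.2.2.1
    rw [eaTree] at ht
    by_cases hj0 : j = eaJ0
    · have b : Nat.beq j eaJ0 = true := by
        rw [hj0]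
        exact Nat.beq_refl _
      rw [b, cond_true] at ht
      have hE : eaE j = X2A := Nat.eq_of_beq_eq_true ht
      rw [hE]
      exact ⟨eaX_valid, 1, one_mem _, by group⟩
    · have b : Nat.beq j eaJ0 = false := by
        cases hb : Nat.beq j eaJ0
        · rfl
        · exact absurd (Nat.eq_of_beq_eq_true hb) hj0
      rw [b, cond_false] at ht
      simp only [forceNat_eq, Bool.and_eq_true, Nat.blt_eq] at ht
      obtain ⟨hq, hrk, hpc⟩ := ht
      have hpc' := Nat.eq_of_beq_eq_true hpc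
      have hgood := ih _ (by rw [← hr]; exact hrk) _ hq rfl
      obtain ⟨G, hG, hGm, hc⟩ := eaPc_spec (Nat.land (eaPar j) 3) _ hq
      rw [hpc'] at hc
      exact eaGood_step hG hGm hc hgood

theorem ea_entry (j : ℕ) (hj : j < eaN) : validPerm (eaE j) = true ∧
    ∃ x : ↥M24, orderOf x = 2 ∧ fixN x = 8 ∧ (x : Equiv.Perm GolayPt) = tperm (eaE j) := by
  obtain ⟨hv, k, hk, hkx⟩ := ea_good _ j hj rfl
  refine ⟨hv, (⟨k, hk⟩ : ↥M24) * eaT * (⟨k, hk⟩ : ↥M24)⁻¹, ?_, ?_, ?_⟩
  · rw [order_conj]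
    exact eaT_order
  · rw [fixN_conj]
    exact eaT_fix
  · rw [hkx]
    rfl

/-! ### The entries are distinct -/

theorem ea_mono (d : ℕ) : ∀ j, j + d + 1 ≤ eaN → canonT (eaE j) < canonT (eaE (j + d + 1)) := by
  induction d with
  | zero =>
    intro j hj
    exact (eaStep_spec j (by omega)).2.2.2.2.2
  | succ d ih =>
    intro j hj
    have h1 := ih j (by omega)
    have h2 := (eaStep_spec (j + d + 1) (by omega)).2.2.2.2.2
    exact lt_trans h1 h2

theorem ea_inj (j k : ℕ) (hj : j < eaN) (hk : k < eaN)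
    (h : canonT (eaE j) = canonT (eaE k)) : j = k := by
  rcases Nat.lt_trichotomy j k with hlt | heq | hgt
  · exfalso
    have h1 := ea_mono (k - j - 1) j (by omega)
    have e : j + (k - j - 1) + 1 = k := by omega
    rw [e] at h1
    omega
  · exact heq
  · exfalso
    have h1 := ea_mono (j - k - 1) k (by omega)
    have e : k + (j - k - 1) + 1 = j := by omega
    rw [e] at h1
    omega

/-! ### The types of the products -/

theorem ea_exists_idx (x : ↥M24) (h2 : orderOf x = 2) (h8 : fixN x = 8) :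
    ∃ j, j < eaN ∧ validPerm (eaE j) = true ∧ (x : Equiv.Perm GolayPt) = tperm (eaE j) ∧
      Prof (eaTY j) (orderOf (x * eaT)) (fixN (x * eaT)) ∧ eaTY j ≠ 4 := by
  obtain ⟨j, hj, hv, hx⟩ := mem_eaSet_of_oct x h2 h8
  refine ⟨j, hj, hv, hx, ?_⟩
  obtain ⟨hY, hmul⟩ := mulTA_sound hv eaX_valid
  have hprof := typA_sound hY (eaStep_spec j hj).2.2.2.1
  have e : ((x * eaT : ↥M24) : Equiv.Perm GolayPt) = tperm (mulTA (eaE j)) := by
    rw [← hmul, ← hx]
    rfl
  rw [← Subgroup.orderOf_coe, e]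
  unfold fixN
  rw [e]
  exact hprof

theorem Prof_odd4 {ty o f : ℕ} (h : Prof ty o f) (h4 : ty ≠ 4) (h2 : ¬ 2 ∣ o) :
    o = 1 ∨ o = 3 ∨ o = 5 := by
  unfold Prof at h
  omega

theorem ea_count_ty (idx : ↥M24 → ℕ)
    (hidx : ∀ x : ↥M24, orderOf x = 2 → fixN x = 8 → idx x < eaN ∧
      validPerm (eaE (idx x)) = true ∧ (x : Equiv.Perm GolayPt) = tperm (eaE (idx x)) ∧
      Prof (eaTY (idx x)) (orderOf (x * eaT)) (fixN (x * eaT)) ∧ eaTY (idx x) ≠ 4) (τ : ℕ) :
    Set.ncard {x : ↥M24 | orderOf x = 2 ∧ fixN x = 8 ∧ eaTY (idx x) = τ}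
      = cntBelow (fun j => Nat.beq (eaTY j) τ) eaN := by
  classical
  have : Fintype ↥M24 := Fintype.ofFinite _
  set F : Finset ↥M24 := Finset.univ.filter fun x => orderOf x = 2 ∧ fixN x = 8 with hF
  have hFmem : ∀ x, x ∈ F ↔ (orderOf x = 2 ∧ fixN x = 8) := by
    intro x
    rw [hF, Finset.mem_filter]
    simp
  have hinj : Set.InjOn idx ↑F := by
    intro x hx y hy hxy
    have hx' := (hFmem x).mp (Finset.mem_coe.mp hx)
    have hy' := (hFmem y).mp (Finset.mem_coe.mp hy)
    apply Subtype.ext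
    rw [(hidx x hx'.1 hx'.2).2.2.1, (hidx y hy'.1 hy'.2).2.2.1, hxy]
  have himg : F.image idx = Finset.range eaN := by
    apply Finset.Subset.antisymm
    · intro j hj
      obtain ⟨x, hx, rfl⟩ := Finset.mem_image.mp hj
      have hx' := (hFmem x).mp hx
      exact Finset.mem_range.mpr (hidx x hx'.1 hx'.2).1
    · intro j hj
      have hj' := Finset.mem_range.mp hj
      obtain ⟨hv, x, hx2, hx8, hxe⟩ := ea_entry j hj'
      refine Finset.mem_image.mpr ⟨x, (hFmem x).mpr ⟨hx2, hx8⟩, ?_⟩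
      have h1 := hidx x hx2 hx8
      apply ea_inj _ _ h1.1 hj'
      apply canonT_of_tperm_eq h1.2.1 hv
      rw [← h1.2.2.1, hxe]
  have hS : {x : ↥M24 | orderOf x = 2 ∧ fixN x = 8 ∧ eaTY (idx x) = τ}
      = ↑(F.filter fun x => eaTY (idx x) = τ) := by
    ext x
    rw [Finset.mem_coe, Finset.mem_filter, hFmem]
    constructor
    · rintro ⟨a, b, c⟩
      exact ⟨⟨a, b⟩, c⟩
    · rintro ⟨⟨a, b⟩, c⟩
      exact ⟨a, b, c⟩
  rw [hS, Set.ncard_coe_finset, cntBelow_eq,
    ← Finset.card_image_of_injOn (hinj.mono (Finset.coe_subset.mpr (Finset.filter_subset _ _))),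
    ← Finset.filter_image (s := F) (f := idx) (p := fun j => eaTY j = τ), himg]
  refine congrArg Finset.card ?_
  apply Finset.filter_congr
  intro j _
  constructor
  · intro h
    rw [h]
    exact Nat.beq_refl _
  · intro h
    exact Nat.eq_of_beq_eq_true h

/-- Piece ENUM_A of S5006. -/
theorem enum_A : ∃ t : ↥M24, orderOf t = 2 ∧ fixN t = 8 ∧
    (∀ x : ↥M24, orderOf x = 2 → fixN x = 8 → ¬ 2 ∣ orderOf (x * t) →
      x * t = 1 ∨ orderOf (x * t) = 3 ∨ orderOf (x * t) = 5) ∧
    Set.ncard {x : ↥M24 | orderOf x = 2 ∧ fixN x = 8 ∧ orderOf (x * t) = 3 ∧ fixN (x * t) = 6}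
      = 896 ∧
    Set.ncard {x : ↥M24 | orderOf x = 2 ∧ fixN x = 8 ∧ orderOf (x * t) = 3 ∧ fixN (x * t) = 0}
      = 128 ∧
    Set.ncard {x : ↥M24 | orderOf x = 2 ∧ fixN x = 8 ∧ orderOf (x * t) = 5} = 1792 := by
  have key := ea_exists_idx
  choose! idx hidx using key
  have hcnt := ea_count_ty idx hidx
  refine ⟨eaT, eaT_order, eaT_fix, ?_, ?_, ?_, ?_⟩
  · intro x h2 h8 hodd
    have hp := (hidx x h2 h8).2.2.2
    rcases Prof_odd4 hp.1 hp.2 hodd with h | h | h
    · exact Or.inl (orderOf_eq_one_iff.mp h)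
    · exact Or.inr (Or.inl h)
    · exact Or.inr (Or.inr h)
  · rw [← ea_cnt.1, ← hcnt 1]
    congr 1
    ext x
    constructor
    · rintro ⟨h2, h8, h⟩
      exact ⟨h2, h8, (Prof_1 (hidx x h2 h8).2.2.2.1).mpr h⟩
    · rintro ⟨h2, h8, h⟩
      exact ⟨h2, h8, (Prof_1 (hidx x h2 h8).2.2.2.1).mp h⟩
  · rw [← ea_cnt.2.1, ← hcnt 2]
    congr 1
    ext x
    constructor
    · rintro ⟨h2, h8, h⟩
      exact ⟨h2, h8, (Prof_2 (hidx x h2 h8).2.2.2.1).mpr h⟩
    · rintro ⟨h2, h8, h⟩
      exact ⟨h2, h8, (Prof_2 (hidx x h2 h8).2.2.2.1).mp h⟩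
  · rw [← ea_cnt.2.2, ← hcnt 3]
    congr 1
    ext x
    constructor
    · rintro ⟨h2, h8, h⟩
      exact ⟨h2, h8, (Prof_3 (hidx x h2 h8).2.2.2.1).mpr h⟩
    · rintro ⟨h2, h8, h⟩
      exact ⟨h2, h8, (Prof_3 (hidx x h2 h8).2.2.2.1).mp h⟩

end Cfsg.Agent.Lib.helper73.M24B
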