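import Mathlib
import Cfsg.Prelude.Def_Classical
import Cfsg.Agent.Lib.helper73.DLinB

/-!
# Geometry of the hyperbolic quadratic form over the field with two elements
-/

set_option autoImplicit false

namespace Cfsg.Agent.Lib.helper73.OPlus

open Module

variable {F : Type*} [Field F] {m : ℕ}

/-- the ambient space -/
abbrev VV (m : ℕ) (F : Type*) := Fin m ⊕ Fin m → F

/-- the quadratic form -/
abbrev Qf (m : ℕ) (F : Type*) [Field F] : VV m F → F := Cfsg.quadFormPlus m F

/-- the polar form -/
def Bf (m : ℕ) (F : Type*) [Field F] : LinearMap.BilinForm F (VV m F) :=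
  LinearMap.mk₂ F (fun u v => ∑ i : Fin m, (u (.inl i) * v (.inr i) + u (.inr i) * v (.inl i)))
    (by intro a b c; simp only [Pi.add_apply, ← Finset.sum_add_distrib]
        apply Finset.sum_congr rfl; intro i _; ring)
    (by intro c a b; simp only [Pi.smul_apply, smul_eq_mul, Finset.mul_sum]
        apply Finset.sum_congr rfl; intro i _; ring)
    (by intro a b c; simp only [Pi.add_apply, ← Finset.sum_add_distrib]
        apply Finset.sum_congr rfl; intro i _; ring)
    (by intro c a b; simp only [Pi.smul_apply, smul_eq_mul, Finset.mul_sum]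
        apply Finset.sum_congr rfl; intro i _; ring)

theorem Bf_apply (u v : VV m F) :
    Bf m F u v = ∑ i : Fin m, (u (.inl i) * v (.inr i) + u (.inr i) * v (.inl i)) := rfl

theorem Q_add (u v : VV m F) : Qf m F (u + v) = Qf m F u + Qf m F v + Bf m F u v := by
  simp only [Qf, Cfsg.quadFormPlus, Bf_apply, Pi.add_apply, ← Finset.sum_add_distrib]
  apply Finset.sum_congr rfl; intro i _; ring

theorem Q_smul (c : F) (v : VV m F) : Qf m F (c • v) = c * c * Qf m F v := by
  simp only [Qf, Cfsg.quadFormPlus, Pi.smul_apply, smul_eq_mul, Finset.mul_sum]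
  apply Finset.sum_congr rfl; intro i _; ring

theorem Q_zero : Qf m F (0 : VV m F) = 0 := by
  simp [Qf, Cfsg.quadFormPlus]

theorem B_symm (u v : VV m F) : Bf m F u v = Bf m F v u := by
  simp only [Bf_apply]
  apply Finset.sum_congr rfl; intro i _; ring

theorem B_isRefl : (Bf m F).IsRefl := by
  intro u v h
  rw [B_symm]; exact h

theorem B_nondeg : (Bf m F).Nondegenerate := by
  classical
  have hr : LinearMap.IsRefl (Bf m F) := fun u v h => by rw [B_symm]; exact h
  show LinearMap.Nondegenerate (Bf m F)
  rw [LinearMap.IsRefl.nondegenerate_iff_separatingLeft hr]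
  intro u hu
  funext j
  rcases j with i | i
  · have := hu (Pi.single (Sum.inr i) 1)
    rw [Bf_apply] at this
    simpa [Pi.single_apply] using this
  · have := hu (Pi.single (Sum.inl i) 1)
    rw [Bf_apply] at this
    simpa [Pi.single_apply] using this

section two
variable [Fintype F] (hF : Fintype.card F = 2)
include hF

theorem F2_cases (a : F) : a = 0 ∨ a = 1 := by
  classical
  by_contra h
  push Not at h
  have h3 : ({0, 1, a} : Finset F).card = 3 := by
    rw [Finset.card_insert_of_notMem, Finset.card_insert_of_notMem, Finset.card_singleton]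
    · simp only [Finset.mem_singleton]; exact h.2.symm
    · simp only [Finset.mem_insert, Finset.mem_singleton, not_or]
      exact ⟨zero_ne_one, h.1.symm⟩
  have := Finset.card_le_univ ({0, 1, a} : Finset F)
  omega

theorem one_add_one : (1 : F) + 1 = 0 := by
  rcases F2_cases hF ((1 : F) + 1) with h | h
  · exact h
  · exfalso
    have : (1 : F) = 0 := by linear_combination h
    exact one_ne_zero this

theorem charP_two : CharP F 2 :=
  CharTwo.of_one_ne_zero_of_two_eq_zero one_ne_zero (by rw [← one_add_one_eq_two]; exact one_add_one hF)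

theorem add_self (a : F) : a + a = 0 := by
  have := one_add_one hF
  linear_combination a * this

theorem vadd_self (v : VV m F) : v + v = 0 := by
  funext j
  exact add_self hF (v j)

theorem B_self (v : VV m F) : Bf m F v v = 0 := by
  have h := Q_add v v
  rw [vadd_self hF, Q_zero, add_self hF, zero_add] at h
  exact h.symm

end two

/-- totally singular subspaces -/
def IsTS (Z : Submodule F (VV m F)) : Prop := ∀ z ∈ Z, Qf m F z = 0

theorem IsTS.B_eq_zero {Z : Submodule F (VV m F)} (hZ : IsTS Z) {a b : VV m F} (ha : a ∈ Z)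
    (hb : b ∈ Z) : Bf m F a b = 0 := by
  have h := Q_add a b
  rw [hZ _ (Z.add_mem ha hb), hZ a ha, hZ b hb, zero_add, zero_add] at h
  exact h.symm

theorem IsTS.le_orthogonal {Z : Submodule F (VV m F)} (hZ : IsTS Z) :
    Z ≤ (Bf m F).orthogonal Z := by
  intro a ha
  rw [LinearMap.BilinForm.mem_orthogonal_iff]
  intro b hb
  exact hZ.B_eq_zero hb ha

theorem finrank_VV : finrank F (VV m F) = 2 * m := by
  rw [Module.finrank_fintype_fun_eq_card, Fintype.card_sum, Fintype.card_fin]; ring

theorem finrank_perp (W : Submodule F (VV m F)) :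
    finrank F ((Bf m F).orthogonal W) = 2 * m - finrank F W := by
  rw [LinearMap.BilinForm.finrank_orthogonal B_nondeg, finrank_VV]

theorem perp_perp (W : Submodule F (VV m F)) :
    (Bf m F).orthogonal ((Bf m F).orthogonal W) = W :=
  LinearMap.BilinForm.orthogonal_orthogonal B_nondeg B_isRefl W

/-- the standard maximal totally singular subspace -/
def M0 (m : ℕ) (F : Type*) [Field F] : Submodule F (VV m F) where
  carrier := {v | ∀ i, v (.inr i) = 0}
  add_mem' := fun {a b} ha hb i => by simp [ha i, hb i]
  zero_mem' := fun i => rfl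
  smul_mem' := fun c a ha i => by simp [ha i]

theorem M0_ts : IsTS (M0 m F) := by
  intro z hz
  simp only [Qf, Cfsg.quadFormPlus]
  apply Finset.sum_eq_zero
  intro i _
  rw [hz i, mul_zero]

theorem finrank_M0 : finrank F (M0 m F) = m := by
  classical
  let π : VV m F →ₗ[F] (Fin m → F) :=
    { toFun := fun v i => v (.inr i)
      map_add' := fun a b => rfl
      map_smul' := fun c a => rfl }
  have hker : LinearMap.ker π = M0 m F := by
    ext v
    simp only [LinearMap.mem_ker]
    constructor
    · intro h i; exact congrFun h i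
    · intro h; funext i; exact h i
  have hsurj : LinearMap.range π = ⊤ := by
    rw [LinearMap.range_eq_top]
    intro f
    refine ⟨fun j => Sum.elim (fun _ => 0) f j, ?_⟩
    funext i; rfl
  have h := LinearMap.finrank_range_add_finrank_ker π
  rw [hsurj, finrank_top, hker, finrank_VV, Module.finrank_fintype_fun_eq_card,
    Fintype.card_fin] at h
  omega

/-- **Extension.** A totally singular subspace of dimension `< m` has a singular vector in
its perp outside it. -/
theorem exists_singular (Z : Submodule F (VV m F)) (hZ : IsTS Z) (hk : finrank F Z + 1 ≤ m) :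
    ∃ u ∈ (Bf m F).orthogonal Z, u ∉ Z ∧ Qf m F u = 0 := by
  set Y := (Bf m F).orthogonal (Z ⊔ M0 m F) with hY
  have h1 : finrank F Y = 2 * m - finrank F (Z ⊔ M0 m F : Submodule F (VV m F)) := finrank_perp _
  have h2 := Submodule.finrank_sup_add_finrank_inf_eq Z (M0 m F)
  rw [finrank_M0] at h2
  have h3 : finrank F (Z ⊔ M0 m F : Submodule F (VV m F)) ≤ 2 * m := by
    rw [← finrank_VV (F := F) (m := m)]; exact Submodule.finrank_le _
  have h4 : finrank F (Z ⊓ M0 m F : Submodule F (VV m F)) < finrank F Y := by omega
  have h5 : ¬ (Y ≤ Z ⊓ M0 m F) := fun hle => by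
    have := Submodule.finrank_mono hle
    omega
  obtain ⟨u, huY, hu⟩ := SetLike.not_le_iff_exists.mp h5
  have huM : u ∈ M0 m F := by
    have h6 : Y ≤ (Bf m F).orthogonal (M0 m F) :=
      LinearMap.BilinForm.orthogonal_le le_sup_right
    have h7 : M0 m F = (Bf m F).orthogonal (M0 m F) := by
      apply Submodule.eq_of_le_of_finrank_le M0_ts.le_orthogonal
      rw [finrank_perp, finrank_M0]; omega
    rw [h7]; exact h6 huY
  refine ⟨u, LinearMap.BilinForm.orthogonal_le le_sup_left huY, fun huZ => hu ⟨huZ, huM⟩,
    M0_ts u huM⟩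

end Cfsg.Agent.Lib.helper73.OPlus
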