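import Cfsg.Agent.Lib.helper73.OPlusA

/-!
# The orthogonal group `O⁺(2m, 2)`: action, invariant totally singular subspaces
-/

set_option autoImplicit false

namespace Cfsg.Agent.Lib.helper73.OPlus

open Module Cfsg.Agent.Lib.helper73.DLin

variable {F : Type*} [Field F] {m : ℕ}

/-- the isometry group -/
abbrev GG (m : ℕ) (F : Type*) [Field F] := Cfsg.isometryGroup F (Cfsg.quadFormPlus m F)

/-- the natural representation -/
def rho (m : ℕ) (F : Type*) [Field F] : GG m F →* Module.End F (VV m F) where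
  toFun g := Matrix.toLin' ((g : GL (Fin m ⊕ Fin m) F) : Matrix (Fin m ⊕ Fin m) (Fin m ⊕ Fin m) F)
  map_one' := by
    simp only [OneMemClass.coe_one, Units.val_one, Matrix.toLin'_one]
    rfl
  map_mul' g h := by
    simp only [Subgroup.coe_mul, Units.val_mul, Matrix.toLin'_mul]
    rfl

theorem rho_apply (g : GG m F) (v : VV m F) :
    rho m F g v = ((g : GL (Fin m ⊕ Fin m) F) : Matrix (Fin m ⊕ Fin m) (Fin m ⊕ Fin m) F).mulVec v :=
  Matrix.toLin'_apply _ _

theorem Q_rho (g : GG m F) (v : VV m F) : Qf m F (rho m F g v) = Qf m F v := by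
  rw [rho_apply]
  exact g.2 v v

theorem B_rho (g : GG m F) (u v : VV m F) : Bf m F (rho m F g u) (rho m F g v) = Bf m F u v := by
  have h1 := Q_add (rho m F g u) (rho m F g v)
  have h2 := Q_add u v
  rw [← map_add, Q_rho, Q_rho, Q_rho] at h1
  rw [h2] at h1
  exact (add_left_cancel h1).symm

theorem rho_injective : Function.Injective (rho m F) := by
  intro g h hgh
  apply Subtype.ext
  apply Units.ext
  exact Matrix.toLin'.injective hgh

/-- build a group element from an involutive linear isometry -/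
def mkG (L : VV m F →ₗ[F] VV m F) (hLL : L ∘ₗ L = LinearMap.id)
    (hQ : ∀ y, Qf m F (L y) = Qf m F y) : GG m F :=
  ⟨⟨LinearMap.toMatrix' L, LinearMap.toMatrix' L,
    by rw [← LinearMap.toMatrix'_comp, hLL, LinearMap.toMatrix'_id],
    by rw [← LinearMap.toMatrix'_comp, hLL, LinearMap.toMatrix'_id]⟩, by
    intro u v
    show Cfsg.quadFormPlus m F ((LinearMap.toMatrix' L).mulVec u) = Cfsg.quadFormPlus m F u
    rw [LinearMap.toMatrix'_mulVec]
    exact hQ u⟩

theorem rho_mkG (L : VV m F →ₗ[F] VV m F) (hLL : L ∘ₗ L = LinearMap.id)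
    (hQ : ∀ y, Qf m F (L y) = Qf m F y) : rho m F (mkG L hLL hQ) = L :=
  Matrix.toLin'_toMatrix' L

section refine
variable {K : Type*} [Field K] {V : Type*} [AddCommGroup V] [Module K V]
variable {P : Type*} [Group P] (ρ : P →* Module.End K V)

/-- **Chain refinement** for a 2-group in characteristic 2. -/
theorem chain_refine [CharP K 2] [Finite P] (hP : IsPGroup 2 P) (A B : Submodule K V)
    (hA : ∀ g : P, ∀ v ∈ A, ρ g v ∈ A) (hB : ∀ g : P, ∀ v ∈ B, ρ g v ∈ B) (hAB : A < B) :
    ∃ u ∈ B, u ∉ A ∧ ∀ g : P, ρ g u - u ∈ A := by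
  haveI : Fact (Nat.Prime 2) := ⟨Nat.prime_two⟩
  set ρB := resHom ρ B hB with hρB
  set A' : Submodule K B := A.comap B.subtype with hA'
  have hA'inv : ∀ g : P, ∀ v ∈ A', ρB g v ∈ A' := by
    intro g v hv
    show ((ρB g v : B) : V) ∈ A
    rw [resHom_apply]
    exact hA g _ hv
  obtain ⟨b, hbB, hbA⟩ := SetLike.exists_of_lt hAB
  have hne : A' ≠ ⊤ := by
    intro h
    have : (⟨b, hbB⟩ : B) ∈ A' := by rw [h]; trivial
    exact hbA this
  haveI : Nontrivial (B ⧸ A') := Submodule.Quotient.nontrivial_iff.mpr hne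
  obtain ⟨q, hq0, hq⟩ := exists_fixed (quotHom ρB A' hA'inv) 2 hP
  obtain ⟨⟨u, hu⟩, rfl⟩ := Submodule.Quotient.mk_surjective A' q
  refine ⟨u, hu, ?_, ?_⟩
  · intro huA
    apply hq0
    rw [Submodule.Quotient.mk_eq_zero]
    exact huA
  · intro g
    have h1 := hq g
    rw [quotHom_apply, Submodule.Quotient.eq] at h1
    exact h1

theorem sup_span_inv (A : Submodule K V) (hA : ∀ g : P, ∀ v ∈ A, ρ g v ∈ A) (u : V)
    (hu : ∀ g : P, ρ g u - u ∈ A) :
    ∀ g : P, ∀ y ∈ A ⊔ Submodule.span K {u}, ρ g y ∈ A ⊔ Submodule.span K {u} := by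
  intro g y hy
  obtain ⟨a, ha, w, hw, rfl⟩ := Submodule.mem_sup.mp hy
  obtain ⟨c, rfl⟩ := Submodule.mem_span_singleton.mp hw
  rw [map_add, map_smul]
  have : ρ g a + c • ρ g u = (ρ g a + c • (ρ g u - u)) + c • u := by
    rw [smul_sub]; abel
  rw [this]
  exact Submodule.add_mem_sup (A.add_mem (hA g a ha) (A.smul_mem c (hu g)))
    (Submodule.smul_mem _ c (Submodule.mem_span_singleton_self u))

theorem finrank_sup_span_le [FiniteDimensional K V] (A : Submodule K V) (u : V) :
    finrank K (A ⊔ Submodule.span K {u} : Submodule K V) ≤ finrank K A + 1 := by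
  have h1 := Submodule.finrank_add_le_finrank_add_finrank A (Submodule.span K {u})
  have h2 : finrank K (Submodule.span K {u}) ≤ 1 := by
    have := finrank_span_le_card (R := K) ({u} : Set V)
    simpa using this
  omega

end refine

end Cfsg.Agent.Lib.helper73.OPlus
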