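import Cfsg.Agent.Lib.helper73.OPlusB

/-!
# Invariant totally singular subspaces for 2-subgroups of `O⁺(2m, 2)`
-/

set_option autoImplicit false

namespace Cfsg.Agent.Lib.helper73.OPlus

open Module Cfsg.Agent.Lib.helper73.DLin

variable {F : Type*} [Field F] {m : ℕ}

theorem perp_inv (T : Subgroup (GG m F)) (W : Submodule F (VV m F))
    (hW : ∀ t : T, ∀ z ∈ W, rho m F (t : GG m F) z ∈ W) :
    ∀ t : T, ∀ y ∈ (Bf m F).orthogonal W, rho m F (t : GG m F) y ∈ (Bf m F).orthogonal W := by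
  intro t y hy
  rw [LinearMap.BilinForm.mem_orthogonal_iff] at hy ⊢
  intro z hz
  have h1 : z = rho m F (t : GG m F) (rho m F ((t⁻¹ : T) : GG m F) z) := by
    rw [← Module.End.mul_apply, ← map_mul]
    simp
  rw [h1, B_rho]
  exact hy _ (hW t⁻¹ z hz)

section two
variable [Fintype F] (hF : Fintype.card F = 2)
include hF

theorem iso_sup (A : Submodule F (VV m F)) (hA : ∀ x ∈ A, ∀ y ∈ A, Bf m F x y = 0)
    (v : VV m F) (hv : v ∈ (Bf m F).orthogonal A) :
    ∀ x ∈ A ⊔ Submodule.span F {v}, ∀ y ∈ A ⊔ Submodule.span F {v}, Bf m F x y = 0 := by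
  intro x hx y hy
  obtain ⟨a, ha, w, hw, rfl⟩ := Submodule.mem_sup.mp hx
  obtain ⟨c, rfl⟩ := Submodule.mem_span_singleton.mp hw
  obtain ⟨a', ha', w', hw', rfl⟩ := Submodule.mem_sup.mp hy
  obtain ⟨c', rfl⟩ := Submodule.mem_span_singleton.mp hw'
  have h1 : Bf m F a v = 0 := (LinearMap.BilinForm.mem_orthogonal_iff.mp hv) a ha
  have h2 : Bf m F v a' = 0 := by
    rw [B_symm]; exact (LinearMap.BilinForm.mem_orthogonal_iff.mp hv) a' ha'
  simp only [map_add, map_smul, LinearMap.add_apply, LinearMap.smul_apply, hA a ha a' ha', h1, h2,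
    B_self hF v, smul_zero, add_zero]

theorem exists_inv_ts (T : Subgroup (GG m F)) [Finite T] (hT : IsPGroup 2 T) (k : ℕ)
    (hk : k + 1 ≤ m) :
    ∃ Z : Submodule F (VV m F), IsTS Z ∧ (∀ t : T, ∀ z ∈ Z, rho m F (t : GG m F) z ∈ Z) ∧
      finrank F Z = k := by
  haveI := charP_two hF
  set ρT : T →* Module.End F (VV m F) := (rho m F).comp T.subtype with hρT
  induction k with
  | zero =>
    refine ⟨⊥, ?_, ?_, finrank_bot F (VV m F)⟩
    · intro z hz; rw [Submodule.mem_bot] at hz; rw [hz]; exact Q_zero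
    · intro t z hz; rw [Submodule.mem_bot] at hz ⊢; rw [hz, map_zero]
  | succ k ih =>
    obtain ⟨Z, hZ, hZinv, hZk⟩ := ih (by omega)
    set P := (Bf m F).orthogonal Z with hPdef
    have hPinv := perp_inv T Z hZinv
    have hZP : Z < P := by
      refine lt_of_le_of_ne hZ.le_orthogonal ?_
      intro h
      have h1 := finrank_perp (F := F) (m := m) Z
      rw [← hPdef, ← h] at h1
      omega
    obtain ⟨v, hvP, hvZ, hv⟩ := chain_refine ρT hT Z P hZinv hPinv hZP
    set Z₁ := Z ⊔ Submodule.span F {v} with hZ₁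
    have hZ₁inv : ∀ t : T, ∀ y ∈ Z₁, rho m F (t : GG m F) y ∈ Z₁ :=
      sup_span_inv ρT Z hZinv v hv
    have hZ₁iso : ∀ x ∈ Z₁, ∀ y ∈ Z₁, Bf m F x y = 0 :=
      iso_sup hF Z (fun x hx y hy => hZ.B_eq_zero hx hy) v hvP
    have hZ₁fin : finrank F Z₁ ≤ k + 1 := by
      have h0 : finrank F Z₁ ≤ finrank F Z + 1 := finrank_sup_span_le Z v
      omega
    set P₁ := (Bf m F).orthogonal Z₁ with hP₁def
    have hP₁inv := perp_inv T Z₁ hZ₁inv
    have hZ₁P₁ : Z₁ < P₁ := by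
      refine lt_of_le_of_ne ?_ ?_
      · intro a ha
        rw [LinearMap.BilinForm.mem_orthogonal_iff]
        intro b hb
        exact hZ₁iso b hb a ha
      · intro h
        have h1 := finrank_perp (F := F) (m := m) Z₁
        rw [← hP₁def, ← h] at h1
        omega
    obtain ⟨u, huP₁, huZ₁, hu⟩ := chain_refine ρT hT Z₁ P₁ hZ₁inv hP₁inv hZ₁P₁
    set Z₂ := Z₁ ⊔ Submodule.span F {u} with hZ₂
    have hZ₂inv : ∀ t : T, ∀ y ∈ Z₂, rho m F (t : GG m F) y ∈ Z₂ :=
      sup_span_inv ρT Z₁ hZ₁inv u hu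
    have hZ₂iso : ∀ x ∈ Z₂, ∀ y ∈ Z₂, Bf m F x y = 0 := iso_sup hF Z₁ hZ₁iso u huP₁
    let K : Submodule F (VV m F) :=
      { carrier := {a | a ∈ Z₂ ∧ Qf m F a = 0}
        add_mem' := fun {a b} ha hb => ⟨Z₂.add_mem ha.1 hb.1, by
          rw [Q_add, ha.2, hb.2, hZ₂iso a ha.1 b hb.1]; simp⟩
        zero_mem' := ⟨Z₂.zero_mem, Q_zero⟩
        smul_mem' := fun c a ha => ⟨Z₂.smul_mem c ha.1, by rw [Q_smul, ha.2, mul_zero]⟩ }
    have hKmem : ∀ a, a ∈ K ↔ (a ∈ Z₂ ∧ Qf m F a = 0) := fun a => Iff.rfl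
    have hKts : IsTS K := fun z hz => hz.2
    have hKinv : ∀ t : T, ∀ y ∈ K, rho m F (t : GG m F) y ∈ K :=
      fun t y hy => ⟨hZ₂inv t y hy.1, by rw [Q_rho]; exact hy.2⟩
    have hZ₁Z₂ : Z₁ ≤ Z₂ := le_sup_left
    have hZZ₁ : Z ≤ Z₁ := le_sup_left
    have hvZ₁ : v ∈ Z₁ := Submodule.mem_sup_right (Submodule.mem_span_singleton_self v)
    have huZ₂ : u ∈ Z₂ := Submodule.mem_sup_right (Submodule.mem_span_singleton_self u)
    have hZK : Z < K := by
      refine lt_of_le_of_ne (fun z hz => ⟨hZ₁Z₂ (hZZ₁ hz), hZ z hz⟩) ?_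
      intro h
      by_cases h1 : Qf m F v = 0
      · apply hvZ
        rw [h]
        exact ⟨hZ₁Z₂ hvZ₁, h1⟩
      by_cases h2 : Qf m F u = 0
      · apply huZ₁
        apply hZZ₁
        rw [h]
        exact ⟨huZ₂, h2⟩
      have h1' : Qf m F v = 1 := (F2_cases hF _).resolve_left h1
      have h2' : Qf m F u = 1 := (F2_cases hF _).resolve_left h2
      have h3 : Qf m F (u + v) = 0 := by
        rw [Q_add, h1', h2', one_add_one hF, zero_add, B_symm]
        exact (LinearMap.BilinForm.mem_orthogonal_iff.mp huP₁) v hvZ₁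
      have h4 : u + v ∈ Z := by
        rw [h]
        exact ⟨Z₂.add_mem huZ₂ (hZ₁Z₂ hvZ₁), h3⟩
      apply huZ₁
      have : u = (u + v) - v := by abel
      rw [this]
      exact Z₁.sub_mem (hZZ₁ h4) hvZ₁
    obtain ⟨s, hsK, hsZ, hs⟩ := chain_refine ρT hT Z K hZinv hKinv hZK
    refine ⟨Z ⊔ Submodule.span F {s}, ?_, sup_span_inv ρT Z hZinv s hs, ?_⟩
    · intro z hz
      apply hKts
      exact (sup_le hZK.le ((Submodule.span_singleton_le_iff_mem s K).mpr hsK)) hz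
    · have h1 : finrank F (Z ⊔ Submodule.span F {s} : Submodule F (VV m F)) ≤ finrank F Z + 1 :=
        finrank_sup_span_le Z s
      have h2 : Z < Z ⊔ Submodule.span F {s} := by
        refine lt_of_le_of_ne le_sup_left ?_
        intro h
        apply hsZ
        rw [h]
        exact Submodule.mem_sup_right (Submodule.mem_span_singleton_self s)
      have h3 := Submodule.finrank_lt_finrank_of_lt h2
      omega

end two

end Cfsg.Agent.Lib.helper73.OPlus
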