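import Cfsg.Agent.Lib.helper73.OPlusC

/-!
# Sylow 2-subgroups of `O⁺(2m, 2)` pairwise meet nontrivially
-/

set_option autoImplicit false

namespace Cfsg.Agent.Lib.helper73.OPlus

open Module Cfsg.Agent.Lib.helper73.DLin
open scoped Pointwise

variable {F : Type*} [Field F] {m : ℕ}

section two
variable [Fintype F] (hF : Fintype.card F = 2)
include hF

/-- A linear isometry fixing pointwise a totally singular subspace of dimension `m - 1`
has order dividing 4. -/
theorem cent_four_lin (Z : Submodule F (VV m F)) (hZ : IsTS Z) (hdim : finrank F Z + 1 = m)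
    (L : VV m F →ₗ[F] VV m F) (hLQ : ∀ y, Qf m F (L y) = Qf m F y)
    (hLB : ∀ x y, Bf m F (L x) (L y) = Bf m F x y) (hLZ : ∀ z ∈ Z, L z = z) (v : VV m F) :
    L (L (L (L v))) = v := by
  obtain ⟨u₀, hu₀P, hu₀Z, hu₀Q⟩ := exists_singular Z hZ (by omega)
  set P := (Bf m F).orthogonal Z with hPdef
  have hPfin : finrank F P = m + 1 := by rw [hPdef, finrank_perp]; omega
  have hZP : Z ≤ P := hZ.le_orthogonal
  set M := Z ⊔ Submodule.span F {u₀} with hM
  have hMP : M ≤ P := sup_le hZP ((Submodule.span_singleton_le_iff_mem _ _).mpr hu₀P)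
  have hMfin : finrank F M ≤ m := by
    have h0 : finrank F M ≤ finrank F Z + 1 := finrank_sup_span_le Z u₀
    omega
  obtain ⟨w₀, hw₀P, hw₀M⟩ : ∃ w ∈ P, w ∉ M := by
    have : ¬ (P ≤ M) := fun hle => by
      have := Submodule.finrank_mono hle
      omega
    exact SetLike.not_le_iff_exists.mp this
  have hdec₀ : ∀ y ∈ P, ∃ z ∈ Z, ∃ c c' : F, y = z + c • u₀ + c' • w₀ := by
    have hPeq : M ⊔ Submodule.span F {w₀} = P := by
      apply Submodule.eq_of_le_of_finrank_le
        (sup_le hMP ((Submodule.span_singleton_le_iff_mem _ _).mpr hw₀P))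
      have h1 : Z < M := by
        refine lt_of_le_of_ne le_sup_left ?_
        intro h
        apply hu₀Z
        rw [h]
        exact Submodule.mem_sup_right (Submodule.mem_span_singleton_self u₀)
      have h2 : M < M ⊔ Submodule.span F {w₀} := by
        refine lt_of_le_of_ne le_sup_left ?_
        intro h
        apply hw₀M
        rw [h]
        exact Submodule.mem_sup_right (Submodule.mem_span_singleton_self w₀)
      have h3 := Submodule.finrank_lt_finrank_of_lt h1
      have h4 := Submodule.finrank_lt_finrank_of_lt h2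
      omega
    intro y hy
    rw [← hPeq] at hy
    obtain ⟨a, ha, b, hb, rfl⟩ := Submodule.mem_sup.mp hy
    obtain ⟨z, hz, b', hb', rfl⟩ := Submodule.mem_sup.mp ha
    obtain ⟨c, rfl⟩ := Submodule.mem_span_singleton.mp hb'
    obtain ⟨c', rfl⟩ := Submodule.mem_span_singleton.mp hb
    exact ⟨z, hz, c, c', rfl⟩
  have hBZ : ∀ z ∈ Z, ∀ y ∈ P, Bf m F z y = 0 :=
    fun z hz y hy => (LinearMap.BilinForm.mem_orthogonal_iff.mp hy) z hz
  have hB₀ : Bf m F u₀ w₀ = 1 := by
    apply (F2_cases hF _).resolve_left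
    intro h0
    apply hu₀Z
    rw [← perp_perp Z, ← hPdef, LinearMap.BilinForm.mem_orthogonal_iff]
    intro y hy
    obtain ⟨z, hz, c, c', rfl⟩ := hdec₀ y hy
    simp only [map_add, map_smul, LinearMap.add_apply, LinearMap.smul_apply]
    rw [hBZ z hz u₀ hu₀P, B_self hF, B_symm w₀ u₀, h0]
    simp
  set w₁ := w₀ + Qf m F w₀ • u₀ with hw₁
  have hw₁P : w₁ ∈ P := P.add_mem hw₀P (P.smul_mem _ hu₀P)
  have hB₁ : Bf m F u₀ w₁ = 1 := by
    rw [hw₁, map_add, map_smul, B_self hF, smul_zero, add_zero, hB₀]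
  have hQw₁ : Qf m F w₁ = 0 := by
    rw [hw₁, Q_add, Q_smul, hu₀Q, mul_zero, add_zero, map_smul, B_symm, hB₀, smul_eq_mul,
      mul_one]
    exact add_self hF _
  have hdec : ∀ y ∈ P, ∃ z ∈ Z, ∃ c c' : F, y = z + c • u₀ + c' • w₁ := by
    intro y hy
    obtain ⟨z, hz, c, c', rfl⟩ := hdec₀ y hy
    refine ⟨z, hz, c + c' * Qf m F w₀, c', ?_⟩
    rw [hw₁, smul_add, add_smul, mul_smul]
    have h0 := vadd_self hF (c' • Qf m F w₀ • u₀)
    calc z + c • u₀ + c' • w₀ = z + c • u₀ + c' • w₀ + 0 := by rw [add_zero]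
      _ = z + c • u₀ + c' • w₀ + (c' • Qf m F w₀ • u₀ + c' • Qf m F w₀ • u₀) := by rw [h0]
      _ = _ := by abel
  have hQdec : ∀ z ∈ Z, ∀ c c' : F, Qf m F (z + c • u₀ + c' • w₁) = c * c' := by
    intro z hz c c'
    rw [add_assoc, Q_add, hZ z hz, zero_add, Q_add, Q_smul, Q_smul, hu₀Q, hQw₁]
    simp only [map_add, map_smul, LinearMap.smul_apply, smul_eq_mul,
      mul_zero, zero_add]
    rw [hB₁, hBZ z hz u₀ hu₀P, hBZ z hz w₁ hw₁P]
    ring
  have hLP : ∀ y ∈ P, L y ∈ P := by
    intro y hy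
    rw [hPdef, LinearMap.BilinForm.mem_orthogonal_iff]
    intro z hz
    have : Bf m F z (L y) = Bf m F (L z) (L y) := by rw [hLZ z hz]
    rw [this, hLB]
    exact hBZ z hz y hy
  obtain ⟨z₁, hz₁, c₁, d₁, e₁⟩ := hdec (L u₀) (hLP u₀ hu₀P)
  obtain ⟨z₂, hz₂, c₂, d₂, e₂⟩ := hdec (L w₁) (hLP w₁ hw₁P)
  have q1 : c₁ * d₁ = 0 := by rw [← hQdec z₁ hz₁, ← e₁, hLQ, hu₀Q]
  have q2 : c₂ * d₂ = 0 := by rw [← hQdec z₂ hz₂, ← e₂, hLQ, hQw₁]
  have q3 : (c₁ + c₂) * (d₁ + d₂) = 1 := by
    have h1 : L (u₀ + w₁) = (z₁ + z₂) + (c₁ + c₂) • u₀ + (d₁ + d₂) • w₁ := by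
      rw [map_add, e₁, e₂, add_smul, add_smul]; abel
    have h2 : Qf m F (u₀ + w₁) = 1 := by rw [Q_add, hu₀Q, hQw₁, hB₁]; simp
    rw [← hQdec (z₁ + z₂) (Z.add_mem hz₁ hz₂), ← h1, hLQ, h2]
  have q4 : c₁ * d₂ + c₂ * d₁ = 1 := by linear_combination q3 - q1 - q2
  have key : L (L u₀) - u₀ ∈ Z ∧ L (L w₁) - w₁ ∈ Z := by
    rcases F2_cases hF c₁ with hc₁ | hc₁
    · rw [hc₁, zero_mul, zero_add] at q4
      have hc₂ : c₂ = 1 := (F2_cases hF c₂).resolve_left
        (fun h => by rw [h, zero_mul] at q4; exact zero_ne_one q4)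
      have hd₁ : d₁ = 1 := (F2_cases hF d₁).resolve_left
        (fun h => by rw [h, mul_zero] at q4; exact zero_ne_one q4)
      have hd₂ : d₂ = 0 := by rw [hc₂, one_mul] at q2; exact q2
      rw [hc₁, hd₁, zero_smul, add_zero, one_smul] at e₁
      rw [hc₂, hd₂, zero_smul, add_zero, one_smul] at e₂
      constructor
      · rw [e₁, map_add, hLZ z₁ hz₁, e₂]
        have : z₁ + (z₂ + u₀) - u₀ = z₁ + z₂ := by abel
        rw [this]; exact Z.add_mem hz₁ hz₂
      · rw [e₂, map_add, hLZ z₂ hz₂, e₁]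
        have : z₂ + (z₁ + w₁) - w₁ = z₂ + z₁ := by abel
        rw [this]; exact Z.add_mem hz₂ hz₁
    · have hd₁ : d₁ = 0 := by rw [hc₁, one_mul] at q1; exact q1
      rw [hc₁, hd₁, one_mul, mul_zero, add_zero] at q4
      have hc₂ : c₂ = 0 := by rw [q4, mul_one] at q2; exact q2
      rw [hc₁, hd₁, zero_smul, add_zero, one_smul] at e₁
      rw [hc₂, q4, zero_smul, add_zero, one_smul] at e₂
      constructor
      · rw [e₁, map_add, hLZ z₁ hz₁, e₁]
        have : z₁ + (z₁ + u₀) - u₀ = z₁ + z₁ := by abel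
        rw [this]; exact Z.add_mem hz₁ hz₁
      · rw [e₂, map_add, hLZ z₂ hz₂, e₂]
        have : z₂ + (z₂ + w₁) - w₁ = z₂ + z₂ := by abel
        rw [this]; exact Z.add_mem hz₂ hz₂
  have hP2 : ∀ y ∈ P, L (L y) - y ∈ Z := by
    intro y hy
    obtain ⟨z, hz, c, c', rfl⟩ := hdec y hy
    have : L (L (z + c • u₀ + c' • w₁)) - (z + c • u₀ + c' • w₁) =
        c • (L (L u₀) - u₀) + c' • (L (L w₁) - w₁) := by
      simp only [map_add, map_smul, hLZ z hz, smul_sub]; abel
    rw [this]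
    exact Z.add_mem (Z.smul_mem _ key.1) (Z.smul_mem _ key.2)
  have ha : L v - v ∈ P := by
    rw [hPdef, LinearMap.BilinForm.mem_orthogonal_iff]
    intro z hz
    rw [map_sub]
    have : Bf m F z (L v) = Bf m F (L z) (L v) := by rw [hLZ z hz]
    rw [this, hLB, sub_self]
  have hz' := hP2 _ ha
  have h1 := hLZ _ hz'
  simp only [map_sub] at h1
  have h2 : L (L (L (L v))) - v = (L (L (L (L v))) - L (L (L v)) - (L (L v) - L v)) -
      (L (L (L v)) - L (L v) - (L v - v)) + (L (L (L v)) + L (L (L v))) - (L v + L v) := by abel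
  rw [h1, sub_self, zero_add, vadd_self hF, vadd_self hF, sub_zero] at h2
  exact sub_eq_zero.mp h2

theorem cent_four (Z : Submodule F (VV m F)) (hZ : IsTS Z) (hdim : finrank F Z + 1 = m)
    (g : GG m F) (hg : ∀ z ∈ Z, rho m F g z = z) : g ^ 4 = 1 := by
  apply rho_injective
  apply LinearMap.ext
  intro v
  have h := cent_four_lin hF Z hZ hdim (rho m F g) (Q_rho g) (B_rho g) hg v
  rw [map_one, map_pow]
  show ((rho m F g) ^ (1 + 1 + 1 + 1)) v = v
  simp only [pow_succ, pow_zero, one_mul, Module.End.mul_apply]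
  exact h

/-- Every subspace of codimension at least 2 is fixed pointwise by a nontrivial isometry. -/
theorem exists_fix (Z' : Submodule F (VV m F)) (h : finrank F Z' + 2 ≤ 2 * m) :
    ∃ g : GG m F, g ≠ 1 ∧ ∀ z ∈ Z', rho m F g z = z := by
  set Y := (Bf m F).orthogonal Z' with hY
  have hYfin : 2 ≤ finrank F Y := by rw [hY, finrank_perp]; omega
  have hYZ : ∀ y ∈ Y, ∀ z ∈ Z', Bf m F y z = 0 := fun y hy z hz => by
    rw [B_symm]; exact (LinearMap.BilinForm.mem_orthogonal_iff.mp hy) z hz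
  obtain ⟨a, haY, ha0⟩ : ∃ a ∈ Y, a ≠ 0 := by
    have : Y ≠ ⊥ := by
      intro h0
      rw [h0, finrank_bot] at hYfin
      omega
    exact Submodule.exists_mem_ne_zero_of_ne_bot this
  obtain ⟨b, hbY, hba⟩ : ∃ b ∈ Y, b ∉ Submodule.span F {a} := by
    have : ¬ (Y ≤ Submodule.span F {a}) := fun hle => by
      have h1 := Submodule.finrank_mono hle
      rw [finrank_span_singleton ha0] at h1
      omega
    exact SetLike.not_le_iff_exists.mp this
  have hsep : ∀ v : VV m F, v ≠ 0 → ∃ y, Bf m F v y ≠ 0 := by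
    intro v hv
    by_contra hcon
    push Not at hcon
    exact hv ((B_nondeg (F := F) (m := m)).1 v hcon)
  -- reflections
  have refl : ∀ v ∈ Y, Qf m F v = 1 → ∃ g : GG m F, g ≠ 1 ∧ ∀ z ∈ Z', rho m F g z = z := by
    intro v hvY hvQ
    have hv0 : v ≠ 0 := by
      intro h0
      rw [h0, Q_zero] at hvQ
      exact zero_ne_one hvQ
    obtain ⟨L, hLa⟩ : ∃ L : VV m F →ₗ[F] VV m F, ∀ y, L y = y + Bf m F v y • v :=
      ⟨LinearMap.id + (Bf m F v).smulRight v, fun y => rfl⟩
    have hLL : L ∘ₗ L = LinearMap.id := by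
      apply LinearMap.ext
      intro y
      show L (L y) = y
      rw [hLa (L y), hLa y, map_add, map_smul, B_self hF v, smul_zero, add_zero, add_assoc,
        vadd_self hF, add_zero]
    have hLQ : ∀ y, Qf m F (L y) = Qf m F y := by
      intro y
      rw [hLa, Q_add, Q_smul, hvQ, map_smul, smul_eq_mul, B_symm y v]
      have := add_self hF (Bf m F v y * Bf m F v y)
      linear_combination this
    refine ⟨mkG L hLL hLQ, ?_, ?_⟩
    · intro h1
      obtain ⟨y, hy⟩ := hsep v hv0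
      have h2 : rho m F (mkG L hLL hLQ) y = y := by rw [h1, map_one]; rfl
      rw [rho_mkG, hLa] at h2
      have h3 : Bf m F v y • v = 0 := by
        have : y + Bf m F v y • v = y + 0 := by rw [h2, add_zero]
        exact add_left_cancel this
      rcases smul_eq_zero.mp h3 with h4 | h4
      · exact hy h4
      · exact hv0 h4
    · intro z hz
      rw [rho_mkG, hLa, hYZ v hvY z hz, zero_smul, add_zero]
  by_cases hQa : Qf m F a = 0
  swap
  · exact refl a haY ((F2_cases hF _).resolve_left hQa)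
  by_cases hQb : Qf m F b = 0
  swap
  · exact refl b hbY ((F2_cases hF _).resolve_left hQb)
  by_cases hab : Bf m F a b = 0
  swap
  · refine refl (a + b) (Y.add_mem haY hbY) ?_
    rw [Q_add, hQa, hQb, zero_add, zero_add]
    exact (F2_cases hF _).resolve_left hab
  -- Siegel element
  obtain ⟨L, hLa⟩ : ∃ L : VV m F →ₗ[F] VV m F,
      ∀ y, L y = y + Bf m F a y • b + Bf m F b y • a :=
    ⟨LinearMap.id + (Bf m F a).smulRight b + (Bf m F b).smulRight a, fun y => rfl⟩
  have hLL : L ∘ₗ L = LinearMap.id := by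
    apply LinearMap.ext
    intro y
    show L (L y) = y
    have h1 : Bf m F a (L y) = Bf m F a y := by
      rw [hLa, map_add, map_add, map_smul, map_smul, hab, B_self hF a]; simp
    have h2 : Bf m F b (L y) = Bf m F b y := by
      rw [hLa, map_add, map_add, map_smul, map_smul, B_self hF b, B_symm b a, hab]; simp
    rw [hLa (L y), h1, h2, hLa y]
    have e1 := vadd_self hF (Bf m F a y • b)
    have e2 := vadd_self hF (Bf m F b y • a)
    have : y + Bf m F a y • b + Bf m F b y • a + Bf m F a y • b + Bf m F b y • a =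
        y + (Bf m F a y • b + Bf m F a y • b) + (Bf m F b y • a + Bf m F b y • a) := by abel
    rw [this, e1, e2, add_zero, add_zero]
  have hLQ : ∀ y, Qf m F (L y) = Qf m F y := by
    intro y
    rw [hLa, add_assoc, Q_add, Q_add, Q_smul, Q_smul, hQa, hQb]
    simp only [map_add, map_smul, LinearMap.smul_apply, smul_eq_mul,
      mul_zero, zero_add]
    rw [B_symm b a, hab, B_symm y b, B_symm y a]
    have := add_self hF (Bf m F a y * Bf m F b y)
    linear_combination this
  refine ⟨mkG L hLL hLQ, ?_, ?_⟩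
  · intro h1
    obtain ⟨y, hy⟩ := hsep a ha0
    have h2 : rho m F (mkG L hLL hLQ) y = y := by rw [h1, map_one]; rfl
    rw [rho_mkG, hLa] at h2
    have h3 : Bf m F a y • b + Bf m F b y • a = 0 := by
      have : y + (Bf m F a y • b + Bf m F b y • a) = y + 0 := by rw [← add_assoc, h2, add_zero]
      exact add_left_cancel this
    have h4 : Bf m F a y = 1 := (F2_cases hF _).resolve_left hy
    rw [h4, one_smul] at h3
    apply hba
    rw [Submodule.mem_span_singleton]
    exact ⟨-Bf m F b y, by rw [neg_smul]; exact (eq_neg_of_add_eq_zero_left h3).symm⟩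
  · intro z hz
    rw [rho_mkG, hLa, hYZ a haY z hz, hYZ b hbY z hz, zero_smul, zero_smul, add_zero, add_zero]

/-- **Zenkov for `O⁺(2m, 2)`.** -/
theorem zenkov_oplus (hm : 1 ≤ m) (H : Sylow 2 (GG m F)) (x : GG m F) :
    (H : Subgroup (GG m F)) ⊓ MulAut.conj x • (H : Subgroup (GG m F)) ≠ ⊥ := by
  classical
  haveI : Fact (Nat.Prime 2) := ⟨Nat.prime_two⟩
  haveI : Finite (GL (Fin m ⊕ Fin m) F) :=
    Finite.of_injective (fun g => (g : Matrix (Fin m ⊕ Fin m) (Fin m ⊕ Fin m) F)) Units.val_injective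
  obtain ⟨Z, hZ, hZinv, hZk⟩ :=
    exists_inv_ts hF (H : Subgroup (GG m F)) H.isPGroup' (m - 1) (by omega)
  let C : Subgroup (GG m F) :=
    { carrier := {g | ∀ z ∈ Z, rho m F g z = z}
      mul_mem' := fun {a b} ha hb z hz => by
        rw [map_mul, Module.End.mul_apply, hb z hz, ha z hz]
      one_mem' := fun z hz => by rw [map_one]; rfl
      inv_mem' := fun {a} ha z hz => by
        have := rho_inv_apply (rho m F) a z
        rw [ha z hz] at this
        exact this }
  have hCmem : ∀ g, g ∈ C ↔ ∀ z ∈ Z, rho m F g z = z := fun g => Iff.rfl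
  have hCp : IsPGroup 2 C := by
    intro ⟨g, hg⟩
    refine ⟨2, ?_⟩
    apply Subtype.ext
    exact cent_four hF Z hZ (by omega) g hg
  have key : ∀ h' ∈ (H : Subgroup (GG m F)), ∀ c ∈ C, h' * c * h'⁻¹ ∈ C := by
    intro h' hh' c hc z hz
    rw [map_mul, map_mul, Module.End.mul_apply, Module.End.mul_apply]
    have h1 : rho m F h'⁻¹ z ∈ Z := hZinv ⟨h'⁻¹, (H : Subgroup (GG m F)).inv_mem hh'⟩ z hz
    rw [hc _ h1]
    exact rho_apply_inv (rho m F) h' z
  have hnorm : (H : Subgroup (GG m F)) ≤ Subgroup.normalizer (C : Set (GG m F)) := by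
    intro h hh
    rw [Subgroup.mem_normalizer_iff]
    intro c
    constructor
    · exact key h hh c
    · intro hc
      have h1 := key h⁻¹ ((H : Subgroup (GG m F)).inv_mem hh) _ hc
      have h2 : h⁻¹ * (h * c * h⁻¹) * h⁻¹⁻¹ = c := by group
      rwa [h2] at h1
  have hCH : C ≤ (H : Subgroup (GG m F)) := by
    have h1 := IsPGroup.to_sup_of_normal_right' H.isPGroup' hCp hnorm
    have h2 := H.is_maximal' h1 le_sup_left
    rw [← h2]
    exact le_sup_right
  set Z' := Z ⊔ Z.map (rho m F x) with hZ'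
  have hZ'fin : finrank F Z' + 2 ≤ 2 * m := by
    have h1 : finrank F Z' ≤ finrank F Z + finrank F (Z.map (rho m F x)) :=
      Submodule.finrank_add_le_finrank_add_finrank Z (Z.map (rho m F x))
    have h2 := Submodule.finrank_map_le (rho m F x) Z
    omega
  obtain ⟨g, hg1, hgfix⟩ := exists_fix hF Z' hZ'fin
  have hgC : g ∈ C := fun z hz => hgfix z (Submodule.mem_sup_left hz)
  have hgC' : x⁻¹ * g * x ∈ C := by
    intro z hz
    rw [map_mul, map_mul, Module.End.mul_apply, Module.End.mul_apply,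
      hgfix _ (Submodule.mem_sup_right (Submodule.mem_map_of_mem hz))]
    exact rho_inv_apply (rho m F) x z
  intro hbot
  have hmem : g ∈ (H : Subgroup (GG m F)) ⊓ MulAut.conj x • (H : Subgroup (GG m F)) := by
    have h2 : g ∈ MulAut.conj x • (H : Subgroup (GG m F)) := by
      rw [Subgroup.mem_pointwise_smul_iff_inv_smul_mem]
      have : (MulAut.conj x)⁻¹ • g = x⁻¹ * g * x := by simp [MulAut.smul_def]
      rw [this]
      exact hCH hgC'
    exact ⟨hCH hgC, h2⟩
  rw [hbot, Subgroup.mem_bot] at hmem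
  exact hg1 hmem

end two

end Cfsg.Agent.Lib.helper73.OPlus
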