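import Mathlib

set_option autoImplicit false

/-!
Averaging over a subgroup that is transitive on an orbit which spans a representation.
-/

namespace Cfsg.Agent.Lib.helper73

open scoped BigOperators

/-- Let `ρ` be a representation of a finite group `H` on `V`, `a : V` a vector whose `H`-orbit `O`
spans `V`, and `K ≤ H` a subgroup which is transitive on `O`, such that `|K|` and `|O|` are
invertible in `k`.  Then there is an `H`-invariant vector `s` such that every `K`-invariant vector
is a multiple of `s`. -/
theorem exists_invariant_spanning {k V H : Type*} [Field k] [AddCommGroup V] [Module k V]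
    [Group H] [Finite H] (ρ : Representation k H V) (a : V)
    (hspan : Submodule.span k (Set.range fun h : H => ρ h a) = ⊤)
    (K : Subgroup H) (htrans : ∀ g : H, ∃ h ∈ K, ρ h a = ρ g a)
    (hK : (Nat.card K : k) ≠ 0) (hO : (Nat.card (Set.range fun h : H => ρ h a) : k) ≠ 0) :
    ∃ s : V, (∀ g : H, ρ g s = s) ∧ ∀ v : V, (∀ h ∈ K, ρ h v = v) → ∃ c : k, v = c • s := by
  classical
  have : Fintype H := Fintype.ofFinite H
  have : Fintype K := Fintype.ofFinite K
  let A : V →ₗ[k] V := ∑ h : K, ρ (h : H)
  have hA : ∀ v, A v = ∑ h : K, ρ (h : H) v := fun v => by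
    simp [A, LinearMap.sum_apply]
  let s : V := A a
  -- (i)
  have h1 : ∀ g : H, A (ρ g a) = s := by
    intro g
    obtain ⟨h0, hh0, hh0'⟩ := htrans g
    rw [← hh0', hA]
    show _ = A a
    rw [hA]
    refine Fintype.sum_equiv (Equiv.mulRight (⟨h0, hh0⟩ : K)) _ _ ?_
    intro h
    simp [map_mul]
  -- (ii)
  have h2 : ∀ v : V, A v ∈ Submodule.span k ({s} : Set V) := by
    intro v
    have hv : v ∈ Submodule.span k (Set.range fun h : H => ρ h a) := by
      rw [hspan]; exact Submodule.mem_top
    have hle : Submodule.span k (Set.range fun h : H => ρ h a) ≤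
        (Submodule.span k ({s} : Set V)).comap A := by
      rw [Submodule.span_le]
      rintro _ ⟨g, rfl⟩
      show A (ρ g a) ∈ Submodule.span k ({s} : Set V)
      rw [h1 g]
      exact Submodule.subset_span rfl
    exact hle hv
  -- (iii)
  have h3 : ∀ v : V, (∀ h ∈ K, ρ h v = v) → A v = (Nat.card K : k) • v := by
    intro v hv
    rw [hA]
    have : ∀ h : K, ρ (h : H) v = v := fun h => hv h h.2
    simp only [this]
    rw [Finset.sum_const, Finset.card_univ, Nat.card_eq_fintype_card, Nat.cast_smul_eq_nsmul]
  -- (iv)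
  let Ofin : Finset V := (Set.range fun h : H => ρ h a).toFinset
  let t : V := ∑ u ∈ Ofin, u
  have ht : ∀ g : H, ρ g t = t := by
    intro g
    show ρ g (∑ u ∈ Ofin, u) = ∑ u ∈ Ofin, u
    rw [map_sum]
    have hinj : Function.Injective (ρ g) := by
      intro x y hxy
      have := congrArg (ρ g⁻¹) hxy
      simpa [← Module.End.mul_apply, ← map_mul] using this
    have himg : Ofin.image (ρ g) = Ofin := by
      ext w
      simp only [Finset.mem_image, Ofin, Set.mem_toFinset, Set.mem_range]
      constructor
      · rintro ⟨_, ⟨h, rfl⟩, rfl⟩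
        exact ⟨g * h, by simp [map_mul]⟩
      · rintro ⟨h, rfl⟩
        exact ⟨ρ (g⁻¹ * h) a, ⟨g⁻¹ * h, rfl⟩, by simp [← Module.End.mul_apply, ← map_mul]⟩
    conv_rhs => rw [← himg]
    rw [Finset.sum_image]
    intro x _ y _ hxy
    exact hinj hxy
  have h4 : A t = (Nat.card K : k) • t := h3 t (fun h _ => ht h)
  have h5 : A t = (Nat.card (Set.range fun h : H => ρ h a) : k) • s := by
    show A (∑ u ∈ Ofin, u) = _
    rw [map_sum]
    have : ∀ u ∈ Ofin, A u = s := by
      intro u hu
      simp only [Ofin, Set.mem_toFinset, Set.mem_range] at hu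
      obtain ⟨g, rfl⟩ := hu
      exact h1 g
    rw [Finset.sum_congr rfl this, Finset.sum_const, Set.toFinset_card,
      ← Nat.card_eq_fintype_card, Nat.cast_smul_eq_nsmul]
  have h6 : s = ((Nat.card (Set.range fun h : H => ρ h a) : k)⁻¹ * (Nat.card K : k)) • t := by
    rw [mul_smul, ← h4, h5, smul_smul, inv_mul_cancel₀ hO, one_smul]
  refine ⟨s, ?_, ?_⟩
  · intro g
    rw [h6, map_smul, ht g]
  · intro v hv
    have h7 := h2 v
    rw [h3 v hv, Submodule.mem_span_singleton] at h7
    obtain ⟨c, hc⟩ := h7
    refine ⟨(Nat.card K : k)⁻¹ * c, ?_⟩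
    rw [mul_smul, hc, smul_smul, inv_mul_cancel₀ hK, one_smul]

/-- If the stabilizers of `a` and `b` have coprime indices, the stabilizer of `b` is transitive on
the orbit of `a`. -/
theorem exists_mem_stabilizer_smul_eq {G X : Type*} [Group G] [Finite G] [MulAction G X] (a b : X)
    (hcop : ((MulAction.stabilizer G a).index).Coprime ((MulAction.stabilizer G b).index)) (g : G) :
    ∃ h ∈ MulAction.stabilizer G b, h • a = g • a := by
  set A := MulAction.stabilizer G a with hAdef
  set B := MulAction.stabilizer G b with hBdef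
  have hstab : MulAction.stabilizer B a = A.subgroupOf B := by
    ext x
    simp [MulAction.mem_stabilizer_iff, Subgroup.mem_subgroupOf, hAdef]
    rfl
  have h1 : (MulAction.orbit B a).ncard = A.relIndex B := by
    rw [← MulAction.index_stabilizer, hstab]
    rfl
  have h2 : A.relIndex B * B.index = (A ⊓ B).index := by
    rw [← Subgroup.inf_relIndex_right, Subgroup.relIndex_mul_index inf_le_right]
  have h3 : B.relIndex A * A.index = (A ⊓ B).index := by
    rw [← Subgroup.inf_relIndex_left, Subgroup.relIndex_mul_index inf_le_left]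
  have h4 : A.index ∣ A.relIndex B := by
    have : A.index ∣ A.relIndex B * B.index := by
      rw [h2, ← h3]
      exact Dvd.intro_left _ rfl
    exact hcop.dvd_of_dvd_mul_right this
  have h5 : A.relIndex B ≠ 0 := by
    have : (A.subgroupOf B).index ≠ 0 := Subgroup.index_ne_zero_of_finite
    exact this
  have h6 : (MulAction.orbit G a).ncard ≤ (MulAction.orbit B a).ncard := by
    rw [h1, ← MulAction.index_stabilizer]
    exact Nat.le_of_dvd (Nat.pos_of_ne_zero h5) h4
  have hsub : MulAction.orbit B a ⊆ MulAction.orbit G a := by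
    rintro _ ⟨x, rfl⟩
    exact ⟨(x : G), rfl⟩
  have heq : MulAction.orbit B a = MulAction.orbit G a :=
    Set.eq_of_subset_of_ncard_le hsub h6 (Set.finite_range fun m : G => m • a)
  have hg : g • a ∈ MulAction.orbit B a := by
    rw [heq]
    exact ⟨g, rfl⟩
  obtain ⟨x, hx⟩ := hg
  exact ⟨(x : G), x.2, hx⟩

/-- If the index of a subgroup `B` is coprime to the index of the stabilizer of `a`, then `B` is
transitive on the orbit of `a`. -/
theorem exists_mem_smul_eq_of_coprime_index {G X : Type*} [Group G] [Finite G] [MulAction G X]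
    (a : X) (B : Subgroup G)
    (hcop : ((MulAction.stabilizer G a).index).Coprime B.index) (g : G) :
    ∃ h ∈ B, h • a = g • a := by
  set A := MulAction.stabilizer G a with hAdef
  have hstab : MulAction.stabilizer B a = A.subgroupOf B := by
    ext x
    simp [MulAction.mem_stabilizer_iff, Subgroup.mem_subgroupOf, hAdef]
    rfl
  have h1 : (MulAction.orbit B a).ncard = A.relIndex B := by
    rw [← MulAction.index_stabilizer, hstab]
    rfl
  have h2 : A.relIndex B * B.index = (A ⊓ B).index := by
    rw [← Subgroup.inf_relIndex_right, Subgroup.relIndex_mul_index inf_le_right]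
  have h3 : B.relIndex A * A.index = (A ⊓ B).index := by
    rw [← Subgroup.inf_relIndex_left, Subgroup.relIndex_mul_index inf_le_left]
  have h4 : A.index ∣ A.relIndex B := by
    have : A.index ∣ A.relIndex B * B.index := by
      rw [h2, ← h3]
      exact Dvd.intro_left _ rfl
    exact hcop.dvd_of_dvd_mul_right this
  have h5 : A.relIndex B ≠ 0 := by
    have : (A.subgroupOf B).index ≠ 0 := Subgroup.index_ne_zero_of_finite
    exact this
  have h6 : (MulAction.orbit G a).ncard ≤ (MulAction.orbit B a).ncard := by
    rw [h1, ← MulAction.index_stabilizer]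
    exact Nat.le_of_dvd (Nat.pos_of_ne_zero h5) h4
  have hsub : MulAction.orbit B a ⊆ MulAction.orbit G a := by
    rintro _ ⟨x, rfl⟩
    exact ⟨(x : G), rfl⟩
  have heq : MulAction.orbit B a = MulAction.orbit G a :=
    Set.eq_of_subset_of_ncard_le hsub h6 (Set.finite_range fun m : G => m • a)
  have hg : g • a ∈ MulAction.orbit B a := by
    rw [heq]
    exact ⟨g, rfl⟩
  obtain ⟨x, hx⟩ := hg
  exact ⟨(x : G), x.2, hx⟩

end Cfsg.Agent.Lib.helper73
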