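import Mathlib
import Cfsg.Agent.Lib.helper75.Sylow15
import Cfsg.Agent.Lib.helper75.SimpleOrd

/-!
# No simple group of order 3780 = 2^2 * 3^3 * 5 * 7

The number of Sylow 7-subgroups is 15, 36 or 540.  Fifteen is impossible in any simple group
(helper75), 540 contradicts Burnside's transfer theorem, and for 36 the centralizer of a Sylow
7-subgroup `P` has order 35; so `P` centralizes a Sylow 5-subgroup `Q`, `7` divides `|C(Q)|`,
which leaves 6 or 36 Sylow 5-subgroups, both impossible.
-/

set_option autoImplicit false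

namespace Cfsg.Agent.Lib.helper73.Ord3780

open Cfsg.Agent.Lib.helper75 MulAction

/-- There is no simple group of order `3780`. -/
theorem no_simple_3780 {G : Type*} [Group G] [Finite G] [IsSimpleGroup G] :
    Nat.card G ≠ 3780 := by
  intro hcard
  haveI : Fact (Nat.Prime 7) := ⟨by norm_num⟩
  haveI : Fact (Nat.Prime 5) := ⟨by norm_num⟩
  have P : Sylow 7 G := default
  obtain ⟨hPc, hn1, hnmod, ⟨k, hk1, hk2⟩, e, he1, he2, he3⟩ :=
    sylow_setup (S := G) (p := 7) 540 (by rw [hcard]) (by norm_num) (by norm_num) P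
  have h15 := no_simple_fifteen_sylow_seven (S := G)
  have hfac := card_dvd_factorial_sylow (S := G) (p := 7) hn1
  rw [hcard] at hfac
  have hnle : Nat.card (Sylow 7 G) ≤ 540 :=
    Nat.le_of_dvd (by norm_num) (Dvd.intro _ hk2)
  have hele : e ≤ 6 := Nat.le_of_dvd (by norm_num) he1
  -- the centralizer of `P` has order 35
  have hC35 : Nat.card (Subgroup.centralizer ((P : Subgroup G) : Set G)) = 35 := by
    rw [hk1] at he3
    generalize Nat.card (Sylow 7 G) = n at *
    generalize Nat.card (Subgroup.centralizer ((P : Subgroup G) : Set G)) = c at *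
    have hn36 : n = 36 ∨ n = 540 := by
      have hdvd : n ∣ 540 := Dvd.intro _ hk2
      interval_cases n <;> omega
    rcases hn36 with rfl | rfl
    · have hk15 : k = 15 := by omega
      subst hk15
      interval_cases e <;> omega
    · have hk15 : k = 1 := by omega
      subst hk15
      interval_cases e <;> omega
  -- an element of order 5 centralizing `P`
  obtain ⟨x, hxC, hx5⟩ := exists_mem_orderOf_prime
    (Subgroup.centralizer ((P : Subgroup G) : Set G)) 5 (by rw [hC35]; norm_num)
  have hx5g : IsPGroup 5 (Subgroup.zpowers x) := by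
    rw [IsPGroup.iff_card]
    exact ⟨1, by rw [Nat.card_zpowers, hx5, pow_one]⟩
  obtain ⟨Q, hQ⟩ := hx5g.exists_le_sylow
  obtain ⟨hQc, hm1, hmmod, ⟨k', hk1', hk2'⟩, e', he1', he2', he3'⟩ :=
    sylow_setup (S := G) (p := 5) 756 (by rw [hcard]) (by norm_num) (by norm_num) Q
  have hQeq : Subgroup.zpowers x = (Q : Subgroup G) :=
    Subgroup.eq_of_le_of_card_ge hQ (by rw [hQc, Nat.card_zpowers, hx5])
  have hPCQ : (P : Subgroup G) ≤ Subgroup.centralizer ((Q : Subgroup G) : Set G) := by
    intro y hy
    rw [← hQeq, Subgroup.mem_centralizer_iff]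
    intro z hz
    obtain ⟨j, rfl⟩ := Subgroup.mem_zpowers_iff.mp hz
    have hxy : Commute x y := by
      rw [Subgroup.mem_centralizer_iff] at hxC
      exact (hxC y hy).symm
    exact (hxy.zpow_left j).eq
  have h7 : 7 ∣ Nat.card (Subgroup.centralizer ((Q : Subgroup G) : Set G)) := by
    have := Subgroup.card_dvd_of_le hPCQ
    rwa [hPc] at this
  have hfac5 := card_dvd_factorial_sylow (S := G) (p := 5) hm1
  rw [hcard] at hfac5
  rw [hk1'] at he3'
  have hele' : e' ≤ 4 := Nat.le_of_dvd (by norm_num) he1'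
  obtain ⟨c', hc'⟩ := h7
  rw [hc'] at he3'
  generalize Nat.card (Sylow 5 G) = n at *
  have hnle' : n ≤ 756 := Nat.le_of_dvd (by norm_num) (Dvd.intro _ hk2')
  have hdvd : n ∣ 756 := Dvd.intro _ hk2'
  have hk7 : 7 ∣ k' := by
    have h1 : 7 ∣ 5 * k' := ⟨c' * e', by rw [← he3']; ring⟩
    exact (Nat.Coprime.dvd_mul_left (by norm_num)).mp h1
  obtain ⟨k'', rfl⟩ := hk7
  have hnk : n * k'' = 108 := by
    have h1 : 7 * (n * k'') = 756 := by
      rw [← hk2']
      ring
    omega
  have hn108 : n ∣ 108 := ⟨k'', hnk.symm⟩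
  have hnle2 : n ≤ 108 := Nat.le_of_dvd (by norm_num) hn108
  have hcases : n = 6 ∨ n = 36 := by
    interval_cases n <;> omega
  rcases hcases with rfl | rfl
  · revert hfac5
    decide
  · have hk3 : k'' = 3 := by omega
    subst hk3
    interval_cases e' <;> omega

end Cfsg.Agent.Lib.helper73.Ord3780
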