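import Mathlib
import Cfsg.Agent.Lib.helper73.OrdTools
import Cfsg.Agent.Lib.helper73.SylLocal
import Cfsg.Agent.Lib.helper75.Sylow15
import Cfsg.Agent.Lib.helper6.IndexTwo

/-!
# No simple group of order 5400 = 2^3 * 3^3 * 5^2

There are 36 Sylow 5-subgroups (of order 25, abelian) with normalizers of order 150.  Two
Sylow 5-subgroups `P ≠ Q` meeting nontrivially meet in a subgroup `E` of order 5 with
`|N(E)| ∈ {150, 300, 450}` and exactly six Sylow 5-subgroups containing `E`.  As `36` is not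
`1` mod `25` such a pair `P`, `R` exists, with `|N(P ⊓ R)| ≠ 450`; then `P ⊓ R` has at least
three conjugates under `N(P)`, so at least 15 Sylow 5-subgroups `≠ P` meet `P` nontrivially.  On
the other hand at most `6 * 5 = 30` do, and the number of those meeting `P` trivially is `0` or
at least `25`: a contradiction with `36 = 1 + a + b`.
-/

set_option autoImplicit false

namespace Cfsg.Agent.Lib.helper73.Ord5400

open Cfsg.Agent.Lib.helper73
open scoped Pointwise

section

variable {G : Type*} [Group G] [Finite G] [IsSimpleGroup G]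

theorem index_ge (hcard : Nat.card G = 5400) (hG : ¬ IsMulCommutative G) (H : Subgroup G)
    (hH : H ≠ ⊤) : 10 ≤ H.index := by
  obtain ⟨h1, -, -⟩ := OrdTools.index_facts hG H hH
  rw [hcard] at h1
  by_contra hlt
  have h9 : H.index ≤ 9 := by omega
  have h3 : 5400 ∣ (9).factorial := h1.trans (Nat.factorial_dvd_factorial h9)
  revert h3
  decide

/-- Basic facts on Sylow 5-subgroups. -/
theorem syl5 (hcard : Nat.card G = 5400) [Fact (Nat.Prime 5)] (P : Sylow 5 G) :
    Nat.card (P : Subgroup G) = 25 ∧ ¬ IsMulCommutative G ∧ Nat.card (Sylow 5 G) = 36 ∧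
      Nat.card ↥(Subgroup.normalizer ((P : Subgroup G) : Set G)) = 150 ∧
      (∀ a ∈ (P : Subgroup G), ∀ b ∈ (P : Subgroup G), a * b = b * a) ∧
      (P : Subgroup G) ≠ ⊤ := by
  obtain ⟨hPc0, hG, hNtop, hn, hmod, hdvd⟩ :=
    OrdTools.sylow_facts (G := G) (p := 5) 2 216 (by norm_num) (by rw [hcard]; norm_num)
      (by norm_num) (by norm_num) P
  have hPc : Nat.card ↥(P : Subgroup G) = 25 := by
    rw [hPc0]
    norm_num
  have hidx := index_ge hcard hG _ hNtop
  obtain ⟨-, -, hmul⟩ := OrdTools.index_facts hG _ hNtop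
  rw [hcard] at hmul
  have hcomm : IsMulCommutative ↥(P : Subgroup G) :=
    IsPGroup.isMulCommutative_of_card_eq_prime_sq (p := 5) hPc
  have hab : ∀ a ∈ (P : Subgroup G), ∀ b ∈ (P : Subgroup G), a * b = b * a := by
    intro a ha b hb
    have := hcomm.is_comm.comm (⟨a, ha⟩ : ↥(P : Subgroup G)) ⟨b, hb⟩
    exact congrArg Subtype.val this
  have hPtop : (P : Subgroup G) ≠ ⊤ := by
    intro h
    rw [h, Subgroup.card_top, hcard] at hPc
    omega
  have hle : (Subgroup.normalizer ((P : Subgroup G) : Set G)).index ≤ 216 :=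
    Nat.le_of_dvd (by norm_num) hdvd
  have hcases : (Subgroup.normalizer ((P : Subgroup G) : Set G)).index = 36 ∨
      (Subgroup.normalizer ((P : Subgroup G) : Set G)).index = 216 := by
    generalize (Subgroup.normalizer ((P : Subgroup G) : Set G)).index = i at *
    interval_cases i <;> omega
  rcases hcases with h36 | h216
  · refine ⟨hPc, hG, by rw [hn, h36], ?_, hab, hPtop⟩
    rw [h36] at hmul
    omega
  · exfalso
    rw [h216] at hmul
    have hN25 : Nat.card ↥(Subgroup.normalizer ((P : Subgroup G) : Set G)) = 25 := by omega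
    have heq : (P : Subgroup G) = Subgroup.normalizer ((P : Subgroup G) : Set G) :=
      Subgroup.eq_of_le_of_card_ge Subgroup.le_normalizer (by rw [hPc, hN25])
    have hle' : Subgroup.normalizer ((P : Subgroup G) : Set G) ≤
        Subgroup.centralizer ((P : Subgroup G) : Set G) := by
      rw [← heq]
      intro a ha
      rw [Subgroup.mem_centralizer_iff]
      intro b hb
      exact hab b hb a ha
    exact Cfsg.Agent.Lib.helper75.not_simple_of_sylow_central 5 P hle'
      (by rw [hPc]; norm_num) (by rw [hPc, hcard]; norm_num)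

/-- Two distinct Sylow 5-subgroups meeting nontrivially. -/
theorem pair (hcard : Nat.card G = 5400) [Fact (Nat.Prime 5)] (P Q : Sylow 5 G) (hne : Q ≠ P)
    (hE : (P : Subgroup G) ⊓ (Q : Subgroup G) ≠ ⊥) :
    Nat.card ↥((P : Subgroup G) ⊓ (Q : Subgroup G)) = 5 ∧
      Subgroup.normalizer (((P : Subgroup G) ⊓ (Q : Subgroup G) : Subgroup G) : Set G) ≠ ⊤ ∧
      (P : Subgroup G) ≤
        Subgroup.normalizer (((P : Subgroup G) ⊓ (Q : Subgroup G) : Subgroup G) : Set G) ∧
      Nat.card (Sylow 5 ↥(Subgroup.normalizer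
        (((P : Subgroup G) ⊓ (Q : Subgroup G) : Subgroup G) : Set G))) = 6 ∧
      (Nat.card ↥(Subgroup.normalizer
          (((P : Subgroup G) ⊓ (Q : Subgroup G) : Subgroup G) : Set G)) = 150 ∨
        Nat.card ↥(Subgroup.normalizer
          (((P : Subgroup G) ⊓ (Q : Subgroup G) : Subgroup G) : Set G)) = 300 ∨
        Nat.card ↥(Subgroup.normalizer
          (((P : Subgroup G) ⊓ (Q : Subgroup G) : Subgroup G) : Set G)) = 450) ∧
      Nat.card {Q' : Sylow 5 G // (P : Subgroup G) ⊓ (Q : Subgroup G) ≤ (Q' : Subgroup G)} = 6 := by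
  obtain ⟨hPc, hG, -, -, hPab, hPtop⟩ := syl5 hcard P
  obtain ⟨hQc, -, -, -, -, -⟩ := syl5 hcard Q
  set E : Subgroup G := (P : Subgroup G) ⊓ (Q : Subgroup G) with hEdef
  have hEP : E ≤ (P : Subgroup G) := inf_le_left
  have hEQ : E ≤ (Q : Subgroup G) := inf_le_right
  -- the order of `E`
  have hEc : Nat.card ↥E = 5 := by
    have hd : Nat.card ↥E ∣ 25 := by
      rw [← hPc]
      exact Subgroup.card_dvd_of_le hEP
    have h1 : Nat.card ↥E ≠ 1 := fun h => hE (Subgroup.card_eq_one.mp h)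
    have h25 : Nat.card ↥E ≠ 25 := by
      intro h
      have h2 : E = (P : Subgroup G) := Subgroup.eq_of_le_of_card_ge hEP (by rw [hPc, h])
      have h3 : (P : Subgroup G) ≤ (Q : Subgroup G) := by
        rw [← h2]
        exact hEQ
      exact hne (Sylow.ext (Subgroup.eq_of_le_of_card_ge h3 (by rw [hPc, hQc]))).symm
    have hle : Nat.card ↥E ≤ 25 := Nat.le_of_dvd (by norm_num) hd
    generalize Nat.card ↥E = e at *
    interval_cases e <;> omega
  -- Sylow subgroups containing `E` lie in `N(E)`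
  have hin : ∀ Q' : Sylow 5 G, E ≤ (Q' : Subgroup G) →
      (Q' : Subgroup G) ≤ Subgroup.normalizer (E : Set G) := by
    intro Q' hQ'
    obtain ⟨-, -, -, -, hab, -⟩ := syl5 hcard Q'
    intro q hq
    apply Subgroup.centralizer_le_normalizer
    rw [Subgroup.mem_centralizer_iff]
    intro e he
    exact hab e (hQ' he) q hq
  have hPN := hin P hEP
  have hQN := hin Q hEQ
  have hEtop : E ≠ ⊤ := by
    intro h
    apply hPtop
    rw [eq_top_iff, ← h]
    exact hEP
  have hNtop : Subgroup.normalizer (E : Set G) ≠ ⊤ := by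
    intro ht
    have hn : E.Normal := Subgroup.normalizer_eq_top_iff.mp ht
    rcases hn.eq_bot_or_eq_top with h1 | h1
    · exact hE h1
    · exact hEtop h1
  have hn1 := SylLocal.one_lt_card_sylow_of_two P Q hne.symm _ hPN hQN
  obtain ⟨hn5, hndvd⟩ := SylInter.card_sylow_subgroup P _ hPN
  rw [hPc] at hndvd
  obtain ⟨-, -, hmul⟩ := OrdTools.index_facts hG _ hNtop
  have hidx := index_ge hcard hG _ hNtop
  rw [hcard] at hmul
  have hEp : IsPGroup 5 ↥E := P.isPGroup'.to_le hEP
  have hcount := SylLocal.card_sylow_containing E (Subgroup.normalizer (E : Set G)) hEp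
    Subgroup.le_normalizer le_rfl hin
  -- arithmetic
  obtain ⟨c, hc⟩ := hndvd
  generalize Nat.card (Sylow 5 ↥(Subgroup.normalizer (E : Set G))) = n at *
  generalize (Subgroup.normalizer (E : Set G)).index = i at *
  have h216 : n * (c * i) = 216 := by
    have : 25 * (n * (c * i)) = 5400 := by
      rw [← hmul, hc]
      ring
    omega
  have hnd : n ∣ 216 := Dvd.intro _ h216
  have hnle : n ≤ 216 := Nat.le_of_dvd (by norm_num) hnd
  have hn6 : n = 6 := by
    have hcases : n = 6 ∨ n = 36 ∨ n = 216 := by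
      interval_cases n <;> omega
    rcases hcases with h | h | h
    · exact h
    · exfalso
      rw [h] at h216
      have hci : c * i = 6 := by omega
      have : i ∣ 6 := Dvd.intro_left _ hci
      have := Nat.le_of_dvd (by norm_num) this
      omega
    · exfalso
      rw [h] at h216
      have hci : c * i = 1 := by omega
      have : i ∣ 1 := Dvd.intro_left _ hci
      have := Nat.le_of_dvd (by norm_num) this
      omega
  subst hn6
  have hci : c * i = 36 := by omega
  have hid : i ∣ 36 := Dvd.intro_left _ hci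
  have hile : i ≤ 36 := Nat.le_of_dvd (by norm_num) hid
  refine ⟨hEc, hNtop, hPN, rfl, ?_, hcount⟩
  rw [hc]
  have hcc : c = 1 ∨ c = 2 ∨ c = 3 := by
    interval_cases i <;> omega
  rcases hcc with h | h | h <;> rw [h] <;> norm_num

/-- The normalizer of an intersection cannot have order 450. -/
theorem no450 (hcard : Nat.card G = 5400) [Fact (Nat.Prime 5)] (P : Sylow 5 G) (M : Subgroup G)
    (hPM : (P : Subgroup G) ≤ M) (hM : Nat.card ↥M = 450)
    (hn : Nat.card (Sylow 5 ↥M) = 6) : False := by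
  obtain ⟨hPc, -, -, -, -, -⟩ := syl5 hcard P
  haveI : Fact (Nat.Prime 2) := ⟨Nat.prime_two⟩
  have T : Sylow 2 ↥M := default
  have hTc : Nat.card (T : Subgroup ↥M) = 2 :=
    Cfsg.Agent.Lib.helper21.sylow_card_eq_prime T (by rw [hM]; norm_num) (by rw [hM]; norm_num)
  have hcyc : IsCyclic ↥(T : Subgroup ↥M) := isCyclic_of_prime_card (p := 2) hTc
  obtain ⟨Y, hY⟩ := Cfsg.Agent.Lib.helper6.exists_index_two_of_cyclic_sylow T hcyc
    (by rw [hM]; decide)
  obtain ⟨Y₀, hY₀⟩ : ∃ Y₀ : Subgroup G, Y₀ = Y.map M.subtype := ⟨_, rfl⟩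
  have hY₀M : Y₀ ≤ M := by
    rw [hY₀]
    exact Subgroup.map_subtype_le Y
  have hYc : Nat.card ↥Y = 225 := by
    have := Subgroup.card_mul_index Y
    rw [hY, hM] at this
    omega
  have hY₀c : Nat.card ↥Y₀ = 225 := by
    rw [hY₀, Subgroup.card_subtype, hYc]
  have hPY : (P : Subgroup G) ≤ Y₀ := by
    intro x hx
    have h1 : (⟨x, hPM hx⟩ : ↥M) ^ 2 ∈ Y := Subgroup.sq_mem_of_index_two hY _
    have h25 : x ^ 25 = 1 := by
      have h := pow_card_eq_one' (x := (⟨x, hx⟩ : ↥(P : Subgroup G)))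
      rw [hPc] at h
      have h' := congrArg Subtype.val h
      simpa using h'
    have h2 : ((⟨x, hPM hx⟩ : ↥M) ^ 2) ^ 13 ∈ Y := Subgroup.pow_mem _ h1 13
    rw [hY₀]
    refine ⟨_, h2, ?_⟩
    show ((((⟨x, hPM hx⟩ : ↥M) ^ 2) ^ 13 : ↥M) : G) = x
    rw [Subgroup.coe_pow, Subgroup.coe_pow]
    show (x ^ 2) ^ 13 = x
    calc (x ^ 2) ^ 13 = x ^ 25 * x := by
          rw [← pow_mul, ← pow_succ]
      _ = x := by rw [h25, one_mul]
  obtain ⟨h5, hdvd⟩ := SylInter.card_sylow_subgroup P Y₀ hPY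
  rw [hPc, hY₀c] at hdvd
  have hn1 : Nat.card (Sylow 5 ↥Y₀) = 1 := by
    obtain ⟨c, hc⟩ := hdvd
    generalize Nat.card (Sylow 5 ↥Y₀) = n at *
    have h9 : n * c = 9 := by
      have : 25 * (n * c) = 225 := by
        rw [hc]
        ring
      omega
    have hd : n ∣ 9 := Dvd.intro _ h9
    have := Nat.le_of_dvd (by norm_num) hd
    interval_cases n <;> omega
  have h1 := SylLocal.card_inf_normalizer_mul P Y₀ hPY
  have h2 := SylLocal.card_inf_normalizer_mul P M hPM
  rw [hn1, mul_one, hY₀c] at h1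
  rw [hn, hM] at h2
  have h3 : Nat.card ↥(Y₀ ⊓ Subgroup.normalizer ((P : Subgroup G) : Set G)) ≤
      Nat.card ↥(M ⊓ Subgroup.normalizer ((P : Subgroup G) : Set G)) :=
    Subgroup.card_le_of_le (inf_le_inf_right _ hY₀M)
  omega

omit [Finite G] [IsSimpleGroup G] in
/-- Conjugating by an element of `N(P)`. -/
theorem conj_inf [Fact (Nat.Prime 5)] (P R : Sylow 5 G) (g : G)
    (hg : g ∈ Subgroup.normalizer ((P : Subgroup G) : Set G)) :
    (P : Subgroup G) ⊓ ((g • R : Sylow 5 G) : Subgroup G) =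
      MulAut.conj g • ((P : Subgroup G) ⊓ (R : Subgroup G)) := by
  have h1 : g • P = P := Sylow.smul_eq_iff_mem_normalizer.mpr hg
  have h2 : ((g • P : Sylow 5 G) : Subgroup G) = MulAut.conj g • (P : Subgroup G) :=
    Sylow.coe_subgroup_smul
  rw [h1] at h2
  rw [Subgroup.smul_inf, ← h2, Sylow.coe_subgroup_smul]

omit [Finite G] [IsSimpleGroup G] in
theorem mem_normalizer_of_conj_eq (D : Subgroup G) (a b : G)
    (h : MulAut.conj a • D = MulAut.conj b • D) :
    b⁻¹ * a ∈ Subgroup.normalizer (D : Set G) := by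
  have key : MulAut.conj (b⁻¹ * a) • D = D := by
    rw [map_mul, mul_smul, h, ← mul_smul, ← map_mul, inv_mul_cancel, map_one, one_smul]
  rw [Subgroup.mem_normalizer_iff]
  intro x
  have hiff : MulAut.conj (b⁻¹ * a) • x ∈ MulAut.conj (b⁻¹ * a) • D ↔ x ∈ D :=
    Subgroup.smul_mem_pointwise_smul_iff
  rw [key] at hiff
  have he : MulAut.conj (b⁻¹ * a) • x = b⁻¹ * a * x * (b⁻¹ * a)⁻¹ := by
    rw [MulAut.smul_def, MulAut.conj_apply]
  rw [he] at hiff
  exact hiff.symm

end

/-- There is no simple group of order `5400`. -/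
theorem no_simple_5400 {G : Type*} [Group G] [Finite G] [IsSimpleGroup G] :
    Nat.card G ≠ 5400 := by
  classical
  intro hcard
  haveI : Fact (Nat.Prime 5) := ⟨by norm_num⟩
  haveI : Fintype (Sylow 5 G) := Fintype.ofFinite _
  haveI : Fintype (Subgroup G) := Fintype.ofFinite _
  have P₀ : Sylow 5 G := default
  obtain ⟨-, hG, hn36, -, -, -⟩ := syl5 hcard P₀
  have hnot : ¬ Nat.card (Sylow 5 G) ≡ 1 [MOD 5 ^ 2] := by
    rw [hn36]
    decide
  obtain ⟨P, R, hne, hidx⟩ := Cfsg.Agent.S0985.result (G := G) 5 2 hnot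
  obtain ⟨hPc, -, -, hNPc, hPab, hPtop⟩ := syl5 hcard P
  -- the intersection `D = P ⊓ R` is nontrivial
  have hD : (P : Subgroup G) ⊓ (R : Subgroup G) ≠ ⊥ := by
    intro hb
    have h1 := SylInter.card_mul_relIndex_of_le
      (inf_le_left : (P : Subgroup G) ⊓ (R : Subgroup G) ≤ (P : Subgroup G))
    have h2 : ((P : Subgroup G) ⊓ (R : Subgroup G)).relIndex (P : Subgroup G) ≤ 5 := by
      rw [Subgroup.inf_relIndex_left]
      exact (show ((R : Subgroup G).subgroupOf (P : Subgroup G)).index ≤ 5 by simpa using hidx)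
    have h3 : Nat.card ↥((P : Subgroup G) ⊓ (R : Subgroup G)) = 1 := by
      rw [hb, Subgroup.card_bot]
    rw [h3, hPc] at h1
    omega
  obtain ⟨hDc, hMtop, hPM, hn6, hMc, -⟩ := pair hcard P R hne.symm hD
  obtain ⟨D, hDdef⟩ : ∃ D : Subgroup G, D = (P : Subgroup G) ⊓ (R : Subgroup G) := ⟨_, rfl⟩
  rw [← hDdef] at hDc hMtop hPM hn6 hMc hD
  obtain ⟨M, hMdef⟩ : ∃ M : Subgroup G, M = Subgroup.normalizer (D : Set G) := ⟨_, rfl⟩
  rw [← hMdef] at hMtop hPM hn6 hMc
  obtain ⟨NP, hNPdef⟩ : ∃ NP : Subgroup G,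
      NP = Subgroup.normalizer ((P : Subgroup G) : Set G) := ⟨_, rfl⟩
  rw [← hNPdef] at hNPc
  have hM450 : Nat.card ↥M ≠ 450 := fun h => no450 hcard P M hPM h hn6
  have hK := SylLocal.card_inf_normalizer_mul P M hPM
  rw [hn6, ← hNPdef] at hK
  -- `M ⊓ N(P)` has index at least 3 in `N(P)`
  have hrel : 3 ≤ (M.subgroupOf NP).index := by
    have h1 : (M.subgroupOf NP).index = (NP ⊓ M).relIndex NP := by
      rw [Subgroup.inf_relIndex_left]
      rfl
    have h2 := SylInter.card_mul_relIndex_of_le (inf_le_left : NP ⊓ M ≤ NP)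
    have h3 : NP ⊓ M = M ⊓ NP := inf_comm _ _
    rw [h1, h3]
    rw [h3, hNPc] at h2
    generalize (M ⊓ NP).relIndex NP = r at *
    generalize Nat.card ↥(M ⊓ NP) = k at *
    rcases hMc with h | h | h
    · have hk : k = 25 := by omega
      subst hk
      omega
    · have hk : k = 50 := by omega
      subst hk
      omega
    · exact absurd h hM450
  haveI : Fintype (↥NP ⧸ M.subgroupOf NP) := Fintype.ofFinite _
  have hcard3 : 2 < Fintype.card (↥NP ⧸ M.subgroupOf NP) := by
    rw [← Nat.card_eq_fintype_card]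
    exact hrel
  obtain ⟨q₁, q₂, q₃, h12, h13, h23⟩ := Fintype.two_lt_card_iff.mp hcard3
  obtain ⟨g₁, rfl⟩ := QuotientGroup.mk_surjective q₁
  obtain ⟨g₂, rfl⟩ := QuotientGroup.mk_surjective q₂
  obtain ⟨g₃, rfl⟩ := QuotientGroup.mk_surjective q₃
  -- distinct cosets give distinct conjugates of `D`
  have hsep : ∀ a b : ↥NP, (QuotientGroup.mk a : ↥NP ⧸ M.subgroupOf NP) ≠ QuotientGroup.mk b →
      MulAut.conj (a : G) • D ≠ MulAut.conj (b : G) • D := by
    intro a b hab heq
    apply hab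
    rw [QuotientGroup.eq, Subgroup.mem_subgroupOf, hMdef]
    have := mem_normalizer_of_conj_eq D (b : G) (a : G) heq.symm
    simpa using this
  -- each conjugate lies in exactly six Sylow subgroups
  have hthrough : ∀ g : ↥NP,
      (Finset.univ.filter (fun Q : Sylow 5 G =>
        MulAut.conj (g : G) • D ≤ (Q : Subgroup G))).card = 6 ∧
      MulAut.conj (g : G) • D ≤ (P : Subgroup G) ∧
      Nat.card ↥(MulAut.conj (g : G) • D) = 5 := by
    intro g
    have hg : (g : G) ∈ Subgroup.normalizer ((P : Subgroup G) : Set G) := by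
      rw [← hNPdef]
      exact g.2
    have h1 := conj_inf P R (g : G) hg
    rw [← hDdef] at h1
    have hRg : ((g : G) • R : Sylow 5 G) ≠ P := by
      intro h
      have h2 : (g : G) • P = P := Sylow.smul_eq_iff_mem_normalizer.mpr hg
      rw [← h2] at h
      exact hne (MulAction.injective (g : G) h).symm
    have hnb : (P : Subgroup G) ⊓ (((g : G) • R : Sylow 5 G) : Subgroup G) ≠ ⊥ := by
      rw [h1]
      intro hb
      obtain ⟨x, hx⟩ := (Subgroup.ne_bot_iff_exists_ne_one.mp hD)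
      have h3 : MulAut.conj (g : G) • (x : G) ∈ MulAut.conj (g : G) • D :=
        Subgroup.smul_mem_pointwise_smul _ _ _ x.2
      rw [hb, Subgroup.mem_bot, MulAut.smul_def, MulAut.conj_apply] at h3
      apply hx
      apply Subtype.ext
      have h4 : (x : G) = (g : G)⁻¹ * ((g : G) * (x : G) * (g : G)⁻¹) * (g : G) := by group
      rw [h4, h3]
      simp
    obtain ⟨hc, -, -, -, -, hcount⟩ := pair hcard P ((g : G) • R) hRg hnb
    rw [h1] at hc hcount
    refine ⟨?_, ?_, hc⟩
    · rw [← Fintype.card_subtype, ← Nat.card_eq_fintype_card]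
      exact hcount
    · rw [← h1]
      exact inf_le_left
  -- two distinct conjugates lie together only in `P`
  have honly : ∀ a b : ↥NP, MulAut.conj (a : G) • D ≠ MulAut.conj (b : G) • D →
      ∀ Q : Sylow 5 G, MulAut.conj (a : G) • D ≤ (Q : Subgroup G) →
        MulAut.conj (b : G) • D ≤ (Q : Subgroup G) → Q = P := by
    intro a b hab Q hQa hQb
    obtain ⟨-, haP, hac⟩ := hthrough a
    obtain ⟨-, hbP, hbc⟩ := hthrough b
    obtain ⟨hQc, -, -, -, -, -⟩ := syl5 hcard Q
    have hsupP : MulAut.conj (a : G) • D ⊔ MulAut.conj (b : G) • D ≤ (P : Subgroup G) :=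
      sup_le haP hbP
    have hsupQ : MulAut.conj (a : G) • D ⊔ MulAut.conj (b : G) • D ≤ (Q : Subgroup G) :=
      sup_le hQa hQb
    have hd1 : Nat.card ↥(MulAut.conj (a : G) • D) ∣
        Nat.card ↥(MulAut.conj (a : G) • D ⊔ MulAut.conj (b : G) • D) :=
      Subgroup.card_dvd_of_le le_sup_left
    have hd2 : Nat.card ↥(MulAut.conj (a : G) • D ⊔ MulAut.conj (b : G) • D) ∣ 25 := by
      rw [← hPc]
      exact Subgroup.card_dvd_of_le hsupP
    have hne5 : Nat.card ↥(MulAut.conj (a : G) • D ⊔ MulAut.conj (b : G) • D) ≠ 5 := by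
      intro h5
      have h1 : MulAut.conj (a : G) • D = MulAut.conj (a : G) • D ⊔ MulAut.conj (b : G) • D :=
        Subgroup.eq_of_le_of_card_ge le_sup_left (by rw [h5, hac])
      have h2 : MulAut.conj (b : G) • D ≤ MulAut.conj (a : G) • D := by
        rw [h1]
        exact le_sup_right
      exact hab (Subgroup.eq_of_le_of_card_ge h2 (by rw [hac, hbc])).symm
    have h25 : Nat.card ↥(MulAut.conj (a : G) • D ⊔ MulAut.conj (b : G) • D) = 25 := by
      rw [hac] at hd1
      have hle := Nat.le_of_dvd (by norm_num) hd2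
      generalize Nat.card ↥(MulAut.conj (a : G) • D ⊔ MulAut.conj (b : G) • D) = e at *
      interval_cases e <;> omega
    have hsupeq : MulAut.conj (a : G) • D ⊔ MulAut.conj (b : G) • D = (P : Subgroup G) :=
      Subgroup.eq_of_le_of_card_ge hsupP (by rw [hPc, h25])
    have hPQ : (P : Subgroup G) ≤ (Q : Subgroup G) := by
      rw [← hsupeq]
      exact hsupQ
    exact (Sylow.ext (Subgroup.eq_of_le_of_card_ge hPQ (by rw [hPc, hQc]))).symm
  -- the counting
  obtain ⟨A, hAdef⟩ : ∃ A : Finset (Sylow 5 G), A = Finset.univ.filter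
      (fun Q : Sylow 5 G => Q ≠ P ∧ (P : Subgroup G) ⊓ (Q : Subgroup G) ≠ ⊥) := ⟨_, rfl⟩
  have hmemA : ∀ Q : Sylow 5 G, Q ∈ A ↔ Q ≠ P ∧ (P : Subgroup G) ⊓ (Q : Subgroup G) ≠ ⊥ := by
    intro Q
    rw [hAdef]
    simp
  -- lower bound
  have hS : ∀ g : ↥NP, ∃ S : Finset (Sylow 5 G), S.card = 5 ∧ S ⊆ A ∧
      ∀ Q ∈ S, MulAut.conj (g : G) • D ≤ (Q : Subgroup G) ∧ Q ≠ P := by
    intro g
    obtain ⟨h6, hgP, hgc⟩ := hthrough g
    refine ⟨(Finset.univ.filter (fun Q : Sylow 5 G =>
        MulAut.conj (g : G) • D ≤ (Q : Subgroup G))).erase P, ?_, ?_, ?_⟩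
    · rw [Finset.card_erase_of_mem (by simp [hgP]), h6]
    · intro Q hQ
      rw [Finset.mem_erase, Finset.mem_filter] at hQ
      rw [hmemA]
      refine ⟨hQ.1, ?_⟩
      intro hb
      have h1 : MulAut.conj (g : G) • D ≤ (P : Subgroup G) ⊓ (Q : Subgroup G) :=
        le_inf hgP hQ.2.2
      rw [hb, le_bot_iff] at h1
      rw [h1, Subgroup.card_bot] at hgc
      omega
    · intro Q hQ
      rw [Finset.mem_erase, Finset.mem_filter] at hQ
      exact ⟨hQ.2.2, hQ.1⟩
  obtain ⟨S₁, hS₁c, hS₁A, hS₁⟩ := hS g₁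
  obtain ⟨S₂, hS₂c, hS₂A, hS₂⟩ := hS g₂
  obtain ⟨S₃, hS₃c, hS₃A, hS₃⟩ := hS g₃
  have hdisj : ∀ (a b : ↥NP) (S T : Finset (Sylow 5 G)),
      MulAut.conj (a : G) • D ≠ MulAut.conj (b : G) • D →
      (∀ Q ∈ S, MulAut.conj (a : G) • D ≤ (Q : Subgroup G) ∧ Q ≠ P) →
      (∀ Q ∈ T, MulAut.conj (b : G) • D ≤ (Q : Subgroup G) ∧ Q ≠ P) → Disjoint S T := by
    intro a b S T hab hSa hTb
    rw [Finset.disjoint_left]
    intro Q hQS hQT
    exact (hSa Q hQS).2 (honly a b hab Q (hSa Q hQS).1 (hTb Q hQT).1)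
  have d12 := hdisj g₁ g₂ S₁ S₂ (hsep g₁ g₂ h12) hS₁ hS₂
  have d13 := hdisj g₁ g₃ S₁ S₃ (hsep g₁ g₃ h13) hS₁ hS₃
  have d23 := hdisj g₂ g₃ S₂ S₃ (hsep g₂ g₃ h23) hS₂ hS₃
  have h15 : 15 ≤ A.card := by
    have h1 : (S₁ ∪ S₂ ∪ S₃).card = 15 := by
      rw [Finset.card_union_of_disjoint (Finset.disjoint_union_left.mpr ⟨d13, d23⟩),
        Finset.card_union_of_disjoint d12, hS₁c, hS₂c, hS₃c]
    rw [← h1]
    exact Finset.card_le_card (Finset.union_subset (Finset.union_subset hS₁A hS₂A) hS₃A)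
  -- upper bound
  have h30 : A.card ≤ 30 := by
    have hfib : ∀ E ∈ A.image (fun Q : Sylow 5 G => (P : Subgroup G) ⊓ (Q : Subgroup G)),
        (A.filter (fun Q : Sylow 5 G => (P : Subgroup G) ⊓ (Q : Subgroup G) = E)).card ≤ 5 := by
      intro E hE
      rw [Finset.mem_image] at hE
      obtain ⟨Q₀, hQ₀A, rfl⟩ := hE
      rw [hmemA] at hQ₀A
      obtain ⟨-, -, -, -, -, hcount⟩ := pair hcard P Q₀ hQ₀A.1 hQ₀A.2
      rw [Nat.card_eq_fintype_card, Fintype.card_subtype] at hcount
      have hsub : A.filter (fun Q : Sylow 5 G =>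
          (P : Subgroup G) ⊓ (Q : Subgroup G) = (P : Subgroup G) ⊓ (Q₀ : Subgroup G)) ⊆
          (Finset.univ.filter (fun Q' : Sylow 5 G =>
            (P : Subgroup G) ⊓ (Q₀ : Subgroup G) ≤ (Q' : Subgroup G))).erase P := by
        intro Q hQ
        rw [Finset.mem_filter, hmemA] at hQ
        rw [Finset.mem_erase, Finset.mem_filter]
        refine ⟨hQ.1.1, Finset.mem_univ _, ?_⟩
        rw [← hQ.2]
        exact inf_le_right
      have hc5 : ((Finset.univ.filter (fun Q' : Sylow 5 G =>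
            (P : Subgroup G) ⊓ (Q₀ : Subgroup G) ≤ (Q' : Subgroup G))).erase P).card = 5 := by
        rw [Finset.card_erase_of_mem (by simp), hcount]
      exact (Finset.card_le_card hsub).trans hc5.le
    have h1 := Finset.card_le_mul_card_image A 5 hfib
    have h2 : (A.image (fun Q : Sylow 5 G => (P : Subgroup G) ⊓ (Q : Subgroup G))).card ≤ 6 := by
      have hsub : A.image (fun Q : Sylow 5 G => (P : Subgroup G) ⊓ (Q : Subgroup G)) ⊆
          Finset.univ.filter (fun E : Subgroup G => E ≤ (P : Subgroup G) ∧ Nat.card ↥E = 5) := by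
        intro E hE
        rw [Finset.mem_image] at hE
        obtain ⟨Q₀, hQ₀A, rfl⟩ := hE
        rw [hmemA] at hQ₀A
        obtain ⟨hc, -, -, -, -, -⟩ := pair hcard P Q₀ hQ₀A.1 hQ₀A.2
        rw [Finset.mem_filter]
        exact ⟨Finset.mem_univ _, inf_le_left, hc⟩
      have h3 := SylLocal.card_prime_subgroups_le (P : Subgroup G) hPc
      rw [Nat.card_eq_fintype_card, Fintype.card_subtype] at h3
      exact (Finset.card_le_card hsub).trans h3
    calc A.card ≤ 5 * (A.image (fun Q : Sylow 5 G =>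
          (P : Subgroup G) ⊓ (Q : Subgroup G))).card := h1
      _ ≤ 5 * 6 := Nat.mul_le_mul_left 5 h2
  -- the Sylow subgroups meeting `P` trivially
  have htot := Finset.card_filter_add_card_filter_not (s := (Finset.univ : Finset (Sylow 5 G)))
    (fun Q : Sylow 5 G => (P : Subgroup G) ⊓ (Q : Subgroup G) = ⊥)
  have hins : Finset.univ.filter (fun Q : Sylow 5 G => ¬ (P : Subgroup G) ⊓ (Q : Subgroup G) = ⊥)
      = insert P A := by
    ext Q
    rw [Finset.mem_filter, Finset.mem_insert, hmemA]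
    constructor
    · intro h
      by_cases hQP : Q = P
      · exact Or.inl hQP
      · exact Or.inr ⟨hQP, h.2⟩
    · rintro (h | h)
      · refine ⟨Finset.mem_univ _, ?_⟩
        rw [h, inf_idem]
        intro hb
        rw [hb, Subgroup.card_bot] at hPc
        omega
      · exact ⟨Finset.mem_univ _, h.2⟩
  have hPA : P ∉ A := by
    rw [hmemA]
    intro h
    exact h.1 rfl
  rw [hins, Finset.card_insert_of_notMem hPA, Finset.card_univ, ← Nat.card_eq_fintype_card,
    hn36] at htot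
  have hB5 : 0 < (Finset.univ.filter
      (fun Q : Sylow 5 G => (P : Subgroup G) ⊓ (Q : Subgroup G) = ⊥)).card := by omega
  obtain ⟨Q, hQ⟩ := Finset.card_pos.mp hB5
  rw [Finset.mem_filter] at hQ
  have h25 := SylLocal.card_le_card_disjoint P Q hQ.2
  rw [hPc, Nat.card_eq_fintype_card, Fintype.card_subtype] at h25
  omega

end Cfsg.Agent.Lib.helper73.Ord5400
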