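import Mathlib
import Cfsg.Agent.Lib.helper73.OrdTools

/-!
# No simple group of order 5724 = 2^2 * 3^3 * 53

A proper subgroup has index at least 54 (index 53 is excluded by Burnside's theorem on groups
of prime degree), so there are 106 Sylow 3-subgroups; as `106` is not `1` mod `9`, two of them
meet in a subgroup of index 3 whose normalizer would be too large.
-/

set_option autoImplicit false

namespace Cfsg.Agent.Lib.helper73.Ord5724

open Cfsg.Agent.Lib.helper73

theorem index_ge {G : Type*} [Group G] [Finite G] [IsSimpleGroup G] (hcard : Nat.card G = 5724)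
    (hG : ¬ IsMulCommutative G) (H : Subgroup G) (hH : H ≠ ⊤) : 54 ≤ H.index := by
  obtain ⟨h1, h2, -⟩ := OrdTools.index_facts hG H hH
  rw [hcard] at h1 h2
  have h53 : 53 ≤ H.index :=
    (Nat.Prime.dvd_factorial (by norm_num : Nat.Prime 53)).mp ((by norm_num : 53 ∣ 5724).trans h1)
  by_contra hlt
  have heq : H.index = 53 := by omega
  rw [heq] at h2
  have := h2 (by norm_num)
  revert this
  decide

/-- There is no simple group of order `5724`. -/
theorem no_simple_5724 {G : Type*} [Group G] [Finite G] [IsSimpleGroup G] :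
    Nat.card G ≠ 5724 := by
  intro hcard
  haveI : Fact (Nat.Prime 3) := ⟨by norm_num⟩
  have P : Sylow 3 G := default
  obtain ⟨hPc, hG, hNtop, hn, hmod, hdvd⟩ :=
    OrdTools.sylow_facts (G := G) (p := 3) 3 212 (by norm_num) (by rw [hcard]; norm_num)
      (by norm_num) (by norm_num) P
  have hidx := index_ge hcard hG _ hNtop
  have hn106 : (Subgroup.normalizer ((P : Subgroup G) : Set G)).index = 106 := by
    have hle : (Subgroup.normalizer ((P : Subgroup G) : Set G)).index ≤ 212 :=
      Nat.le_of_dvd (by norm_num) hdvd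
    generalize (Subgroup.normalizer ((P : Subgroup G) : Set G)).index = i at *
    interval_cases i <;> omega
  rw [hn106] at hn
  have hnot : ¬ Nat.card (Sylow 3 G) ≡ 1 [MOD 3 ^ 2] := by
    rw [hn]
    decide
  obtain ⟨H, hHtop, n, hn1, hn2, hHdvd⟩ :=
    SylInter.sylow_inter 3 hnot P (by rw [hPc]; norm_num)
  rw [hPc] at hHdvd
  obtain ⟨c, hc⟩ := hHdvd
  obtain ⟨-, -, hmul⟩ := OrdTools.index_facts hG H hHtop
  have hi := index_ge hcard hG H hHtop
  rw [hc, hcard] at hmul
  have h212 : n * c * H.index = 212 := by
    have : 27 * (n * c * H.index) = 5724 := by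
      rw [← hmul]
      ring
    omega
  have hidvd : H.index ∣ 212 := Dvd.intro_left _ h212
  have hile : H.index ≤ 212 := Nat.le_of_dvd (by norm_num) hidvd
  generalize H.index = i at *
  have hi' : i = 106 ∨ i = 212 := by
    interval_cases i <;> omega
  have hn4 : 4 ≤ n := by omega
  rcases hi' with rfl | rfl
  · have h1 : n * c = 2 := by omega
    have h2 : n ∣ 2 := Dvd.intro _ h1
    have := Nat.le_of_dvd (by norm_num) h2
    omega
  · have h1 : n * c = 1 := by omega
    have := Nat.eq_one_of_mul_eq_one_right h1
    omega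

end Cfsg.Agent.Lib.helper73.Ord5724
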