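import Mathlib
import Cfsg.Agent.Lib.helper73.OrdTools
import Cfsg.Agent.Lib.helper75.Sylow15

/-!
# No simple group of order 5880 = 2^3 * 3 * 5 * 7^2

The number of Sylow 7-subgroups is 15 or 120.  The first is impossible in any simple group
(helper75); in the second case a Sylow 7-subgroup is abelian and self-normalizing, against
Burnside's transfer theorem.
-/

set_option autoImplicit false

namespace Cfsg.Agent.Lib.helper73.Ord5880

open Cfsg.Agent.Lib.helper73

/-- There is no simple group of order `5880`. -/
theorem no_simple_5880 {G : Type*} [Group G] [Finite G] [IsSimpleGroup G] :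
    Nat.card G ≠ 5880 := by
  intro hcard
  haveI : Fact (Nat.Prime 7) := ⟨by norm_num⟩
  have P : Sylow 7 G := default
  obtain ⟨hPc, hG, hNtop, hn, hmod, hdvd⟩ :=
    OrdTools.sylow_facts (G := G) (p := 7) 2 120 (by norm_num) (by rw [hcard]; norm_num)
      (by norm_num) (by norm_num) P
  obtain ⟨hfac, -, hmul⟩ := OrdTools.index_facts hG _ hNtop
  have h15 := Cfsg.Agent.Lib.helper75.no_simple_fifteen_sylow_seven (S := G)
  rw [hn] at h15
  rw [hcard] at hfac hmul
  have hle : (Subgroup.normalizer ((P : Subgroup G) : Set G)).index ≤ 120 :=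
    Nat.le_of_dvd (by norm_num) hdvd
  have hcases : (Subgroup.normalizer ((P : Subgroup G) : Set G)).index = 8 ∨
      (Subgroup.normalizer ((P : Subgroup G) : Set G)).index = 120 := by
    have h1 : (Subgroup.normalizer ((P : Subgroup G) : Set G)).index ≠ 1 := by
      intro h
      exact hNtop (Subgroup.index_eq_one.mp h)
    generalize (Subgroup.normalizer ((P : Subgroup G) : Set G)).index = i at *
    interval_cases i <;> omega
  rcases hcases with h8 | h120
  · rw [h8] at hfac
    revert hfac
    decide
  · rw [h120] at hmul
    have hN49 : Nat.card ↥(Subgroup.normalizer ((P : Subgroup G) : Set G)) = 49 := by omega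
    have heq : (P : Subgroup G) = Subgroup.normalizer ((P : Subgroup G) : Set G) :=
      Subgroup.eq_of_le_of_card_ge Subgroup.le_normalizer (by rw [hPc, hN49]; norm_num)
    have hcomm : IsMulCommutative ↥(P : Subgroup G) :=
      IsPGroup.isMulCommutative_of_card_eq_prime_sq (p := 7) hPc
    have hle' : Subgroup.normalizer ((P : Subgroup G) : Set G) ≤
        Subgroup.centralizer ((P : Subgroup G) : Set G) := by
      rw [← heq]
      intro a ha
      rw [Subgroup.mem_centralizer_iff]
      intro b hb
      have := hcomm.is_comm.comm (⟨b, hb⟩ : ↥(P : Subgroup G)) ⟨a, ha⟩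
      exact congrArg Subtype.val this
    exact Cfsg.Agent.Lib.helper75.not_simple_of_sylow_central 7 P hle'
      (by rw [hPc]; norm_num) (by rw [hPc, hcard]; norm_num)

end Cfsg.Agent.Lib.helper73.Ord5880
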