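import Mathlib
import Cfsg.Agent.Lib.helper68.HallPet
import Cfsg.Agent.Lib.helper79.PearlX
import Cfsg.Agent.Lib.helper80.PearlF34

set_option autoImplicit false

namespace Cfsg.Agent.Lib.helper79.P3

open Cfsg.Agent.Lib.helper68

theorem h73_comm3 {G : Type*} [Group G] (c d e : G) (hdc : d * c = c * d) (hec : e * c = c * e)
    (hed : e * d = d * e) : (c * d * (d * e)) * (c * d) * c = c ^ 3 * (d ^ 3 * e) := by
  have hdc' : ∀ z, d * (c * z) = c * (d * z) := fun z => by rw [← mul_assoc, hdc, mul_assoc]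
  have hec' : ∀ z, e * (c * z) = c * (e * z) := fun z => by rw [← mul_assoc, hec, mul_assoc]
  have hed' : ∀ z, e * (d * z) = d * (e * z) := fun z => by rw [← mul_assoc, hed, mul_assoc]
  simp only [pow_succ, pow_zero, one_mul, mul_assoc, hec, hed, hdc', hec']

theorem h73_card_conj {G : Type*} [Group G] (a g : G) :
    Nat.card (Subgroup.centralizer ({g⁻¹ * a * g} : Set G)) =
      Nat.card (Subgroup.centralizer ({a} : Set G)) := by
  refine Nat.card_congr ⟨fun y => ⟨g * y.1 * g⁻¹, ?_⟩, fun y => ⟨g⁻¹ * y.1 * g, ?_⟩, ?_, ?_⟩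
  · have hy := y.2
    rw [Subgroup.mem_centralizer_iff] at hy ⊢
    intro z hz
    rw [Set.mem_singleton_iff] at hz
    rw [hz]
    have h1 := hy (g⁻¹ * a * g) (Set.mem_singleton _)
    calc a * (g * y.1 * g⁻¹) = g * ((g⁻¹ * a * g) * y.1) * g⁻¹ := by group
      _ = g * (y.1 * (g⁻¹ * a * g)) * g⁻¹ := by rw [h1]
      _ = g * y.1 * g⁻¹ * a := by group
  · have hy := y.2
    rw [Subgroup.mem_centralizer_iff] at hy ⊢
    intro z hz
    rw [Set.mem_singleton_iff] at hz
    rw [hz]
    have h1 := hy a (Set.mem_singleton _)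
    calc g⁻¹ * a * g * (g⁻¹ * y.1 * g) = g⁻¹ * (a * y.1) * g := by group
      _ = g⁻¹ * (y.1 * a) * g := by rw [h1]
      _ = g⁻¹ * y.1 * g * (g⁻¹ * a * g) := by group
  · intro y
    apply Subtype.ext
    show g⁻¹ * (g * y.1 * g⁻¹) * g = y.1
    group
  · intro y
    apply Subtype.ext
    show g * (g⁻¹ * y.1 * g) * g⁻¹ = y.1
    group

theorem h73_centralizer_inv {G : Type*} [Group G] (a : G) :
    Subgroup.centralizer ({a⁻¹} : Set G) = Subgroup.centralizer ({a} : Set G) := by
  ext y
  simp only [Subgroup.mem_centralizer_iff, Set.mem_singleton_iff, forall_eq]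
  constructor
  · intro h1
    calc a * y = a * (y * a⁻¹) * a := by group
      _ = a * (a⁻¹ * y) * a := by rw [h1]
      _ = y * a := by group
  · intro h1
    calc a⁻¹ * y = a⁻¹ * (y * a) * a⁻¹ := by group
      _ = a⁻¹ * (a * y) * a⁻¹ := by rw [h1]
      _ = y * a⁻¹ := by group

/-- NONUNIF sub-piece (c): cube depth. -/
theorem h73_p3_nonunif_c {G : Type*} [Group G] [Finite G] (n : ℕ) (hn : 5 ≤ n) (hG : Nat.card G = 3 ^ n) (x : G)
    (hx : x ^ 3 = 1) (hC : Nat.card (Subgroup.centralizer ({x} : Set G)) = 3 ^ 2)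
    (hab : ∀ a ∈ gam G 2, ∀ b ∈ gam G 2, a * b = b * a) (h : G) (hh : h ∉ gam G 2)
    (hCh : Nat.card (Subgroup.centralizer ({h} : Set G)) ≠ 3 ^ 2)
    (hb : ∀ j, 2 ≤ j → ∀ v ∈ gam G j, com v h ∈ gam G (j + 2)) :
    h ^ 3 ∈ gam G 3 ∧ h ^ 3 ∉ gam G 4 := by
  classical
  have : Fact (Nat.Prime 3) := ⟨by norm_num⟩
  have hp3 : Nat.Prime 3 := by norm_num
  have hn3 : 3 ≤ n := by omega
  have htop : ∀ g : G, g ∈ gam G 1 := fun g => by
    show g ∈ (⊤ : Subgroup G).lowerCentralSeries 0
    exact Subgroup.mem_top g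
  have hcard : ∀ i, 2 ≤ i → i ≤ n → Nat.card (gam G i) = 3 ^ (n - i) :=
    fun i hi hin => h79_px_card 3 n hG x hC hn3 i hi hin
  have hnil : gam G n = ⊥ := by
    have h1 := hcard n (by omega) le_rfl
    rw [Nat.sub_self, pow_zero] at h1
    exact Subgroup.card_eq_one.mp h1
  have honto : ∀ w, 1 ≤ w → ∀ y ∈ gam G (w + 1), ∃ g ∈ gam G w, com x g = y := by
    intro w hw y hy
    rcases Nat.lt_or_ge n (w + 1) with h3 | h3
    · have hy1 : y = 1 := by
        have h4 : y ∈ gam G n := gam_antitone (by omega) hy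
        rw [hnil] at h4
        exact Subgroup.mem_bot.mp h4
      exact ⟨1, Subgroup.one_mem _, by simp [com, hy1]⟩
    · exact h79_px_onto 3 n hG x hC hn3 w hw h3 y hy
  have huni : ∀ i, 2 ≤ i → i + 2 ≤ n → ∀ m ∈ gam G i, m ∉ gam G (i + 1) →
      com m x ∉ gam G (i + 2) :=
    fun i hi hin m hm hm' => (h79_px_unis 3 n hG x hC hn3 i hi hin m hm hm').2
  have hf34 := Cfsg.Agent.Lib.helper80.PearlF34.pearl_f34 3 n x hx hnil honto huni
  have hxn : x ∉ gam G 2 := h79_px_not_mem 3 n hG x hC hn3
  have huni1 : ∀ m ∈ gam G 2, Nat.card (Subgroup.centralizer ({x * m} : Set G)) = 3 ^ 2 := by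
    intro m hm
    obtain ⟨g, hg⟩ := h79_px_conj 3 n hG x hC hn3 m hm
    rw [← hg, h73_card_conj, hC]
  have huni2 : ∀ m ∈ gam G 2, Nat.card (Subgroup.centralizer ({x⁻¹ * m} : Set G)) = 3 ^ 2 := by
    intro m hm
    have h1 : x⁻¹ * m = (x * (x⁻¹ * m⁻¹ * x))⁻¹ := by group
    rw [h1, h73_centralizer_inv]
    apply huni1
    have h2 := (gam_normal (H := G) 2).conj_mem m⁻¹ ((gam G 2).inv_mem hm) x⁻¹
    simpa using h2
  have hhK : h ∉ Subgroup.zpowers x ⊔ gam G 2 := by
    intro hK
    have h1 : h ∈ ((Subgroup.zpowers x ⊔ gam G 2 : Subgroup G) : Set G) := hK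
    rw [Subgroup.mul_normal] at h1
    obtain ⟨a, ha, m, hm, hamh⟩ := Set.mem_mul.1 h1
    obtain ⟨k, hka⟩ := Subgroup.mem_zpowers_iff.1 ha
    have hx3 : x ^ (3 : ℤ) = 1 := by exact_mod_cast hx
    have hk : x ^ k = x ^ (k % 3) := by
      have h5 : x ^ (k % 3 + 3 * (k / 3)) = x ^ (k % 3) := by
        rw [zpow_add, zpow_mul, hx3, one_zpow, mul_one]
      rw [Int.emod_add_mul_ediv] at h5
      exact h5
    have hk0 : 0 ≤ k % 3 := Int.emod_nonneg k (by norm_num)
    have hk3 : k % 3 < 3 := Int.emod_lt_of_pos k (by norm_num)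
    rw [← hamh, ← hka, hk] at hh hCh
    generalize k % 3 = r at hk0 hk3 hh hCh
    interval_cases r
    · apply hh
      simpa using hm
    · apply hCh
      simpa using huni1 m hm
    · apply hCh
      have h2 : x ^ (2 : ℤ) = x⁻¹ := by
        have h3 : x ^ (2 : ℤ) * x = 1 := by
          have h4 := hx3
          rw [show (3 : ℤ) = 2 + 1 by norm_num, zpow_add, zpow_one] at h4
          exact h4
        exact eq_inv_of_mul_eq_one_left h3
      rw [h2]
      exact huni2 m hm
  have hc2 : com h x ∈ gam G 2 := by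
    have h1 := com_mem (htop h) (htop x)
    simpa using h1
  have hc3 : com h x ∉ gam G 3 := by
    intro hc3
    let N : Subgroup G :=
      { carrier := {g | com g x ∈ gam G 3}
        one_mem' := by
          show com 1 x ∈ gam G 3
          have h1 : com (1 : G) x = 1 := by unfold com; group
          rw [h1]
          exact Subgroup.one_mem _
        mul_mem' := by
          intro a b ha hb'
          show com (a * b) x ∈ gam G 3
          have h1 : com (a * b) x = b⁻¹ * com a x * b * com b x := by unfold com; group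
          rw [h1]
          have h2 : b⁻¹ * com a x * b ∈ gam G 3 := by
            have h3 := (gam_normal (H := G) 3).conj_mem _ ha b⁻¹
            simpa using h3
          exact Subgroup.mul_mem _ h2 hb'
        inv_mem' := by
          intro a ha
          show com a⁻¹ x ∈ gam G 3
          have h1 : com a⁻¹ x = a * (com a x)⁻¹ * a⁻¹ := by unfold com; group
          rw [h1]
          exact (gam_normal (H := G) 3).conj_mem _ (Subgroup.inv_mem _ ha) a }
    have hxN : x ∈ N := by
      show com x x ∈ gam G 3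
      have h1 : com x x = 1 := by unfold com; group
      rw [h1]
      exact Subgroup.one_mem _
    have hhN : h ∈ N := hc3
    have hPN : gam G 2 ≤ N := by
      intro g hg
      show com g x ∈ gam G 3
      have h1 := com_mem hg (htop x)
      simpa using h1
    have hKN : Subgroup.zpowers x ⊔ gam G 2 ≤ N := sup_le ((Subgroup.zpowers_le).2 hxN) hPN
    have hstrict : ∀ A B : Subgroup G, A < B → 3 * Nat.card A ≤ Nat.card B := by
      intro A B hAB
      have hB : Nat.card B ∣ 3 ^ n := hG ▸ Subgroup.card_subgroup_dvd_card B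
      obtain ⟨b, -, hb'⟩ := (Nat.dvd_prime_pow hp3).1 hB
      have hA : Nat.card A ∣ 3 ^ b := hb' ▸ Subgroup.card_dvd_of_le hAB.le
      obtain ⟨a, hab', ha⟩ := (Nat.dvd_prime_pow hp3).1 hA
      have hne : a ≠ b := by
        rintro rfl
        exact hAB.ne (Subgroup.eq_of_le_of_card_ge hAB.le (by rw [ha, hb']))
      rw [ha, hb']
      calc 3 * 3 ^ a = 3 ^ (a + 1) := by ring
        _ ≤ 3 ^ b := Nat.pow_le_pow_right (by norm_num) (by omega)
    have h1 : gam G 2 < Subgroup.zpowers x ⊔ gam G 2 := by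
      refine lt_of_le_of_ne le_sup_right ?_
      intro heq
      apply hxn
      rw [heq]
      exact (le_sup_left : Subgroup.zpowers x ≤ Subgroup.zpowers x ⊔ gam G 2)
        (Subgroup.mem_zpowers x)
    have h2 : Subgroup.zpowers x ⊔ gam G 2 < N := by
      refine lt_of_le_of_ne hKN ?_
      intro heq
      apply hhK
      rw [heq]
      exact hhN
    have hNtop : N = ⊤ := by
      apply Subgroup.eq_top_of_le_card
      have e1 := hstrict _ _ h1
      have e2 := hstrict _ _ h2
      rw [hcard 2 le_rfl (by omega)] at e1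
      rw [hG]
      have e3 : 3 ^ n = 3 * (3 * 3 ^ (n - 2)) := by
        have h5 : n = (n - 2) + 2 := by omega
        conv_lhs => rw [h5]
        ring
      rw [e3]
      calc 3 * (3 * 3 ^ (n - 2))
          ≤ 3 * Nat.card (Subgroup.zpowers x ⊔ gam G 2 : Subgroup G) := Nat.mul_le_mul_left 3 e1
        _ ≤ Nat.card N := e2
    have hle : gam G 2 ≤ gam G 3 := by
      intro m hm
      obtain ⟨g, hg⟩ := h79_px_onto1 3 n hG x hC hn3 m hm
      have hgN : g ∈ N := by
        rw [hNtop]
        exact Subgroup.mem_top g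
      have h3 : com x g = (com g x)⁻¹ := by unfold com; group
      rw [← hg, h3]
      exact Subgroup.inv_mem _ hgN
    have e4 := Subgroup.card_le_of_le hle
    rw [hcard 2 le_rfl (by omega), hcard 3 (by norm_num) (by omega)] at e4
    have e5 : 3 ^ (n - 3) < 3 ^ (n - 2) := Nat.pow_lt_pow_right (by norm_num) (by omega)
    omega
  have hd4 : com (com h x) h ∈ gam G 4 := by
    have h1 := hb 2 le_rfl (com h x) hc2
    simpa using h1
  have he6 : com (com (com h x) h) h ∈ gam G 6 := by
    have h1 := hb 4 (by norm_num) _ hd4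
    simpa using h1
  have hd2 : com (com h x) h ∈ gam G 2 := gam_antitone (by norm_num) hd4
  have he2 : com (com (com h x) h) h ∈ gam G 2 := gam_antitone (by norm_num) he6
  have hid : com (h ^ 3) x = (com h x * com (com h x) h *
      (com (com h x) h * com (com (com h x) h) h)) * (com h x * com (com h x) h) * com h x := by
    have e3 : h ^ 3 = h * h * h := by rw [pow_succ, pow_succ, pow_one]
    rw [e3]
    unfold com
    group
  have hkey := h73_comm3 (com h x) (com (com h x) h) (com (com (com h x) h) h)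
    (hab _ hd2 _ hc2) (hab _ he2 _ hc2) (hab _ he2 _ hd2)
  rw [hkey] at hid
  have hc34 : (com h x) ^ 3 ∈ gam G 4 := by
    have h1 := (hf34 2 le_rfl (com h x) hc2).1
    simpa using h1
  have hc35 : (com h x) ^ 3 ∉ gam G 5 := by
    have h1 := (hf34 2 le_rfl (com h x) hc2).2 (by omega) (by simpa using hc3)
    simpa using h1
  have hd36 : (com (com h x) h) ^ 3 ∈ gam G 6 := by
    have h1 := (hf34 4 (by norm_num) _ hd4).1
    simpa using h1
  have ht6 : (com (com h x) h) ^ 3 * com (com (com h x) h) h ∈ gam G 6 :=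
    Subgroup.mul_mem _ hd36 he6
  have hy4 : com (h ^ 3) x ∈ gam G 4 := by
    rw [hid]
    exact Subgroup.mul_mem _ hc34 (gam_antitone (by norm_num) ht6)
  have hy5 : com (h ^ 3) x ∉ gam G 5 := by
    rw [hid]
    intro h5
    apply hc35
    have h6 : (com h x) ^ 3 = ((com h x) ^ 3 *
        ((com (com h x) h) ^ 3 * com (com (com h x) h) h)) *
        ((com (com h x) h) ^ 3 * com (com (com h x) h) h)⁻¹ := by group
    rw [h6]
    exact Subgroup.mul_mem _ h5 (Subgroup.inv_mem _ (gam_antitone (by norm_num) ht6))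
  have hy2 : h ^ 3 ∈ gam G 2 := by
    by_contra hcon
    have hQ : Nat.card (G ⧸ gam G 2) = 9 := by
      have h1 := h79_px_index 3 n hG x hC hn3 2 le_rfl (by omega)
      rw [Subgroup.index_eq_card] at h1
      rw [h1]
      norm_num
    have hq3 : ((h : G ⧸ gam G 2)) ^ 3 ≠ 1 := by
      intro h1
      apply hcon
      rw [← QuotientGroup.mk_pow, QuotientGroup.eq_one_iff] at h1
      exact h1
    have hord : orderOf (h : G ⧸ gam G 2) = 9 := by
      have hdvd : orderOf (h : G ⧸ gam G 2) ∣ 3 ^ 2 := by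
        have h1 := orderOf_dvd_natCard (h : G ⧸ gam G 2)
        rw [hQ] at h1
        exact h1
      obtain ⟨j, hj, hj'⟩ := (Nat.dvd_prime_pow hp3).1 hdvd
      have hj2 : j = 2 := by
        by_contra hne
        have hj1 : j ≤ 1 := by omega
        apply hq3
        apply orderOf_dvd_iff_pow_eq_one.1
        rw [hj']
        have h3 := pow_dvd_pow 3 hj1
        rwa [pow_one] at h3
      rw [hj', hj2]
      norm_num
    have hzp : Subgroup.zpowers (h : G ⧸ gam G 2) = ⊤ :=
      Subgroup.eq_top_of_card_eq _ (by rw [Nat.card_zpowers, hord, hQ])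
    have hxz : (x : G ⧸ gam G 2) ∈ Subgroup.zpowers (h : G ⧸ gam G 2) := by
      rw [hzp]
      exact Subgroup.mem_top _
    obtain ⟨k, hk⟩ := Subgroup.mem_zpowers_iff.1 hxz
    rw [← QuotientGroup.mk_zpow, QuotientGroup.eq] at hk
    apply hc3
    have h1 : com h x = com h ((h ^ k)⁻¹ * x) := by
      unfold com
      group
    rw [h1]
    have h2 := com_mem (htop h) hk
    simpa using h2
  refine ⟨?_, ?_⟩
  · by_contra h3
    have h4 := (h79_px_unis 3 n hG x hC hn3 2 le_rfl (by omega) (h ^ 3) hy2 (by simpa using h3)).2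
    apply h4
    simpa using hy4
  · intro h4
    apply hy5
    have h5 := com_mem h4 (htop x)
    simpa using h5

end Cfsg.Agent.Lib.helper79.P3
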