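import Mathlib

set_option autoImplicit false

namespace Cfsg.Agent.Lib.helper73

/-- A subgroup of order `p ^ k` is generated by at most `k` elements. -/
theorem h73_pgroup_gen_le {G : Type*} [Group G] [Finite G] (p : ℕ) [hp : Fact p.Prime] (k : ℕ)
    (K : Subgroup G) (hK : Nat.card K = p ^ k) :
    ∃ T : Finset G, T.card ≤ k ∧ Subgroup.closure (T : Set G) = K := by
  classical
  have claim : ∀ j : ℕ, ∃ T : Finset G, T.card ≤ j ∧ Subgroup.closure (T : Set G) ≤ K ∧
      (Subgroup.closure (T : Set G) = K ∨ p ^ j ≤ Nat.card (Subgroup.closure (T : Set G))) := by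
    intro j
    induction j with
    | zero =>
      refine ⟨∅, by simp, by simp, Or.inr ?_⟩
      simp
    | succ j ih =>
      obtain ⟨T, hT, hle, h⟩ := ih
      by_cases heq : Subgroup.closure (T : Set G) = K
      · exact ⟨T, by omega, hle, Or.inl heq⟩
      · have hpj : p ^ j ≤ Nat.card (Subgroup.closure (T : Set G)) := h.resolve_left heq
        have hlt : Subgroup.closure (T : Set G) < K := lt_of_le_of_ne hle heq
        obtain ⟨h0, h0K, h0T⟩ := SetLike.exists_of_lt hlt
        refine ⟨insert h0 T, ?_, ?_, Or.inr ?_⟩
        · exact (Finset.card_insert_le h0 T).trans (by omega)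
        · rw [Subgroup.closure_le]
          intro y hy
          rw [Finset.coe_insert] at hy
          rcases hy with rfl | hy
          · exact h0K
          · exact hle (Subgroup.subset_closure hy)
        · have hsub : Subgroup.closure (T : Set G) ≤ Subgroup.closure ((insert h0 T : Finset G) : Set G) := by
            apply Subgroup.closure_mono
            rw [Finset.coe_insert]
            exact Set.subset_insert _ _
          have hle' : Subgroup.closure ((insert h0 T : Finset G) : Set G) ≤ K := by
            rw [Subgroup.closure_le]
            intro y hy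
            rw [Finset.coe_insert] at hy
            rcases hy with rfl | hy
            · exact h0K
            · exact hle (Subgroup.subset_closure hy)
          have hne : Subgroup.closure (T : Set G) ≠ Subgroup.closure ((insert h0 T : Finset G) : Set G) := by
            intro he
            apply h0T
            rw [he]
            apply Subgroup.subset_closure
            rw [Finset.coe_insert]
            exact Set.mem_insert _ _
          have hlt' : Subgroup.closure (T : Set G) < Subgroup.closure ((insert h0 T : Finset G) : Set G) :=
            lt_of_le_of_ne hsub hne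
          have hd1 : Nat.card (Subgroup.closure (T : Set G)) ∣ p ^ k := hK ▸ Subgroup.card_dvd_of_le hle
          have hd2 : Nat.card (Subgroup.closure ((insert h0 T : Finset G) : Set G)) ∣ p ^ k :=
            hK ▸ Subgroup.card_dvd_of_le hle'
          obtain ⟨a, -, ha⟩ := (Nat.dvd_prime_pow hp.out).1 hd1
          obtain ⟨b, -, hb⟩ := (Nat.dvd_prime_pow hp.out).1 hd2
          have hcl : Nat.card (Subgroup.closure (T : Set G)) <
              Nat.card (Subgroup.closure ((insert h0 T : Finset G) : Set G)) := by
            have hdvd := Subgroup.card_dvd_of_le hsub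
            have hle2 := Nat.le_of_dvd Nat.card_pos hdvd
            rcases Nat.lt_or_ge (Nat.card (Subgroup.closure (T : Set G)))
              (Nat.card (Subgroup.closure ((insert h0 T : Finset G) : Set G))) with h1 | h1
            · exact h1
            · exact absurd (Subgroup.eq_of_le_of_card_ge hsub h1) hne
          rw [ha, hb] at hcl
          have hab : a < b := (Nat.pow_lt_pow_iff_right hp.out.one_lt).1 hcl
          rw [ha] at hpj
          have hja : j ≤ a := (Nat.pow_le_pow_iff_right hp.out.one_lt).1 hpj
          rw [hb]
          exact Nat.pow_le_pow_right hp.out.pos (by omega)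
  obtain ⟨T, hT, hle, h⟩ := claim k
  refine ⟨T, hT, ?_⟩
  rcases h with h | h
  · exact h
  · exact Subgroup.eq_of_le_of_card_ge hle (hK ▸ h)

/-- Burnside basis (weak form): if the Frattini quotient has order dividing `p ^ d`, then the
group is generated by at most `d` elements. -/
theorem h73_gen_of_frattini {K : Type*} [Group K] [Finite K] (p : ℕ) [hp : Fact p.Prime] (d : ℕ)
    (hidx : Nat.card (K ⧸ frattini K) ∣ p ^ d) :
    ∃ T : Finset K, T.card ≤ d ∧ Subgroup.closure (T : Set K) = ⊤ := by
  classical
  obtain ⟨e, hed, he⟩ := (Nat.dvd_prime_pow hp.out).1 hidx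
  have htop : Nat.card (⊤ : Subgroup (K ⧸ frattini K)) = p ^ e := by
    rw [Subgroup.card_top]; exact he
  obtain ⟨T0, hT0, hcl0⟩ := h73_pgroup_gen_le p e (⊤ : Subgroup (K ⧸ frattini K)) htop
  refine ⟨T0.image Quotient.out, (Finset.card_image_le).trans (hT0.trans hed), ?_⟩
  have hmap : (Subgroup.closure ((T0.image Quotient.out : Finset K) : Set K)).map
      (QuotientGroup.mk' (frattini K)) = ⊤ := by
    rw [MonoidHom.map_closure, ← hcl0]
    congr 1
    ext q
    constructor
    · rintro ⟨y, hy, rfl⟩
      rw [Finset.coe_image] at hy
      obtain ⟨q0, hq0, rfl⟩ := hy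
      have : (QuotientGroup.mk' (frattini K)) (Quotient.out q0) = q0 := Quotient.out_eq' q0
      rw [this]
      exact hq0
    · intro hq
      refine ⟨Quotient.out q, ?_, Quotient.out_eq' q⟩
      rw [Finset.coe_image]
      exact ⟨q, hq, rfl⟩
  have hsup : Subgroup.closure ((T0.image Quotient.out : Finset K) : Set K) ⊔ frattini K = ⊤ := by
    have h1 := Subgroup.comap_map_eq (QuotientGroup.mk' (frattini K))
      (Subgroup.closure ((T0.image Quotient.out : Finset K) : Set K))
    rw [hmap, Subgroup.comap_top, QuotientGroup.ker_mk'] at h1
    exact h1.symm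
  exact frattini_nongenerating hsup

/-- Subgroup form of `h73_gen_of_frattini`. -/
theorem h73_gen_of_frattini_sub {G : Type*} [Group G] [Finite G] (p : ℕ) [hp : Fact p.Prime]
    (d : ℕ) (H : Subgroup G) (hidx : Nat.card (↥H ⧸ frattini ↥H) ∣ p ^ d) :
    ∃ T : Finset G, T.card ≤ d ∧ Subgroup.closure (T : Set G) = H := by
  classical
  obtain ⟨T, hT, hcl⟩ := h73_gen_of_frattini p d hidx
  refine ⟨T.image (Subtype.val), (Finset.card_image_le).trans hT, ?_⟩
  have h1 : ((T.image (Subtype.val) : Finset G) : Set G) = H.subtype '' (T : Set ↥H) := by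
    rw [Finset.coe_image]
    rfl
  rw [h1, ← MonoidHom.map_closure, hcl, ← MonoidHom.range_eq_map, Subgroup.range_subtype]

end Cfsg.Agent.Lib.helper73
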