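import Mathlib

set_option autoImplicit false

/-!
# Power graphs: basic facts on adjacency, twins, cyclic subgroups
-/

namespace Cfsg.Agent.Lib.helper73.PG

open Subgroup

section NT

theorem nt1 {m1 m2 n s s' : ℕ} (h12 : m1 ∣ m2) (hne : m1 ≠ m2) (h1 : m1 ≠ 1) (h2n : m2 ∣ n)
    (hn : n ≠ 0) (hs : s.Prime) (hs' : s'.Prime) (hss : s ≠ s') (hsn : s ∣ n) (hsn' : s' ∣ n) :
    ∃ d, d ∣ n ∧ ¬((d ∣ m1 ∨ m1 ∣ d) ↔ (d ∣ m2 ∨ m2 ∣ d)) := by
  have hm2 : m2 ≠ 0 := fun h => hn (by rw [h] at h2n; exact Nat.eq_zero_of_zero_dvd h2n)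
  have hm1 : m1 ≠ 0 := fun h => hm2 (by rw [h] at h12; exact Nat.eq_zero_of_zero_dvd h12)
  by_cases hA : ∃ t : ℕ, t.Prime ∧ t ∣ m2 ∧ ¬ t ∣ m1
  · obtain ⟨t, ht, ht2, ht1⟩ := hA
    refine ⟨t, ht2.trans h2n, ?_⟩
    intro h
    rcases h.2 (Or.inl ht2) with h3 | h3
    · exact ht1 h3
    · rcases (Nat.dvd_prime ht).1 h3 with h4 | h4
      · exact h1 h4
      · exact ht1 (h4 ▸ dvd_rfl)
  · have hA' : ∀ t : ℕ, t.Prime → t ∣ m2 → t ∣ m1 := by
      intro t ht ht2
      by_contra h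
      exact hA ⟨t, ht, ht2, h⟩
    obtain ⟨k, hk⟩ := h12
    have hk1 : k ≠ 1 := by
      rintro rfl
      exact hne (by rw [hk, mul_one])
    have hr : (k.minFac).Prime := Nat.minFac_prime hk1
    set r := k.minFac with hrdef
    have hrk : r ∣ k := Nat.minFac_dvd k
    have hrm2 : m1 * r ∣ m2 := by rw [hk]; exact mul_dvd_mul_left m1 hrk
    have hrm1 : r ∣ m1 := hA' r hr ((dvd_mul_left r m1).trans hrm2)
    have hpw : r ^ (m1.factorization r + 1) ∣ m2 := by
      rw [pow_succ]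
      exact (mul_dvd_mul_right (Nat.ordProj_dvd m1 r) r).trans hrm2
    by_cases hB : ∃ t : ℕ, t.Prime ∧ t ≠ r ∧ t ∣ m1
    · obtain ⟨t, ht, htr, htm1⟩ := hB
      refine ⟨r ^ (m1.factorization r + 1), hpw.trans h2n, ?_⟩
      intro h
      rcases h.2 (Or.inl hpw) with h4 | h4
      · exact Nat.pow_succ_factorization_not_dvd hm1 hr h4
      · have h5 := Nat.Prime.dvd_of_dvd_pow ht (htm1.trans h4)
        exact htr ((Nat.prime_dvd_prime_iff_eq ht hr).1 h5)
    · have hB' : ∀ t : ℕ, t.Prime → t ≠ r → ¬ t ∣ m1 := by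
        intro t ht htr h
        exact hB ⟨t, ht, htr, h⟩
      obtain ⟨s₀, hs₀, hs₀r, hs₀n⟩ : ∃ s₀ : ℕ, s₀.Prime ∧ s₀ ≠ r ∧ s₀ ∣ n := by
        by_cases h : s = r
        · exact ⟨s', hs', fun h' => hss (h.trans h'.symm), hsn'⟩
        · exact ⟨s, hs, h, hsn⟩
      have hs₀m1 : ¬ s₀ ∣ m1 := hB' s₀ hs₀ hs₀r
      have hs₀m2 : ¬ s₀ ∣ m2 := fun h => hs₀m1 (hA' s₀ hs₀ h)
      refine ⟨m1 * s₀, ?_, ?_⟩
      · exact Nat.Coprime.mul_dvd_of_dvd_of_dvd
          ((Nat.Prime.coprime_iff_not_dvd hs₀).2 hs₀m1).symm ((Dvd.intro k hk.symm).trans h2n) hs₀n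
      · intro h
        rcases h.1 (Or.inr (dvd_mul_right m1 s₀)) with h4 | h4
        · exact hs₀m2 ((dvd_mul_left s₀ m1).trans h4)
        · have hc : Nat.Coprime m2 s₀ := ((Nat.Prime.coprime_iff_not_dvd hs₀).2 hs₀m2).symm
          have h5 : m2 ∣ m1 := hc.dvd_of_dvd_mul_right h4
          exact hne (Nat.dvd_antisymm (Dvd.intro k hk.symm) h5)

theorem nt2 {d n s₁ s₂ : ℕ} (hn : n ≠ 0) (hd : d ∣ n) (hd1 : d ≠ 1) (hdn : d ≠ n)
    (hs₁ : s₁.Prime) (hs₂ : s₂.Prime) (hss : s₁ ≠ s₂) (h1 : s₁ ∣ n) (h2 : s₂ ∣ n) :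
    ∃ s : ℕ, s.Prime ∧ s ∣ n ∧ ¬ d ∣ s ^ n.factorization s ∧ ¬ s ^ n.factorization s ∣ d := by
  have hd0 : d ≠ 0 := fun h => hn (by rw [h] at hd; exact Nat.eq_zero_of_zero_dvd hd)
  have hnd : ¬ n ∣ d := fun h => hdn (Nat.dvd_antisymm hd h)
  rw [← Nat.factorization_le_iff_dvd hn hd0, Finsupp.le_def] at hnd
  push Not at hnd
  obtain ⟨t, ht⟩ := hnd
  have htp : t.Prime := by
    by_contra h
    rw [Nat.factorization_eq_zero_of_not_prime n h] at ht
    exact Nat.not_lt_zero _ ht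
  have htn : t ∣ n := Nat.dvd_of_factorization_pos (by omega)
  have hq : ¬ t ^ n.factorization t ∣ d := by
    intro h
    have := (Nat.Prime.pow_dvd_iff_le_factorization htp hd0).1 h
    omega
  by_cases hdq : d ∣ t ^ n.factorization t
  · obtain ⟨s₀, hs₀, hs₀t, hs₀n⟩ : ∃ s₀ : ℕ, s₀.Prime ∧ s₀ ≠ t ∧ s₀ ∣ n := by
      by_cases h : s₁ = t
      · exact ⟨s₂, hs₂, fun h' => hss (h.trans h'.symm), h2⟩
      · exact ⟨s₁, hs₁, h, h1⟩
    obtain ⟨i, _, hi⟩ := (Nat.dvd_prime_pow htp).1 hdq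
    have hi0 : i ≠ 0 := by
      rintro rfl
      exact hd1 (by rw [hi, pow_zero])
    have htd : t ∣ d := by rw [hi]; exact dvd_pow_self t hi0
    have hv : 0 < n.factorization s₀ := Nat.Prime.factorization_pos_of_dvd hs₀ hn hs₀n
    refine ⟨s₀, hs₀, hs₀n, ?_, ?_⟩
    · intro h
      have h5 := Nat.Prime.dvd_of_dvd_pow htp (htd.trans h)
      exact hs₀t ((Nat.prime_dvd_prime_iff_eq htp hs₀).1 h5).symm
    · intro h
      have h5 : s₀ ∣ t ^ n.factorization t := ((dvd_pow_self s₀ hv.ne').trans h).trans hdq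
      have h6 := Nat.Prime.dvd_of_dvd_pow hs₀ h5
      exact hs₀t ((Nat.prime_dvd_prime_iff_eq hs₀ htp).1 h6)
  · exact ⟨t, htp, htn, hdq, hq⟩

theorem nt3 {γ u v : ℕ} (hγ : γ ≠ 0)
    (h : ∀ s s' : ℕ, s.Prime → s'.Prime → s ∣ γ → s' ∣ γ → s = s') (hu : u ∣ γ) (hv : v ∣ γ) :
    u ∣ v ∨ v ∣ u := by
  by_cases h1 : γ = 1
  · left
    rw [h1, Nat.dvd_one] at hu
    rw [hu]; exact one_dvd v
  · have hr : (γ.minFac).Prime := Nat.minFac_prime h1
    have heq := Nat.eq_prime_pow_of_unique_prime_dvd hγ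
      (fun {d} hd hdvd => h d γ.minFac hd hr hdvd (Nat.minFac_dvd γ))
    rw [heq] at hu hv
    obtain ⟨i, _, hi⟩ := (Nat.dvd_prime_pow hr).1 hu
    obtain ⟨j, _, hj⟩ := (Nat.dvd_prime_pow hr).1 hv
    rw [hi, hj]
    rcases le_total i j with hij | hij
    · exact Or.inl (pow_dvd_pow _ hij)
    · exact Or.inr (pow_dvd_pow _ hij)

end NT

section Basic
variable {G : Type*} [Group G]

/-- Adjacency in the (reflexive) power graph. -/
def Adj (x y : G) : Prop := x ∈ zpowers y ∨ y ∈ zpowers x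

theorem adj_comm {x y : G} : Adj x y ↔ Adj y x := Or.comm
theorem adj_refl (x : G) : Adj x x := Or.inl (mem_zpowers x)
theorem adj_one (x : G) : Adj 1 x := Or.inl (one_mem _)
theorem adj_one' (x : G) : Adj x 1 := Or.inr (one_mem _)

/-- Closed twins: vertices with the same closed neighbourhood. -/
def Twin (x y : G) : Prop := ∀ w : G, Adj w x ↔ Adj w y

theorem twin_refl (x : G) : Twin x x := fun _ => Iff.rfl
theorem Twin.symm {x y : G} (h : Twin x y) : Twin y x := fun w => (h w).symm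
theorem Twin.trans {x y z : G} (h : Twin x y) (h' : Twin y z) : Twin x z :=
  fun w => (h w).trans (h' w)
theorem Twin.adj {x y : G} (h : Twin x y) : Adj x y := (h x).1 (adj_refl x)

theorem twin_of_zpowers_eq {x y : G} (h : zpowers x = zpowers y) : Twin x y := by
  intro w
  unfold Adj
  rw [h]
  constructor
  · rintro (h1 | h1)
    · exact Or.inl h1
    · right
      have h2 : zpowers x ≤ zpowers w := (zpowers_le).2 h1
      exact h2 (h ▸ mem_zpowers y)
  · rintro (h1 | h1)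
    · exact Or.inl h1
    · right
      have h2 : zpowers y ≤ zpowers w := (zpowers_le).2 h1
      exact h2 (h ▸ mem_zpowers x)

variable [Finite G]

theorem mem_zpowers_pow_div {g u : G} (hu : u ∈ zpowers g) :
    u ∈ zpowers (g ^ (orderOf g / orderOf u)) := by
  obtain ⟨k, rfl⟩ := (Submonoid.mem_powers_iff _ _).1 (mem_powers_iff_mem_zpowers.2 hu)
  have hn : orderOf g ≠ 0 := (orderOf_pos g).ne'
  rw [orderOf_pow, Nat.div_div_self (Nat.gcd_dvd_left _ _) hn]
  have : g ^ k = (g ^ Nat.gcd (orderOf g) k) ^ (k / Nat.gcd (orderOf g) k) := by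
    rw [← pow_mul, Nat.mul_div_cancel' (Nat.gcd_dvd_right _ _)]
  rw [this]
  exact Subgroup.pow_mem _ (mem_zpowers _) _

theorem zpowers_eq_of_mem {g v : G} (hv : v ∈ zpowers g) :
    zpowers v = zpowers (g ^ (orderOf g / orderOf v)) := by
  apply Subgroup.eq_of_le_of_card_ge ((zpowers_le).2 (mem_zpowers_pow_div hv))
  rw [Nat.card_zpowers, Nat.card_zpowers,
    orderOf_pow_orderOf_div (orderOf_pos g).ne' (orderOf_dvd_of_mem_zpowers hv)]

theorem mem_zpowers_of_orderOf_dvd {g u v : G} (hu : u ∈ zpowers g) (hv : v ∈ zpowers g)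
    (h : orderOf u ∣ orderOf v) : u ∈ zpowers v := by
  rw [zpowers_eq_of_mem hv]
  have h1 := mem_zpowers_pow_div hu
  refine (zpowers_le.2 ?_) h1
  have hvn : orderOf v ∣ orderOf g := orderOf_dvd_of_mem_zpowers hv
  obtain ⟨c, hc⟩ := h
  obtain ⟨d, hd⟩ := hvn
  have hu0 : 0 < orderOf u := orderOf_pos u
  have hv0 : 0 < orderOf v := orderOf_pos v
  have e1 : orderOf g / orderOf v = d := by
    rw [hd]; exact Nat.mul_div_cancel_left d hv0
  have e2 : orderOf g / orderOf u = d * c := by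
    rw [hd, hc, mul_assoc, Nat.mul_div_cancel_left _ hu0, mul_comm]
  rw [e1, e2, pow_mul]
  exact Subgroup.pow_mem _ (mem_zpowers _) _

theorem adj_iff_dvd {g u v : G} (hu : u ∈ zpowers g) (hv : v ∈ zpowers g) :
    Adj u v ↔ (orderOf u ∣ orderOf v ∨ orderOf v ∣ orderOf u) := by
  constructor
  · rintro (h | h)
    · exact Or.inl (orderOf_dvd_of_mem_zpowers h)
    · exact Or.inr (orderOf_dvd_of_mem_zpowers h)
  · rintro (h | h)
    · exact Or.inl (mem_zpowers_of_orderOf_dvd hu hv h)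
    · exact Or.inr (mem_zpowers_of_orderOf_dvd hv hu h)

theorem pow_div_mem (g : G) (d : ℕ) : g ^ (orderOf g / d) ∈ zpowers g :=
  Subgroup.pow_mem _ (mem_zpowers g) _

theorem orderOf_pow_div {g : G} {d : ℕ} (hd : d ∣ orderOf g) : orderOf (g ^ (orderOf g / d)) = d :=
  orderOf_pow_orderOf_div (orderOf_pos g).ne' hd

theorem zpowers_eq_of_mem_of_orderOf_eq {x y : G} (h : x ∈ zpowers y) (ho : orderOf x = orderOf y) :
    zpowers x = zpowers y :=
  Subgroup.eq_of_le_of_card_ge (zpowers_le.2 h) (by rw [Nat.card_zpowers, Nat.card_zpowers, ho])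

/-- The generators of `zpowers x`. -/
def gensSet (x : G) : Set G := {y | zpowers y = zpowers x}

/-- The closed twins of `x`. -/
def twinSet (x : G) : Set G := {y | Twin y x}

theorem gensSet_subset_twinSet (x : G) : gensSet x ⊆ twinSet x :=
  fun _ hy => twin_of_zpowers_eq hy

theorem ncard_gensSet (x : G) : (gensSet x).ncard = Nat.totient (orderOf x) := by
  classical
  have hn : 0 < orderOf x := orderOf_pos x
  have hset : gensSet x =
      (fun k : ℕ => x ^ k) '' (((Finset.range (orderOf x)).filter (orderOf x).Coprime : Finset ℕ) : Set ℕ) := by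
    ext y
    constructor
    · intro hy
      have hy' : zpowers y = zpowers x := hy
      have hyx : y ∈ zpowers x := hy' ▸ mem_zpowers y
      obtain ⟨k, rfl⟩ := (Submonoid.mem_powers_iff _ _).1 (mem_powers_iff_mem_zpowers.2 hyx)
      refine ⟨k % orderOf x, ?_, by simp [pow_mod_orderOf]⟩
      have ho : orderOf (x ^ k) = orderOf x := by
        rw [← Nat.card_zpowers, hy', Nat.card_zpowers]
      rw [orderOf_pow] at ho
      have hg : Nat.gcd (orderOf x) k = 1 := by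
        rcases Nat.div_eq_self.1 ho with h | h
        · omega
        · exact h
      simp only [Finset.coe_filter, Finset.mem_range, Set.mem_setOf_eq]
      refine ⟨Nat.mod_lt _ hn, ?_⟩
      rw [Nat.Coprime, Nat.gcd_comm, ← Nat.gcd_rec]
      exact hg
    · rintro ⟨k, hk, rfl⟩
      simp only [Finset.coe_filter, Finset.mem_range, Set.mem_setOf_eq] at hk
      show zpowers (x ^ k) = zpowers x
      apply zpowers_eq_of_mem_of_orderOf_eq (Subgroup.pow_mem _ (mem_zpowers x) _)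
      rw [orderOf_pow, hk.2, Nat.div_one]
  rw [hset, Set.ncard_image_of_injOn, Set.ncard_coe_finset, Nat.totient_eq_card_coprime]
  intro a ha b hb hab
  simp only [Finset.coe_filter, Finset.mem_range, Set.mem_setOf_eq] at ha hb
  exact pow_injOn_Iio_orderOf (Set.mem_Iio.2 ha.1) (Set.mem_Iio.2 hb.1) hab

end Basic

end Cfsg.Agent.Lib.helper73.PG
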