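import Cfsg.Agent.Lib.helper73.PGraphA

set_option autoImplicit false

/-!
# Power graphs: twins in cyclic subgroups, normalisation of isomorphisms
-/

namespace Cfsg.Agent.Lib.helper73.PG

open Subgroup

section Twins
variable {G : Type*} [Group G] [Finite G]

theorem twin_cyc_aux {g x y : G} {s s' : ℕ} (hs : s.Prime) (hs' : s'.Prime) (hss : s ≠ s')
    (hsn : s ∣ orderOf g) (hsn' : s' ∣ orderOf g) (hx : x ∈ zpowers g) (hy : y ∈ zpowers g)
    (hx1 : x ≠ 1) (hxy : x ∈ zpowers y) (ht : Twin x y) : zpowers x = zpowers y := by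
  have h12 : orderOf x ∣ orderOf y := orderOf_dvd_of_mem_zpowers hxy
  by_cases hne : orderOf x = orderOf y
  · exact zpowers_eq_of_mem_of_orderOf_eq hxy hne
  · exfalso
    have hx1' : orderOf x ≠ 1 := by rwa [Ne, orderOf_eq_one_iff]
    obtain ⟨d, hdn, hd⟩ := nt1 h12 hne hx1' (orderOf_dvd_of_mem_zpowers hy) (orderOf_pos g).ne'
      hs hs' hss hsn hsn'
    apply hd
    have hw : g ^ (orderOf g / d) ∈ zpowers g := pow_div_mem g d
    have hwo : orderOf (g ^ (orderOf g / d)) = d := orderOf_pow_div hdn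
    have := ht (g ^ (orderOf g / d))
    rw [adj_iff_dvd hw hx, adj_iff_dvd hw hy, hwo] at this
    exact this

/-- In a cyclic subgroup whose order has two distinct prime divisors, nonidentity twins generate
the same subgroup. -/
theorem twin_cyc {g x y : G} {s s' : ℕ} (hs : s.Prime) (hs' : s'.Prime) (hss : s ≠ s')
    (hsn : s ∣ orderOf g) (hsn' : s' ∣ orderOf g) (hx : x ∈ zpowers g) (hy : y ∈ zpowers g)
    (hx1 : x ≠ 1) (hy1 : y ≠ 1) (ht : Twin x y) : zpowers x = zpowers y := by
  rcases ht.adj with h | h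
  · exact twin_cyc_aux hs hs' hss hsn hsn' hx hy hx1 h ht
  · exact (twin_cyc_aux hs hs' hss hsn hsn' hy hx hy1 h ht.symm).symm

theorem twin_npp {x y : G} {s s' : ℕ} (hs : s.Prime) (hs' : s'.Prime) (hss : s ≠ s')
    (hsx : s ∣ orderOf x) (hsx' : s' ∣ orderOf x) (hy1 : y ≠ 1) (ht : Twin y x) :
    zpowers y = zpowers x := by
  have hx1 : x ≠ 1 := by
    rintro rfl
    rw [orderOf_one] at hsx
    exact hs.one_lt.ne' (Nat.dvd_one.1 hsx)
  rcases ht.adj with h | h
  · exact twin_cyc hs hs' hss hsx hsx' h (mem_zpowers x) hy1 hx1 ht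
  · have hd := orderOf_dvd_of_mem_zpowers h
    exact twin_cyc hs hs' hss (hsx.trans hd) (hsx'.trans hd) (mem_zpowers y) h hy1 hx1 ht

theorem twin_pp {x y : G} {r : ℕ} (hx : ∀ s : ℕ, s.Prime → s ∣ orderOf x → s = r)
    (hx1 : x ≠ 1) (ht : Twin y x) : ∀ s : ℕ, s.Prime → s ∣ orderOf y → s = r := by
  intro s hs hsy
  rcases ht.adj with h | h
  · exact hx s hs (hsy.trans (orderOf_dvd_of_mem_zpowers h))
  · have hw : y ^ (orderOf y / s) ∈ zpowers y := pow_div_mem y s
    have hwo : orderOf (y ^ (orderOf y / s)) = s := orderOf_pow_div hsy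
    have h1 : Adj (y ^ (orderOf y / s)) x := (ht _).1 (Or.inl hw)
    rcases h1 with h2 | h2
    · have := orderOf_dvd_of_mem_zpowers h2
      rw [hwo] at this
      exact hx s hs this
    · have := orderOf_dvd_of_mem_zpowers h2
      rw [hwo] at this
      rcases (Nat.dvd_prime hs).1 this with h3 | h3
      · exact absurd (orderOf_eq_one_iff.1 h3) hx1
      · exact hx s hs (h3 ▸ dvd_rfl)

theorem adj_of_pp {y u v : G}
    (hy : ∀ s s' : ℕ, s.Prime → s'.Prime → s ∣ orderOf y → s' ∣ orderOf y → s = s')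
    (hu : u ∈ zpowers y) (hv : v ∈ zpowers y) : Adj u v :=
  (adj_iff_dvd hu hv).2 (nt3 (orderOf_pos y).ne' hy (orderOf_dvd_of_mem_zpowers hu)
    (orderOf_dvd_of_mem_zpowers hv))

end Twins

section Iso
variable {G H : Type*} [Group G] [Group H]

theorem exists_normalized (e : G ≃ H) (he : ∀ x y : G, Adj x y ↔ Adj (e x) (e y)) :
    ∃ e' : G ≃ H, (∀ x y : G, Adj x y ↔ Adj (e' x) (e' y)) ∧ e' 1 = 1 := by
  classical
  have hdom : ∀ w : G, Adj w (e.symm 1) := by
    intro w
    rw [he, Equiv.apply_symm_apply]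
    exact adj_one' _
  refine ⟨(Equiv.swap 1 (e.symm 1)).trans e, ?_, ?_⟩
  · intro x y
    rw [Equiv.trans_apply, Equiv.trans_apply, ← he]
    by_cases hx1 : x = 1
    · subst hx1
      rw [Equiv.swap_apply_left]
      exact ⟨fun _ => adj_comm.1 (hdom _), fun _ => adj_one _⟩
    by_cases hxd : x = e.symm 1
    · subst hxd
      rw [Equiv.swap_apply_right]
      exact ⟨fun _ => adj_one _, fun _ => adj_comm.1 (hdom _)⟩
    rw [Equiv.swap_apply_of_ne_of_ne hx1 hxd]
    by_cases hy1 : y = 1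
    · subst hy1
      rw [Equiv.swap_apply_left]
      exact ⟨fun _ => hdom _, fun _ => adj_one' _⟩
    by_cases hyd : y = e.symm 1
    · subst hyd
      rw [Equiv.swap_apply_right]
      exact ⟨fun _ => adj_one' _, fun _ => hdom _⟩
    rw [Equiv.swap_apply_of_ne_of_ne hy1 hyd]
  · rw [Equiv.trans_apply, Equiv.swap_apply_left, Equiv.apply_symm_apply]

theorem twin_map (e : G ≃ H) (he : ∀ x y : G, Adj x y ↔ Adj (e x) (e y)) {x y : G} :
    Twin x y ↔ Twin (e x) (e y) := by
  constructor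
  · intro h w'
    obtain ⟨w, rfl⟩ := e.surjective w'
    rw [← he, ← he]
    exact h w
  · intro h w
    rw [he, he]
    exact h (e w)

variable [Finite G] [Finite H]

theorem image_twinSet (e : G ≃ H) (he : ∀ x y : G, Adj x y ↔ Adj (e x) (e y)) (x : G) :
    e '' twinSet x = twinSet (e x) := by
  ext y'
  constructor
  · rintro ⟨y, hy, rfl⟩
    exact (twin_map e he).1 hy
  · intro hy'
    refine ⟨e.symm y', ?_, by simp⟩
    apply (twin_map e he).2
    have : Twin y' (e x) := hy'
    simpa using this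

theorem ncard_twinSet (e : G ≃ H) (he : ∀ x y : G, Adj x y ↔ Adj (e x) (e y)) (x : G) :
    (twinSet (e x)).ncard = (twinSet x).ncard := by
  rw [← image_twinSet e he, Set.ncard_image_of_injective _ e.injective]

end Iso

end Cfsg.Agent.Lib.helper73.PG
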