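import Cfsg.Agent.Lib.helper73.PGraphB

set_option autoImplicit false

/-!
# Power graphs: an isomorphism of power graphs preserves the existence of elements of order `pq`
-/

namespace Cfsg.Agent.Lib.helper73.PG

open Subgroup

section Main
variable {G H : Type*} [Group G] [Group H] [Finite G] [Finite H]

theorem not_adj_of_orders {g u v : G} (hu : u ∈ zpowers g) (hv : v ∈ zpowers g)
    (h1 : ¬ orderOf u ∣ orderOf v) (h2 : ¬ orderOf v ∣ orderOf u) : ¬ Adj u v := by
  rw [adj_iff_dvd hu hv]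
  rintro (h | h)
  · exact h1 h
  · exact h2 h

/-- `x` is a nonidentity non-generator of `zpowers g`. -/
def InR (g x : G) : Prop := x ∈ zpowers g ∧ x ≠ 1 ∧ zpowers x ≠ zpowers g

theorem inR_of_order {g : G} {d : ℕ} (hd : d ∣ orderOf g) (hd1 : d ≠ 1) (hdn : d ≠ orderOf g) :
    InR g (g ^ (orderOf g / d)) := by
  refine ⟨pow_div_mem g d, ?_, ?_⟩
  · intro h
    have := orderOf_pow_div hd
    rw [h, orderOf_one] at this
    exact hd1 this.symm
  · intro h
    have h2 : orderOf (g ^ (orderOf g / d)) = orderOf g := by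
      rw [← Nat.card_zpowers, h, Nat.card_zpowers]
    rw [orderOf_pow_div hd] at h2
    exact hdn h2

theorem InR.order_ne_one {g x : G} (hx : InR g x) : orderOf x ≠ 1 := by
  rw [Ne, orderOf_eq_one_iff]; exact hx.2.1

theorem InR.order_ne {g x : G} (hx : InR g x) : orderOf x ≠ orderOf g :=
  fun h => hx.2.2 (zpowers_eq_of_mem_of_orderOf_eq hx.1 h)

theorem InR.order_dvd {g x : G} (hx : InR g x) : orderOf x ∣ orderOf g :=
  orderOf_dvd_of_mem_zpowers hx.1

/-- The setup: `e` is a normalised isomorphism of power graphs and `zpowers g` is a maximal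
cyclic subgroup whose order is divisible by the distinct primes `p` and `q`. -/
structure Setup (e : G ≃ H) (p q : ℕ) (g : G) : Prop where
  he : ∀ x y : G, Adj x y ↔ Adj (e x) (e y)
  h1 : e 1 = 1
  hp : p.Prime
  hq : q.Prime
  hpq : p ≠ q
  hp_dvd : p ∣ orderOf g
  hq_dvd : q ∣ orderOf g
  hmax : ∀ y : G, g ∈ zpowers y → zpowers y = zpowers g

namespace Setup
variable {e : G ≃ H} {p q : ℕ} {g : G} (S : Setup e p q g)
include S

theorem mem_of_adj {w : G} (h : Adj w g) : w ∈ zpowers g := by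
  rcases h with h | h
  · exact h
  · rw [← S.hmax w h]; exact mem_zpowers w

theorem e_ne_one {x : G} (hx : x ≠ 1) : e x ≠ 1 := by
  intro h
  apply hx
  apply e.injective
  rw [h, S.h1]

theorem g_ne_one : g ≠ 1 := by
  rintro rfl
  have := S.hp_dvd
  rw [orderOf_one] at this
  exact S.hp.one_lt.ne' (Nat.dvd_one.1 this)

theorem n_ne_zero : orderOf g ≠ 0 := (orderOf_pos g).ne'

/-- The order of the Sylow `s`-part. -/
theorem syl_inR {s : ℕ} (hs : s.Prime) (hsn : s ∣ orderOf g) :
    InR g (g ^ (orderOf g / s ^ (orderOf g).factorization s)) := by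
  have hv : 0 < (orderOf g).factorization s :=
    Nat.Prime.factorization_pos_of_dvd hs S.n_ne_zero hsn
  apply inR_of_order (Nat.ordProj_dvd _ _)
  · intro h
    have : s ∣ 1 := h ▸ dvd_pow_self s hv.ne'
    exact hs.one_lt.ne' (Nat.dvd_one.1 this)
  · intro h
    have h1 := S.hp_dvd
    have h2 := S.hq_dvd
    rw [← h] at h1 h2
    have e1 := (Nat.prime_dvd_prime_iff_eq S.hp hs).1 (Nat.Prime.dvd_of_dvd_pow S.hp h1)
    have e2 := (Nat.prime_dvd_prime_iff_eq S.hq hs).1 (Nat.Prime.dvd_of_dvd_pow S.hq h2)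
    exact S.hpq (e1.trans e2.symm)

theorem syl_order {s : ℕ} (hsn : s ∣ orderOf g) :
    orderOf (g ^ (orderOf g / s ^ (orderOf g).factorization s)) =
      s ^ (orderOf g).factorization s :=
  orderOf_pow_div (Nat.ordProj_dvd _ _)

theorem a_inR : InR g (g ^ (orderOf g / p)) := by
  apply inR_of_order S.hp_dvd S.hp.one_lt.ne'
  intro h
  have h2 := S.hq_dvd
  rw [← h] at h2
  exact S.hpq ((Nat.prime_dvd_prime_iff_eq S.hq S.hp).1 h2).symm

theorem b_inR : InR g (g ^ (orderOf g / q)) := by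
  apply inR_of_order S.hq_dvd S.hq.one_lt.ne'
  intro h
  have h2 := S.hp_dvd
  rw [← h] at h2
  exact S.hpq ((Nat.prime_dvd_prime_iff_eq S.hp S.hq).1 h2)

theorem a_order : orderOf (g ^ (orderOf g / p)) = p := orderOf_pow_div S.hp_dvd

theorem b_order : orderOf (g ^ (orderOf g / q)) = q := orderOf_pow_div S.hq_dvd

theorem not_adj_ab : ¬ Adj (g ^ (orderOf g / p)) (g ^ (orderOf g / q)) := by
  apply not_adj_of_orders (pow_div_mem g p) (pow_div_mem g q)
  · rw [S.a_order, S.b_order]
    exact fun h => S.hpq ((Nat.prime_dvd_prime_iff_eq S.hp S.hq).1 h)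
  · rw [S.a_order, S.b_order]
    exact fun h => S.hpq ((Nat.prime_dvd_prime_iff_eq S.hq S.hp).1 h).symm

theorem status_imp {x y : G} (hy : InR g y) (hxy : ¬ Adj x y)
    (h : e x ∈ zpowers (e g)) : e y ∈ zpowers (e g) := by
  by_contra hny
  have h2 : Adj (e y) (e g) := (S.he y g).1 (Or.inl hy.1)
  rcases h2 with h3 | h3
  · exact hny h3
  · have : e x ∈ zpowers (e y) := (zpowers_le.2 h3) h
    exact hxy ((S.he x y).2 (Or.inl this))

theorem status_eq {x y : G} (hx : InR g x) (hy : InR g y) (hxy : ¬ Adj x y) :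
    e x ∈ zpowers (e g) ↔ e y ∈ zpowers (e g) :=
  ⟨S.status_imp hy hxy, S.status_imp hx (fun h => hxy (adj_comm.1 h))⟩

theorem exists_syl_nonadj {x : G} (hx : InR g x) :
    ∃ s : ℕ, s.Prime ∧ s ∣ orderOf g ∧
      ¬ Adj x (g ^ (orderOf g / s ^ (orderOf g).factorization s)) := by
  obtain ⟨s, hs, hsn, h1, h2⟩ := nt2 S.n_ne_zero hx.order_dvd hx.order_ne_one hx.order_ne
    S.hp S.hq S.hpq S.hp_dvd S.hq_dvd
  refine ⟨s, hs, hsn, ?_⟩
  apply not_adj_of_orders hx.1 (pow_div_mem g _)
  · rw [S.syl_order hsn]; exact h1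
  · rw [S.syl_order hsn]; exact h2

theorem status_syl {s : ℕ} (hs : s.Prime) (hsn : s ∣ orderOf g) (hsp : s ≠ p) :
    e (g ^ (orderOf g / s ^ (orderOf g).factorization s)) ∈ zpowers (e g) ↔
      e (g ^ (orderOf g / p)) ∈ zpowers (e g) := by
  have hv : 0 < (orderOf g).factorization s :=
    Nat.Prime.factorization_pos_of_dvd hs S.n_ne_zero hsn
  apply S.status_eq (S.syl_inR hs hsn) S.a_inR
  apply not_adj_of_orders (pow_div_mem g _) (pow_div_mem g _)
  · rw [S.syl_order hsn, S.a_order]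
    intro h
    exact hsp ((Nat.prime_dvd_prime_iff_eq hs S.hp).1 ((dvd_pow_self s hv.ne').trans h))
  · rw [S.syl_order hsn, S.a_order]
    intro h
    exact hsp ((Nat.prime_dvd_prime_iff_eq S.hp hs).1 (Nat.Prime.dvd_of_dvd_pow S.hp h)).symm

theorem status_all {x : G} (hx : InR g x) :
    e x ∈ zpowers (e g) ↔ e (g ^ (orderOf g / p)) ∈ zpowers (e g) := by
  have key : ∀ s : ℕ, s.Prime → s ∣ orderOf g →
      (e (g ^ (orderOf g / s ^ (orderOf g).factorization s)) ∈ zpowers (e g) ↔
        e (g ^ (orderOf g / p)) ∈ zpowers (e g)) := by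
    intro s hs hsn
    by_cases hsp : s = p
    · subst hsp
      refine Iff.trans ?_ (S.status_syl S.hq S.hq_dvd (fun h => S.hpq h.symm))
      have hv : 0 < (orderOf g).factorization s :=
        Nat.Prime.factorization_pos_of_dvd hs S.n_ne_zero hsn
      have hv' : 0 < (orderOf g).factorization q :=
        Nat.Prime.factorization_pos_of_dvd S.hq S.n_ne_zero S.hq_dvd
      apply S.status_eq (S.syl_inR hs hsn) (S.syl_inR S.hq S.hq_dvd)
      apply not_adj_of_orders (pow_div_mem g _) (pow_div_mem g _)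
      · rw [S.syl_order hsn, S.syl_order S.hq_dvd]
        intro h
        have h5 := Nat.Prime.dvd_of_dvd_pow hs ((dvd_pow_self s hv.ne').trans h)
        exact S.hpq ((Nat.prime_dvd_prime_iff_eq hs S.hq).1 h5)
      · rw [S.syl_order hsn, S.syl_order S.hq_dvd]
        intro h
        have h5 := Nat.Prime.dvd_of_dvd_pow S.hq ((dvd_pow_self q hv'.ne').trans h)
        exact S.hpq ((Nat.prime_dvd_prime_iff_eq S.hq hs).1 h5).symm
    · exact S.status_syl hs hsn hsp
  obtain ⟨s, hs, hsn, hna⟩ := S.exists_syl_nonadj hx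
  exact (S.status_eq hx (S.syl_inR hs hsn) hna).trans (key s hs hsn)

/-- Twins of nonidentity non-generators of `zpowers g` are generators of the same subgroup. -/
theorem twin_gens {x y : G} (hx : InR g x) (ht : Twin y x) : zpowers y = zpowers x := by
  have hyg : y ∈ zpowers g := by
    apply S.mem_of_adj
    exact adj_comm.1 ((ht g).2 (Or.inr hx.1))
  have hy1 : y ≠ 1 := by
    rintro rfl
    obtain ⟨s, hs, hsn, hna⟩ := S.exists_syl_nonadj hx
    exact hna (adj_comm.1 ((ht _).1 (adj_one' _)))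
  exact twin_cyc S.hp S.hq S.hpq S.hp_dvd S.hq_dvd hyg hx.1 hy1 hx.2.1 ht

theorem twinSet_eq {x : G} (hx : InR g x) : twinSet x = gensSet x :=
  Set.Subset.antisymm (fun _ hy => S.twin_gens hx hy) (gensSet_subset_twinSet x)

theorem totient_le {x : G} (hx : InR g x) :
    Nat.totient (orderOf (e x)) ≤ Nat.totient (orderOf x) := by
  rw [← ncard_gensSet (e x), ← ncard_gensSet x, ← S.twinSet_eq hx, ← ncard_twinSet e S.he x]
  exact Set.ncard_le_ncard (gensSet_subset_twinSet (e x)) (Set.toFinite _)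

end Setup

end Main

end Cfsg.Agent.Lib.helper73.PG
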