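import Cfsg.Agent.Lib.helper73.PGraphC

set_option autoImplicit false

/-!
# Power graphs: the two cases and the main theorem
-/

namespace Cfsg.Agent.Lib.helper73.PG

open Subgroup

section Main
variable {G H : Type*} [Group G] [Group H] [Finite G] [Finite H]

namespace Setup
variable {e : G ≃ H} {p q : ℕ} {g : G} (S : Setup e p q g)
include S

theorem card_twins_ge : (p - 1) * (q - 1) ≤ (twinSet (e g) \ {1}).ncard := by
  have h1 : e '' (twinSet g \ {1}) = twinSet (e g) \ {1} := by
    rw [Set.image_diff e.injective, image_twinSet e S.he, Set.image_singleton, S.h1]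
  rw [← h1, Set.ncard_image_of_injective _ e.injective]
  have h2 : gensSet g ⊆ twinSet g \ {1} := by
    intro y hy
    refine ⟨gensSet_subset_twinSet g hy, ?_⟩
    intro h
    have h3 : y = 1 := h
    have hy' : zpowers y = zpowers g := hy
    rw [h3, zpowers_one_eq_bot] at hy'
    have : g ∈ (⊥ : Subgroup G) := hy' ▸ mem_zpowers g
    exact S.g_ne_one (Subgroup.mem_bot.1 this)
  have h3 := Set.ncard_le_ncard h2 (Set.toFinite _)
  rw [ncard_gensSet] at h3
  refine le_trans ?_ h3
  have hcop : Nat.Coprime p q := (Nat.coprime_primes S.hp S.hq).2 S.hpq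
  have hpq : p * q ∣ orderOf g := Nat.Coprime.mul_dvd_of_dvd_of_dvd hcop S.hp_dvd S.hq_dvd
  have h4 := Nat.totient_dvd_of_dvd hpq
  rw [Nat.totient_mul hcop, Nat.totient_prime S.hp, Nat.totient_prime S.hq] at h4
  exact Nat.le_of_dvd (Nat.totient_pos.2 (orderOf_pos g)) h4

section CaseI
variable (hI : ∀ x : G, InR g x → e x ∈ zpowers (e g))
  {t t' : ℕ} (ht : t.Prime) (ht' : t'.Prime) (htt : t ≠ t') (htγ : t ∣ orderOf (e g))
  (htγ' : t' ∣ orderOf (e g))
include hI ht ht' htt htγ htγ'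

theorem inR_of_image {x' : H} (hx' : x' ∈ zpowers (e g)) (h1 : x' ≠ 1)
    (h2 : zpowers x' ≠ zpowers (e g)) : InR g (e.symm x') := by
  have hadj : Adj (e.symm x') g := by
    rw [S.he, Equiv.apply_symm_apply]; exact Or.inl hx'
  refine ⟨S.mem_of_adj hadj, ?_, ?_⟩
  · intro h
    apply h1
    have := congrArg e h
    rw [Equiv.apply_symm_apply, S.h1] at this
    exact this
  · intro h
    apply h2
    have htw : Twin (e (e.symm x')) (e g) := (twin_map e S.he).1 (twin_of_zpowers_eq h)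
    rw [Equiv.apply_symm_apply] at htw
    exact twin_cyc ht ht' htt htγ htγ' hx' (mem_zpowers _) h1 (S.e_ne_one S.g_ne_one) htw

theorem twin_gens_image {x : G} (hx : InR g x) {y' : H} (hty : Twin y' (e x)) :
    zpowers y' = zpowers (e x) := by
  have h1 : Twin (e.symm y') x := by
    apply (twin_map e S.he).2
    rwa [Equiv.apply_symm_apply]
  have h2 := S.twin_gens hx h1
  have hy : InR g (e.symm y') := by
    refine ⟨?_, ?_, ?_⟩
    · have : e.symm y' ∈ zpowers x := h2 ▸ mem_zpowers _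
      exact (zpowers_le.2 hx.1) this
    · intro h
      rw [h, zpowers_one_eq_bot] at h2
      have : x ∈ (⊥ : Subgroup G) := h2 ▸ mem_zpowers x
      exact hx.2.1 (Subgroup.mem_bot.1 this)
    · rw [h2]; exact hx.2.2
  have h3 := hI _ hy
  rw [Equiv.apply_symm_apply] at h3
  have hy1 : y' ≠ 1 := by
    have := S.e_ne_one hy.2.1
    rwa [Equiv.apply_symm_apply] at this
  exact twin_cyc ht ht' htt htγ htγ' h3 (hI x hx) hy1 (S.e_ne_one hx.2.1) hty

theorem totient_eq {x : G} (hx : InR g x) :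
    Nat.totient (orderOf (e x)) = Nat.totient (orderOf x) := by
  have h1 : twinSet (e x) = gensSet (e x) :=
    Set.Subset.antisymm (fun _ hy => S.twin_gens_image hI ht ht' htt htγ htγ' hx hy)
      (gensSet_subset_twinSet _)
  rw [← ncard_gensSet (e x), ← ncard_gensSet x, ← S.twinSet_eq hx, ← h1, ncard_twinSet e S.he x]

theorem caseI_prime {P : ℕ} (hP : P.Prime) (hPd : P ∣ orderOf g)
    (hA : InR g (g ^ (orderOf g / P))) {s : ℕ} (hs : s.Prime)
    (hsα : s ∣ orderOf (e (g ^ (orderOf g / P))))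
    (hne : s ≠ orderOf (e (g ^ (orderOf g / P)))) : s = P := by
  have hAo : orderOf (g ^ (orderOf g / P)) = P := orderOf_pow_div hPd
  have hA' : e (g ^ (orderOf g / P)) ∈ zpowers (e g) := hI _ hA
  have hαγ : orderOf (e (g ^ (orderOf g / P))) ∣ orderOf (e g) := orderOf_dvd_of_mem_zpowers hA'
  have hy'o : orderOf ((e (g ^ (orderOf g / P))) ^ (orderOf (e (g ^ (orderOf g / P))) / s)) = s :=
    orderOf_pow_div hsα
  have hy'A : (e (g ^ (orderOf g / P))) ^ (orderOf (e (g ^ (orderOf g / P))) / s) ∈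
      zpowers (e (g ^ (orderOf g / P))) := pow_div_mem _ _
  generalize (e (g ^ (orderOf g / P))) ^ (orderOf (e (g ^ (orderOf g / P))) / s) = y' at hy'o hy'A
  have hy'g : y' ∈ zpowers (e g) := (zpowers_le.2 hA') hy'A
  have hy'1 : y' ≠ 1 := by
    intro h; rw [h, orderOf_one] at hy'o; exact hs.one_lt.ne hy'o
  have hy'ne : zpowers y' ≠ zpowers (e g) := by
    intro h
    have h2 : orderOf y' = orderOf (e g) := by rw [← Nat.card_zpowers, h, Nat.card_zpowers]
    rw [hy'o] at h2
    rw [← h2] at hαγ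
    rcases (Nat.dvd_prime hs).1 hαγ with h3 | h3
    · rw [h3] at hsα; exact hs.one_lt.ne' (Nat.dvd_one.1 hsα)
    · exact hne h3.symm
  have hy : InR g (e.symm y') := S.inR_of_image hI ht ht' htt htγ htγ' hy'g hy'1 hy'ne
  have hadj : Adj (e.symm y') (g ^ (orderOf g / P)) := by
    rw [S.he, Equiv.apply_symm_apply]; exact Or.inl hy'A
  rcases hadj with h | h
  · exfalso
    have h2 : orderOf (e.symm y') ∣ P := hAo ▸ orderOf_dvd_of_mem_zpowers h
    rcases (Nat.dvd_prime hP).1 h2 with h3 | h3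
    · exact hy.order_ne_one h3
    · have h4 : zpowers (e.symm y') = zpowers (g ^ (orderOf g / P)) :=
        zpowers_eq_of_mem_of_orderOf_eq h (h3.trans hAo.symm)
      have h5 : Twin (e (e.symm y')) (e (g ^ (orderOf g / P))) :=
        (twin_map e S.he).1 (twin_of_zpowers_eq h4)
      rw [Equiv.apply_symm_apply] at h5
      have h6 := S.twin_gens_image hI ht ht' htt htγ htγ' hA h5
      have h7 : orderOf y' = orderOf (e (g ^ (orderOf g / P))) := by
        rw [← Nat.card_zpowers, h6, Nat.card_zpowers]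
      rw [hy'o] at h7
      exact hne h7
  · have h2 : P ∣ orderOf (e.symm y') := hAo ▸ orderOf_dvd_of_mem_zpowers h
    have h3 := S.totient_eq hI ht ht' htt htγ htγ' hy
    rw [Equiv.apply_symm_apply, hy'o] at h3
    have h4 := S.totient_eq hI ht ht' htt htγ htγ' hA
    rw [hAo] at h4
    have h5 : Nat.totient P ∣ Nat.totient s := h3 ▸ Nat.totient_dvd_of_dvd h2
    have h6 : Nat.totient s ∣ Nat.totient P := h4 ▸ Nat.totient_dvd_of_dvd hsα
    have h7 := Nat.dvd_antisymm h5 h6
    rw [Nat.totient_prime hP, Nat.totient_prime hs] at h7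
    have := hP.two_le
    have := hs.two_le
    omega

theorem caseI_order {P : ℕ} (hP : P.Prime) (hPd : P ∣ orderOf g)
    (hA : InR g (g ^ (orderOf g / P))) : orderOf (e (g ^ (orderOf g / P))) = P := by
  have hAo : orderOf (g ^ (orderOf g / P)) = P := orderOf_pow_div hPd
  have hφ : Nat.totient (orderOf (e (g ^ (orderOf g / P)))) = P - 1 := by
    have := S.totient_eq hI ht ht' htt htγ htγ' hA
    rw [hAo, Nat.totient_prime hP] at this
    exact this
  have hα1 : orderOf (e (g ^ (orderOf g / P))) ≠ 1 := by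
    rw [Ne, orderOf_eq_one_iff]; exact S.e_ne_one hA.2.1
  have hα0 : 0 < orderOf (e (g ^ (orderOf g / P))) := orderOf_pos _
  have hprime := fun {s : ℕ} (hs : s.Prime) => S.caseI_prime hI ht ht' htt htγ htγ' hP hPd hA hs
  generalize orderOf (e (g ^ (orderOf g / P))) = α at hφ hα1 hα0 hprime
  by_contra hne
  have hP2 := hP.two_le
  have hnp : ¬ α.Prime := by
    intro h
    rw [Nat.totient_prime h] at hφ
    have := h.two_le
    exact hne (by omega)
  have hs : (α.minFac).Prime := Nat.minFac_prime hα1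
  have hs1 : α.minFac = P := hprime hs (Nat.minFac_dvd α) (fun h => hnp (h ▸ hs))
  obtain ⟨k, hk⟩ : P ∣ α := hs1 ▸ Nat.minFac_dvd α
  have hk1 : k ≠ 1 := by
    rintro rfl
    exact hne (by rw [hk, mul_one])
  have hk0 : 0 < k := by
    rcases Nat.eq_zero_or_pos k with h | h
    · rw [h, mul_zero] at hk; omega
    · exact h
  have hs2 : (k.minFac).Prime := Nat.minFac_prime hk1
  have hs2α : k.minFac ∣ α := (Nat.minFac_dvd k).trans (Dvd.intro_left P hk.symm)
  have hs2ne : k.minFac ≠ α := by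
    have h1 : k.minFac ≤ k := Nat.minFac_le hk0
    have h2 : k < α := by rw [hk]; nlinarith
    omega
  have hs2P : k.minFac = P := hprime hs2 hs2α hs2ne
  have hPk : P ∣ k := hs2P ▸ Nat.minFac_dvd k
  have hPP : P ^ 2 ∣ α := by rw [hk, pow_two]; exact mul_dvd_mul_left P hPk
  have h3 := Nat.totient_dvd_of_dvd hPP
  rw [Nat.totient_prime_pow hP (by norm_num), hφ] at h3
  have h4 := Nat.le_of_dvd (by omega) h3
  simp only [Nat.add_one_sub_one, pow_one] at h4
  have h5 : 2 * (P - 1) ≤ P * (P - 1) := Nat.mul_le_mul_right _ hP2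
  have h6 : 2 * (P - 1) ≤ P - 1 := le_trans h5 h4
  omega

theorem caseI_final : ∃ h : H, orderOf h = p * q := by
  have ha := S.caseI_order hI ht ht' htt htγ htγ' S.hp S.hp_dvd S.a_inR
  have hb := S.caseI_order hI ht ht' htt htγ htγ' S.hq S.hq_dvd S.b_inR
  have hpγ : p ∣ orderOf (e g) := ha ▸ orderOf_dvd_of_mem_zpowers (hI _ S.a_inR)
  have hqγ : q ∣ orderOf (e g) := hb ▸ orderOf_dvd_of_mem_zpowers (hI _ S.b_inR)
  have hpq : p * q ∣ orderOf (e g) :=
    Nat.Coprime.mul_dvd_of_dvd_of_dvd ((Nat.coprime_primes S.hp S.hq).2 S.hpq) hpγ hqγ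
  exact ⟨(e g) ^ (orderOf (e g) / (p * q)), orderOf_pow_div hpq⟩

end CaseI

section CaseII
variable (hII : ∀ x : G, InR g x → e x ∉ zpowers (e g))
include hII

theorem g_mem_of_inR {x : G} (hx : InR g x) : e g ∈ zpowers (e x) := by
  have : Adj (e x) (e g) := (S.he x g).1 (Or.inl hx.1)
  rcases this with h | h
  · exact absurd h (hII x hx)
  · exact h

theorem caseII_false : False := by
  have hga : e g ∈ zpowers (e (g ^ (orderOf g / p))) := S.g_mem_of_inR hII S.a_inR
  have hgb : e g ∈ zpowers (e (g ^ (orderOf g / q))) := S.g_mem_of_inR hII S.b_inR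
  have hnab : ¬ Adj (e (g ^ (orderOf g / p))) (e (g ^ (orderOf g / q))) :=
    fun h => S.not_adj_ab ((S.he _ _).2 h)
  have hφa : Nat.totient (orderOf (e (g ^ (orderOf g / p)))) ≤ p - 1 := by
    have := S.totient_le S.a_inR
    rwa [S.a_order, Nat.totient_prime S.hp] at this
  have hφb : Nat.totient (orderOf (e (g ^ (orderOf g / q)))) ≤ q - 1 := by
    have := S.totient_le S.b_inR
    rwa [S.b_order, Nat.totient_prime S.hq] at this
  have hlow := S.card_twins_ge
  have hg'1 : e g ≠ 1 := S.e_ne_one S.g_ne_one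
  have hp2 := S.hp.two_le
  have hq2 := S.hq.two_le
  have hpq := S.hpq
  generalize e (g ^ (orderOf g / p)) = a' at hga hnab hφa
  generalize e (g ^ (orderOf g / q)) = b' at hgb hnab hφb
  by_cases hnpp : ∃ t t' : ℕ, t.Prime ∧ t'.Prime ∧ t ≠ t' ∧ t ∣ orderOf (e g) ∧ t' ∣ orderOf (e g)
  · obtain ⟨t, t', ht, ht', htt, h1, h2⟩ := hnpp
    have hsub : twinSet (e g) \ {1} ⊆ gensSet (e g) := by
      rintro y ⟨hy, hy1⟩
      exact twin_npp ht ht' htt h1 h2 hy1 hy
    have h3 := Set.ncard_le_ncard hsub (Set.toFinite _)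
    rw [ncard_gensSet] at h3
    have h4 : Nat.totient (orderOf (e g)) ≤ Nat.totient (orderOf a') :=
      Nat.le_of_dvd (Nat.totient_pos.2 (orderOf_pos _))
        (Nat.totient_dvd_of_dvd (orderOf_dvd_of_mem_zpowers hga))
    have h5 : Nat.totient (orderOf (e g)) ≤ Nat.totient (orderOf b') :=
      Nat.le_of_dvd (Nat.totient_pos.2 (orderOf_pos _))
        (Nat.totient_dvd_of_dvd (orderOf_dvd_of_mem_zpowers hgb))
    have h6 : (p - 1) * (q - 1) ≤ (p - 1) * 1 := by omega
    have h7 : (p - 1) * (q - 1) ≤ 1 * (q - 1) := by omega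
    have h8 : q - 1 ≤ 1 := Nat.le_of_mul_le_mul_left h6 (by omega)
    have h9 : p - 1 ≤ 1 := Nat.le_of_mul_le_mul_right h7 (by omega)
    omega
  · have hall : ∀ s s' : ℕ, s.Prime → s'.Prime → s ∣ orderOf (e g) → s' ∣ orderOf (e g) →
        s = s' := by
      intro s s' hs hs' h1 h2
      by_contra h
      exact hnpp ⟨s, s', hs, hs', h, h1, h2⟩
    have hγ1 : orderOf (e g) ≠ 1 := by rwa [Ne, orderOf_eq_one_iff]
    have hr : (orderOf (e g)).minFac.Prime := Nat.minFac_prime hγ1
    have hrall : ∀ s : ℕ, s.Prime → s ∣ orderOf (e g) → s = (orderOf (e g)).minFac :=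
      fun s hs hsd => hall s _ hs hr hsd (Nat.minFac_dvd _)
    generalize (orderOf (e g)).minFac = r at hr hrall
    haveI : Nonempty {y : H // Twin y (e g) ∧ y ≠ 1} := ⟨⟨e g, twin_refl _, hg'1⟩⟩
    obtain ⟨⟨ym, hym, hym1⟩, hmax⟩ :=
      Finite.exists_max (fun y : {y : H // Twin y (e g) ∧ y ≠ 1} => orderOf y.1)
    have hQr : ∀ s : ℕ, s.Prime → s ∣ orderOf ym → s = r := twin_pp hrall hg'1 hym
    have hQall : ∀ s s' : ℕ, s.Prime → s'.Prime → s ∣ orderOf ym → s' ∣ orderOf ym → s = s' :=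
      fun s s' hs hs' h1 h2 => (hQr s hs h1).trans (hQr s' hs' h2).symm
    have hsub : twinSet (e g) \ {1} ⊆ (zpowers ym : Set H) \ {1} := by
      rintro y ⟨hy, hy1⟩
      refine ⟨?_, hy1⟩
      have hy' : Twin y (e g) := hy
      have hty : Twin y ym := hy'.trans hym.symm
      rcases hty.adj with h | h
      · exact h
      · have h1 : orderOf ym ∣ orderOf y := orderOf_dvd_of_mem_zpowers h
        have h2 : orderOf y ≤ orderOf ym := hmax ⟨y, hy', hy1⟩
        have h3 : orderOf ym = orderOf y :=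
          Nat.le_antisymm (Nat.le_of_dvd (orderOf_pos y) h1) h2
        have h4 := zpowers_eq_of_mem_of_orderOf_eq h h3
        exact h4 ▸ mem_zpowers y
    have h3 := Set.ncard_le_ncard hsub (Set.toFinite _)
    have hcard : ((zpowers ym : Set H) \ {1}).ncard = orderOf ym - 1 := by
      rw [Set.ncard_diff_singleton_of_mem (one_mem _), ← Nat.card_coe_set_eq]
      congr 1
      exact Nat.card_zpowers ym
    rw [hcard] at h3
    have hmem : ∀ u v : H, Adj u (e g) → Adj v (e g) → ¬ Adj u v → ym ∈ zpowers u := by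
      intro u v hu hv huv
      have hu' : Adj u ym := (hym u).2 hu
      have hv' : Adj v ym := (hym v).2 hv
      rcases hu' with h | h
      · exfalso
        rcases hv' with h' | h'
        · exact huv (adj_of_pp hQall h h')
        · exact huv (Or.inl ((zpowers_le.2 h') h))
      · exact h
    have hya : ym ∈ zpowers a' := hmem a' b' (Or.inr hga) (Or.inr hgb) hnab
    have hyb : ym ∈ zpowers b' :=
      hmem b' a' (Or.inr hgb) (Or.inr hga) (fun h => hnab (adj_comm.1 h))
    have h4 : Nat.totient (orderOf ym) ≤ p - 1 :=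
      (Nat.le_of_dvd (Nat.totient_pos.2 (orderOf_pos _))
        (Nat.totient_dvd_of_dvd (orderOf_dvd_of_mem_zpowers hya))).trans hφa
    have h5 : Nat.totient (orderOf ym) ≤ q - 1 :=
      (Nat.le_of_dvd (Nat.totient_pos.2 (orderOf_pos _))
        (Nat.totient_dvd_of_dvd (orderOf_dvd_of_mem_zpowers hyb))).trans hφb
    have hQ0 : orderOf ym ≠ 0 := (orderOf_pos ym).ne'
    have hQ1 : orderOf ym ≠ 1 := by rwa [Ne, orderOf_eq_one_iff]
    have hQpow := Nat.eq_prime_pow_of_unique_prime_dvd hQ0 (fun {d} hd hdvd => hQr d hd hdvd)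
    have hf : 0 < Nat.totient (orderOf ym) := Nat.totient_pos.2 (orderOf_pos _)
    have h6 : orderOf ym ≤ 2 * Nat.totient (orderOf ym) := by
      generalize (orderOf ym).primeFactorsList.length = k at hQpow
      have hk0 : k ≠ 0 := by
        intro h; rw [h, pow_zero] at hQpow; exact hQ1 hQpow
      rw [hQpow, Nat.totient_prime_pow hr (Nat.pos_of_ne_zero hk0)]
      obtain ⟨j, rfl⟩ := Nat.exists_eq_succ_of_ne_zero hk0
      simp only [Nat.succ_sub_one, pow_succ]
      have hr2 := hr.two_le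
      have : r ≤ 2 * (r - 1) := by omega
      calc r ^ j * r ≤ r ^ j * (2 * (r - 1)) := Nat.mul_le_mul_left _ this
        _ = 2 * (r ^ j * (r - 1)) := by ring
    generalize Nat.totient (orderOf ym) = f at h4 h5 h6 hf
    generalize orderOf ym = Q at h3 h6 hQ0
    have huv : p - 1 ≠ q - 1 := by omega
    have h7 : f * (f + 1) ≤ (p - 1) * (q - 1) := by
      rcases Nat.lt_or_gt_of_ne huv with h | h
      · exact Nat.mul_le_mul h4 (by omega)
      · calc f * (f + 1) = (f + 1) * f := by ring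
          _ ≤ (p - 1) * (q - 1) := Nat.mul_le_mul (by omega) h5
    have h8 : f * (f + 1) + 1 ≤ 2 * f := by omega
    nlinarith [Nat.le_mul_self f]

end CaseII

end Setup

theorem main_dir (e : G ≃ H) (he : ∀ x y : G, Adj x y ↔ Adj (e x) (e y)) (h1 : e 1 = 1)
    {p q : ℕ} (hp : p.Prime) (hq : q.Prime) (hpq : p ≠ q) (hex : ∃ g : G, orderOf g = p * q) :
    ∃ h : H, orderOf h = p * q := by
  obtain ⟨g₀, hg₀⟩ := hex
  haveI : Nonempty {x : G // p * q ∣ orderOf x} := ⟨⟨g₀, by rw [hg₀]⟩⟩
  obtain ⟨⟨g, hg⟩, hmax⟩ :=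
    Finite.exists_max (fun x : {x : G // p * q ∣ orderOf x} => orderOf x.1)
  have hmax' : ∀ y : G, g ∈ zpowers y → zpowers y = zpowers g := by
    intro y hy
    have h2 : orderOf g ∣ orderOf y := orderOf_dvd_of_mem_zpowers hy
    have h3 : orderOf y ≤ orderOf g := hmax ⟨y, hg.trans h2⟩
    have h4 : orderOf g = orderOf y := Nat.le_antisymm (Nat.le_of_dvd (orderOf_pos y) h2) h3
    exact (zpowers_eq_of_mem_of_orderOf_eq hy h4).symm
  have S : Setup e p q g :=
    ⟨he, h1, hp, hq, hpq, (dvd_mul_right p q).trans hg, (dvd_mul_left q p).trans hg, hmax'⟩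
  by_cases hI : e (g ^ (orderOf g / p)) ∈ zpowers (e g)
  · have hI' : ∀ x : G, InR g x → e x ∈ zpowers (e g) := fun x hx => (S.status_all hx).2 hI
    have hnab : ¬ Adj (e (g ^ (orderOf g / p))) (e (g ^ (orderOf g / q))) :=
      fun h => S.not_adj_ab ((S.he _ _).2 h)
    have : ∃ t t' : ℕ, t.Prime ∧ t'.Prime ∧ t ≠ t' ∧ t ∣ orderOf (e g) ∧ t' ∣ orderOf (e g) := by
      by_contra hnpp
      apply hnab
      apply adj_of_pp (y := e g) _ (hI' _ S.a_inR) (hI' _ S.b_inR)
      intro s s' hs hs' h1 h2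
      by_contra h
      exact hnpp ⟨s, s', hs, hs', h, h1, h2⟩
    obtain ⟨t, t', ht, ht', htt, h1, h2⟩ := this
    exact S.caseI_final hI' ht ht' htt h1 h2
  · have hII : ∀ x : G, InR g x → e x ∉ zpowers (e g) :=
      fun x hx h => hI ((S.status_all hx).1 h)
    exact (S.caseII_false hII).elim

end Main

/-- Finite groups with isomorphic power graphs have the same element orders `p * q`. -/
theorem main {G H : Type*} [Group G] [Finite G] [Group H] [Finite H] (e : G ≃ H)
    (he : ∀ x y : G, Adj x y ↔ Adj (e x) (e y)) {p q : ℕ} (hp : p.Prime) (hq : q.Prime)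
    (hpq : p ≠ q) : (∃ g : G, orderOf g = p * q) ↔ (∃ h : H, orderOf h = p * q) := by
  constructor
  · intro h
    obtain ⟨e', he', h1⟩ := exists_normalized e he
    exact main_dir e' he' h1 hp hq hpq h
  · intro h
    have hes : ∀ x y : H, Adj x y ↔ Adj (e.symm x) (e.symm y) := by
      intro x y
      rw [he, Equiv.apply_symm_apply, Equiv.apply_symm_apply]
    obtain ⟨e', he', h1⟩ := exists_normalized e.symm hes
    exact main_dir e' he' h1 hp hq hpq h

end Cfsg.Agent.Lib.helper73.PG
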