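import Mathlib
import Cfsg.Agent.Lib.helper65.PearlBasic
import Cfsg.Agent.Lib.helper43.PearlD1

set_option autoImplicit false

namespace Cfsg.Agent.Lib.helper65.PearlPow

open Cfsg.Agent.Lib.helper68

variable {H : Type*} [Group H]

/-- Inductive claim of A1. -/
theorem h73_atom_claim {v : ℕ} (hv : 1 ≤ v) {s : ℕ → H} (hs : PolySeq v s) (k : ℕ)
    (a : H) (ha : a ∈ gam H (k + v)) (i : ℕ) (hi : i ≤ k) :
    Rel (v + i + 1) (fun n => (a ^ (n.choose (k - i)))⁻¹ * dl^[i] s n)
      (dl^[i] (fun n => (a ^ (n.choose k))⁻¹ * s n)) := by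
  induction i with
  | zero => exact rel_of_eq _ rfl
  | succ i ih =>
    have ih' := ih (by omega)
    have hrP : PolySeq (v + i) (dl^[i] s) := polyseq_dl_iter hs i
    have hAm : PolySeq (v + i) (fun n => a ^ (n.choose (k - i))) :=
      PolySeq.atom (k - i) (v + i) a (by rwa [show k - i + (v + i) = k + v by omega])
    have hAm1 : PolySeq (v + i + 1) (fun n => a ^ (n.choose (k - (i + 1)))) :=
      PolySeq.atom (k - (i + 1)) (v + i + 1) a
        (by rwa [show k - (i + 1) + (v + i + 1) = k + v by omega])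
    have hprod : PolySeq (v + i) (fun n => (a ^ (n.choose (k - i)))⁻¹ * dl^[i] s n) :=
      PolySeq.mul (PolySeq.inv hAm) hrP
    have step1 : Rel (v + i + 1 + 1) (dl (fun n => (a ^ (n.choose (k - i)))⁻¹ * dl^[i] s n))
        (dl (dl^[i] (fun n => (a ^ (n.choose k))⁻¹ * s n))) := rel_dl hprod ih'
    have hcomm : PolySeq ((v + i + 1) + (v + i))
        (fun n => com ((a ^ (n.choose (k - (i + 1))))⁻¹) (dl^[i] s n)) :=
      PolySeq.comm (PolySeq.inv hAm1) hrP
    have hconj := polyseq_conj hcomm (PolySeq.diff hrP)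
    have step2 : Rel (v + (i + 1) + 1)
        (fun n => (a ^ (n.choose (k - (i + 1))))⁻¹ * dl (dl^[i] s) n)
        (dl (fun n => (a ^ (n.choose (k - i)))⁻¹ * dl^[i] s n)) := by
      unfold Rel
      have e : (fun n => ((a ^ (n.choose (k - (i + 1))))⁻¹ * dl (dl^[i] s) n)⁻¹ *
            dl (fun n => (a ^ (n.choose (k - i)))⁻¹ * dl^[i] s n) n) =
          fun n => ((dl^[i] s n)⁻¹ * dl^[i] s (n + 1))⁻¹ *
            com ((a ^ (n.choose (k - (i + 1))))⁻¹) (dl^[i] s n) *
            ((dl^[i] s n)⁻¹ * dl^[i] s (n + 1)) := by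
        funext n
        have hpas : (n + 1).choose (k - i) = n.choose (k - (i + 1)) + n.choose (k - i) := by
          have h1 : k - i = (k - (i + 1)) + 1 := by omega
          rw [h1, Nat.choose_succ_succ]
        unfold dl com
        simp only []
        rw [hpas, pow_add]
        generalize a ^ n.choose (k - (i + 1)) = A1
        generalize a ^ n.choose (k - i) = Am
        generalize dl^[i] s n = r0
        generalize dl^[i] s (n + 1) = r1
        group
      rw [e]
      exact PolySeq.mono (by omega) hconj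
    rw [Function.iterate_succ_apply', Function.iterate_succ_apply']
    exact rel_trans step2 (rel_mono (by omega) step1)

/-- A1 (racer copy, verbatim Skel statement of `atom_remove`). -/
theorem h73_atom_remove {v : ℕ} (hv : 1 ≤ v) {s : ℕ → H} (hs : PolySeq v s) (k : ℕ) (hk : 1 ≤ k)
    (a : H) (ha : a ∈ gam H (k + v)) (j : ℕ) (hj : k + 1 ≤ j) :
    Rel (v + j + 1) (dl^[j] s) (dl^[j] (fun n => (a ^ (n.choose k))⁻¹ * s n)) := by
  have _ := hk
  have hk0 := h73_atom_claim hv hs k a ha k le_rfl
  have hrP : PolySeq (v + k) (dl^[k] s) := polyseq_dl_iter hs k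
  have hA0 : PolySeq (v + k) (fun n => a ^ (n.choose (k - k))) :=
    PolySeq.atom (k - k) (v + k) a (by rwa [show k - k + (v + k) = k + v by omega])
  have hprod : PolySeq (v + k) (fun n => (a ^ (n.choose (k - k)))⁻¹ * dl^[k] s n) :=
    PolySeq.mul (PolySeq.inv hA0) hrP
  have step := rel_dl hprod hk0
  have e : dl (fun n => (a ^ (n.choose (k - k)))⁻¹ * dl^[k] s n) = dl (dl^[k] s) := by
    funext n
    unfold dl
    simp only [Nat.sub_self, Nat.choose_zero_right, pow_one]
    group
  rw [e] at step
  have base : Rel (v + (k + 1) + 1) (dl^[k + 1] s)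
      (dl^[k + 1] (fun n => (a ^ (n.choose k))⁻¹ * s n)) := by
    rw [Function.iterate_succ_apply', Function.iterate_succ_apply']
    exact rel_mono (by omega) step
  induction j, hj using Nat.le_induction with
  | base => exact base
  | succ j hj ih =>
    rw [Function.iterate_succ_apply', Function.iterate_succ_apply']
    exact rel_mono (by omega) (rel_dl (polyseq_dl_iter hs j) ih)

end Cfsg.Agent.Lib.helper65.PearlPow
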