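import Mathlib

set_option autoImplicit false

namespace Cfsg.Agent.Lib.helper45.PearlC

/-- C1 STRICT (racer copy, verbatim Skel statement of `strict`). -/
theorem h73_strict {G : Type*} [Group G] [Finite G] (p : ℕ) [Fact p.Prime] (n : ℕ)
    (hG : Nat.card G = p ^ n) (A B : Subgroup G) (hAB : A < B) :
    p * Nat.card ↥A ≤ Nat.card ↥B := by
  have hpp : p.Prime := Fact.out
  have hB : Nat.card ↥B ∣ p ^ n := hG ▸ Subgroup.card_subgroup_dvd_card B
  obtain ⟨b, -, hb⟩ := (Nat.dvd_prime_pow hpp).1 hB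
  have hA : Nat.card ↥A ∣ p ^ b := hb ▸ Subgroup.card_dvd_of_le hAB.le
  obtain ⟨a, hab, ha⟩ := (Nat.dvd_prime_pow hpp).1 hA
  have hne : a ≠ b := by
    rintro rfl
    exact hAB.ne (Subgroup.eq_of_le_of_card_ge hAB.le (by rw [ha, hb]))
  rw [ha, hb]
  calc p * p ^ a = p ^ (a + 1) := by ring
    _ ≤ p ^ b := Nat.pow_le_pow_right hpp.pos (by omega)

end Cfsg.Agent.Lib.helper45.PearlC
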