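import Mathlib

set_option autoImplicit false

namespace Cfsg.Agent.Lib.helper45.PearlC

/-- C10 IN_E (the crux; tools passed as hypotheses): an element `w` with central commutators
lies in `E`. -/
theorem in_E {G : Type*} [Group G] [Finite G] (p : ℕ) [Fact p.Prime] (n : ℕ)
    (hG : Nat.card G = p ^ n) (E : Subgroup G) (hE : Nat.card ↥E = p ^ 3)
    (hna : ¬ IsMulCommutative ↥E) (hC : Subgroup.centralizer (E : Set G) ≤ E)
    (hCp : Nat.card ↥(Subgroup.centralizer (E : Set G)) = p)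
    (hZ : Subgroup.center G = Subgroup.centralizer (E : Set G))
    (w : G) (hw : ∀ g : G, w * g * w⁻¹ * g⁻¹ ∈ Subgroup.center G)
    (hidx : Nat.card G ≤ p * Nat.card ↥(Subgroup.centralizer ({w} : Set G)))
    (hstep : ∀ A B C : Subgroup G, C ≤ B →
      Nat.card ↥(A ⊓ B) * Nat.card ↥C ≤ Nat.card ↥(A ⊓ C) * Nat.card ↥B)
    (hcg : ∀ (D : Subgroup G), D ≤ E → Nat.card ↥E ≤ p * Nat.card ↥D → ∀ e ∈ E, e ∉ D →
      ∀ g : G, (∀ d ∈ D, d * g = g * d) → e * g = g * e →
        g ∈ Subgroup.centralizer (E : Set G))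
    (hcc : ∀ a b : G, a ∈ E → b ∈ E → a * b * a⁻¹ * b⁻¹ ∈ Subgroup.centralizer (E : Set G))
    (hpow : ∀ c : G, c ∈ Subgroup.center G → c ≠ 1 → ∀ z : G, z ∈ Subgroup.center G →
      ∃ k : ℕ, z = c ^ k)
    (hadj : ∀ (d e w c : G) (k : ℕ), (∀ g : G, c * g = g * c) → d * e * d⁻¹ * e⁻¹ = c →
      w * e * w⁻¹ * e⁻¹ = c ^ k → d * w = w * d → e * (w * (d ^ k)⁻¹) = (w * (d ^ k)⁻¹) * e) :
    w ∈ E := by
  classical
  have _ := hG
  have _ := hna
  have hpp : p.Prime := Fact.out
  have hmemCw : ∀ g : G, g ∈ Subgroup.centralizer ({w} : Set G) ↔ w * g = g * w := by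
    intro g
    rw [Subgroup.mem_centralizer_iff]
    constructor
    · intro h
      exact h w (Set.mem_singleton w)
    · intro h y hy
      rw [Set.mem_singleton_iff.1 hy]
      exact h
  have hDE : E ⊓ Subgroup.centralizer ({w} : Set G) ≤ E := inf_le_left
  have hcardD : Nat.card ↥E ≤ p * Nat.card ↥(E ⊓ Subgroup.centralizer ({w} : Set G)) := by
    have h1 := hstep E ⊤ (Subgroup.centralizer ({w} : Set G)) le_top
    rw [inf_top_eq, Subgroup.card_top] at h1
    have hpos : 0 < Nat.card ↥(Subgroup.centralizer ({w} : Set G)) := Nat.card_pos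
    have h2 : Nat.card ↥E * Nat.card ↥(Subgroup.centralizer ({w} : Set G)) ≤
        (p * Nat.card ↥(E ⊓ Subgroup.centralizer ({w} : Set G))) *
          Nat.card ↥(Subgroup.centralizer ({w} : Set G)) := by
      calc Nat.card ↥E * Nat.card ↥(Subgroup.centralizer ({w} : Set G))
          ≤ Nat.card ↥(E ⊓ Subgroup.centralizer ({w} : Set G)) * Nat.card G := h1
        _ ≤ Nat.card ↥(E ⊓ Subgroup.centralizer ({w} : Set G)) *
            (p * Nat.card ↥(Subgroup.centralizer ({w} : Set G))) := Nat.mul_le_mul_left _ hidx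
        _ = (p * Nat.card ↥(E ⊓ Subgroup.centralizer ({w} : Set G))) *
            Nat.card ↥(Subgroup.centralizer ({w} : Set G)) := by ring
    exact Nat.le_of_mul_le_mul_right h2 hpos
  by_cases hECw : E ≤ Subgroup.centralizer ({w} : Set G)
  · apply hC
    rw [Subgroup.mem_centralizer_iff]
    intro h hh
    exact ((hmemCw h).1 (hECw hh)).symm
  · obtain ⟨e, he, heCw⟩ := SetLike.not_le_iff_exists.1 hECw
    have heD : e ∉ E ⊓ Subgroup.centralizer ({w} : Set G) := fun h => heCw h.2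
    have hDcard : Nat.card ↥(E ⊓ Subgroup.centralizer ({w} : Set G)) = p ^ 2 := by
      have hdvd : Nat.card ↥(E ⊓ Subgroup.centralizer ({w} : Set G)) ∣ p ^ 3 :=
        hE ▸ Subgroup.card_dvd_of_le hDE
      obtain ⟨j, hj3, hj⟩ := (Nat.dvd_prime_pow hpp).1 hdvd
      have hj3' : j ≠ 3 := by
        rintro rfl
        have h1 : E ⊓ Subgroup.centralizer ({w} : Set G) = E :=
          Subgroup.eq_of_le_of_card_ge hDE (by rw [hj, hE])
        rw [h1] at heD
        exact heD he
      have hj2 : 2 ≤ j := by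
        rw [hE, hj] at hcardD
        have h3 : p ^ 3 ≤ p ^ (j + 1) := by
          calc p ^ 3 ≤ p * p ^ j := hcardD
            _ = p ^ (j + 1) := by ring
        have h4 := (Nat.pow_le_pow_iff_right hpp.one_lt).1 h3
        omega
      have hj2' : j = 2 := by omega
      rw [hj, hj2']
    have hDcomm : ∀ a ∈ E ⊓ Subgroup.centralizer ({w} : Set G),
        ∀ b ∈ E ⊓ Subgroup.centralizer ({w} : Set G), a * b = b * a := by
      intro a ha b hb
      have h := IsPGroup.commutative_of_card_eq_prime_sq hDcard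
        (⟨a, ha⟩ : ↥(E ⊓ Subgroup.centralizer ({w} : Set G))) ⟨b, hb⟩
      exact congrArg Subtype.val h
    have hexd : ∃ d ∈ E ⊓ Subgroup.centralizer ({w} : Set G), d * e ≠ e * d := by
      by_contra hcon
      push Not at hcon
      have hle : E ⊓ Subgroup.centralizer ({w} : Set G) ≤ Subgroup.centralizer (E : Set G) := by
        intro g hg
        exact hcg (E ⊓ Subgroup.centralizer ({w} : Set G)) hDE hcardD e he heD g
          (fun d hd => hDcomm d hd g hg) (hcon g hg).symm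
      have h1 := Subgroup.card_le_of_le hle
      rw [hDcard, hCp] at h1
      have h2 := hpp.one_lt
      nlinarith
    obtain ⟨d, hd, hde⟩ := hexd
    have hdE : d ∈ E := hd.1
    have hdw : d * w = w * d := ((hmemCw d).1 hd.2).symm
    have hc : d * e * d⁻¹ * e⁻¹ ∈ Subgroup.center G := by
      rw [hZ]
      exact hcc d e hdE he
    have hc1 : d * e * d⁻¹ * e⁻¹ ≠ 1 := by
      intro h
      apply hde
      have h2 : d * e = (d * e * d⁻¹ * e⁻¹) * (e * d) := by group
      rw [h2, h, one_mul]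
    obtain ⟨k, hk⟩ := hpow _ hc hc1 (w * e * w⁻¹ * e⁻¹) (hw e)
    have hcen : ∀ g : G, (d * e * d⁻¹ * e⁻¹) * g = g * (d * e * d⁻¹ * e⁻¹) :=
      fun g => (Subgroup.mem_center_iff.1 hc g).symm
    have hge := hadj d e w _ k hcen rfl hk hdw
    have hgD : ∀ d' ∈ E ⊓ Subgroup.centralizer ({w} : Set G),
        d' * (w * (d ^ k)⁻¹) = (w * (d ^ k)⁻¹) * d' := by
      intro d' hd'
      have h1 : d' * w = w * d' := ((hmemCw d').1 hd'.2).symm
      have h2 : Commute d' d := hDcomm d' hd' d hd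
      have h3 : d' * (d ^ k)⁻¹ = (d ^ k)⁻¹ * d' := ((h2.pow_right k).inv_right).eq
      calc d' * (w * (d ^ k)⁻¹) = (d' * w) * (d ^ k)⁻¹ := by rw [mul_assoc]
        _ = w * (d' * (d ^ k)⁻¹) := by rw [h1, mul_assoc]
        _ = (w * (d ^ k)⁻¹) * d' := by rw [h3, mul_assoc]
    have hgE : w * (d ^ k)⁻¹ ∈ E :=
      hC (hcg (E ⊓ Subgroup.centralizer ({w} : Set G)) hDE hcardD e he heD _ hgD hge)
    have h5 : w = (w * (d ^ k)⁻¹) * d ^ k := by group
    rw [h5]
    exact E.mul_mem hgE (E.pow_mem hdE k)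

end Cfsg.Agent.Lib.helper45.PearlC
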