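import Mathlib

set_option autoImplicit false

namespace Cfsg.Agent.Lib.helper45.PearlC

/-- C4 CENTER (racer copy, verbatim Skel statement of `center_card`). -/
theorem h73_center_card {G : Type*} [Group G] [Finite G] (p : ℕ) [Fact p.Prime] (n : ℕ)
    (hG : Nat.card G = p ^ n) (E : Subgroup G) (hE : Nat.card ↥E = p ^ 3)
    (hna : ¬ IsMulCommutative ↥E) (hC : Subgroup.centralizer (E : Set G) ≤ E)
    (hcg : ∀ (D : Subgroup G), D ≤ E → Nat.card ↥E ≤ p * Nat.card ↥D → ∀ e ∈ E, e ∉ D →
      ∀ g : G, (∀ d ∈ D, d * g = g * d) → e * g = g * e →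
        g ∈ Subgroup.centralizer (E : Set G)) :
    Nat.card ↥(Subgroup.centralizer (E : Set G)) = p ∧
      Subgroup.center G = Subgroup.centralizer (E : Set G) := by
  classical
  have hpp : p.Prime := Fact.out
  have hPG : IsPGroup p G := IsPGroup.of_card hG
  have hCne : Subgroup.centralizer (E : Set G) ≠ E := by
    intro h
    apply hna
    refine ⟨⟨fun a b => ?_⟩⟩
    have ha : (a : G) ∈ Subgroup.centralizer (E : Set G) := by
      rw [h]
      exact a.2
    have h1 := Subgroup.mem_centralizer_iff.1 ha b b.2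
    exact Subtype.ext h1.symm
  obtain ⟨e, he, heC⟩ : ∃ e ∈ E, e ∉ Subgroup.centralizer (E : Set G) := by
    by_contra hcon
    push Not at hcon
    exact hCne (le_antisymm hC hcon)
  have hlt : p * Nat.card ↥(Subgroup.centralizer (E : Set G)) < Nat.card ↥E := by
    by_contra hle
    push Not at hle
    apply heC
    exact hcg _ hC hle e he heC e
      (fun d hd => (Subgroup.mem_centralizer_iff.1 hd e he).symm) rfl
  have hdvd : Nat.card ↥(Subgroup.centralizer (E : Set G)) ∣ p ^ 3 :=
    hE ▸ Subgroup.card_dvd_of_le hC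
  obtain ⟨j, hj3, hj⟩ := (Nat.dvd_prime_pow hpp).1 hdvd
  have hj1 : j ≤ 1 := by
    rw [hj, hE] at hlt
    have h3 : p ^ (j + 1) < p ^ 3 := by
      calc p ^ (j + 1) = p * p ^ j := by ring
        _ < p ^ 3 := hlt
    have h4 := (Nat.pow_lt_pow_iff_right hpp.one_lt).1 h3
    omega
  have hnt : Nontrivial G := by
    have h1 : 1 < Nat.card ↥E := by
      rw [hE]
      exact Nat.one_lt_pow (by norm_num) hpp.one_lt
    have h2 : Nat.card ↥E ≤ Nat.card G := Subgroup.card_le_card_group E
    exact (Finite.one_lt_card_iff_nontrivial).1 (by omega)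
  have hZnt : Nontrivial (Subgroup.center G) := hPG.center_nontrivial
  have hZ1 : 1 < Nat.card ↥(Subgroup.center G) := (Finite.one_lt_card_iff_nontrivial).2 hZnt
  have hZle : Subgroup.center G ≤ Subgroup.centralizer (E : Set G) :=
    Subgroup.center_le_centralizer _
  have hZdvd : Nat.card ↥(Subgroup.center G) ∣ Nat.card ↥(Subgroup.centralizer (E : Set G)) :=
    Subgroup.card_dvd_of_le hZle
  have hj1' : j = 1 := by
    rcases Nat.eq_zero_or_pos j with h0 | h0
    · exfalso
      rw [hj, h0, pow_zero] at hZdvd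
      have h5 := Nat.le_of_dvd (by norm_num) hZdvd
      omega
    · omega
  have hCp : Nat.card ↥(Subgroup.centralizer (E : Set G)) = p := by
    rw [hj, hj1', pow_one]
  refine ⟨hCp, ?_⟩
  apply Subgroup.eq_of_le_of_card_ge hZle
  rw [hCp]
  rw [hCp] at hZdvd
  rcases (Nat.dvd_prime hpp).1 hZdvd with h | h
  · omega
  · exact h.ge

end Cfsg.Agent.Lib.helper45.PearlC
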