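import Mathlib
import Cfsg.Agent.Lib.helper39.SmallExp

set_option autoImplicit false

namespace Cfsg.Agent.Lib.helper88.PearlF

/-- FD1 (racer copy, verbatim Skel statement of `char_chain_of_not_exp`): `A = Z(E)`,
`B = ` kernel of the `p`-power homomorphism. -/
theorem h73_char_chain_of_not_exp {E : Type*} [Group E] [Finite E] (p : ℕ) [Fact p.Prime] (hp : p ≠ 2)
    (hcard : Nat.card E = p ^ 3) (hna : ¬ IsMulCommutative E) (x : E) (hx : x ^ p ≠ 1) :
    ∃ A B : Subgroup E, A.Characteristic ∧ B.Characteristic ∧ A ≤ B ∧ Nat.card A = p ∧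
      Nat.card B = p ^ 2 := by
  classical
  have hpp : p.Prime := Fact.out
  have hp3 : 3 ≤ p := by
    have := hpp.two_le
    omega
  have hPG : IsPGroup p E := IsPGroup.of_card hcard
  have hnt : Nontrivial E := by
    refine (Finite.one_lt_card_iff_nontrivial).1 ?_
    rw [hcard]
    exact Nat.one_lt_pow (by norm_num) hpp.one_lt
  have hcyc : ¬ IsCyclic (E ⧸ Subgroup.center E) := by
    intro h
    apply hna
    refine ⟨⟨fun a b => ?_⟩⟩
    exact commutative_of_cyclic_center_quotient (QuotientGroup.mk' (Subgroup.center E))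
      (by rw [QuotientGroup.ker_mk']) a b
  have hmul : Nat.card E = Nat.card (E ⧸ Subgroup.center E) * Nat.card (Subgroup.center E) :=
    Subgroup.card_eq_card_quotient_mul_card_subgroup _
  have hZ : Nat.card (Subgroup.center E) = p := by
    have hdvd : Nat.card (Subgroup.center E) ∣ p ^ 3 := hcard ▸ Subgroup.card_subgroup_dvd_card _
    obtain ⟨j, hj3, hj⟩ := (Nat.dvd_prime_pow hpp).1 hdvd
    have hZnt : Nontrivial (Subgroup.center E) := hPG.center_nontrivial
    have hj0 : j ≠ 0 := by
      rintro rfl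
      rw [pow_zero] at hj
      have := (Finite.one_lt_card_iff_nontrivial).2 hZnt
      omega
    have hj3' : j ≠ 3 := by
      rintro rfl
      apply hna
      have htop : Subgroup.center E = ⊤ := Subgroup.eq_top_of_card_eq _ (by rw [hj, hcard])
      refine ⟨⟨fun a b => ?_⟩⟩
      have ha : a ∈ Subgroup.center E := by rw [htop]; trivial
      exact (Subgroup.mem_center_iff.1 ha b).symm
    have hj2 : j ≠ 2 := by
      rintro rfl
      apply hcyc
      have hq : Nat.card (E ⧸ Subgroup.center E) = p := by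
        rw [hcard, hj] at hmul
        have h1 : p ^ 2 * p = p ^ 2 * Nat.card (E ⧸ Subgroup.center E) := by
          rw [mul_comm (p ^ 2) (Nat.card _), ← hmul]
          ring
        exact (Nat.eq_of_mul_eq_mul_left (by positivity) h1).symm
      exact isCyclic_of_prime_card hq
    have hj1 : j = 1 := by omega
    rw [hj, hj1, pow_one]
  have hQ : Nat.card (E ⧸ Subgroup.center E) = p ^ 2 := by
    rw [hcard, hZ] at hmul
    have h1 : p ^ 2 * p = Nat.card (E ⧸ Subgroup.center E) * p := by
      rw [← hmul]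
      ring
    exact (Nat.eq_of_mul_eq_mul_right hpp.pos h1).symm
  have hcomm : ∀ a b : E, b⁻¹ * a⁻¹ * b * a ∈ Subgroup.center E := by
    intro a b
    rw [← QuotientGroup.eq_one_iff]
    have h := IsPGroup.commutative_of_card_eq_prime_sq hQ (a : E ⧸ Subgroup.center E)
      (b : E ⧸ Subgroup.center E)
    simp only [QuotientGroup.mk_mul, QuotientGroup.mk_inv]
    calc ((b : E ⧸ Subgroup.center E))⁻¹ * (a : E ⧸ Subgroup.center E)⁻¹ * b * a
        = ((b : E ⧸ Subgroup.center E))⁻¹ * (a : E ⧸ Subgroup.center E)⁻¹ * (b * a) := by group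
      _ = ((b : E ⧸ Subgroup.center E))⁻¹ * (a : E ⧸ Subgroup.center E)⁻¹ * (a * b) := by rw [h]
      _ = 1 := by group
  have hZpow : ∀ z ∈ Subgroup.center E, z ^ p = 1 := by
    intro z hz
    have h1 : (⟨z, hz⟩ : Subgroup.center E) ^ Nat.card (Subgroup.center E) = 1 := pow_card_eq_one'
    rw [hZ] at h1
    have h2 := congrArg Subtype.val h1
    simpa using h2
  have hpowZ : ∀ y : E, y ^ p ∈ Subgroup.center E := by
    intro y
    rw [← QuotientGroup.eq_one_iff, QuotientGroup.mk_pow]
    have hord : orderOf (y : E ⧸ Subgroup.center E) ∣ p ^ 2 := hQ ▸ orderOf_dvd_natCard _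
    obtain ⟨j, hj2, hj⟩ := (Nat.dvd_prime_pow hpp).1 hord
    have hjne : j ≠ 2 := by
      rintro rfl
      apply hcyc
      exact isCyclic_of_orderOf_eq_card (y : E ⧸ Subgroup.center E) (by rw [hj, hQ])
    have hdp : orderOf (y : E ⧸ Subgroup.center E) ∣ p := by
      rw [hj]
      have hj1 : j ≤ 1 := by omega
      have h3 := pow_dvd_pow p hj1
      rwa [pow_one] at h3
    exact orderOf_dvd_iff_pow_eq_one.1 hdp
  have hmulpow : ∀ a b : E, (a * b) ^ p = a ^ p * b ^ p := by
    intro a b
    have hc := hcomm a b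
    have hrel : b * a = a * b * (b⁻¹ * a⁻¹ * b * a) := by group
    have hca : (b⁻¹ * a⁻¹ * b * a) * a = a * (b⁻¹ * a⁻¹ * b * a) :=
      (Subgroup.mem_center_iff.1 hc a).symm
    have hcb : (b⁻¹ * a⁻¹ * b * a) * b = b * (b⁻¹ * a⁻¹ * b * a) :=
      (Subgroup.mem_center_iff.1 hc b).symm
    have h1 := Cfsg.Agent.Lib.helper39.mul_pow_class2 a b (b⁻¹ * a⁻¹ * b * a) hrel hca hcb p
    have hdvd : p ∣ p.choose 2 := hpp.dvd_choose_self (by norm_num) (by omega)
    obtain ⟨m, hm⟩ := hdvd
    rw [h1, hm, pow_mul, hZpow _ hc, one_pow, mul_one]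
  let φ : E →* E := MonoidHom.mk' (fun y => y ^ p) hmulpow
  have hφ : ∀ y, φ y = y ^ p := fun y => rfl
  have hrange_le : φ.range ≤ Subgroup.center E := by
    rintro _ ⟨y, rfl⟩
    exact hpowZ y
  have hrange_card : Nat.card φ.range = p := by
    have hd : Nat.card φ.range ∣ p := hZ ▸ Subgroup.card_dvd_of_le hrange_le
    rcases (Nat.dvd_prime hpp).1 hd with h | h
    · exfalso
      have hbot : φ.range = ⊥ := Subgroup.eq_bot_of_card_eq _ h
      apply hx
      have h2 : φ x ∈ φ.range := ⟨x, rfl⟩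
      rw [hbot, Subgroup.mem_bot] at h2
      exact h2
    · exact h
  have hker_card : Nat.card φ.ker = p ^ 2 := by
    have h1 := Subgroup.card_mul_index φ.ker
    rw [Subgroup.index_ker, hrange_card, hcard] at h1
    have h2 : Nat.card φ.ker * p = p ^ 2 * p := by
      rw [h1]
      ring
    exact Nat.eq_of_mul_eq_mul_right hpp.pos h2
  refine ⟨Subgroup.center E, φ.ker, inferInstance, ?_, ?_, hZ, hker_card⟩
  · rw [Subgroup.characteristic_iff_le_comap]
    intro ψ y hy
    rw [Subgroup.mem_comap, MonoidHom.mem_ker, hφ]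
    rw [MonoidHom.mem_ker, hφ] at hy
    show (ψ y) ^ p = 1
    rw [← map_pow, hy, map_one]
  · intro z hz
    rw [MonoidHom.mem_ker, hφ]
    exact hZpow z hz

end Cfsg.Agent.Lib.helper88.PearlF
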