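import Mathlib

set_option autoImplicit false

namespace Cfsg.Agent.Lib.helper73.S2113

/-- A fixed-point-free element of order `7` normalizing a group of order `8`: its powers move a
non-identity element to every non-identity element, and only multiples of `7` fix it. -/
theorem h73_orbit {G : Type*} [Group G] (S : Subgroup G) (hcard : Nat.card S = 8)
    (g : G) (hg : ∀ x ∈ S, g * x * g⁻¹ ∈ S) (hg7 : g ^ 7 = 1)
    (hfix : ∀ x ∈ S, g * x * g⁻¹ = x → x = 1) (s₀ : G) (hs₀ : s₀ ∈ S) (hs₀1 : s₀ ≠ 1) :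
    (∀ n : ℤ, g ^ n * s₀ * g ^ (-n) ∈ S) ∧
    (∀ s ∈ S, s ≠ 1 → ∃ n : ℤ, s = g ^ n * s₀ * g ^ (-n)) := by
  have hg7z : ∀ t : ℤ, g ^ (7 * t) = 1 := by
    intro t
    rw [zpow_mul]
    have h7 : g ^ (7 : ℤ) = 1 := by exact_mod_cast hg7
    rw [h7, one_zpow]
  have hstab : ∀ d : ℤ, g ^ d * s₀ * g ^ (-d) = s₀ → (d : ZMod 7) = 0 := by
    intro d hd
    by_contra hne
    have hp7 : Fact (Nat.Prime 7) := ⟨by norm_num⟩
    obtain ⟨u, hu⟩ : ∃ u : ℤ, ((d * u : ℤ) : ZMod 7) = ((1 : ℤ) : ZMod 7) := by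
      refine ⟨((d : ZMod 7)⁻¹).cast, ?_⟩
      push_cast
      exact mul_inv_cancel₀ hne
    have h7 : ((7 : ℕ) : ℤ) ∣ d * u - 1 :=
      (ZMod.intCast_eq_intCast_iff_dvd_sub 1 (d * u) 7).1 hu.symm
    obtain ⟨t, ht⟩ := h7
    have hcomm : Commute (g ^ d) s₀ := by
      have h := congrArg (· * g ^ d) hd
      have h2 : g ^ d * s₀ = s₀ * g ^ d := by
        simpa [mul_assoc] using h
      exact h2
    have hcomm2 : Commute ((g ^ d) ^ u) s₀ := hcomm.zpow_left u
    have hgu : (g ^ d) ^ u = g := by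
      have hdu : d * u = 1 + 7 * t := by push_cast at ht; linarith
      rw [← zpow_mul, hdu, zpow_add, hg7z, mul_one, zpow_one]
    rw [hgu] at hcomm2
    apply hs₀1
    apply hfix s₀ hs₀
    rw [hcomm2.eq, mul_inv_cancel_right]
  have hinj : ∀ n m : ℤ, g ^ n * s₀ * g ^ (-n) = g ^ m * s₀ * g ^ (-m) →
      (n : ZMod 7) = (m : ZMod 7) := by
    intro n m h
    have h1 : g ^ (n - m) * s₀ * g ^ (-(n - m)) = s₀ := by
      have h2 : g ^ (n - m) * s₀ * g ^ (-(n - m)) = g ^ (-m) * (g ^ n * s₀ * g ^ (-n)) * g ^ m := by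
        group
      rw [h2, h]; group
    have h3 := hstab _ h1
    push_cast at h3
    exact sub_eq_zero.1 h3
  have hmemN : ∀ k : ℕ, ∀ x ∈ S, g ^ k * x * (g ^ k)⁻¹ ∈ S := by
    intro k
    induction k with
    | zero => intro x hx; simpa using hx
    | succ k ih =>
      intro x hx
      have h1 := hg _ (ih x hx)
      have h2 : g ^ (k + 1) * x * (g ^ (k + 1))⁻¹ = g * (g ^ k * x * (g ^ k)⁻¹) * g⁻¹ := by
        rw [pow_succ']; group
      rw [h2]; exact h1
  have hmemZ : ∀ n : ℤ, ∀ x ∈ S, g ^ n * x * g ^ (-n) ∈ S := by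
    intro n x hx
    have h1 : n = ((n % 7).toNat : ℤ) + 7 * (n / 7) := by
      rw [Int.toNat_of_nonneg (Int.emod_nonneg n (by norm_num))]; omega
    have h2 : g ^ n = g ^ (n % 7).toNat := by
      conv_lhs => rw [h1]
      rw [zpow_add, hg7z, mul_one, zpow_natCast]
    rw [zpow_neg, h2]
    exact hmemN _ x hx
  refine ⟨fun n => hmemZ n s₀ hs₀, ?_⟩
  have hfin : Finite S := Nat.finite_of_card_ne_zero (by rw [hcard]; norm_num)
  let φ : Option (ZMod 7) → S := fun o =>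
    match o with
    | none => 1
    | some k => ⟨g ^ (k.cast : ℤ) * s₀ * g ^ (-(k.cast : ℤ)), hmemZ _ s₀ hs₀⟩
  have hφinj : Function.Injective φ := by
    intro o o' h
    match o, o', h with
    | none, none, _ => rfl
    | none, some k, h =>
      exfalso
      have h1 : (1 : G) = g ^ (k.cast : ℤ) * s₀ * g ^ (-(k.cast : ℤ)) := congrArg Subtype.val h
      apply hs₀1
      have h2 : s₀ = g ^ (-(k.cast : ℤ)) * (g ^ (k.cast : ℤ) * s₀ * g ^ (-(k.cast : ℤ))) *
          g ^ (k.cast : ℤ) := by group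
      rw [h2, ← h1]; group
    | some k, none, h =>
      exfalso
      have h1 : g ^ (k.cast : ℤ) * s₀ * g ^ (-(k.cast : ℤ)) = (1 : G) := congrArg Subtype.val h
      apply hs₀1
      have h2 : s₀ = g ^ (-(k.cast : ℤ)) * (g ^ (k.cast : ℤ) * s₀ * g ^ (-(k.cast : ℤ))) *
          g ^ (k.cast : ℤ) := by group
      rw [h2, h1]; group
    | some k, some k', h =>
      have h1 : g ^ (k.cast : ℤ) * s₀ * g ^ (-(k.cast : ℤ)) =
          g ^ (k'.cast : ℤ) * s₀ * g ^ (-(k'.cast : ℤ)) := congrArg Subtype.val h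
      have h2 := hinj _ _ h1
      rw [ZMod.intCast_zmod_cast, ZMod.intCast_zmod_cast] at h2
      rw [h2]
  have hcardO : Nat.card (Option (ZMod 7)) = 8 := by
    rw [Nat.card_eq_fintype_card, Fintype.card_option, ZMod.card]
  have hbij : Function.Bijective φ :=
    hφinj.bijective_of_nat_card_le (by rw [hcard, hcardO])
  intro s hs hs1
  obtain ⟨o, ho⟩ := hbij.2 ⟨s, hs⟩
  match o, ho with
  | none, ho =>
    exfalso
    apply hs1
    have h1 : (1 : G) = s := congrArg Subtype.val ho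
    exact h1.symm
  | some k, ho =>
    refine ⟨(k.cast : ℤ), ?_⟩
    have h1 : g ^ (k.cast : ℤ) * s₀ * g ^ (-(k.cast : ℤ)) = s := congrArg Subtype.val ho
    exact h1.symm

/-- The commutator with `x` is unchanged by a central factor. -/
theorem h73_comm_central_mul {Γ : Type*} [Group Γ] (x w z : Γ) (hz : ∀ v : Γ, v * z = z * v) :
    x * (z * w) * x⁻¹ * (z * w)⁻¹ = x * w * x⁻¹ * w⁻¹ := by
  calc x * (z * w) * x⁻¹ * (z * w)⁻¹ = (x * z) * (w * x⁻¹ * w⁻¹) * z⁻¹ := by group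
    _ = (z * x) * (w * x⁻¹ * w⁻¹) * z⁻¹ := by rw [hz x]
    _ = z * (x * w * x⁻¹ * w⁻¹) * z⁻¹ := by group
    _ = (x * w * x⁻¹ * w⁻¹) * z * z⁻¹ := by rw [← hz]
    _ = x * w * x⁻¹ * w⁻¹ := by group

/-- PIECE TWOC: the preimage of such a `2³` in a central extension is abelian. -/
theorem helper73_two_comm {G Γ : Type*} [Group G] [Group Γ] (σ : Γ →* G) (hsurj : Function.Surjective σ)
    (hc : σ.ker ≤ Subgroup.center Γ) (S : Subgroup G) (hcard : Nat.card S = 8)
    (hexp : ∀ x ∈ S, x * x = 1) (g : G) (hg : ∀ x ∈ S, g * x * g⁻¹ ∈ S) (hg7 : g ^ 7 = 1)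
    (hfix : ∀ x ∈ S, g * x * g⁻¹ = x → x = 1)
    (hF : ∀ (f : ZMod 7 → Γ) (j : ZMod 7), (∀ a b, f a * f b = f b * f a) → f 0 = 1 →
      (∀ k, f k * f k = 1) → (∀ k, f (-k) = f k) → j ≠ 0 → j ≠ 1 →
      (∀ i, f (i + j) = f i * f (i + 1)) → ∀ k, f k = 1)
    (x y : Γ) (hx : σ x ∈ S) (hy : σ y ∈ S) : x * y = y * x := by
  have hcen : ∀ z : Γ, σ z = 1 → ∀ w : Γ, w * z = z * w := fun z hz w =>
    Subgroup.mem_center_iff.1 (hc (MonoidHom.mem_ker.2 hz)) w
  have hScomm : ∀ a ∈ S, ∀ b ∈ S, a * b = b * a := by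
    intro a ha b hb
    have h1 := hexp _ (S.mul_mem ha hb)
    have ha' : a⁻¹ = a := inv_eq_of_mul_eq_one_left (hexp a ha)
    have hb' : b⁻¹ = b := inv_eq_of_mul_eq_one_left (hexp b hb)
    calc a * b = (a * b)⁻¹ := (inv_eq_of_mul_eq_one_left h1).symm
      _ = b⁻¹ * a⁻¹ := mul_inv_rev _ _
      _ = b * a := by rw [ha', hb']
  by_cases hx1 : σ x = 1
  · exact (hcen x hx1 y).symm
  obtain ⟨γ, hγ⟩ := hsurj g
  obtain ⟨horbmem, horb⟩ := h73_orbit S hcard g hg hg7 hfix (σ x) hx hx1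
  obtain ⟨A, hA⟩ : ∃ A : ℤ → Γ, ∀ n, A n = γ ^ n * x * γ ^ (-n) := ⟨_, fun _ => rfl⟩
  have hσA : ∀ n, σ (A n) = g ^ n * σ x * g ^ (-n) := by
    intro n
    rw [hA, map_mul, map_mul, map_zpow, map_zpow, hγ]
  have hAmem : ∀ n, σ (A n) ∈ S := fun n => by rw [hσA]; exact horbmem n
  obtain ⟨F, hFdef⟩ : ∃ F : ℤ → Γ, ∀ n, F n = x * A n * x⁻¹ * (A n)⁻¹ := ⟨_, fun _ => rfl⟩
  -- periodicity
  have hγ7 : ∀ t : ℤ, ∀ w : Γ, w * γ ^ (7 * t) = γ ^ (7 * t) * w := by
    intro t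
    apply hcen
    rw [map_zpow, hγ, zpow_mul]
    have h7 : g ^ (7 : ℤ) = 1 := by exact_mod_cast hg7
    rw [h7, one_zpow]
  have hAper : ∀ n t : ℤ, A (n + 7 * t) = A n := by
    intro n t
    rw [hA, hA]
    calc γ ^ (n + 7 * t) * x * γ ^ (-(n + 7 * t))
        = γ ^ n * (γ ^ (7 * t) * x) * (γ ^ (7 * t))⁻¹ * γ ^ (-n) := by group
      _ = γ ^ n * (x * γ ^ (7 * t)) * (γ ^ (7 * t))⁻¹ * γ ^ (-n) := by rw [hγ7 t x]
      _ = γ ^ n * x * γ ^ (-n) := by group
  have hAcast : ∀ n : ℤ, A (((n : ZMod 7).cast : ℤ)) = A n := by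
    intro n
    rw [ZMod.coe_intCast]
    have h1 : n = n % ((7 : ℕ) : ℤ) + 7 * (n / 7) := by push_cast; omega
    conv_rhs => rw [h1]
    rw [hAper]
  have hFcast : ∀ n : ℤ, F (((n : ZMod 7).cast : ℤ)) = F n := by
    intro n; rw [hFdef, hFdef, hAcast]
  -- F is central
  have hFc : ∀ n : ℤ, ∀ w : Γ, w * F n = F n * w := by
    intro n
    apply hcen
    rw [hFdef, map_mul, map_mul, map_mul, map_inv, map_inv, hScomm _ hx _ (hAmem n)]
    group
  have hF0 : F 0 = 1 := by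
    rw [hFdef, hA]; group
  have hFsq : ∀ n, F n * F n = 1 := by
    intro n
    have h1 : x * A n = F n * A n * x := by rw [hFdef]; group
    have h2 : x * (A n * A n) = F n * F n * (A n * A n) * x := by
      calc x * (A n * A n) = (x * A n) * A n := by group
        _ = F n * A n * x * A n := by rw [h1]
        _ = F n * A n * (x * A n) := by group
        _ = F n * A n * (F n * A n * x) := by rw [h1]
        _ = F n * (A n * F n) * A n * x := by group
        _ = F n * (F n * A n) * A n * x := by rw [hFc n (A n)]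
        _ = F n * F n * (A n * A n) * x := by group
    have h3 : x * (A n * A n) = (A n * A n) * x :=
      hcen (A n * A n) (by rw [map_mul]; exact hexp _ (hAmem n)) x
    have h4 : F n * F n * (A n * A n) * x = (A n * A n) * x := h2.symm.trans h3
    have h5 : F n * F n * (A n * A n) = A n * A n := mul_right_cancel h4
    calc F n * F n = F n * F n * (A n * A n) * (A n * A n)⁻¹ := by group
      _ = (A n * A n) * (A n * A n)⁻¹ := by rw [h5]
      _ = 1 := by group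
  have hFinv : ∀ n, (F n)⁻¹ = F n := fun n => inv_eq_of_mul_eq_one_left (hFsq n)
  have hFneg : ∀ n, F (-n) = F n := by
    intro n
    have h1 : γ ^ n * F (-n) * γ ^ (-n) = (F n)⁻¹ := by
      rw [hFdef, hFdef, hA, hA]; group
    have h2 : γ ^ n * F (-n) * γ ^ (-n) = F (-n) := by
      rw [hFc (-n) (γ ^ n)]; group
    rw [← h2, h1, hFinv]
  -- the relation
  have hs1 : σ x * (g * σ x * g⁻¹) ∈ S := S.mul_mem hx (hg _ hx)
  have hs1ne : σ x * (g * σ x * g⁻¹) ≠ 1 := by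
    intro h
    apply hx1
    apply hfix _ hx
    have h1 : g * σ x * g⁻¹ = (σ x)⁻¹ := (inv_eq_of_mul_eq_one_right h).symm
    rw [h1]
    exact inv_eq_of_mul_eq_one_left (hexp _ hx)
  obtain ⟨J, hJ⟩ := horb _ hs1 hs1ne
  have hA1 : σ (A 1) = g * σ x * g⁻¹ := by
    rw [hσA, zpow_neg, zpow_one]
  have hA0 : A 0 = x := by rw [hA]; group
  have hJ' : σ x * σ (A 1) = σ (A J) := by rw [hA1, hσA, hJ]
  have hj0 : (J : ZMod 7) ≠ 0 := by
    intro h
    have h1 : A J = A 0 := by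
      rw [← hAcast J, h, ← hAcast 0, Int.cast_zero]
    rw [h1, hA0] at hJ'
    have h2 : σ (A 1) = 1 := by
      have h3 : σ x * σ (A 1) = σ x * 1 := by rw [hJ', mul_one]
      exact mul_left_cancel h3
    rw [hA1] at h2
    apply hx1
    have h4 : σ x = g⁻¹ * (g * σ x * g⁻¹) * g := by group
    rw [h4, h2]; group
  have hj1 : (J : ZMod 7) ≠ 1 := by
    intro h
    have h1 : A J = A 1 := by
      rw [← hAcast J, h, ← hAcast 1, Int.cast_one]
    rw [h1] at hJ'
    apply hx1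
    have h3 : σ x * σ (A 1) = 1 * σ (A 1) := by rw [hJ', one_mul]
    exact mul_right_cancel h3
  have hrel : ∀ n : ℤ, F (n + J) = F n * F (n + 1) := by
    intro n
    obtain ⟨z, hzdef⟩ : ∃ z : Γ, z = x * A 1 * (A J)⁻¹ := ⟨_, rfl⟩
    have hzσ : σ z = 1 := by
      rw [hzdef, map_mul, map_mul, map_inv, hJ']; group
    have hz : ∀ w : Γ, w * z = z * w := hcen z hzσ
    have hzi : ∀ w : Γ, w * z⁻¹ = z⁻¹ * w := hcen z⁻¹ (by rw [map_inv, hzσ, inv_one])
    have h1 : A n * A (n + 1) = z * A (n + J) := by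
      have e1 : A n * A (n + 1) = γ ^ n * (x * A 1) * γ ^ (-n) := by
        rw [hA, hA, hA]; group
      have e2 : x * A 1 = z * A J := by rw [hzdef]; group
      rw [e1, e2]
      calc γ ^ n * (z * A J) * γ ^ (-n) = (γ ^ n * z) * A J * γ ^ (-n) := by group
        _ = (z * γ ^ n) * A J * γ ^ (-n) := by rw [hz]
        _ = z * (γ ^ n * A J * γ ^ (-n)) := by group
        _ = z * A (n + J) := by
          congr 1
          rw [hA J, hA (n + J)]; group
    have h2 : A (n + J) = z⁻¹ * (A n * A (n + 1)) := by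
      rw [h1]; group
    calc F (n + J) = x * A (n + J) * x⁻¹ * (A (n + J))⁻¹ := hFdef _
      _ = x * (z⁻¹ * (A n * A (n + 1))) * x⁻¹ * (z⁻¹ * (A n * A (n + 1)))⁻¹ := by rw [h2]
      _ = x * (A n * A (n + 1)) * x⁻¹ * (A n * A (n + 1))⁻¹ := h73_comm_central_mul _ _ _ hzi
      _ = (x * A n * x⁻¹ * (A n)⁻¹) * (A n * (x * A (n + 1) * x⁻¹ * (A (n + 1))⁻¹)) * (A n)⁻¹ := by
        group
      _ = F n * (A n * F (n + 1)) * (A n)⁻¹ := by rw [← hFdef, ← hFdef]
      _ = F n * (F (n + 1) * A n) * (A n)⁻¹ := by rw [hFc (n + 1) (A n)]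
      _ = F n * F (n + 1) := by group
  -- apply the combinatorial lemma
  obtain ⟨f, hfdef⟩ : ∃ f : ZMod 7 → Γ, ∀ k, f k = F ((k.cast : ℤ)) := ⟨_, fun _ => rfl⟩
  have hfF : ∀ n : ℤ, f (n : ZMod 7) = F n := fun n => by rw [hfdef, hFcast]
  have hall : ∀ k : ZMod 7, f k = 1 := by
    apply hF f (J : ZMod 7)
    · intro a b; rw [hfdef, hfdef]; exact hFc _ _
    · have h := hfF 0
      rw [Int.cast_zero] at h
      rw [h, hF0]
    · intro k; rw [hfdef]; exact hFsq _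
    · intro k
      have hk : k = ((k.cast : ℤ) : ZMod 7) := (ZMod.intCast_zmod_cast k).symm
      rw [hk, ← Int.cast_neg, hfF, hfF, hFneg]
    · exact hj0
    · exact hj1
    · intro i
      have hi : i = ((i.cast : ℤ) : ZMod 7) := (ZMod.intCast_zmod_cast i).symm
      rw [hi]
      have e1 : (((i.cast : ℤ) : ZMod 7) + (J : ZMod 7)) = (((i.cast : ℤ) + J : ℤ) : ZMod 7) := by
        push_cast; rfl
      have e2 : (((i.cast : ℤ) : ZMod 7) + 1) = (((i.cast : ℤ) + 1 : ℤ) : ZMod 7) := by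
        push_cast; rfl
      rw [e1, e2, hfF, hfF, hfF, hrel]
  have hFall : ∀ n : ℤ, F n = 1 := by
    intro n
    rw [← hfF n]; exact hall _
  -- conclusion
  by_cases hy1 : σ y = 1
  · exact hcen y hy1 x
  obtain ⟨n, hn⟩ := horb _ hy hy1
  have hyA : σ (y * (A n)⁻¹) = 1 := by
    rw [map_mul, map_inv, hσA, hn]; group
  have hzc := hcen _ hyA
  have hxA : x * A n = A n * x := by
    have h1 : x * A n = F n * A n * x := by rw [hFdef]; group
    rw [h1, hFall, one_mul]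
  calc x * y = x * (y * (A n)⁻¹) * A n := by group
    _ = (y * (A n)⁻¹) * x * A n := by rw [hzc x]
    _ = (y * (A n)⁻¹) * (x * A n) := by group
    _ = (y * (A n)⁻¹) * (A n * x) := by rw [hxA]
    _ = y * x := by group

end Cfsg.Agent.Lib.helper73.S2113
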