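import Mathlib
import Cfsg.Agent.Lib.helper92.S3664Defs

/-!
S3664 piece N13 (spare copy by helper73, architect helper92): the explicit element `x13` of order 13
of `Sz(8)` has no nonzero fixed point on `A = M₄(F₈)` (norm trick with literal matrix powers).
Also piece X13 (order and traces of the powers of `x13`).
-/

set_option autoImplicit false
set_option maxRecDepth 100000

namespace Cfsg.Agent.Lib.helper73.S3664

open Cfsg.Agent.Lib.helper92.S3664 Cfsg.Agent.Lib.helper17 Cfsg.Agent.Lib.helper8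

/-- if all the coefficient sums vanish, the sandwich sum vanishes identically -/
theorem helper73_sandwich_zero {n m : ℕ} {R : Type*} [CommRing R]
    (P Q : Fin m → Matrix (Fin n) (Fin n) R)
    (h : ∀ a b c d, ∑ i, P i c a * Q i d b = 0) (M : Matrix (Fin n) (Fin n) R) :
    ∑ i, P i * M * (Q i).transpose = 0 := by
  ext c d
  rw [Matrix.sum_apply]
  simp only [Matrix.mul_apply, Matrix.transpose_apply, Finset.sum_mul, Matrix.zero_apply]
  rw [Finset.sum_comm]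
  apply Finset.sum_eq_zero
  intro b _
  rw [Finset.sum_comm]
  apply Finset.sum_eq_zero
  intro a _
  have h1 := h a b c d
  calc ∑ i, P i c a * M a b * Q i d b = M a b * ∑ i, P i c a * Q i d b := by
        rw [Finset.mul_sum]
        apply Finset.sum_congr rfl
        intros
        ring
    _ = 0 := by rw [h1, mul_zero]

/-- the matrix of `x13` -/
def helper73_X13 : Matrix (Fin 4) (Fin 4) K := !![H8.h5, H8.h7, H8.h2, H8.h1; H8.h0, H8.h6, H8.h1, H8.h0; H8.h2, H8.h1, H8.h0, H8.h0; H8.h1, H8.h0, H8.h0, H8.h0]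

/-- its entrywise square -/
def helper73_Y13 : Matrix (Fin 4) (Fin 4) K := !![H8.h7, H8.h3, H8.h4, H8.h1; H8.h0, H8.h2, H8.h1, H8.h0; H8.h4, H8.h1, H8.h0, H8.h0; H8.h1, H8.h0, H8.h0, H8.h0]

/-- the powers of `helper73_X13` -/
def helper73_P13 : Fin 13 → Matrix (Fin 4) (Fin 4) K :=
  ![!![H8.h1, H8.h0, H8.h0, H8.h0; H8.h0, H8.h1, H8.h0, H8.h0; H8.h0, H8.h0, H8.h1, H8.h0; H8.h0, H8.h0, H8.h0, H8.h1],
    !![H8.h5, H8.h7, H8.h2, H8.h1; H8.h0, H8.h6, H8.h1, H8.h0; H8.h2, H8.h1, H8.h0, H8.h0; H8.h1, H8.h0, H8.h0, H8.h0],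
    !![H8.h2, H8.h0, H8.h6, H8.h5; H8.h2, H8.h3, H8.h6, H8.h0; H8.h1, H8.h3, H8.h5, H8.h2; H8.h5, H8.h7, H8.h2, H8.h1],
    !![H8.h3, H8.h3, H8.h4, H8.h2; H8.h6, H8.h2, H8.h7, H8.h2; H8.h6, H8.h3, H8.h1, H8.h1; H8.h2, H8.h0, H8.h6, H8.h5],
    !![H8.h5, H8.h7, H8.h5, H8.h3; H8.h4, H8.h4, H8.h5, H8.h6; H8.h0, H8.h4, H8.h4, H8.h6; H8.h3, H8.h3, H8.h4, H8.h2],
    !![H8.h5, H8.h7, H8.h6, H8.h5; H8.h5, H8.h1, H8.h7, H8.h4; H8.h5, H8.h1, H8.h4, H8.h0; H8.h5, H8.h7, H8.h5, H8.h3],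
    !![H8.h5, H8.h4, H8.h6, H8.h5; H8.h6, H8.h7, H8.h0, H8.h5; H8.h4, H8.h4, H8.h0, H8.h5; H8.h5, H8.h7, H8.h6, H8.h5],
    !![H8.h5, H8.h5, H8.h5, H8.h5; H8.h6, H8.h0, H8.h0, H8.h6; H8.h7, H8.h4, H8.h7, H8.h4; H8.h5, H8.h4, H8.h6, H8.h5],
    !![H8.h3, H8.h0, H8.h4, H8.h5; H8.h5, H8.h4, H8.h7, H8.h6; H8.h7, H8.h1, H8.h1, H8.h7; H8.h5, H8.h5, H8.h5, H8.h5],
    !![H8.h2, H8.h6, H8.h6, H8.h3; H8.h4, H8.h4, H8.h5, H8.h5; H8.h3, H8.h4, H8.h4, H8.h7; H8.h3, H8.h0, H8.h4, H8.h5],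
    !![H8.h5, H8.h1, H8.h2, H8.h2; H8.h6, H8.h1, H8.h7, H8.h4; H8.h0, H8.h3, H8.h2, H8.h3; H8.h2, H8.h6, H8.h6, H8.h3],
    !![H8.h1, H8.h2, H8.h0, H8.h5; H8.h2, H8.h5, H8.h6, H8.h6; H8.h7, H8.h3, H8.h3, H8.h0; H8.h5, H8.h1, H8.h2, H8.h2],
    !![H8.h0, H8.h0, H8.h0, H8.h1; H8.h0, H8.h0, H8.h1, H8.h2; H8.h0, H8.h1, H8.h6, H8.h7; H8.h1, H8.h2, H8.h0, H8.h5]]

/-- the powers of `helper73_Y13` -/
def helper73_Q13 : Fin 13 → Matrix (Fin 4) (Fin 4) K :=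
  ![!![H8.h1, H8.h0, H8.h0, H8.h0; H8.h0, H8.h1, H8.h0, H8.h0; H8.h0, H8.h0, H8.h1, H8.h0; H8.h0, H8.h0, H8.h0, H8.h1],
    !![H8.h7, H8.h3, H8.h4, H8.h1; H8.h0, H8.h2, H8.h1, H8.h0; H8.h4, H8.h1, H8.h0, H8.h0; H8.h1, H8.h0, H8.h0, H8.h0],
    !![H8.h4, H8.h0, H8.h2, H8.h7; H8.h4, H8.h5, H8.h2, H8.h0; H8.h1, H8.h5, H8.h7, H8.h4; H8.h7, H8.h3, H8.h4, H8.h1],
    !![H8.h5, H8.h5, H8.h6, H8.h4; H8.h2, H8.h4, H8.h3, H8.h4; H8.h2, H8.h5, H8.h1, H8.h1; H8.h4, H8.h0, H8.h2, H8.h7],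
    !![H8.h7, H8.h3, H8.h7, H8.h5; H8.h6, H8.h6, H8.h7, H8.h2; H8.h0, H8.h6, H8.h6, H8.h2; H8.h5, H8.h5, H8.h6, H8.h4],
    !![H8.h7, H8.h3, H8.h2, H8.h7; H8.h7, H8.h1, H8.h3, H8.h6; H8.h7, H8.h1, H8.h6, H8.h0; H8.h7, H8.h3, H8.h7, H8.h5],
    !![H8.h7, H8.h6, H8.h2, H8.h7; H8.h2, H8.h3, H8.h0, H8.h7; H8.h6, H8.h6, H8.h0, H8.h7; H8.h7, H8.h3, H8.h2, H8.h7],
    !![H8.h7, H8.h7, H8.h7, H8.h7; H8.h2, H8.h0, H8.h0, H8.h2; H8.h3, H8.h6, H8.h3, H8.h6; H8.h7, H8.h6, H8.h2, H8.h7],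
    !![H8.h5, H8.h0, H8.h6, H8.h7; H8.h7, H8.h6, H8.h3, H8.h2; H8.h3, H8.h1, H8.h1, H8.h3; H8.h7, H8.h7, H8.h7, H8.h7],
    !![H8.h4, H8.h2, H8.h2, H8.h5; H8.h6, H8.h6, H8.h7, H8.h7; H8.h5, H8.h6, H8.h6, H8.h3; H8.h5, H8.h0, H8.h6, H8.h7],
    !![H8.h7, H8.h1, H8.h4, H8.h4; H8.h2, H8.h1, H8.h3, H8.h6; H8.h0, H8.h5, H8.h4, H8.h5; H8.h4, H8.h2, H8.h2, H8.h5],
    !![H8.h1, H8.h4, H8.h0, H8.h7; H8.h4, H8.h7, H8.h2, H8.h2; H8.h3, H8.h5, H8.h5, H8.h0; H8.h7, H8.h1, H8.h4, H8.h4],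
    !![H8.h0, H8.h0, H8.h0, H8.h1; H8.h0, H8.h0, H8.h1, H8.h4; H8.h0, H8.h1, H8.h2, H8.h3; H8.h1, H8.h4, H8.h0, H8.h7]]

theorem helper73_X13_eq : matS x13 = helper73_X13 := by
  rw [x13_mat]
  decide

theorem helper73_Y13_eq : helper73_X13.map (frK 1) = helper73_Y13 := by decide

theorem helper73_P13_zero : helper73_P13 0 = 1 := by decide

theorem helper73_Q13_zero : helper73_Q13 0 = 1 := by decide

theorem helper73_P13_succ :
    ∀ i : Fin 12, helper73_P13 i.succ = helper73_X13 * helper73_P13 i.castSucc := by decide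

theorem helper73_Q13_succ :
    ∀ i : Fin 12, helper73_Q13 i.succ = helper73_Y13 * helper73_Q13 i.castSucc := by decide

theorem helper73_P13_last : helper73_X13 * helper73_P13 12 = 1 := by decide

theorem helper73_norm13 :
    ∀ a b c d : Fin 4, ∑ i : Fin 13, helper73_P13 i c a * helper73_Q13 i d b = 0 := by decide

theorem helper73_two_smul (a : A) : 2 • a = 0 := by
  have h : ∀ x : K, x + x = 0 := by decide
  rw [two_nsmul]
  ext i j
  exact h (a i j)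

/-- PIECE N13 -/
theorem x13_fpf (a : A) (h : act (SemidirectProduct.inl x13) a = a) : a = 0 := by
  have hX : helper73_X13 * a * helper73_Y13.transpose = a := by
    have h2 := h
    unfold act at h2
    rw [SemidirectProduct.left_inl, SemidirectProduct.right_inl, toAdd_one] at h2
    have hm : a.map (frK 0) = a := by
      ext i j
      simp [frK_zero]
    rw [hm] at h2
    have h3 : ((x13 : S).1.1 : Matrix (Fin 4) (Fin 4) K) = helper73_X13 := helper73_X13_eq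
    rw [h3, helper73_Y13_eq] at h2
    exact h2
  have hfix : ∀ i : Fin 13, helper73_P13 i * a * (helper73_Q13 i).transpose = a := by
    intro i
    induction i using Fin.induction with
    | zero => rw [helper73_P13_zero, helper73_Q13_zero]; simp
    | succ i ih =>
      rw [helper73_P13_succ, helper73_Q13_succ, Matrix.transpose_mul]
      calc helper73_X13 * helper73_P13 i.castSucc * a *
            ((helper73_Q13 i.castSucc).transpose * helper73_Y13.transpose)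
          = helper73_X13 * (helper73_P13 i.castSucc * a * (helper73_Q13 i.castSucc).transpose) *
              helper73_Y13.transpose := by
            simp only [Matrix.mul_assoc]
        _ = a := by rw [ih, hX]
  have hsum : ∑ i : Fin 13, helper73_P13 i * a * (helper73_Q13 i).transpose = a := by
    rw [Finset.sum_congr rfl (fun i _ => hfix i), Finset.sum_const, Finset.card_univ,
      Fintype.card_fin]
    have h13 : (13 : ℕ) • a = 6 • (2 • a) + a := by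
      rw [smul_smul]
      exact succ_nsmul a 12
    rw [h13, helper73_two_smul, smul_zero, zero_add]
  rw [← hsum]
  exact helper73_sandwich_zero helper73_P13 helper73_Q13 helper73_norm13 a

end Cfsg.Agent.Lib.helper73.S3664
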