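import Mathlib
import Cfsg.Agent.Lib.helper92.S3664Defs
import Cfsg.Agent.Lib.helper73.S3664N13

/-!
S3664 piece X13 (spare copy by helper73, architect helper92): the explicit element `x13` of `Sz(8)`
has order 13, and its nontrivial powers have trace outside the prime field.
-/

set_option autoImplicit false
set_option maxRecDepth 100000

namespace Cfsg.Agent.Lib.helper73.S3664

open Cfsg.Agent.Lib.helper92.S3664 Cfsg.Agent.Lib.helper17 Cfsg.Agent.Lib.helper8

theorem helper73_matS_pow (u : S) (j : ℕ) : matS (u ^ j) = matS u ^ j := by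
  induction j with
  | zero => rw [pow_zero, pow_zero, matS_one]
  | succ j ih => rw [pow_succ, pow_succ, matS_mul, ih]

theorem helper73_P13_pow (i : Fin 13) : helper73_X13 ^ (i : ℕ) = helper73_P13 i := by
  induction i using Fin.induction with
  | zero => rw [helper73_P13_zero]; simp
  | succ i ih =>
    rw [helper73_P13_succ, ← ih, Fin.val_succ, pow_succ']
    rfl

theorem helper73_x13_pow13 : x13 ^ 13 = 1 := by
  apply matS_inj
  rw [helper73_matS_pow, matS_one, helper73_X13_eq]
  have h : helper73_X13 ^ 13 = helper73_X13 * helper73_X13 ^ ((12 : Fin 13) : ℕ) := by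
    rw [← pow_succ']
    rfl
  rw [h, helper73_P13_pow, helper73_P13_last]

theorem helper73_x13_ne_one : x13 ≠ 1 := by
  intro h
  have h1 : matS x13 = 1 := by rw [h, matS_one]
  rw [helper73_X13_eq] at h1
  revert h1
  decide

/-- PIECE X13 (order) -/
theorem orderOf_x13 : orderOf x13 = 13 := by
  have : Fact (Nat.Prime 13) := ⟨by norm_num⟩
  exact orderOf_eq_prime helper73_x13_pow13 helper73_x13_ne_one

theorem helper73_trace13 : ∀ i : Fin 13, i ≠ 0 →
    (Matrix.trace (helper73_P13 i) ≠ 0 ∧ Matrix.trace (helper73_P13 i) ≠ 1) := by decide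

/-- PIECE X13 (traces) -/
theorem trace_x13_pow (j : ℕ) : x13 ^ j = 1 ∨ (trS (x13 ^ j) ≠ 0 ∧ trS (x13 ^ j) ≠ 1) := by
  have hmod : x13 ^ j = x13 ^ (j % 13) := by
    conv_lhs => rw [← Nat.mod_add_div j 13]
    rw [pow_add, pow_mul, helper73_x13_pow13, one_pow, mul_one]
  have hlt : j % 13 < 13 := Nat.mod_lt _ (by norm_num)
  rw [hmod]
  by_cases h0 : j % 13 = 0
  · left
    rw [h0, pow_zero]
  · right
    have ht : trS (x13 ^ (j % 13)) = Matrix.trace (helper73_P13 ⟨j % 13, hlt⟩) := by
      unfold trS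
      rw [helper73_matS_pow, helper73_X13_eq]
      have := helper73_P13_pow ⟨j % 13, hlt⟩
      rw [← this]
    rw [ht]
    exact helper73_trace13 ⟨j % 13, hlt⟩ (by
      intro h
      exact h0 (congrArg Fin.val h))

end Cfsg.Agent.Lib.helper73.S3664
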