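import Mathlib
import Cfsg.Agent.Lib.helper26.S4409Defs
import Cfsg.Agent.Lib.helper65.S4409_MAXC
import Cfsg.Agent.Lib.helper35.S4409_MAXQ1
import Cfsg.Agent.Lib.helper54.S4409_MAXQ2
import Cfsg.Agent.Lib.helper54.S4409_SPEC
import Cfsg.Agent.Lib.helper35.S4409_SPECX
import Cfsg.Agent.Lib.helper13.S4409VFIX

/-!
S4409 split (helper26), composite B2V (racer copy by helper73), core: the verbatim `b2v` statement
plus the single extra hypothesis `hXc` (the conclusion of `av1` for `K := M`).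
-/

set_option autoImplicit false

namespace Cfsg.Agent.Lib.helper26.S4409

variable {G : Type*} [Group G]

open scoped commutatorElement

theorem h73_b2v_core [Finite G] (X H M : Subgroup G) (hM : MinSet X H) (hMax : IsMaxInv X H M)
    (hV : IsV4 M) (g : G) (hg : g ∈ H) (hgc : g ∉ Subgroup.centralizer (M : Set G))
    (hab : ¬ IsMulCommutative ↥X)
    (hXc : X ≤ Subgroup.centralizer (M : Set G)) : Concl X := by
  have hZ : X ⊓ Subgroup.centralizer (X : Set G) = M := maxc X H M hM.2.1 hMax hXc hab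
  have hc1 : ⁅X, X⁆ ≤ M := maxq1 X H M hM.1 hM.2.1 hMax
  have hsq : ∀ x ∈ X, x * x ∈ M := maxq2 X H M hM.1 hM.2.1 hMax hc1
  have hodd : Odd (orderOf g) := by
    have h1 : orderOf g ∣ Nat.card ↥H := Subgroup.orderOf_dvd_natCard H hg
    have h2 : (orderOf g).Coprime 2 := Nat.Coprime.coprime_dvd_left h1 hM.2.2.1
    exact Nat.coprime_two_right.mp h2
  have hgX : ∀ x ∈ X, g * x * g⁻¹ ∈ X := fun x hx =>
    (Subgroup.mem_normalizer_iff.mp (hM.2.1 hg) x).mp hx
  have hgD : ∀ d ∈ ⁅X, X⁆, g * d * g⁻¹ ∈ ⁅X, X⁆ := by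
    have h1 : ⁅X, X⁆ ≤ (⁅X, X⁆ : Subgroup G).comap (MulAut.conj g).toMonoidHom := by
      rw [Subgroup.commutator_le]
      intro x hx y hy
      show (MulAut.conj g) ⁅x, y⁆ ∈ ⁅X, X⁆
      rw [map_commutatorElement]
      exact Subgroup.commutator_mem_commutator (hgX x hx) (hgX y hy)
    intro d hd
    exact h1 hd
  have hD : ⁅X, X⁆ = M := by
    by_contra hne
    have hbot : ⁅X, X⁆ ≠ ⊥ := by
      intro hb
      apply hab
      refine ⟨⟨fun a b => ?_⟩⟩
      have h1 : ⁅(a : G), (b : G)⁆ ∈ ⁅X, X⁆ := Subgroup.commutator_mem_commutator a.2 b.2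
      rw [hb, Subgroup.mem_bot, commutatorElement_eq_one_iff_mul_comm] at h1
      exact Subtype.ext h1
    have hdvd : Nat.card ↥(⁅X, X⁆ : Subgroup G) ∣ 4 := by
      rw [← hV.1]; exact Subgroup.card_dvd_of_le hc1
    have hne4 : Nat.card ↥(⁅X, X⁆ : Subgroup G) ≠ 4 := by
      intro h4
      exact hne (Subgroup.eq_of_le_of_card_ge hc1 (by rw [h4, hV.1]))
    have hne1 : Nat.card ↥(⁅X, X⁆ : Subgroup G) ≠ 1 := by
      intro h1
      exact hbot ((Subgroup.card_eq_one).mp h1)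
    have h2 : Nat.card ↥(⁅X, X⁆ : Subgroup G) = 2 := by
      have hle : Nat.card ↥(⁅X, X⁆ : Subgroup G) ≤ 4 := Nat.le_of_dvd (by norm_num) hdvd
      have hpos : 0 < Nat.card ↥(⁅X, X⁆ : Subgroup G) := Nat.card_pos
      interval_cases hk : Nat.card ↥(⁅X, X⁆ : Subgroup G) <;> simp_all
    obtain ⟨v, hv1, hvu⟩ := (Nat.card_eq_two_iff' (1 : ↥(⁅X, X⁆ : Subgroup G))).mp h2
    have hvM : (v : G) ∈ M := hc1 v.2
    have hv1' : (v : G) ≠ 1 := fun h => hv1 (Subtype.ext h)
    have hconj : g * (v : G) * g⁻¹ = v := by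
      have h3 := hvu ⟨g * (v : G) * g⁻¹, hgD v v.2⟩ (by
        intro h
        apply hv1'
        have h4 : g * (v : G) * g⁻¹ = 1 := congrArg Subtype.val h
        have h5 : (v : G) = g⁻¹ * (g * (v : G) * g⁻¹) * g := by group
        rw [h5, h4]; group)
      exact congrArg Subtype.val h3
    have hcomm : g * (v : G) = v * g := by
      calc g * (v : G) = (g * (v : G) * g⁻¹) * g := by group
      _ = v * g := by rw [hconj]
    exact vfix M hV g (hMax.2.2.2.1 hg) hodd hgc v hvM hv1' hcomm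
  obtain ⟨s1, s2, s3⟩ := specx X M hMax.1 hZ hD
  have hsp : Cfsg.IsSpecial 2 ↥X :=
    spec hM.1 s1 (fun x => s3 (x * x) (hsq x x.2))
  right; right; right
  exact ⟨hsp, by rw [s2, hV.1]⟩

end Cfsg.Agent.Lib.helper26.S4409
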