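import Mathlib
import Cfsg.Agent.Lib.helper26.S4409Defs
import Cfsg.Agent.Lib.helper12.S4409_KFU
import Cfsg.Agent.Lib.helper83.S4409_KFN
import Cfsg.Agent.Lib.helper9.S4409_T1V
import Cfsg.Agent.Lib.helper16.S4409_QZ
import Cfsg.Agent.Lib.helper91.S4409_AV1core
import Cfsg.Agent.Lib.helper73.S4409_B2Vcore

/-!
S4409 split (helper26): racer copies (helper73) of the key fact `kf`, of `av1` and of the
composite `b2v`, with the verbatim skeleton statements under prefixed names.
-/

set_option autoImplicit false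

namespace Cfsg.Agent.Lib.helper26.S4409

variable {G : Type*} [Group G]

theorem h73_kf [Finite G] (Y : Subgroup G) (hY : IsPGroup 2 ↥Y) (hN : NoP Y) (g : G)
    (hg : g ∈ Subgroup.normalizer (Y : Set G)) (hodd : Odd (orderOf g))
    (hnc : g ∉ Subgroup.centralizer (Y : Set G)) : IsV4 Y ∨ IsQ8 Y := by
  by_cases hU : Cfsg.Agent.Lib.helper59.UniqueOrderP 2 ↥Y
  · exact Or.inr (kfu Y hY hU g hg hodd hnc)
  · exact Or.inl (kfn Y hY hN hU g hg hodd hnc)

theorem h73_av1 [Finite G] (X H K : Subgroup G) (hM : MinSet X H) (hKX : K ≤ X)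
    (hXK : X ≤ Subgroup.normalizer (K : Set G)) (hHK : H ≤ Subgroup.normalizer (K : Set G))
    (hV : IsV4 K) (g : G) (hg : g ∈ H) (hgc : g ∉ Subgroup.centralizer (K : Set G)) :
    X ≤ Subgroup.centralizer (K : Set G) := by
  exact helper91_av1_core X H K hM hKX hXK hHK hV g hg hgc
    (fun Y hY hN g hg hodd hnc => h73_kf Y hY hN g hg hodd hnc)
    (fun X Q hX hQX hn hV hC => t1v X Q hX hQX hn hV hC)
    (fun M hQ => qz M hQ)

theorem h73_b2v [Finite G] (X H M : Subgroup G) (hM : MinSet X H) (hMax : IsMaxInv X H M)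
    (hV : IsV4 M) (g : G) (hg : g ∈ H) (hgc : g ∉ Subgroup.centralizer (M : Set G))
    (hab : ¬ IsMulCommutative ↥X) : Concl X := by
  exact h73_b2v_core X H M hM hMax hV g hg hgc hab
    (h73_av1 X H M hM hMax.1 hMax.2.2.1 hMax.2.2.2.1 hV g hg hgc)

end Cfsg.Agent.Lib.helper26.S4409
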