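import Mathlib
import Cfsg.Agent.Lib.helper26.S4409Defs

/-!
S4409 split (helper26), piece Q8LB (racer copy by helper73): an involution normalizing a
quaternion group `Q` and commuting with an element `q` of order 4 of `Q` centralizes `Q`, or
`q⁻¹ * a` does.
-/

set_option autoImplicit false

namespace Cfsg.Agent.Lib.helper26.S4409

variable {G : Type*} [Group G]

theorem h73_q8_struct : ∀ x : QuaternionGroup 2, x * x ≠ 1 →
    ∃ j : QuaternionGroup 2, j * x * j⁻¹ = x⁻¹ ∧ j * j = x * x ∧ x * x * x * x = 1 ∧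
      ∀ y : QuaternionGroup 2, y = 1 ∨ y = x ∨ y = x * x ∨ y = x * x * x ∨ y = j ∨ y = x * j ∨
        y = x * x * j ∨ y = x * x * x * j := by decide +kernel

theorem h73_q8lb (Q : Subgroup G) (hQ : IsQ8 Q) (a : G) (ha : a ∈ Subgroup.normalizer (Q : Set G))
    (ha2 : a * a = 1) (q : G) (hq : q ∈ Q) (hq2 : q * q ≠ 1) (hc : a * q = q * a) :
    a ∈ Subgroup.centralizer (Q : Set G) ∨ q⁻¹ * a ∈ Subgroup.centralizer (Q : Set G) := by
  obtain ⟨e⟩ := hQ
  have key : ∀ (u v : ↥Q), e u = e v → (u : G) = v :=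
    fun u v h => congrArg Subtype.val (e.injective h)
  have hx : e ⟨q, hq⟩ * e ⟨q, hq⟩ ≠ 1 := by
    intro h
    apply hq2
    exact key (⟨q, hq⟩ * ⟨q, hq⟩) 1 (by rw [map_mul, h, map_one])
  obtain ⟨j0, h1, h2, h3, h4⟩ := h73_q8_struct _ hx
  obtain ⟨j, hjQ, hj0⟩ : ∃ (j : G) (hjQ : j ∈ Q), e ⟨j, hjQ⟩ = j0 :=
    ⟨(e.symm j0 : ↥Q), (e.symm j0).2, by simp⟩
  have e1 : j * q * j⁻¹ = q⁻¹ :=
    key (⟨j, hjQ⟩ * ⟨q, hq⟩ * (⟨j, hjQ⟩ : ↥Q)⁻¹) (⟨q, hq⟩ : ↥Q)⁻¹
      (by rw [map_mul, map_mul, map_inv, map_inv, hj0]; exact h1)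
  have e3 : q * q * q * q = 1 :=
    key (⟨q, hq⟩ * ⟨q, hq⟩ * ⟨q, hq⟩ * ⟨q, hq⟩) 1
      (by rw [map_mul, map_mul, map_mul, map_one]; exact h3)
  have e4 : ∀ y ∈ Q, y = 1 ∨ y = q ∨ y = q * q ∨ y = q * q * q ∨ y = j ∨ y = q * j ∨
        y = q * q * j ∨ y = q * q * q * j := by
    intro y hy
    rcases h4 (e ⟨y, hy⟩) with h | h | h | h | h | h | h | h
    · left; exact key ⟨y, hy⟩ 1 (by rw [h, map_one])
    · right; left; exact key ⟨y, hy⟩ ⟨q, hq⟩ h
    · right; right; left; exact key ⟨y, hy⟩ (⟨q, hq⟩ * ⟨q, hq⟩) (by rw [h, map_mul])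
    · right; right; right; left
      exact key ⟨y, hy⟩ (⟨q, hq⟩ * ⟨q, hq⟩ * ⟨q, hq⟩) (by rw [h, map_mul, map_mul])
    · right; right; right; right; left; exact key ⟨y, hy⟩ ⟨j, hjQ⟩ (by rw [h, hj0])
    · right; right; right; right; right; left
      exact key ⟨y, hy⟩ (⟨q, hq⟩ * ⟨j, hjQ⟩) (by rw [h, map_mul, hj0])
    · right; right; right; right; right; right; left
      exact key ⟨y, hy⟩ (⟨q, hq⟩ * ⟨q, hq⟩ * ⟨j, hjQ⟩) (by rw [h, map_mul, map_mul, hj0])
    · right; right; right; right; right; right; right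
      exact key ⟨y, hy⟩ (⟨q, hq⟩ * ⟨q, hq⟩ * ⟨q, hq⟩ * ⟨j, hjQ⟩)
        (by rw [h, map_mul, map_mul, map_mul, hj0])
  -- centralizer criterion
  have cen : ∀ c : G, Commute c q → Commute c j → c ∈ Subgroup.centralizer (Q : Set G) := by
    intro c cq cj
    rw [Subgroup.mem_centralizer_iff]
    intro y hy
    rcases e4 y hy with h | h | h | h | h | h | h | h <;> rw [h]
    · simp
    · exact cq.symm.eq
    · exact (cq.mul_right cq).symm.eq
    · exact ((cq.mul_right cq).mul_right cq).symm.eq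
    · exact cj.symm.eq
    · exact (cq.mul_right cj).symm.eq
    · exact ((cq.mul_right cq).mul_right cj).symm.eq
    · exact (((cq.mul_right cq).mul_right cq).mul_right cj).symm.eq
  have hcq : Commute a q := hc
  have hainv : a⁻¹ = a := inv_eq_of_mul_eq_one_left ha2
  have hmem : a * j * a ∈ Q := by
    have := (Subgroup.mem_normalizer_iff.mp ha j).mp hjQ
    rwa [hainv] at this
  have hjeq : ∀ w, a * j * a = w → j = a * w * a := by
    intro w hw
    rw [← hw]
    calc j = (a * a) * j * (a * a) := by rw [ha2]; simp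
    _ = a * (a * j * a) * a := by group
  have hnc : ¬ Commute j q := by
    intro h
    apply hq2
    rw [h.eq, mul_inv_cancel_right] at e1
    calc q * q = q * q⁻¹ := by rw [← e1]
    _ = 1 := mul_inv_cancel q
  have hbad : ∀ w, Commute a w → Commute w q → a * j * a = w → False := by
    intro w haw hwq h
    have hjw : j = w := by rw [hjeq w h, haw.eq, mul_assoc, ha2, mul_one]
    exact hnc (hjw ▸ hwq)
  have haj : ∀ w, a * j * a = w → a * j = w * a := by
    intro w hw
    calc a * j = a * j * (a * a) := by rw [ha2, mul_one]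
    _ = (a * j * a) * a := by group
    _ = w * a := by rw [hw]
  rcases e4 _ hmem with h | h | h | h | h | h | h | h
  · exact (hbad 1 (Commute.one_right a) (Commute.one_left q) h).elim
  · exact (hbad q hcq (Commute.refl q) h).elim
  · exact (hbad (q * q) (hcq.mul_right hcq) ((Commute.refl q).mul_left (Commute.refl q)) h).elim
  · exact (hbad (q * q * q) ((hcq.mul_right hcq).mul_right hcq)
      (((Commute.refl q).mul_left (Commute.refl q)).mul_left (Commute.refl q)) h).elim
  · left
    exact cen a hcq (haj j h)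
  · exfalso
    apply hq2
    have h5 := hjeq _ h
    have h6 : a * (q * j) * a = q * (a * j * a) := by
      rw [← mul_assoc, hc]; group
    rw [h6, h] at h5
    -- h5 : j = q * (q * j)
    have h7 : 1 * j = q * q * j := by rw [one_mul, mul_assoc]; exact h5
    exact (mul_right_cancel h7).symm
  · right
    apply cen
    · -- Commute (q⁻¹ * a) q
      show q⁻¹ * a * q = q * (q⁻¹ * a)
      rw [mul_assoc, hc]; group
    · show q⁻¹ * a * j = j * (q⁻¹ * a)
      have h8 : j * q⁻¹ = q * j := by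
        have : j * q⁻¹ * j⁻¹ = q := by
          have h9 : j * q⁻¹ * j⁻¹ = (j * q * j⁻¹)⁻¹ := by group
          rw [h9, e1, inv_inv]
        calc j * q⁻¹ = (j * q⁻¹ * j⁻¹) * j := by group
        _ = q * j := by rw [this]
      rw [mul_assoc, haj _ h, ← mul_assoc j, h8]; group
  · exfalso
    apply hq2
    have h5 := hjeq _ h
    have h6 : a * (q * q * q * j) * a = q * q * q * (a * j * a) := by
      have : a * (q * q * q) = (q * q * q) * a := ((hcq.mul_right hcq).mul_right hcq).eq
      calc a * (q * q * q * j) * a = (a * (q * q * q)) * j * a := by group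
      _ = (q * q * q) * a * j * a := by rw [this]
      _ = q * q * q * (a * j * a) := by group
    rw [h6, h] at h5
    -- h5 : j = q * q * q * (q * q * q * j)
    have h7 : j = (q * q * q * q) * (q * q) * j := by
      calc j = q * q * q * (q * q * q * j) := h5
      _ = (q * q * q * q) * (q * q) * j := by group
    rw [e3, one_mul] at h7
    have h8 : 1 * j = q * q * j := by rw [one_mul]; exact h7
    exact (mul_right_cancel h8).symm

end Cfsg.Agent.Lib.helper26.S4409
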