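import Mathlib
import Cfsg.Agent.Lib.helper49.SPEDefs

/-!
S2333 split (helper49), piece QINJ (racer copy by helper73): a symmetric matrix is determined by
its quadratic form `qfy`.
-/

set_option autoImplicit false

namespace Cfsg.Agent.Lib.helper49.SPE

open Matrix

theorem h73_qfy_single {F : Type*} [Field F] {n : ℕ} (y : Matrix (Fin n) (Fin n) F) (i : Fin n) :
    qfy y (Pi.single i 1) = upT y i i := by
  unfold qfy
  simp only [Pi.single_apply, mul_ite, mul_one, mul_zero, ite_mul, zero_mul,
    Finset.sum_ite_eq', Finset.sum_ite_eq, Finset.mem_univ, if_true]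

theorem h73_qfy_two {F : Type*} [Field F] {n : ℕ} (y : Matrix (Fin n) (Fin n) F) (i j : Fin n) :
    qfy y (Pi.single i 1 + Pi.single j 1) = upT y i i + upT y i j + upT y j i + upT y j j := by
  unfold qfy
  simp only [Pi.add_apply, Pi.single_apply, mul_add, add_mul, mul_ite, mul_one, mul_zero, ite_mul,
    zero_mul, Finset.sum_add_distrib, Finset.sum_ite_eq', Finset.sum_ite_eq, Finset.mem_univ,
    if_true]
  ring

theorem h73_qfy_inj {F : Type*} [Field F] {n : ℕ} (y y' : Matrix (Fin n) (Fin n) F)
    (hy : y ∈ symH F n) (hy' : y' ∈ symH F n) (h : ∀ x, qfy y x = qfy y' x) : y = y' := by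
  have hd : ∀ i, y i i = y' i i := by
    intro i
    have h1 := h (Pi.single i 1)
    rw [h73_qfy_single, h73_qfy_single] at h1
    simpa [upT] using h1
  have hu : ∀ i j, i < j → y i j = y' i j := by
    intro i j hij
    have h1 := h (Pi.single i 1 + Pi.single j 1)
    rw [h73_qfy_two, h73_qfy_two] at h1
    simp only [upT, le_refl, if_true, hij.le, not_le.mpr hij, if_false] at h1
    rw [hd i, hd j] at h1
    linear_combination h1
  ext i j
  rcases lt_trichotomy i j with hij | hij | hij
  · exact hu i j hij
  · subst hij; exact hd i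
  · rw [hy i j, hy' i j]; exact hu j i hij

end Cfsg.Agent.Lib.helper49.SPE
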