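import Mathlib
import Cfsg.Prelude.Def_Classical
import Cfsg.Prelude.Def_GeometricClasses
import Cfsg.Agent.Lib.helper49.WittIso
import Cfsg.Agent.Lib.helper53.SfoBINREP

/-!
S5977 / S5978 block [A] (helper59), piece ROT1 (racer copy by helper73): a product of two reflections
in a common eigenspace of `x` commutes with `x`, has determinant `1` and spinor sign `-1`.
-/

set_option autoImplicit false

namespace Cfsg.Agent.Lib.helper59.Sfk

open Matrix Cfsg.Geo
open Cfsg.Agent.Lib.helper49 (detHom spinorSign)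

theorem h73_sfk_rot_one {F : Type*} [Field F] [Fintype F] {ι : Type} [Fintype ι] [DecidableEq ι]
    (h2 : (2 : F) ≠ 0) (Q : QuadraticForm F (ι → F))
    (hQ : (QuadraticMap.polarBilin Q).Nondegenerate)
    (x : GL ι F) (hx : x ∈ Cfsg.isometryGroup F (⇑Q)) (u w : ι → F) (c : F)
    (hu : (x : Matrix ι ι F) *ᵥ u = c • u) (hw : (x : Matrix ι ι F) *ᵥ w = c • w)
    (huw : QuadraticMap.polar (⇑Q) u w = 0) (hQu : Q u ≠ 0) (hQw : Q w ≠ 0) :
    ∃ r : ↥(Cfsg.isometryGroup F (⇑Q)),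
      ((r : GL ι F) : Matrix ι ι F) * (x : Matrix ι ι F) =
        (x : Matrix ι ι F) * ((r : GL ι F) : Matrix ι ι F) ∧
      detHom (⇑Q) r = 1 ∧ spinorSign (⇑Q) r = -1 := by
  classical
  have hchar : ringChar F ≠ 2 := by
    intro h
    apply h2
    have h3 := CharP.cast_eq_zero F (ringChar F)
    rw [h] at h3
    exact_mod_cast h3
  obtain ⟨ν, hν⟩ := FiniteField.exists_nonsquare hchar
  have hν0 : ν ≠ 0 := by
    rintro rfl
    exact hν IsSquare.zero
  obtain ⟨s, t, hst⟩ := Cfsg.Agent.Lib.helper24.sfo_bin_rep h2 (Q u) (Q w) (ν * Q u) hQu hQw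
  obtain ⟨v, hv⟩ : ∃ v : ι → F, v = s • u + t • w := ⟨_, rfl⟩
  have hQv : Q v = ν * Q u := by
    rw [hv, QuadraticMap.map_add Q (s • u) (t • w), QuadraticMap.map_smul Q s u,
      QuadraticMap.map_smul Q t w, QuadraticMap.polar_smul_left, QuadraticMap.polar_smul_right, huw]
    simp only [smul_eq_mul, mul_zero, add_zero]
    rw [← hst]; ring
  have hQv0 : Q v ≠ 0 := by rw [hQv]; exact mul_ne_zero hν0 hQu
  have hxv : (x : Matrix ι ι F) *ᵥ v = c • v := by
    rw [hv, Matrix.mulVec_add, Matrix.mulVec_smul, Matrix.mulVec_smul, hu, hw, smul_add,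
      smul_comm s c u, smul_comm t c w]
  have hc : c ≠ 0 := by
    rintro rfl
    have h3 := (Cfsg.Agent.Lib.helper49.mem_isometryGroup_iff (⇑Q) x).mp hx u
    rw [hu, zero_smul, map_zero] at h3
    exact hQu h3.symm
  obtain ⟨X, hX⟩ : ∃ X : ↥(Cfsg.isometryGroup F (⇑Q)), (X : GL ι F) = x := ⟨⟨x, hx⟩, rfl⟩
  have hconj : ∀ (y : ι → F) (hy : Q y ≠ 0), (x : Matrix ι ι F) *ᵥ y = c • y →
      X * Cfsg.Agent.Lib.helper49.reflG Q y hy * X⁻¹ = Cfsg.Agent.Lib.helper49.reflG Q y hy := by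
    intro y hy hxy
    have hgv : Q (((X : GL ι F) : Matrix ι ι F) *ᵥ y) ≠ 0 := by
      rw [hX, (Cfsg.Agent.Lib.helper49.mem_isometryGroup_iff (⇑Q) x).mp hx y]; exact hy
    rw [Cfsg.Agent.Lib.helper49.refl_conj Q X y hy hgv]
    apply Subtype.ext
    apply Units.ext
    rw [Cfsg.Agent.Lib.helper49.reflG_val, Cfsg.Agent.Lib.helper49.reflG_val, hX, hxy,
      Cfsg.Agent.Lib.helper49.refl_smul Q y c hc]
  refine ⟨Cfsg.Agent.Lib.helper49.reflG Q u hQu * Cfsg.Agent.Lib.helper49.reflG Q v hQv0, ?_, ?_, ?_⟩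
  · have h3 : X * (Cfsg.Agent.Lib.helper49.reflG Q u hQu * Cfsg.Agent.Lib.helper49.reflG Q v hQv0) * X⁻¹
        = Cfsg.Agent.Lib.helper49.reflG Q u hQu * Cfsg.Agent.Lib.helper49.reflG Q v hQv0 := by
      calc X * (Cfsg.Agent.Lib.helper49.reflG Q u hQu * Cfsg.Agent.Lib.helper49.reflG Q v hQv0) * X⁻¹
          = (X * Cfsg.Agent.Lib.helper49.reflG Q u hQu * X⁻¹) *
            (X * Cfsg.Agent.Lib.helper49.reflG Q v hQv0 * X⁻¹) := by group
      _ = _ := by rw [hconj u hQu hu, hconj v hQv0 hxv]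
    have h4 : (Cfsg.Agent.Lib.helper49.reflG Q u hQu * Cfsg.Agent.Lib.helper49.reflG Q v hQv0) * X
        = X * (Cfsg.Agent.Lib.helper49.reflG Q u hQu * Cfsg.Agent.Lib.helper49.reflG Q v hQv0) := by
      rw [mul_inv_eq_iff_eq_mul] at h3
      exact h3.symm
    have h5 := congrArg (fun g : ↥(Cfsg.isometryGroup F (⇑Q)) => ((g : GL ι F) : Matrix ι ι F)) h4
    simp only [Subgroup.coe_mul, Units.val_mul, hX] at h5
    exact h5
  · rw [map_mul, Cfsg.Agent.Lib.helper49.detHom_reflG, Cfsg.Agent.Lib.helper49.detHom_reflG,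
      neg_mul_neg, one_mul]
  · rw [map_mul]
    obtain ⟨h1, h1'⟩ := Cfsg.Agent.Lib.helper49.spinorSign_refl h2 Q u hQu
    obtain ⟨h3, h3'⟩ := Cfsg.Agent.Lib.helper49.spinorSign_refl h2 Q v hQv0
    by_cases hsq : IsSquare (Q u)
    · have hns : ¬ IsSquare (Q v) := by
        rw [hQv]
        rintro ⟨m, hm⟩
        obtain ⟨n, hn⟩ := hsq
        apply hν
        have hn0 : n ≠ 0 := by
          rintro rfl
          rw [mul_zero] at hn
          exact hQu hn
        refine ⟨m / n, ?_⟩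
        rw [hn] at hm
        field_simp
        linear_combination hm
      rw [h1 hsq, h3' hns, mul_one]
    · have hs : IsSquare (Q v) := by
        rw [hQv, ← quadraticChar_one_iff_isSquare (mul_ne_zero hν0 hQu), map_mul,
          quadraticChar_neg_one_iff_not_isSquare.mpr hν,
          quadraticChar_neg_one_iff_not_isSquare.mpr hsq]
        norm_num
      rw [h1' hsq, h3 hs, one_mul]

end Cfsg.Agent.Lib.helper59.Sfk
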