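import Mathlib
import Cfsg.Agent.Lib.helper24.SfuDefs
import Cfsg.Agent.Lib.helper24.SubfE
import Cfsg.Agent.Lib.helper46.SfuONB

set_option autoImplicit false

namespace Cfsg.Agent.Lib.helper24

open Module Matrix Cfsg.Geo

/-- U2N (racing copy of `sfu_nec_two`, verbatim statement). -/
theorem h73_sfu_nec_two {F : Type*} [Field F] [Fintype F] {n : ℕ} (hn : 0 < n) (q₀ : ℕ)
    (hcard : Fintype.card F = q₀ ^ 2) (f : (Fin n → F) → (Fin n → F) → F)
    (hf : IsUnitaryFormPow q₀ f) (h2 : (2 : F) ≠ 0)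
    (hv : padicValNat 2 (Fintype.card F - 1) < padicValNat 2 n) : SfuDerang f 2 := by
  classical
  have hoddq : Odd (Fintype.card F) := qe_two_ne_zero_iff_odd.1 h2
  have hq1 : 1 < Fintype.card F := Fintype.one_lt_card
  have hneven : 2 ∣ n := dvd_of_one_le_padicValNat (by omega)
  obtain ⟨m, hm⟩ := hneven
  have hm0 : m ≠ 0 := by
    rintro rfl
    omega
  have hdvd : 2 ^ padicValNat 2 (Fintype.card F - 1) ∣ m := by
    have h1 : 2 ^ (padicValNat 2 (Fintype.card F - 1) + 1) ∣ n :=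
      (padicValNat_dvd_iff_le (by omega)).2 (by omega)
    rw [hm, pow_succ, mul_comm] at h1
    exact (Nat.mul_dvd_mul_iff_left (by norm_num)).1 h1
  obtain ⟨w, hwns, hwm⟩ := qe_exists_nonsquare_pow_eq_one hoddq m hdvd
  have hzns : ¬ IsSquare (-w) := neg_nonsquare_of_card_sq _ hcard w hwns
  obtain ⟨X, hX⟩ := qe_exists_sq_eq (F := F) m hm (-w)
  obtain ⟨m', hm', hXdet⟩ := qe_det_of_nonsquare X (-w) hzns hX
  have hmm : m' = m := by omega
  rw [hmm, neg_neg, hwm] at hXdet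
  have hXns : ∀ c : F, X ≠ c • (1 : Matrix (Fin n) (Fin n) F) := by
    intro c hc
    apply hzns
    have hX' := hX
    rw [hc, Matrix.smul_mul, Matrix.mul_smul, Matrix.one_mul, smul_smul] at hX'
    have h00 := congrFun (congrFun hX' ⟨0, hn⟩) ⟨0, hn⟩
    simp only [Matrix.smul_apply, Matrix.one_apply_eq, smul_eq_mul, mul_one] at h00
    exact ⟨c, h00.symm⟩
  refine ⟨X, hXdet, ⟨-w, by rw [pow_two]; exact hX⟩, hXns, ?_⟩
  rintro ⟨P, g, hPdet, hg, hXP⟩
  obtain ⟨c, hc⟩ := hg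
  have hgg : (g : Matrix (Fin n) (Fin n) F) * (g : Matrix (Fin n) (Fin n) F) =
      (-w) • (1 : Matrix (Fin n) (Fin n) F) := by
    have hPu : IsUnit P.det := isUnit_iff_ne_zero.2 hPdet
    have h1 : P * ((g : Matrix (Fin n) (Fin n) F) * (g : Matrix (Fin n) (Fin n) F)) =
        P * ((-w) • (1 : Matrix (Fin n) (Fin n) F)) := by
      rw [← Matrix.mul_assoc, ← hXP, Matrix.mul_assoc, ← hXP, ← Matrix.mul_assoc, hX,
        Matrix.smul_mul, Matrix.one_mul, Matrix.mul_smul, Matrix.mul_one]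
    have h3 := congrArg (fun M => P⁻¹ * M) h1
    simp only [← Matrix.mul_assoc, Matrix.nonsing_inv_mul _ hPu, Matrix.one_mul] at h3
    exact h3
  obtain ⟨e, -, he⟩ := sfu_onb q₀ hcard f hf
  obtain ⟨v, hvv⟩ : ∃ v : Fin n → F, f v v = 1 := ⟨e ⟨0, hn⟩, by rw [he]; simp⟩
  have hcq : (c : F) ^ q₀ = c := by
    have h1 := hc v v
    rw [hvv, mul_one] at h1
    have h3 := hf.herm ((g : Matrix (Fin n) (Fin n) F) *ᵥ v) ((g : Matrix (Fin n) (Fin n) F) *ᵥ v)
    rw [h1] at h3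
    exact h3.symm
  have hcc : (c : F) * c = (-w) ^ (q₀ + 1) := by
    have h1 := hc ((g : Matrix (Fin n) (Fin n) F) *ᵥ v) ((g : Matrix (Fin n) (Fin n) F) *ᵥ v)
    rw [hc v v, hvv, mul_one, Matrix.mulVec_mulVec, hgg, Matrix.smul_mulVec, Matrix.one_mulVec]
      at h1
    rw [hf.smul_left, hf.herm, hf.smul_left, hvv, mul_one] at h1
    rw [← h1]; ring
  have hq0odd : Odd q₀ := by
    rw [hcard] at hoddq
    exact Nat.Odd.of_mul_right (by rw [← pow_two]; exact hoddq)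
  obtain ⟨t, ht⟩ := hq0odd
  have hw0 : -w ≠ 0 := by
    intro h
    apply hzns
    rw [h]
    exact ⟨0, by ring⟩
  have hc0 : (c : F) ≠ 0 := c.ne_zero
  have hc2t : (c : F) ^ (2 * t) = 1 := by
    have h1 : (c : F) ^ (2 * t) * c = 1 * c := by
      rw [one_mul, ← pow_succ, ← ht, hcq]
    exact mul_right_cancel₀ hc0 h1
  have hchar : ringChar F ≠ 2 := fun h => h2 (qe_two_eq_zero_iff.2 h)
  apply hzns
  rw [FiniteField.isSquare_iff hchar hw0]
  have hexp : Fintype.card F / 2 = (q₀ + 1) * t := by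
    rw [hcard, ht]
    have h1 : (2 * t + 1) ^ 2 = 2 * ((2 * t + 1 + 1) * t) + 1 := by ring
    rw [h1]
    omega
  rw [hexp, pow_mul, ← hcc, ← pow_two, ← pow_mul, hc2t]

end Cfsg.Agent.Lib.helper24
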