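import Cfsg.Agent.Lib.helper73.DLinG

set_option autoImplicit false

/-!
# Block-monomial matrices and isometries of bilinear forms given by matrices
-/

namespace Cfsg.Agent.Lib.helper73.SpDL

open Matrix

section Blk
variable (p : ℕ) [Fact p.Prime] {m : Type*} [Fintype m] [DecidableEq m] {F : Type*} [CommRing F]

/-- The block-monomial matrix with blocks `A x` placed at positions `(x + c, x)`. -/
def blk (c : ZMod p) (A : ZMod p → Matrix m m F) : Matrix (ZMod p × m) (ZMod p × m) F :=
  Matrix.of fun r s => if r.1 = s.1 + c then A s.1 r.2 s.2 else 0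

theorem blk_apply (c : ZMod p) (A : ZMod p → Matrix m m F) (r s : ZMod p × m) :
    blk p c A r s = if r.1 = s.1 + c then A s.1 r.2 s.2 else 0 := rfl

theorem blk_mul (c d : ZMod p) (A B : ZMod p → Matrix m m F) :
    blk p c A * blk p d B = blk p (d + c) (fun x => A (x + d) * B x) := by
  ext ⟨x', u'⟩ ⟨x, u⟩
  rw [Matrix.mul_apply, Fintype.sum_prod_type, Finset.sum_eq_single (x + d)]
  · simp only [blk_apply]
    by_cases h : x' = x + d + c
    · simp [h, Matrix.mul_apply, add_assoc]
    · have h' : ¬ x' = x + (d + c) := by rwa [← add_assoc]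
      simp [h, h']
  · intro y _ hy
    apply Finset.sum_eq_zero
    intro v _
    simp [blk_apply, hy]
  · simp

theorem blk_transpose (c : ZMod p) (A : ZMod p → Matrix m m F) :
    (blk p c A)ᵀ = blk p (-c) (fun x => (A (x - c))ᵀ) := by
  ext ⟨x', u'⟩ ⟨x, u⟩
  simp only [transpose_apply, blk_apply]
  by_cases h : x = x' + c
  · have h' : x' = x + -c := by rw [h]; ring
    have h2 : x - c = x' := by rw [h]; ring
    simp [h, h2]
  · have h' : ¬ x' = x + -c := by
      intro h2
      apply h
      rw [h2]; ring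
    simp [h, h']

theorem blk_one : blk p 0 (1 : ZMod p → Matrix m m F) = 1 := by
  ext ⟨x', u'⟩ ⟨x, u⟩
  simp only [blk_apply, add_zero, Pi.one_apply, Matrix.one_apply, Prod.mk.injEq]
  by_cases h : x' = x <;> by_cases h2 : u' = u <;> simp [h, h2]

theorem blk_eq_one [Nonempty m] [Nontrivial F] (c : ZMod p) (A : ZMod p → Matrix m m F)
    (h : blk p c A = 1) : c = 0 ∧ A = 1 := by
  obtain ⟨u₀⟩ := ‹Nonempty m›
  have hc : c = 0 := by
    by_contra hc
    have h1 := congrFun (congrFun h (0, u₀)) (0, u₀)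
    rw [blk_apply] at h1
    simp only [zero_add, Matrix.one_apply_eq] at h1
    rw [if_neg (fun h0 => hc h0.symm)] at h1
    exact zero_ne_one h1
  refine ⟨hc, ?_⟩
  funext x
  ext u' u
  have h1 := congrFun (congrFun h (x, u')) (x, u)
  rw [blk_apply, hc] at h1
  simp only [add_zero, if_true] at h1
  rw [h1, Pi.one_apply, Matrix.one_apply, Matrix.one_apply]
  simp

end Blk

section Iso
variable {F : Type*} [CommRing F]

/-- `M` is an isometry of the bilinear form with matrix `J`. -/
def IsIso {ι : Type*} [Fintype ι] (J M : Matrix ι ι F) : Prop := M * J * Mᵀ = J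

theorem isIso_blk (p : ℕ) [Fact p.Prime] {m : Type*} [Fintype m] [DecidableEq m]
    (J₀ : Matrix m m F) (c : ZMod p) (A : ZMod p → Matrix m m F) (hA : ∀ x, IsIso J₀ (A x)) :
    IsIso (blk p 0 (fun _ => J₀)) (blk p c A) := by
  unfold IsIso
  rw [blk_transpose, blk_mul, blk_mul]
  have e1 : -c + (0 + c) = 0 := by ring
  rw [e1]
  congr 1
  funext x
  have e2 : x + -c + 0 = x - c := by ring
  rw [e2]
  exact hA _

theorem isIso_reindex {ι ι' : Type*} [Fintype ι] [Fintype ι'] [DecidableEq ι] [DecidableEq ι']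
    (e : ι ≃ ι') (J M : Matrix ι ι F) (h : IsIso J M) :
    IsIso (reindex e e J) (reindex e e M) := by
  unfold IsIso at *
  simp only [reindex_apply, transpose_submatrix, submatrix_mul_equiv]
  rw [h]

theorem isIso_fromBlocks {ι κ : Type*} [Fintype ι] [Fintype κ] [DecidableEq ι] [DecidableEq κ]
    (J₁ : Matrix ι ι F) (J₂ : Matrix κ κ F) (M : Matrix ι ι F) (h : IsIso J₁ M) :
    IsIso (fromBlocks J₁ 0 0 J₂) (fromBlocks M 0 0 1) := by
  unfold IsIso at *
  rw [fromBlocks_transpose, fromBlocks_multiply, fromBlocks_multiply]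
  simp [h]

theorem J_blk (p : ℕ) [Fact p.Prime] (l : Type*) [Fintype l] [DecidableEq l] :
    J (ZMod p × l) F = reindex (Equiv.prodSumDistrib (ZMod p) l l)
      (Equiv.prodSumDistrib (ZMod p) l l) (blk p 0 (fun _ => J l F)) := by
  ext r s
  rcases r with ⟨x', a'⟩ | ⟨x', a'⟩ <;> rcases s with ⟨x, a⟩ | ⟨x, a⟩ <;>
    simp [J, blk_apply, Matrix.one_apply, Prod.ext_iff] <;>
    by_cases h : x' = x <;> simp [h]

theorem J_sum (l κ : Type*) [Fintype l] [DecidableEq l] [Fintype κ] [DecidableEq κ] :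
    J (l ⊕ κ) F = reindex (Equiv.sumSumSumComm l l κ κ) (Equiv.sumSumSumComm l l κ κ)
      (fromBlocks (J l F) 0 0 (J κ F)) := by
  ext r s
  rcases r with (a' | k') | (a' | k') <;> rcases s with (a | k) | (a | k) <;>
    simp [J, Matrix.one_apply]

theorem J_congr {l l' : Type*} [Fintype l] [DecidableEq l] [Fintype l'] [DecidableEq l']
    (e : l ≃ l') :
    J l' F = reindex (Equiv.sumCongr e e) (Equiv.sumCongr e e) (J l F) := by
  ext r s
  rcases r with a' | a' <;> rcases s with a | a <;>
    simp [J, Matrix.one_apply]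

end Iso

end Cfsg.Agent.Lib.helper73.SpDL
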