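import Cfsg.Agent.Lib.helper73.SpDLA

set_option autoImplicit false

/-!
# 2-subgroups of symplectic groups of large derived length
-/

namespace Cfsg.Agent.Lib.helper73.SpDL

open Matrix Equiv Cfsg.Agent.Lib.helper69 Cfsg.Agent.Lib.helper73.DLin

universe u

section Step
variable (p : ℕ) [Fact p.Prime] {Ω : Type*} {F : Type*} [Field F] {l : Type*} [Fintype l]
  [DecidableEq l]

/-- The matrix representation of `H ≀ Z_p` induced from a matrix representation of `H`. -/
noncomputable def indMat [Nonempty Ω] (H : Subgroup (Perm Ω))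
    (ρ : H →* Matrix (l ⊕ l) (l ⊕ l) F) :
    wr2Sub p H →* Matrix ((ZMod p × l) ⊕ (ZMod p × l)) ((ZMod p × l) ⊕ (ZMod p × l)) F where
  toFun g := reindex (Equiv.prodSumDistrib (ZMod p) l l) (Equiv.prodSumDistrib (ZMod p) l l)
    (blk p (wrC p H g) (fun x => ρ (wrH p H g x)))
  map_one' := by
    have := wr_uniq p H 1 0 1 (wr2Perm_one p).symm
    rw [this.1, this.2]
    have h1 : (fun x : ZMod p => ρ ((1 : ZMod p → H) x)) = 1 := by
      funext x
      simp
    rw [h1, blk_one]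
    simp
  map_mul' g g' := by
    have := wr_uniq p H (g * g') (wrC p H g' + wrC p H g)
      (fun x => wrH p H g (x + wrC p H g') * wrH p H g' x) (by
        rw [Subgroup.coe_mul]
        conv_lhs => rw [wr_spec p H g, wr_spec p H g']
        rw [wr2Perm_mul]
        rfl)
    rw [this.1, this.2]
    simp only [reindex_apply, submatrix_mul_equiv, blk_mul, map_mul]

theorem indMat_apply [Nonempty Ω] (H : Subgroup (Perm Ω))
    (ρ : H →* Matrix (l ⊕ l) (l ⊕ l) F) (g : wr2Sub p H) :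
    indMat p H ρ g = reindex (Equiv.prodSumDistrib (ZMod p) l l)
      (Equiv.prodSumDistrib (ZMod p) l l) (blk p (wrC p H g) (fun x => ρ (wrH p H g x))) := rfl

theorem indMat_injective [Nonempty Ω] [Nonempty l] (H : Subgroup (Perm Ω))
    (ρ : H →* Matrix (l ⊕ l) (l ⊕ l) F) (hρ : Function.Injective ρ) :
    Function.Injective (indMat p H ρ) := by
  rw [injective_iff_map_eq_one]
  intro g hg
  rw [indMat_apply] at hg
  have h1 : blk p (wrC p H g) (fun x => ρ (wrH p H g x)) = 1 := by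
    apply (reindex (Equiv.prodSumDistrib (ZMod p) l l) (Equiv.prodSumDistrib (ZMod p) l l)).injective
    rw [hg]
    simp
  obtain ⟨hc, hA⟩ := blk_eq_one p _ _ h1
  have hh : wrH p H g = 1 := by
    funext x
    apply hρ
    rw [Pi.one_apply, map_one]
    exact congrFun hA x
  apply Subtype.ext
  rw [wr_spec p H g, hc, hh]
  exact wr2Perm_one p

theorem indMat_isIso [Nonempty Ω] (H : Subgroup (Perm Ω))
    (ρ : H →* Matrix (l ⊕ l) (l ⊕ l) F) (hρ : ∀ h, IsIso (J l F) (ρ h)) (g : wr2Sub p H) :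
    IsIso (J (ZMod p × l) F) (indMat p H ρ g) := by
  rw [J_blk, indMat_apply]
  exact isIso_reindex _ _ _ (isIso_blk p (J l F) _ _ (fun x => hρ _))

end Step

section Base
variable {F : Type*} [Field F]

/-- A `2 × 2` matrix indexed by `Unit ⊕ Unit`. -/
def mk2 (a b c d : F) : Matrix (Unit ⊕ Unit) (Unit ⊕ Unit) F :=
  fromBlocks (of fun _ _ => a) (of fun _ _ => b) (of fun _ _ => c) (of fun _ _ => d)

theorem mk2_mul (a b c d a' b' c' d' : F) :
    mk2 a b c d * mk2 a' b' c' d' =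
      mk2 (a * a' + b * c') (a * b' + b * d') (c * a' + d * c') (c * b' + d * d') := by
  ext i j
  rcases i with ⟨⟩ | ⟨⟩ <;> rcases j with ⟨⟩ | ⟨⟩ <;>
    simp [mk2, Matrix.mul_apply, Fintype.sum_sum_type]

theorem mk2_transpose (a b c d : F) : (mk2 a b c d)ᵀ = mk2 a c b d := by
  ext i j
  rcases i with ⟨⟩ | ⟨⟩ <;> rcases j with ⟨⟩ | ⟨⟩ <;> simp [mk2]

theorem J_unit : J Unit F = mk2 0 (-1) 1 0 := by
  ext i j
  rcases i with ⟨⟩ | ⟨⟩ <;> rcases j with ⟨⟩ | ⟨⟩ <;> simp [mk2, J]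

theorem one_eq_mk2 : (1 : Matrix (Unit ⊕ Unit) (Unit ⊕ Unit) F) = mk2 1 0 0 1 := by
  ext i j
  rcases i with ⟨⟩ | ⟨⟩ <;> rcases j with ⟨⟩ | ⟨⟩ <;> simp [mk2]

theorem mk2_inj {a b c d a' b' c' d' : F} (h : mk2 a b c d = mk2 a' b' c' d') :
    a = a' ∧ b = b' ∧ c = c' ∧ d = d' := by
  refine ⟨?_, ?_, ?_, ?_⟩
  · simpa [mk2] using congrFun (congrFun h (Sum.inl ())) (Sum.inl ())
  · simpa [mk2] using congrFun (congrFun h (Sum.inl ())) (Sum.inr ())
  · simpa [mk2] using congrFun (congrFun h (Sum.inr ())) (Sum.inl ())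
  · simpa [mk2] using congrFun (congrFun h (Sum.inr ())) (Sum.inr ())

theorem mk2_mem {a b c d : F} (h : a * d - b * c = 1) :
    mk2 a b c d ∈ symplecticGroup Unit F := by
  rw [SymplecticGroup.mem_iff, J_unit, mk2_transpose, mk2_mul, mk2_mul]
  have e1 : (a * 0 + b * 1) * a + (a * -1 + b * 0) * b = 0 := by ring
  have e2 : (a * 0 + b * 1) * c + (a * -1 + b * 0) * d = -1 := by linear_combination -h
  have e3 : (c * 0 + d * 1) * a + (c * -1 + d * 0) * b = 1 := by linear_combination h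
  have e4 : (c * 0 + d * 1) * c + (c * -1 + d * 0) * d = 0 := by ring
  rw [e1, e2, e3, e4]

end Base

end Cfsg.Agent.Lib.helper73.SpDL
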