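import Cfsg.Agent.Lib.helper73.SpDLB

set_option autoImplicit false

/-!
# 2-subgroups of symplectic groups of large derived length: the groups
-/

namespace Cfsg.Agent.Lib.helper73.SpDL

open Matrix Equiv Cfsg.Agent.Lib.helper69 Cfsg.Agent.Lib.helper73.DLin

universe u

open scoped commutatorElement

theorem mem_normalizer_zpowers_of_conj_inv {G : Type*} [Group G] (g h : G)
    (hgh : g * h * g⁻¹ = h⁻¹) : g ∈ Subgroup.normalizer (Subgroup.zpowers h : Set G) := by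
  have h1 : g⁻¹ * h * g = h⁻¹ := by
    have h0 : h = g⁻¹ * h⁻¹ * g := by rw [← hgh]; group
    calc g⁻¹ * h * g = (g⁻¹ * h⁻¹ * g)⁻¹ := by group
      _ = h⁻¹ := by rw [← h0]
  rw [Subgroup.mem_normalizer_iff]
  intro n
  constructor
  · rintro ⟨k, rfl⟩
    refine ⟨-k, ?_⟩
    show h ^ (-k) = g * h ^ k * g⁻¹
    rw [← conj_zpow, hgh, _root_.inv_zpow, _root_.zpow_neg]
  · rintro ⟨k, hk⟩
    have hk' : h ^ k = g * n * g⁻¹ := hk
    refine ⟨-k, ?_⟩
    show h ^ (-k) = n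
    have h2 : n = g⁻¹ * (h ^ k) * g := by rw [hk']; group
    have h3 := conj_zpow (a := g⁻¹) (b := h) (i := k)
    rw [inv_inv, h1] at h3
    rw [h2, ← h3, _root_.inv_zpow, _root_.zpow_neg]

theorem mk2_congr {F : Type*} [Field F] {a b c d a' b' c' d' : F} (h1 : a = a') (h2 : b = b')
    (h3 : c = c') (h4 : d = d') : mk2 a b c d = mk2 a' b' c' d' := by
  subst h1 h2 h3 h4
  rfl

section BaseGroup
variable (F : Type u) [Field F] [Fintype F]

/-- A nonabelian 2-subgroup (a quaternion group) of `Sp_2(F)`, for `F` finite of odd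
characteristic. -/
theorem exists_base (h2 : (2 : F) ≠ 0) :
    ∃ Q : Subgroup (symplecticGroup Unit F), IsPGroup 2 Q ∧ derivedSeries Q 1 ≠ ⊥ := by
  classical
  obtain ⟨r, hr⟩ := CharP.exists F
  haveI := hr
  have hrp := CharP.char_is_prime F r
  haveI : NeZero r := ⟨hrp.ne_zero⟩
  obtain ⟨a', b', hab'⟩ := CharP.sq_add_sq F r (-1)
  set a : F := (a' : F) with ha
  set b : F := (b' : F) with hb
  have hab : a ^ 2 + b ^ 2 = -1 := by simpa using hab'
  let I₀ : symplecticGroup Unit F := ⟨mk2 a b b (-a), mk2_mem (by linear_combination -hab)⟩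
  let J₀ : symplecticGroup Unit F := ⟨mk2 0 1 (-1) 0, mk2_mem (by ring)⟩
  let Z₀ : symplecticGroup Unit F := ⟨mk2 (-1) 0 0 (-1), mk2_mem (by ring)⟩
  have hII : I₀ * I₀ = Z₀ := by
    apply Subtype.ext
    show mk2 a b b (-a) * mk2 a b b (-a) = mk2 (-1) 0 0 (-1)
    rw [mk2_mul]
    exact mk2_congr (by linear_combination hab) (by ring) (by ring) (by linear_combination hab)
  have hJJ : J₀ * J₀ = Z₀ := by
    apply Subtype.ext
    show mk2 0 1 (-1) 0 * mk2 0 1 (-1) 0 = mk2 (-1) 0 0 (-1)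
    rw [mk2_mul]
    exact mk2_congr (by ring) (by ring) (by ring) (by ring)
  have hZZ : Z₀ * Z₀ = 1 := by
    apply Subtype.ext
    show mk2 (-1) 0 0 (-1) * mk2 (-1) 0 0 (-1) = 1
    rw [mk2_mul, one_eq_mk2]
    exact mk2_congr (by ring) (by ring) (by ring) (by ring)
  have hJIJ : J₀ * I₀ * J₀ = I₀ := by
    apply Subtype.ext
    show mk2 0 1 (-1) 0 * mk2 a b b (-a) * mk2 0 1 (-1) 0 = mk2 a b b (-a)
    rw [mk2_mul, mk2_mul]
    exact mk2_congr (by ring) (by ring) (by ring) (by ring)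
  have hI4 : I₀ ^ 4 = 1 := by
    have : I₀ ^ 4 = I₀ * I₀ * (I₀ * I₀) := by
      rw [show (4 : ℕ) = 2 + 2 from rfl, pow_add, pow_two]
    rw [this, hII, hZZ]
  have hJ4 : J₀ ^ 4 = 1 := by
    have : J₀ ^ 4 = J₀ * J₀ * (J₀ * J₀) := by
      rw [show (4 : ℕ) = 2 + 2 from rfl, pow_add, pow_two]
    rw [this, hJJ, hZZ]
  have hpg : ∀ g : symplecticGroup Unit F, g ^ 4 = 1 → IsPGroup 2 (Subgroup.zpowers g) := by
    intro g hg
    have h1 : orderOf g ∣ 2 ^ 2 := orderOf_dvd_of_pow_eq_one hg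
    obtain ⟨k, -, hk⟩ := (Nat.dvd_prime_pow Nat.prime_two).1 h1
    exact IsPGroup.of_card (n := k) (by rw [Nat.card_zpowers, hk])
  have hconj : I₀ * J₀ * I₀⁻¹ = J₀⁻¹ := by
    rw [mul_inv_eq_iff_eq_mul, eq_inv_mul_iff_mul_eq, ← mul_assoc]
    exact hJIJ
  refine ⟨Subgroup.zpowers I₀ ⊔ Subgroup.zpowers J₀,
    IsPGroup.to_sup_of_normal_right' (hpg I₀ hI4) (hpg J₀ hJ4)
      (Subgroup.zpowers_le.2 (mem_normalizer_zpowers_of_conj_inv I₀ J₀ hconj)), ?_⟩
  rw [derivedSeries_one]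
  intro h
  have hI : I₀ ∈ Subgroup.zpowers I₀ ⊔ Subgroup.zpowers J₀ :=
    (le_sup_left : Subgroup.zpowers I₀ ≤ _) (Subgroup.mem_zpowers I₀)
  have hJ : J₀ ∈ Subgroup.zpowers I₀ ⊔ Subgroup.zpowers J₀ :=
    (le_sup_right : Subgroup.zpowers J₀ ≤ _) (Subgroup.mem_zpowers J₀)
  have hc : ⁅(⟨I₀, hI⟩ : ↥(Subgroup.zpowers I₀ ⊔ Subgroup.zpowers J₀)), ⟨J₀, hJ⟩⁆ ∈
      commutator ↥(Subgroup.zpowers I₀ ⊔ Subgroup.zpowers J₀) := by
    rw [commutator_def]
    exact Subgroup.commutator_mem_commutator (Subgroup.mem_top _) (Subgroup.mem_top _)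
  rw [h, Subgroup.mem_bot, commutatorElement_eq_one_iff_mul_comm] at hc
  have hc' : I₀ * J₀ = J₀ * I₀ := congrArg Subtype.val hc
  have hm : mk2 a b b (-a) * mk2 0 1 (-1) 0 = mk2 0 1 (-1) 0 * mk2 a b b (-a) :=
    congrArg Subtype.val hc'
  rw [mk2_mul, mk2_mul] at hm
  obtain ⟨e1, e2, -, -⟩ := mk2_inj hm
  have hb0 : b = 0 := by
    have : (2 : F) * b = 0 := by linear_combination -e1
    exact (mul_eq_zero.1 this).resolve_left h2
  have ha0 : a = 0 := by
    have : (2 : F) * a = 0 := by linear_combination e2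
    exact (mul_eq_zero.1 this).resolve_left h2
  rw [ha0, hb0] at hab
  norm_num at hab

end BaseGroup

section Main
variable (F : Type u) [Field F] [Fintype F]

/-- A 2-group of derived length greater than `i + 1` with a faithful symplectic matrix
representation of degree `2 * 2 ^ i`. -/
theorem exists_pgroup_sp (h2 : (2 : F) ≠ 0) (i : ℕ) :
    ∃ (Ω : Type u) (_ : Finite Ω) (_ : Nonempty Ω) (K : Subgroup (Perm Ω)) (l : Type)
      (_ : Fintype l) (_ : DecidableEq l),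
      IsPGroup 2 K ∧ derivedSeries K (i + 1) ≠ ⊥ ∧ Fintype.card l = 2 ^ i ∧
        ∃ ρ : K →* Matrix (l ⊕ l) (l ⊕ l) F, Function.Injective ρ ∧ ∀ g, IsIso (J l F) (ρ g) := by
  classical
  induction i with
  | zero =>
    obtain ⟨Q, hQ, hQd⟩ := exists_base F h2
    let G := symplecticGroup Unit F
    have hinj : Function.Injective (MulAction.toPermHom G G) := MulAction.toPerm_injective
    let K : Subgroup (Perm G) := Q.map (MulAction.toPermHom G G)
    let eq := Q.equivMapOfInjective _ hinj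
    refine ⟨G, inferInstance, ⟨1⟩, K, Unit, inferInstance, inferInstance, hQ.map _, ?_, by simp,
      ((symplecticGroup Unit F).subtype.comp Q.subtype).comp eq.symm.toMonoidHom, ?_, ?_⟩
    · exact derivedSeries_ne_bot_of_injective eq.toMonoidHom eq.injective _ hQd
    · exact (Subtype.val_injective.comp Subtype.val_injective).comp eq.symm.injective
    · intro g
      exact SymplecticGroup.mem_iff.1 ((eq.symm g : Q) : symplecticGroup Unit F).2
  | succ i ih =>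
    obtain ⟨Ω, hfin, hne, K, l, i1, i2, hK, hd, hl, ρ, hρ, hiso⟩ := ih
    haveI : Nonempty l := by
      rw [← Fintype.card_pos_iff, hl]
      exact pow_pos (by norm_num) _
    refine ⟨ZMod 2 × Ω, inferInstance, inferInstance, wr2Sub 2 K, ZMod 2 × l, inferInstance,
      inferInstance, isPGroup_wr2Sub 2 K hK, derivedSeries_wr2Sub_ne_bot 2 K (i + 1) hd, ?_,
      indMat 2 K ρ, indMat_injective 2 K ρ hρ, indMat_isIso 2 K ρ hiso⟩
    rw [Fintype.card_prod, ZMod.card, hl, pow_succ]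
    ring

/-- The block embedding of matrices. -/
def blockHom (ι κ : Type*) [Fintype ι] [Fintype κ] [DecidableEq ι] [DecidableEq κ] :
    Matrix ι ι F →* Matrix (ι ⊕ κ) (ι ⊕ κ) F where
  toFun M := fromBlocks M 0 0 1
  map_one' := fromBlocks_one
  map_mul' M N := by
    rw [fromBlocks_multiply]
    simp

/-- A 2-subgroup of `Sp_{2n}(F)` of derived length greater than `j + 1`, for `2 ^ j ≤ n`. -/
theorem exists_sub_Sp (h2 : (2 : F) ≠ 0) (n j : ℕ) (hj : 2 ^ j ≤ n) :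
    ∃ Q : Subgroup (symplecticGroup (Fin n) F), IsPGroup 2 Q ∧ derivedSeries Q (j + 1) ≠ ⊥ := by
  classical
  obtain ⟨Ω, hfin, hne, K, l, i1, i2, hK, hd, hl, ρ, hρ, hiso⟩ := exists_pgroup_sp F h2 j
  let κ := Fin (n - 2 ^ j)
  have hcard : Fintype.card (l ⊕ κ) = n := by
    rw [Fintype.card_sum, hl, Fintype.card_fin]
    omega
  let e : l ⊕ κ ≃ Fin n := Fintype.equivFinOfCardEq hcard
  let ψ₁ : Matrix (l ⊕ l) (l ⊕ l) F →* Matrix ((l ⊕ l) ⊕ (κ ⊕ κ)) ((l ⊕ l) ⊕ (κ ⊕ κ)) F :=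
    blockHom F (l ⊕ l) (κ ⊕ κ)
  have hψ₁ : Function.Injective ψ₁ := by
    intro M N h
    exact (fromBlocks_inj.1 h).1
  let ψ₂ : Matrix ((l ⊕ l) ⊕ (κ ⊕ κ)) ((l ⊕ l) ⊕ (κ ⊕ κ)) F →*
      Matrix ((l ⊕ κ) ⊕ (l ⊕ κ)) ((l ⊕ κ) ⊕ (l ⊕ κ)) F :=
    ((reindexAlgEquiv F F (Equiv.sumSumSumComm l l κ κ) : _ ≃ₐ[F] _) : _ →* _)
  have hψ₂ : Function.Injective ψ₂ := (reindexAlgEquiv F F (Equiv.sumSumSumComm l l κ κ)).injective
  let ψ₃ : Matrix ((l ⊕ κ) ⊕ (l ⊕ κ)) ((l ⊕ κ) ⊕ (l ⊕ κ)) F →*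
      Matrix (Fin n ⊕ Fin n) (Fin n ⊕ Fin n) F :=
    ((reindexAlgEquiv F F (Equiv.sumCongr e e) : _ ≃ₐ[F] _) : _ →* _)
  have hψ₃ : Function.Injective ψ₃ := (reindexAlgEquiv F F (Equiv.sumCongr e e)).injective
  let θ : K →* Matrix (Fin n ⊕ Fin n) (Fin n ⊕ Fin n) F := ψ₃.comp (ψ₂.comp (ψ₁.comp ρ))
  have hθ : Function.Injective θ := hψ₃.comp (hψ₂.comp (hψ₁.comp hρ))
  have hmem : ∀ g, θ g ∈ symplecticGroup (Fin n) F := by
    intro g
    rw [SymplecticGroup.mem_iff]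
    have h0 : θ g = reindex (Equiv.sumCongr e e) (Equiv.sumCongr e e)
        (reindex (Equiv.sumSumSumComm l l κ κ) (Equiv.sumSumSumComm l l κ κ)
          (fromBlocks (ρ g) 0 0 1)) := rfl
    have h3 : IsIso (fromBlocks (J l F) 0 0 (J κ F)) (fromBlocks (ρ g) 0 0 1) :=
      isIso_fromBlocks (J l F) (J κ F) (ρ g) (hiso g)
    have h4 := isIso_reindex (Equiv.sumSumSumComm l l κ κ) _ _ h3
    rw [← J_sum] at h4
    have h5 := isIso_reindex (Equiv.sumCongr e e) _ _ h4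
    rw [← J_congr (F := F) e] at h5
    rw [h0]
    exact h5
  let θ' : K →* symplecticGroup (Fin n) F := θ.codRestrict (symplecticGroup (Fin n) F) hmem
  have hθ' : Function.Injective θ' := by
    intro a b h
    apply hθ
    exact congrArg Subtype.val h
  refine ⟨θ'.range, hK.of_surjective θ'.rangeRestrict θ'.rangeRestrict_surjective, ?_⟩
  exact derivedSeries_ne_bot_of_injective θ'.rangeRestrict
    (MonoidHom.rangeRestrict_injective_iff.2 hθ') _ hd

end Main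

end Cfsg.Agent.Lib.helper73.SpDL
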