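import Mathlib
import Cfsg.Prelude.Def_Local
import Cfsg.Prelude.Def_Amalgam
import Cfsg.Agent.Lib.helper28.Layer
import Cfsg.Agent.Lib.helper52.Subn
import Cfsg.Agent.Lib.helper52.SubnClosure
import Cfsg.Agent.Lib.helper52.FStarComm
import Cfsg.Agent.Lib.helper53.PCore
import Cfsg.Agent.Lib.helper27.Radical

/-!
# Thompson–Wielandt: basic relative tools

Everything is phrased inside one ambient group `G`: for subgroups `S ≤ H` of `G` we speak of
`S` being subnormal in `H` via `(S.subgroupOf H).IsSubnormal`, and of the images in `G` of the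
layer, the `p`-core and the generalized Fitting subgroup of `↥H`.
-/

namespace Cfsg.Agent.Lib.helper73.TW

open Cfsg

variable {G : Type*} [Group G]

/-- The core in `M` of `H`, as a subgroup of the ambient group. -/
def coreIn (M H : Subgroup G) : Subgroup G :=
  ((H.subgroupOf M).normalCore).map M.subtype

theorem mem_coreIn {M H : Subgroup G} {x : G} :
    x ∈ coreIn M H ↔ x ∈ M ∧ ∀ m ∈ M, m * x * m⁻¹ ∈ H := by
  unfold coreIn
  constructor
  · rintro ⟨y, hy, rfl⟩
    refine ⟨y.2, fun m hm => ?_⟩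
    have := hy ⟨m, hm⟩
    simpa [Subgroup.mem_subgroupOf] using this
  · rintro ⟨hx, h⟩
    refine ⟨⟨x, hx⟩, ?_, rfl⟩
    intro m
    have := h m.1 m.2
    simpa [Subgroup.mem_subgroupOf] using this

theorem coreIn_le_left (M H : Subgroup G) : coreIn M H ≤ M := fun _ hx => (mem_coreIn.1 hx).1

theorem coreIn_le (M H : Subgroup G) : coreIn M H ≤ H := by
  intro x hx
  have := (mem_coreIn.1 hx).2 1 (one_mem _)
  simpa using this

theorem le_normalizer_coreIn (M H : Subgroup G) :
    M ≤ Subgroup.normalizer (coreIn M H : Set G) := by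
  apply Cfsg.Agent.Lib.helper52.le_normalizer_of_forall_conj_mem
  intro k hk x hx
  rw [mem_coreIn] at hx ⊢
  refine ⟨M.mul_mem (M.mul_mem hk hx.1) (M.inv_mem hk), fun m hm => ?_⟩
  have := hx.2 (m * k) (M.mul_mem hm hk)
  simpa [mul_assoc] using this

theorem le_coreIn {M H V : Subgroup G} (hVM : V ≤ M)
    (h : ∀ m ∈ M, ∀ v ∈ V, m * v * m⁻¹ ∈ H) : V ≤ coreIn M H :=
  fun v hv => mem_coreIn.2 ⟨hVM hv, fun m hm => h m hm v hv⟩

theorem le_coreIn_of_le_normalizer {M H V : Subgroup G} (hVM : V ≤ M) (hVH : V ≤ H)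
    (hn : M ≤ Subgroup.normalizer (V : Set G)) : V ≤ coreIn M H :=
  le_coreIn hVM fun m hm v hv => hVH ((Subgroup.mem_normalizer_iff.1 (hn hm) v).1 hv)

/-! ### Relative subnormality -/

theorem subn_of_le_normalizer {S H : Subgroup G} (hn : H ≤ Subgroup.normalizer (S : Set G)) :
    (S.subgroupOf H).IsSubnormal :=
  (Subgroup.normal_subgroupOf_of_le_normalizer hn).isSubnormal

theorem subn_step {S K H : Subgroup G} (hK : (K.subgroupOf H).IsSubnormal) (hSK : S ≤ K)
    (hn : K ≤ Subgroup.normalizer (S : Set G)) : (S.subgroupOf H).IsSubnormal := by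
  refine Cfsg.Agent.Lib.helper52.isSubnormal_of_le_of_le_normalizer hK
    (fun x hx => hSK hx) ?_
  intro k hk
  rw [Subgroup.mem_subgroupOf] at hk
  have hk' := hn hk
  rw [Subgroup.mem_normalizer_iff] at hk' ⊢
  intro x
  have := hk' (x : G)
  simpa [Subgroup.mem_subgroupOf] using this

/-! ### Images of characteristic subgroups -/

/-- The layer of `↥H`, as a subgroup of the ambient group. -/
def layerOf (H : Subgroup G) : Subgroup G := (layer ↥H).map H.subtype

/-- The generalized Fitting subgroup of `↥H`, as a subgroup of the ambient group. -/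
def fstarOf (H : Subgroup G) : Subgroup G := (generalizedFittingSubgroup ↥H).map H.subtype

theorem layerOf_le (H : Subgroup G) : layerOf H ≤ H := by
  rintro _ ⟨y, -, rfl⟩; exact y.2

theorem fstarOf_le (H : Subgroup G) : fstarOf H ≤ H := by
  rintro _ ⟨y, -, rfl⟩; exact y.2

theorem le_normalizer_layerOf (H : Subgroup G) :
    H ≤ Subgroup.normalizer (layerOf H : Set G) :=
  haveI : (layer ↥H).Characteristic := Cfsg.Agent.Lib.helper28.layer_characteristic ↥H
  Cfsg.Agent.Lib.helper27.le_normalizer_map_subtype_of_characteristic H (layer ↥H)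

theorem le_normalizer_fstarOf (H : Subgroup G) :
    H ≤ Subgroup.normalizer (fstarOf H : Set G) :=
  haveI : (generalizedFittingSubgroup ↥H).Characteristic :=
    Cfsg.Agent.Lib.helper28.generalizedFittingSubgroup_characteristic ↥H
  Cfsg.Agent.Lib.helper27.le_normalizer_map_subtype_of_characteristic H
    (generalizedFittingSubgroup ↥H)

theorem le_normalizer_pCoreOf (p : ℕ) (H : Subgroup G) :
    H ≤ Subgroup.normalizer (pCoreOf p H : Set G) :=
  Cfsg.Agent.Lib.helper53.le_normalizer_pCoreOf p H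

/-- The layer of `H` normalizes every subnormal subgroup of `H`. -/
theorem layerOf_le_normalizer [Finite G] {S H : Subgroup G}
    (hS : (S.subgroupOf H).IsSubnormal) (hSH : S ≤ H) :
    layerOf H ≤ Subgroup.normalizer (S : Set G) := by
  apply Cfsg.Agent.Lib.helper52.le_normalizer_of_forall_conj_mem
  rintro _ ⟨e, he, rfl⟩ s hs
  have h1 := Cfsg.Agent.Lib.helper28.layer_le_normalizer_of_isSubnormal hS he
  have h2 := (Subgroup.mem_normalizer_iff.1 h1 ⟨s, hSH hs⟩).1
    (by simpa [Subgroup.mem_subgroupOf] using hs)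
  simpa [Subgroup.mem_subgroupOf] using h2

/-- Components of `M` lying in `T ≤ M` are components of `T`. -/
theorem layerOf_le_layerOf {M T : Subgroup G} (hTM : T ≤ M) (h : layerOf M ≤ T) :
    layerOf M ≤ layerOf T := by
  unfold layerOf at h ⊢
  rw [Subgroup.map_le_iff_le_comap]
  unfold layer
  apply sSup_le
  intro K hK
  have hKT : K ≤ T.subgroupOf M := by
    intro k hk
    rw [Subgroup.mem_subgroupOf]
    exact h ⟨k, le_sSup (a := K) hK hk, rfl⟩
  have h1 : IsComponent (K.subgroupOf (T.subgroupOf M)) :=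
    Cfsg.Agent.Lib.helper28.isComponent_subgroupOf hK hKT
  have h2 := Cfsg.Agent.Lib.helper28.isComponent_map_equiv (Subgroup.subgroupOfEquivOfLe hTM) h1
  have h3 := Cfsg.Agent.Lib.helper28.le_layer h2
  intro k hk
  rw [Subgroup.mem_comap]
  refine ⟨⟨k.1, hKT hk⟩, h3 ⟨⟨k, hKT hk⟩, ?_, rfl⟩, rfl⟩
  simpa [Subgroup.mem_subgroupOf] using hk

/-- `F*` of a subnormal subgroup lies in `F*`. -/
theorem fstarOf_le_fstarOf [Finite G] {S H : Subgroup G} (hSH : S ≤ H)
    (hS : (S.subgroupOf H).IsSubnormal) : fstarOf S ≤ fstarOf H := by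
  have h1 := Cfsg.Agent.Lib.helper52.map_generalizedFittingSubgroup_le hS
  have h2 := Cfsg.Agent.Lib.helper28.generalizedFittingSubgroup_map_equiv
    (Subgroup.subgroupOfEquivOfLe hSH)
  rintro _ ⟨y, hy, rfl⟩
  rw [← h2] at hy
  obtain ⟨z, hz, rfl⟩ := hy
  exact ⟨z.1, h1 ⟨z, hz, rfl⟩, rfl⟩

theorem fstarOf_inf_le [Finite G] {S H : Subgroup G} (hSH : S ≤ H)
    (hS : (S.subgroupOf H).IsSubnormal) : fstarOf H ⊓ S ≤ fstarOf S := by
  have h1 := Cfsg.Agent.Lib.helper52.generalizedFittingSubgroup_inf_le hS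
  have h2 := Cfsg.Agent.Lib.helper28.generalizedFittingSubgroup_map_equiv
    (Subgroup.subgroupOfEquivOfLe hSH)
  rintro _ ⟨⟨y, hy, rfl⟩, hyS⟩
  have h3 : y ∈ generalizedFittingSubgroup ↥H ⊓ S.subgroupOf H :=
    ⟨hy, by simpa [Subgroup.mem_subgroupOf] using hyS⟩
  obtain ⟨z, hz, rfl⟩ := h1 h3
  refine ⟨Subgroup.subgroupOfEquivOfLe hSH z, ?_, rfl⟩
  rw [← h2]
  exact ⟨z, hz, rfl⟩

end Cfsg.Agent.Lib.helper73.TW
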