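import Cfsg.Agent.Lib.helper73.TWA

/-!
# Thompson–Wielandt: the configuration, and the layer
-/

namespace Cfsg.Agent.Lib.helper73.TW

open Cfsg

variable {G : Type*} [Group G]

/-- Two distinct conjugate core-free maximal subgroups. -/
structure Cfg (M M' : Subgroup G) : Prop where
  coatom : IsCoatom M
  core : M.normalCore = ⊥
  ne : M ≠ M'
  conj : ∃ g : G, M' = M.map (MulAut.conj g).toMonoidHom

theorem Cfg.symm {M M' : Subgroup G} (h : Cfg M M') : Cfg M' M := by
  obtain ⟨g, hg⟩ := h.conj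
  have hM : M = M'.map (MulAut.conj g⁻¹).toMonoidHom := by
    rw [hg, Cfsg.Agent.Lib.helper53.conj_conj, inv_mul_cancel, Cfsg.Agent.Lib.helper53.conj_one]
  refine ⟨?_, ?_, h.ne.symm, ⟨g⁻¹, hM⟩⟩
  · have h1 := h.coatom
    rw [hg]
    exact ((MulEquiv.mapSubgroup (MulAut.conj g)).isCoatom_iff M).2 h1
  · rw [eq_bot_iff]
    intro x hx
    have h1 : g⁻¹ * x * g ∈ M.normalCore := by
      intro b
      have h2 := hx (g * b * g⁻¹)
      rw [hg, Cfsg.Agent.Lib.helper53.mem_conj_iff] at h2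
      have h3 : g⁻¹ * (g * b * g⁻¹ * x * (g * b * g⁻¹)⁻¹) * g = b * (g⁻¹ * x * g) * b⁻¹ := by
        group
      rwa [h3] at h2
    rw [h.core, Subgroup.mem_bot] at h1
    rw [Subgroup.mem_bot]
    have h4 : x = g * (g⁻¹ * x * g) * g⁻¹ := by group
    rw [h4, h1]; group

theorem Cfg.iso {M M' : Subgroup G} (h : Cfg M M') : Nonempty (↥M ≃* ↥M') := by
  obtain ⟨g, hg⟩ := h.conj
  subst hg
  exact ⟨(MulAut.conj g).subgroupMap M⟩

/-- A nontrivial subgroup of `M` normalized by `M` has normalizer `M`. -/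
theorem Cfg.normalizer_eq {M M' : Subgroup G} (h : Cfg M M') {H : Subgroup G} (hne : H ≠ ⊥)
    (hHM : H ≤ M) (hn : M ≤ Subgroup.normalizer (H : Set G)) :
    Subgroup.normalizer (H : Set G) = M := by
  by_contra hcon
  have h1 : Subgroup.normalizer (H : Set G) = ⊤ := by
    by_contra h2
    exact hcon ((h.coatom.le_iff_eq h2).1 hn)
  have h3 : H.Normal := Subgroup.normalizer_eq_top_iff.1 h1
  have h4 : H ≤ M.normalCore := (Subgroup.normal_le_normalCore).2 hHM
  rw [h.core] at h4
  exact hne (le_bot_iff.1 h4)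

/-- A subgroup of `M` normalized by both `M` and `M'` is trivial. -/
theorem Cfg.eq_bot {M M' : Subgroup G} (h : Cfg M M') {V : Subgroup G} (hVM : V ≤ M)
    (hn : M ≤ Subgroup.normalizer (V : Set G)) (hn' : M' ≤ Subgroup.normalizer (V : Set G)) :
    V = ⊥ := by
  by_contra hne
  have h1 := h.normalizer_eq hne hVM hn
  rw [h1] at hn'
  exact h.ne ((h.symm.coatom.le_iff_eq h.coatom.1).1 hn')

/-- The first core `A₁ = core_M(M ∩ M')`. -/
def A1 (M M' : Subgroup G) : Subgroup G := coreIn M (M ⊓ M')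

/-- The second core `A₂ = core_M(A₁ ∩ B₁)`. -/
def X (M M' : Subgroup G) : Subgroup G := coreIn M (A1 M M' ⊓ A1 M' M)

theorem A1_le_left (M M' : Subgroup G) : A1 M M' ≤ M := coreIn_le_left _ _

theorem A1_le_right (M M' : Subgroup G) : A1 M M' ≤ M' :=
  (coreIn_le _ _).trans inf_le_right

theorem A1_le_inf (M M' : Subgroup G) : A1 M M' ≤ M ⊓ M' := coreIn_le _ _

theorem le_normalizer_A1 (M M' : Subgroup G) :
    M ≤ Subgroup.normalizer (A1 M M' : Set G) := le_normalizer_coreIn _ _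

theorem X_le_left (M M' : Subgroup G) : X M M' ≤ M := coreIn_le_left _ _

theorem X_le_A1 (M M' : Subgroup G) : X M M' ≤ A1 M M' := (coreIn_le _ _).trans inf_le_left

theorem X_le_A1' (M M' : Subgroup G) : X M M' ≤ A1 M' M := (coreIn_le _ _).trans inf_le_right

theorem X_le_right (M M' : Subgroup G) : X M M' ≤ M' :=
  (X_le_A1 M M').trans (A1_le_right M M')

theorem le_normalizer_X (M M' : Subgroup G) :
    M ≤ Subgroup.normalizer (X M M' : Set G) := le_normalizer_coreIn _ _

/-- `X` is subnormal in `M'`: `X ⊴ B₁ ⊴ M'`. -/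
theorem X_subn (M M' : Subgroup G) : ((X M M').subgroupOf M').IsSubnormal :=
  subn_step (subn_of_le_normalizer (le_normalizer_A1 M' M)) (X_le_A1' M M')
    ((A1_le_right M' M).trans (le_normalizer_X M M'))

/-- `X` is (sub)normal in `M`. -/
theorem X_subn_left (M M' : Subgroup G) : ((X M M').subgroupOf M).IsSubnormal :=
  subn_of_le_normalizer (le_normalizer_X M M')

/-- Conjugates of `B₁`-normal subgroups by elements of `M'` are subnormal in `M ⊓ M'`. -/
theorem conj_subn {M M' : Subgroup G} {S : Subgroup G} (hS : S ≤ A1 M' M)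
    (hn : A1 M' M ≤ Subgroup.normalizer (S : Set G)) {b : G} (hb : b ∈ M') :
    S.map (MulAut.conj b).toMonoidHom ≤ A1 M' M ∧
    ((S.map (MulAut.conj b).toMonoidHom).subgroupOf (M ⊓ M')).IsSubnormal := by
  have hB : (A1 M' M).map (MulAut.conj b).toMonoidHom = A1 M' M :=
    Cfsg.Agent.Lib.helper53.conj_eq_self_of_mem_normalizer (le_normalizer_A1 M' M hb)
  have h1 : S.map (MulAut.conj b).toMonoidHom ≤ A1 M' M := by
    rw [← hB]; exact Cfsg.Agent.Lib.helper53.conj_mono hS b
  refine ⟨h1, ?_⟩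
  refine subn_step (subn_of_le_normalizer (inf_le_right.trans (le_normalizer_A1 M' M))) h1 ?_
  rw [Cfsg.Agent.Lib.helper53.normalizer_conj, ← hB]
  exact Cfsg.Agent.Lib.helper53.conj_mono hn b

/-- **Step A**: the layer of `M` lies in `A₂`. -/
theorem layerOf_le_X [Finite G] {M M' : Subgroup G} (h : Cfg M M') (hX : X M M' ≠ ⊥)
    (hY : X M' M ≠ ⊥) : layerOf M ≤ X M M' := by
  have hNX : Subgroup.normalizer (X M M' : Set G) = M :=
    h.normalizer_eq hX (X_le_left M M') (le_normalizer_X M M')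
  have hNY : Subgroup.normalizer (X M' M : Set G) = M' :=
    h.symm.normalizer_eq hY (X_le_left M' M) (le_normalizer_X M' M)
  -- E(M) ≤ M'
  have h1 : layerOf M ≤ M' := by
    rw [← hNY]
    exact layerOf_le_normalizer (X_subn M' M) (X_le_right M' M)
  have h2 : layerOf M ≤ A1 M M' :=
    le_coreIn_of_le_normalizer (layerOf_le M) (le_inf (layerOf_le M) h1) (le_normalizer_layerOf M)
  have h3 : layerOf M ≤ layerOf (M ⊓ M') :=
    layerOf_le_layerOf inf_le_left (le_inf (layerOf_le M) h1)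
  have h4 : layerOf M ≤ A1 M' M := by
    refine le_coreIn h1 ?_
    intro b hb v hv
    refine ⟨M'.mul_mem (M'.mul_mem hb (h1 hv)) (M'.inv_mem hb), ?_⟩
    have hc := conj_subn (M := M) (M' := M') (X_le_A1' M M')
      ((A1_le_right M' M).trans (le_normalizer_X M M')) (M'.inv_mem hb)
    have h5 := layerOf_le_normalizer hc.2 (hc.1.trans (A1_le_inf M' M |>.trans (by rw [inf_comm])))
      (h3 hv)
    rw [Cfsg.Agent.Lib.helper53.normalizer_conj, Cfsg.Agent.Lib.helper53.mem_conj_iff, hNX] at h5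
    simpa using h5
  exact le_coreIn_of_le_normalizer (layerOf_le M) (le_inf h2 h4) (le_normalizer_layerOf M)

end Cfsg.Agent.Lib.helper73.TW
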