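import Cfsg.Agent.Lib.helper73.TWB

/-!
# Thompson–Wielandt: Wielandt's lemma and the `p`-cores
-/

namespace Cfsg.Agent.Lib.helper73.TW

open Cfsg

variable {G : Type*} [Group G]

/-- The subgroup generated by the `p'`-elements of `S`. -/
def pp (p : ℕ) (S : Subgroup G) : Subgroup G :=
  Subgroup.closure {g : G | g ∈ S ∧ (orderOf g).Coprime p}

theorem pp_le (p : ℕ) (S : Subgroup G) : pp p S ≤ S :=
  (Subgroup.closure_le _).2 fun _ hg => hg.1

/-- `S` is generated by its `p'`-elements. -/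
def PGen (p : ℕ) (S : Subgroup G) : Prop := S ≤ pp p S

theorem pgen_closure {p : ℕ} {W : Set G} (hW : ∀ g ∈ W, (orderOf g).Coprime p) :
    PGen p (Subgroup.closure W) := by
  unfold PGen pp
  apply Subgroup.closure_mono
  intro g hg
  exact ⟨Subgroup.subset_closure hg, hW g hg⟩

theorem pgen_pp (p : ℕ) (S : Subgroup G) : PGen p (pp p S) := pgen_closure fun _ hg => hg.2

theorem pgen_conj {p : ℕ} {S : Subgroup G} (h : PGen p S) (b : G) :
    PGen p (S.map (MulAut.conj b).toMonoidHom) := by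
  have h1 : S = pp p S := le_antisymm h (pp_le p S)
  have h2 : S.map (MulAut.conj b).toMonoidHom = Subgroup.closure
      ((MulAut.conj b).toMonoidHom '' {g : G | g ∈ S ∧ (orderOf g).Coprime p}) := by
    rw [← MonoidHom.map_closure]
    conv_lhs => rw [h1]
    rfl
  rw [h2]
  apply pgen_closure
  rintro _ ⟨g, hg, rfl⟩
  have : orderOf ((MulAut.conj b).toMonoidHom g) = orderOf g :=
    orderOf_injective _ (MulAut.conj b).injective g
  rw [this]
  exact hg.2

theorem pp_ne_bot [Finite G] {p : ℕ} [hp : Fact p.Prime] {S : Subgroup G}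
    (h : ¬ IsPGroup p S) : pp p S ≠ ⊥ := by
  intro hbot
  apply h
  intro g
  obtain ⟨k, m, hm, hkm⟩ := Nat.exists_eq_pow_mul_and_not_dvd (orderOf_pos (g : G)).ne' p
    hp.out.ne_one
  refine ⟨k, ?_⟩
  have h1 : (g : G) ^ p ^ k ∈ pp p S := by
    apply Subgroup.subset_closure
    refine ⟨S.pow_mem g.2 _, ?_⟩
    rw [orderOf_pow_of_dvd (pow_ne_zero _ hp.out.ne_zero) (by rw [hkm]; exact dvd_mul_right _ _),
      hkm, Nat.mul_div_cancel_left _ (pow_pos hp.out.pos _)]
    exact ((Nat.Prime.coprime_iff_not_dvd hp.out).2 hm).symm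
  rw [hbot, Subgroup.mem_bot] at h1
  exact Subtype.ext (by simpa using h1)

theorem normalizer_le_normalizer_pp [Finite G] (p : ℕ) (S : Subgroup G) :
    Subgroup.normalizer (S : Set G) ≤ Subgroup.normalizer (pp p S : Set G) := by
  intro m hm
  apply Cfsg.Agent.Lib.helper53.mem_normalizer_of_conj_le
  unfold pp
  rw [MonoidHom.map_closure, Subgroup.closure_le]
  rintro _ ⟨g, ⟨hgS, hgc⟩, rfl⟩
  apply Subgroup.subset_closure
  refine ⟨(Subgroup.mem_normalizer_iff.1 hm g).1 hgS, ?_⟩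
  have : orderOf ((MulAut.conj m).toMonoidHom g) = orderOf g :=
    orderOf_injective _ (MulAut.conj m).injective g
  rw [← this] at hgc
  exact hgc

theorem pCoreOf_le (p : ℕ) (H : Subgroup G) : pCoreOf p H ≤ H :=
  Cfsg.Agent.Lib.helper53.pCoreOf_le p H

theorem pCoreOf_isPGroup (p : ℕ) (H : Subgroup G) : IsPGroup p (pCoreOf p H) :=
  Cfsg.Agent.Lib.helper53.pCoreOf_isPGroup p H

/-- **Wielandt**: `O_p(H)` normalizes every subnormal subgroup of `H` generated by
`p'`-elements. -/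
theorem pCoreOf_le_normalizer [Finite G] {p : ℕ} {S H : Subgroup G} (hSH : S ≤ H)
    (hS : (S.subgroupOf H).IsSubnormal) (hgen : PGen p S) :
    pCoreOf p H ≤ Subgroup.normalizer (S : Set G) := by
  haveI hQn : (pCore p ↥H).Normal := Cfsg.Agent.Lib.helper53.pCore_normal p ↥H
  have hQ : IsPGroup p (pCore p ↥H) := Cfsg.Agent.Lib.helper53.pCore_isPGroup p ↥H
  have hres : (pResidual p ↥(S.subgroupOf H)).map (S.subgroupOf H).subtype = S.subgroupOf H := by
    rw [Cfsg.Agent.Lib.helper52.map_pResidual_subtype]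
    apply Subgroup.map_injective H.subtype_injective
    rw [MonoidHom.map_closure, Subgroup.map_subgroupOf_eq_of_le hSH]
    apply le_antisymm
    · rw [Subgroup.closure_le]
      rintro _ ⟨g, hg, rfl⟩
      exact hg.1
    · refine hgen.trans ?_
      apply Subgroup.closure_mono
      rintro g ⟨hgS, hgc⟩
      exact ⟨⟨g, hSH hgS⟩, ⟨hgS, by rwa [Subgroup.orderOf_mk]⟩, rfl⟩
  have h1 := Cfsg.Agent.Lib.helper52.sup_le_normalizer_of_isSubnormal_of_pResidual_eq hS hQ hres
  apply Cfsg.Agent.Lib.helper52.le_normalizer_of_forall_conj_mem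
  rintro _ ⟨y, hy, rfl⟩ s hs
  have h2 := h1 (Subgroup.mem_sup_right hy)
  have h3 := (Subgroup.mem_normalizer_iff.1 h2 ⟨s, hSH hs⟩).1
    (by simpa [Subgroup.mem_subgroupOf] using hs)
  simpa [Subgroup.mem_subgroupOf] using h3

theorem card_pCoreOf_eq {M M' : Subgroup G} (e : ↥M ≃* ↥M') (p : ℕ) :
    Nat.card (pCoreOf p M) = Nat.card (pCoreOf p M') := by
  unfold pCoreOf
  rw [Cfsg.Agent.Lib.helper27.card_map_subtype, Cfsg.Agent.Lib.helper27.card_map_subtype,
    ← Cfsg.Agent.Lib.helper27.map_pCore_equiv p e]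
  exact Nat.card_congr (e.subgroupMap (pCore p ↥M)).toEquiv

theorem card_fstarOf_eq {M M' : Subgroup G} (e : ↥M ≃* ↥M') :
    Nat.card (fstarOf M) = Nat.card (fstarOf M') := by
  unfold fstarOf
  rw [Cfsg.Agent.Lib.helper27.card_map_subtype, Cfsg.Agent.Lib.helper27.card_map_subtype,
    ← Cfsg.Agent.Lib.helper28.generalizedFittingSubgroup_map_equiv e]
  exact Nat.card_congr (e.subgroupMap (generalizedFittingSubgroup ↥M)).toEquiv

/-- **Lemma W**: if `A₂` is not a `p`-group then `O_p(M) = O_p(M') = 1`. -/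
theorem pCoreOf_eq_bot_of_not_isPGroup [Finite G] {M M' : Subgroup G} (h : Cfg M M') {p : ℕ}
    [Fact p.Prime] (hX : ¬ IsPGroup p (X M M')) : pCoreOf p M' = ⊥ ∧ pCoreOf p M = ⊥ := by
  have hXo_ne : pp p (X M M') ≠ ⊥ := pp_ne_bot hX
  have hXoX : pp p (X M M') ≤ X M M' := pp_le _ _
  have hMXo : M ≤ Subgroup.normalizer (pp p (X M M') : Set G) :=
    (le_normalizer_X M M').trans (normalizer_le_normalizer_pp p _)
  have hNXo : Subgroup.normalizer (pp p (X M M') : Set G) = M :=
    h.normalizer_eq hXo_ne (hXoX.trans (X_le_left M M')) hMXo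
  have hXn : X M M' ≤ Subgroup.normalizer (pp p (X M M') : Set G) := (X_le_left M M').trans hMXo
  have hBT : A1 M' M ≤ M ⊓ M' := (A1_le_inf M' M).trans (by rw [inf_comm])
  -- (B.1) `O_p(M') ≤ M`
  have hP'M : pCoreOf p M' ≤ M := by
    rw [← hNXo]
    exact pCoreOf_le_normalizer (hXoX.trans (X_le_right M M'))
      (subn_step (X_subn M M') hXoX hXn) (pgen_pp p _)
  -- (B.2) `O_p(M ⊓ M') ≤ B₁`
  have hT : pCoreOf p (M ⊓ M') ≤ A1 M' M := by
    refine le_coreIn ((pCoreOf_le p _).trans inf_le_right) ?_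
    intro b hb v hv
    have hvT : v ∈ M ⊓ M' := pCoreOf_le p _ hv
    refine ⟨M'.mul_mem (M'.mul_mem hb hvT.2) (M'.inv_mem hb), ?_⟩
    have hc := conj_subn (M := M) (M' := M') (X_le_A1' M M')
      ((A1_le_right M' M).trans (le_normalizer_X M M')) (M'.inv_mem hb)
    have hXob_le : (pp p (X M M')).map (MulAut.conj b⁻¹).toMonoidHom ≤
        (X M M').map (MulAut.conj b⁻¹).toMonoidHom := Cfsg.Agent.Lib.helper53.conj_mono hXoX _
    have hsub : (((pp p (X M M')).map (MulAut.conj b⁻¹).toMonoidHom).subgroupOf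
        (M ⊓ M')).IsSubnormal := by
      refine subn_step hc.2 hXob_le ?_
      rw [Cfsg.Agent.Lib.helper53.normalizer_conj]
      exact Cfsg.Agent.Lib.helper53.conj_mono hXn _
    have h5 := pCoreOf_le_normalizer (hXob_le.trans (hc.1.trans hBT)) hsub
      (pgen_conj (pgen_pp p _) _) hv
    rw [Cfsg.Agent.Lib.helper53.normalizer_conj, Cfsg.Agent.Lib.helper53.mem_conj_iff, hNXo] at h5
    simpa using h5
  -- `O_p(M ⊓ M') ≤ O_p(M')`
  have hT' : pCoreOf p (M ⊓ M') ≤ pCoreOf p M' := by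
    apply Cfsg.Agent.Lib.helper27.le_map_pCore_of_subnormal ((pCoreOf_le p _).trans inf_le_right)
    · refine subn_step (subn_of_le_normalizer (le_normalizer_A1 M' M)) hT ?_
      exact hBT.trans (le_normalizer_pCoreOf p _)
    · exact pCoreOf_isPGroup p _
  -- (B.3) `O_p(M) ⊓ M' ≤ O_p(M')`
  have hPM' : pCoreOf p M ⊓ M' ≤ pCoreOf p M' := by
    refine le_trans ?_ hT'
    apply Cfsg.Agent.Lib.helper27.le_map_pCore_of_normal (inf_le_inf_right M' (pCoreOf_le p M))
    · intro t ht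
      have h1 := le_normalizer_pCoreOf p M ht.1
      have h2 : t ∈ Subgroup.normalizer (M' : Set G) := Subgroup.le_normalizer ht.2
      rw [Subgroup.mem_normalizer_iff] at h1 h2 ⊢
      intro x
      rw [Subgroup.mem_inf, Subgroup.mem_inf, ← h1 x, ← h2 x]
    · exact (pCoreOf_isPGroup p M).to_le inf_le_left
  obtain ⟨e⟩ := h.iso
  have hcard : Nat.card (pCoreOf p M) = Nat.card (pCoreOf p M') := card_pCoreOf_eq e p
  -- (B.4)
  have hP' : pCoreOf p M' = ⊥ := by
    by_contra hne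
    have hN : Subgroup.normalizer (pCoreOf p M' : Set G) = M' :=
      h.symm.normalizer_eq hne (pCoreOf_le p M') (le_normalizer_pCoreOf p M')
    have hle : pCoreOf p M ≤ pCoreOf p M' := by
      by_contra hnle
      have hlt : pCoreOf p M' < pCoreOf p M' ⊔ pCoreOf p M := by
        refine lt_of_le_of_ne le_sup_left ?_
        intro heq
        apply hnle
        rw [heq]
        exact le_sup_right
      have hnorm : pCoreOf p M' ≤ Subgroup.normalizer (pCoreOf p M : Set G) :=
        hP'M.trans (le_normalizer_pCoreOf p M)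
      have hR : IsPGroup p ↥(pCoreOf p M' ⊔ pCoreOf p M) :=
        IsPGroup.to_sup_of_normal_right' (pCoreOf_isPGroup p M') (pCoreOf_isPGroup p M) hnorm
      obtain ⟨y, hyR, hyn, hyN⟩ := Cfsg.Agent.Lib.helper53.exists_mem_normalizer_not_mem hR hlt
      rw [hN] at hyN
      obtain ⟨a, ha, c, hc, rfl⟩ := Cfsg.Agent.Lib.helper52.exists_mul_of_mem_sup hnorm hyR
      apply hyn
      have hcM' : c ∈ M' := by
        have : c = a⁻¹ * (a * c) := by group
        rw [this]
        exact M'.mul_mem (M'.inv_mem (pCoreOf_le p M' ha)) hyN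
      exact (pCoreOf p M').mul_mem ha (hPM' ⟨hc, hcM'⟩)
    have heq : pCoreOf p M = pCoreOf p M' := Subgroup.eq_of_le_of_card_ge hle hcard.symm.le
    apply hne
    rw [← heq]
    exact h.eq_bot (pCoreOf_le p M) (le_normalizer_pCoreOf p M)
      (by rw [heq]; exact le_normalizer_pCoreOf p M')
  refine ⟨hP', ?_⟩
  rw [hP'] at hcard
  exact Subgroup.card_eq_one.1 (by simpa using hcard)

end Cfsg.Agent.Lib.helper73.TW
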