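import Cfsg.Agent.Lib.helper73.TWD

/-!
# Thompson–Wielandt: point stabilizers of a faithful primitive action
-/

namespace Cfsg.Agent.Lib.helper73.TW

open Cfsg

theorem relIndex_mul_card {G : Type*} [Group G] {H K : Subgroup G} (h : H ≤ K) :
    Nat.card H * H.relIndex K = Nat.card K := by
  have := Subgroup.relIndex_mul_relIndex (⊥ : Subgroup G) H K bot_le h
  rwa [Subgroup.relIndex_bot_left, Subgroup.relIndex_bot_left] at this

/-- Two points `a`, `b` of a faithful primitive action with `|b^{G_a}| = d ≥ 2` give a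
Thompson–Wielandt configuration `(G_a, G_b)` with `|G_a : G_ab| = |G_b : G_ab| = d`. -/
theorem cfg_of_action {G Ω : Type*} [Group G] [Finite G] [MulAction G Ω] [FaithfulSMul G Ω]
    [Finite Ω] (hprim : MulAction.IsPreprimitive G Ω) (a b : Ω) (d : ℕ)
    (hd : Nat.card (MulAction.orbit (MulAction.stabilizer G a) b) = d) (h2 : 2 ≤ d) :
    Cfg (MulAction.stabilizer G a) (MulAction.stabilizer G b) ∧
    (MulAction.stabilizer G a ⊓ MulAction.stabilizer G b).relIndex (MulAction.stabilizer G a) = d ∧
    (MulAction.stabilizer G a ⊓ MulAction.stabilizer G b).relIndex (MulAction.stabilizer G b) = d := by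
  haveI : MulAction.IsPretransitive G Ω := hprim.toIsPretransitive
  have hstab : MulAction.stabilizer (MulAction.stabilizer G a) b =
      (MulAction.stabilizer G b).subgroupOf (MulAction.stabilizer G a) := by
    ext x
    simp [MulAction.mem_stabilizer_iff, Subgroup.mem_subgroupOf, Subgroup.smul_def]
  have hrel : (MulAction.stabilizer G a ⊓ MulAction.stabilizer G b).relIndex
      (MulAction.stabilizer G a) = d := by
    rw [Subgroup.inf_relIndex_left, Subgroup.relIndex, ← hstab, MulAction.index_stabilizer, ← hd,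
      Nat.card_coe_set_eq]
  have hne : MulAction.stabilizer G a ≠ MulAction.stabilizer G b := by
    intro heq
    rw [← heq, inf_idem, Subgroup.relIndex_self] at hrel
    omega
  have hab : a ≠ b := by
    rintro rfl
    exact hne rfl
  haveI : Nontrivial Ω := ⟨a, b, hab⟩
  obtain ⟨g, hg⟩ := MulAction.exists_smul_eq G a b
  have hconj : MulAction.stabilizer G b =
      (MulAction.stabilizer G a).map (MulAut.conj g).toMonoidHom := by
    rw [← hg, MulAction.stabilizer_smul_eq_stabilizer_map_conj]
  have hcoatom : IsCoatom (MulAction.stabilizer G a) :=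
    (MulAction.isCoatom_stabilizer_iff_preprimitive (G := G) a).2 hprim
  have hcore : (MulAction.stabilizer G a).normalCore = ⊥ := by
    rw [eq_bot_iff]
    intro x hx
    rw [Subgroup.mem_bot]
    apply FaithfulSMul.eq_of_smul_eq_smul (α := Ω)
    intro ω
    obtain ⟨k, hk⟩ := MulAction.exists_smul_eq G a ω
    have h1 := hx k⁻¹
    rw [MulAction.mem_stabilizer_iff] at h1
    rw [one_smul, ← hk]
    have h3 : x • k • a = k • ((k⁻¹ * x * k⁻¹⁻¹) • a) := by simp [mul_smul]
    rw [h3, h1]
  have hcfg : Cfg (MulAction.stabilizer G a) (MulAction.stabilizer G b) :=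
    ⟨hcoatom, hcore, hne, g, hconj⟩
  refine ⟨hcfg, hrel, ?_⟩
  obtain ⟨e⟩ := hcfg.iso
  have hc : Nat.card (MulAction.stabilizer G a) = Nat.card (MulAction.stabilizer G b) :=
    Nat.card_congr e.toEquiv
  have h3 := relIndex_mul_card (inf_le_left :
    MulAction.stabilizer G a ⊓ MulAction.stabilizer G b ≤ MulAction.stabilizer G a)
  have h4 := relIndex_mul_card (inf_le_right :
    MulAction.stabilizer G a ⊓ MulAction.stabilizer G b ≤ MulAction.stabilizer G b)
  rw [hrel, hc, ← h4] at h3
  exact (Nat.eq_of_mul_eq_mul_left Nat.card_pos h3).symm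

end Cfsg.Agent.Lib.helper73.TW
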