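import Cfsg.Agent.Lib.helper73.TWE

/-!
# Thompson–Wielandt: counting (`|M : A₂|` divides `d! ((d-1)!)^d`)
-/

namespace Cfsg.Agent.Lib.helper73.TW

open Cfsg

variable {G : Type*} [Group G]

theorem index_normalCore_dvd {K : Type*} [Group K] [Finite K] (H : Subgroup K) :
    H.normalCore.index ∣ (H.index).factorial := by
  rw [Subgroup.normalCore_eq_ker, Subgroup.index_ker]
  have h1 := Subgroup.card_subgroup_dvd_card (MulAction.toPermHom K (K ⧸ H)).range
  rwa [Nat.card_perm] at h1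

theorem relIndex_coreIn_dvd [Finite G] (M H : Subgroup G) :
    (coreIn M H).relIndex M ∣ (H.relIndex M).factorial := by
  have h1 : (coreIn M H).subgroupOf M = (H.subgroupOf M).normalCore := by
    unfold coreIn
    ext x
    rw [Subgroup.mem_subgroupOf]
    constructor
    · rintro ⟨y, hy, hyx⟩
      have : y = x := Subtype.ext hyx
      rwa [← this]
    · intro hx
      exact ⟨x, hx, rfl⟩
  unfold Subgroup.relIndex
  rw [h1]
  exact index_normalCore_dvd _

theorem relIndex_A1_dvd_pred [Finite G] (M M' : Subgroup G) (d : ℕ)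
    (hd : (M ⊓ M').relIndex M = d) : (A1 M M').relIndex (M ⊓ M') ∣ (d - 1).factorial := by
  have h1 := relIndex_coreIn_dvd M (M ⊓ M')
  rw [hd] at h1
  have h2 := Subgroup.relIndex_mul_relIndex (A1 M M') (M ⊓ M') M (A1_le_inf M M') inf_le_left
  rw [hd] at h2
  have hd0 : d ≠ 0 := by
    rw [← hd]
    exact (Subgroup.index_ne_zero_of_finite : ((M ⊓ M').subgroupOf M).index ≠ 0)
  have h3 : d * (A1 M M').relIndex (M ⊓ M') ∣ d * (d - 1).factorial := by
    rw [Nat.mul_factorial_pred hd0, mul_comm, h2]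
    exact h1
  exact Nat.dvd_of_mul_dvd_mul_left (Nat.pos_of_ne_zero hd0) h3

theorem le_normalizer_inf {K N₁ N₂ : Subgroup G} (h₁ : K ≤ Subgroup.normalizer (N₁ : Set G))
    (h₂ : K ≤ Subgroup.normalizer (N₂ : Set G)) :
    K ≤ Subgroup.normalizer ((N₁ ⊓ N₂ : Subgroup G) : Set G) := by
  intro t ht
  have h1 := h₁ ht
  have h2 := h₂ ht
  rw [Subgroup.mem_normalizer_iff] at h1 h2 ⊢
  intro x
  rw [Subgroup.mem_inf, Subgroup.mem_inf, ← h1 x, ← h2 x]

/-- `M ⊓ M'` normalizes `D = A₁ ⊓ B₁`. -/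
theorem inf_le_normalizer_D (M M' : Subgroup G) :
    M ⊓ M' ≤ Subgroup.normalizer ((A1 M M' ⊓ A1 M' M : Subgroup G) : Set G) :=
  le_normalizer_inf (inf_le_left.trans (le_normalizer_A1 M M'))
    (inf_le_right.trans (le_normalizer_A1 M' M))

theorem relIndex_D_dvd [Finite G] (M M' : Subgroup G) (d : ℕ)
    (hd' : (M ⊓ M').relIndex M' = d) :
    (A1 M M' ⊓ A1 M' M).relIndex (A1 M M') ∣ (d - 1).factorial := by
  rw [Subgroup.inf_relIndex_left]
  have hT : M ⊓ M' ≤ Subgroup.normalizer (A1 M' M : Set G) :=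
    inf_le_right.trans (le_normalizer_A1 M' M)
  haveI : ((A1 M' M).subgroupOf (M ⊓ M')).Normal := Subgroup.normal_subgroupOf_of_le_normalizer hT
  have h1 := Subgroup.relIndex_dvd_index_of_normal ((A1 M' M).subgroupOf (M ⊓ M'))
    ((A1 M M').subgroupOf (M ⊓ M'))
  rw [Subgroup.relIndex_subgroupOf (A1_le_inf M M')] at h1
  refine h1.trans ?_
  have h2 := relIndex_A1_dvd_pred M' M d (by rwa [inf_comm])
  rw [inf_comm] at h2
  exact h2

theorem relIndex_inf_dvd {A N R : Subgroup G} (hn : A ≤ Subgroup.normalizer (N : Set G)) :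
    (N ⊓ R).relIndex A ∣ N.relIndex A * R.relIndex A := by
  rw [← Subgroup.relIndex_inf_mul_relIndex]
  apply Nat.mul_dvd_mul_right
  haveI : (N.subgroupOf A).Normal := Subgroup.normal_subgroupOf_of_le_normalizer hn
  have h1 := Subgroup.relIndex_dvd_index_of_normal (N.subgroupOf A) ((R ⊓ A).subgroupOf A)
  rwa [Subgroup.relIndex_subgroupOf inf_le_right] at h1

theorem relIndex_iInf_dvd {ι : Type*} [Finite ι] (A : Subgroup G) (S : ι → Subgroup G)
    (hn : ∀ i, A ≤ Subgroup.normalizer (S i : Set G)) (e : ℕ) (he : ∀ i, (S i).relIndex A ∣ e) :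
    (⨅ i, S i).relIndex A ∣ e ^ Nat.card ι := by
  classical
  haveI := Fintype.ofFinite ι
  have key : ∀ s : Finset ι, (⨅ i ∈ s, S i).relIndex A ∣ e ^ s.card := by
    intro s
    induction s using Finset.induction_on with
    | empty => simp
    | insert a s ha ih =>
      rw [Finset.iInf_insert, Finset.card_insert_of_notMem ha, pow_succ, mul_comm]
      exact (relIndex_inf_dvd (hn a)).trans (Nat.mul_dvd_mul (he a) ih)
  have h1 := key Finset.univ
  simpa [Nat.card_eq_fintype_card] using h1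

theorem X_eq_iInf (M M' : Subgroup G) :
    X M M' = ⨅ q : ↥M ⧸ (M ⊓ M').subgroupOf M,
      (A1 M M' ⊓ A1 M' M).map (MulAut.conj ((Quotient.out q : ↥M) : G)).toMonoidHom := by
  ext x
  unfold X
  rw [mem_coreIn, Subgroup.mem_iInf]
  simp only [Cfsg.Agent.Lib.helper53.mem_conj_iff]
  constructor
  · rintro ⟨-, h⟩ q
    have := h ((Quotient.out q : ↥M) : G)⁻¹ (M.inv_mem (Quotient.out q).2)
    simpa using this
  · intro h
    have hDM : A1 M M' ⊓ A1 M' M ≤ M := inf_le_left.trans (A1_le_left M M')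
    refine ⟨?_, ?_⟩
    · have h1 := hDM (h (QuotientGroup.mk 1))
      set r := (Quotient.out (QuotientGroup.mk 1 : ↥M ⧸ (M ⊓ M').subgroupOf M) : ↥M) with hr
      have h2 : x = (r : G) * ((r : G)⁻¹ * x * r) * (r : G)⁻¹ := by group
      rw [h2]
      exact M.mul_mem (M.mul_mem r.2 h1) (M.inv_mem r.2)
    · intro m hm
      obtain ⟨t, ht⟩ := QuotientGroup.mk_out_eq_mul ((M ⊓ M').subgroupOf M)
        (⟨m⁻¹, M.inv_mem hm⟩ : ↥M)
      have h1 := h (QuotientGroup.mk (⟨m⁻¹, M.inv_mem hm⟩ : ↥M))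
      rw [ht] at h1
      have htT : ((t : ↥M) : G) ∈ M ⊓ M' := t.2
      have h2 := (Subgroup.mem_normalizer_iff.1 (inf_le_normalizer_D M M' htT) _).1 h1
      have h3 : ((t : ↥M) : G) * ((((⟨m⁻¹, M.inv_mem hm⟩ : ↥M) * (t : ↥M) : ↥M) : G)⁻¹ * x *
          (((⟨m⁻¹, M.inv_mem hm⟩ : ↥M) * (t : ↥M) : ↥M) : G)) * ((t : ↥M) : G)⁻¹ = m * x * m⁻¹ := by
        simp only [Subgroup.coe_mul]
        group
      rwa [h3] at h2

theorem relIndex_X_dvd [Finite G] (M M' : Subgroup G) (d : ℕ)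
    (hd : (M ⊓ M').relIndex M = d) (hd' : (M ⊓ M').relIndex M' = d) :
    (X M M').relIndex M ∣ d.factorial * ((d - 1).factorial) ^ d := by
  have h1 : (A1 M M').relIndex M ∣ d.factorial := by
    have := relIndex_coreIn_dvd M (M ⊓ M')
    rwa [hd] at this
  have hAD : A1 M M' ≤ Subgroup.normalizer ((A1 M M' ⊓ A1 M' M : Subgroup G) : Set G) :=
    (A1_le_inf M M').trans (inf_le_normalizer_D M M')
  have h2 : (X M M').relIndex (A1 M M') ∣ ((d - 1).factorial) ^ d := by
    have hcard : Nat.card (↥M ⧸ (M ⊓ M').subgroupOf M) = d := hd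
    rw [X_eq_iInf]
    suffices hs : (⨅ q : ↥M ⧸ (M ⊓ M').subgroupOf M, (A1 M M' ⊓ A1 M' M).map
        (MulAut.conj ((Quotient.out q : ↥M) : G)).toMonoidHom).relIndex (A1 M M') ∣
        ((d - 1).factorial) ^ Nat.card (↥M ⧸ (M ⊓ M').subgroupOf M) by
      rwa [hcard] at hs
    apply relIndex_iInf_dvd
    · intro q
      have hr : (A1 M M').map (MulAut.conj ((Quotient.out q : ↥M) : G)).toMonoidHom = A1 M M' :=
        Cfsg.Agent.Lib.helper53.conj_eq_self_of_mem_normalizer
          (le_normalizer_A1 M M' (Quotient.out q).2)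
      rw [Cfsg.Agent.Lib.helper53.normalizer_conj]
      conv_lhs => rw [← hr]
      exact Cfsg.Agent.Lib.helper53.conj_mono hAD _
    · intro q
      have hr : (A1 M M').map (MulAut.conj ((Quotient.out q : ↥M) : G)).toMonoidHom = A1 M M' :=
        Cfsg.Agent.Lib.helper53.conj_eq_self_of_mem_normalizer
          (le_normalizer_A1 M M' (Quotient.out q).2)
      have h3 := Subgroup.relIndex_map_map_of_injective
        (f := (MulAut.conj ((Quotient.out q : ↥M) : G)).toMonoidHom) (A1 M M' ⊓ A1 M' M) (A1 M M')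
        (MulAut.conj ((Quotient.out q : ↥M) : G)).injective
      rw [hr] at h3
      rw [h3]
      exact relIndex_D_dvd M M' d hd'
  rw [← Subgroup.relIndex_mul_relIndex (X M M') (A1 M M') M (X_le_A1 M M') (A1_le_left M M'),
    mul_comm]
  exact Nat.mul_dvd_mul h1 h2

end Cfsg.Agent.Lib.helper73.TW
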