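import Cfsg.Agent.Lib.helper81.WTDefs
import Cfsg.Agent.Lib.helper13.WTE1
import Cfsg.Agent.Lib.helper50.WTE1b
import Cfsg.Agent.Lib.helper83.WTE2

set_option autoImplicit false

namespace Cfsg.Agent.Lib.helper81.WT

open scoped TensorProduct

universe u v w

/-- [E4a] core: apply the `main_V` statement (hypothesis `hMV`) to the base change. -/
theorem helper73_main_bc_core {S : Type u} [Group S] [Finite S] {E : Type v} [AddCommGroup E]
    [Module (ZMod 2) E] [Finite E]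
    (hMV : ∀ {F : Type} [Field F] [Finite F] [CharP F 2]
      {V : Type v} [AddCommGroup V] [Module F V]
      (R : Representation F S V) (Y : Subgroup S) [Y.Normal] [Fintype ↥Y]
      (_ : ∀ a b : ↥Y, a * b = b * a) [HasEnoughRootsOfUnity F (Monoid.exponent ↥Y)]
      (_ : Odd (Fintype.card ↥Y))
      [Finite V] [Nontrivial V] (_ : ∑ y : ↥Y, R (y : S) = 0) (T : Subgroup S) (_ : IsPGroup 2 ↥T)
      (Q : Subgroup S) (q : ℕ) (_ : q.Prime) (_ : q ≠ 2) (_ : Nat.card ↥Q = q) (_ : ⁅Y, Q⁆ = Y),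
      (¬ ∃ u : V, ∀ v ∈ fixT R T, v ∈ Submodule.span F {u}) ∧
      (∀ w₁ w₂ : V, (∀ v ∈ fixT R T, v ∈ Submodule.span F {w₁, w₂}) →
        ∃ x ∈ Q, ∃ v ∈ fixT R T, R x v ∉ fixT R T))
    (ρ : Representation (ZMod 2) S E)
    (hE : Nontrivial E)
    (hirr : ∀ N : Submodule (ZMod 2) E, (∀ s : S, ∀ m ∈ N, ρ s m ∈ N) → N = ⊥ ∨ N = ⊤)
    (p q : ℕ) (hp : p.Prime) (hq : q.Prime) (hp2 : p ≠ 2) (hq2 : q ≠ 2)
    (S₂ : Sylow 2 S) (Sp : Sylow p S) (Sq : Sylow q S)
    (hSpN : (Sp : Subgroup S).Normal) (hSpcard : Nat.card ↥Sp = p ∨ Nat.card ↥Sp = p ^ 2)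
    (hSq : Nat.card ↥Sq = q) (hcomm : ⁅(Sp : Subgroup S), (Sq : Subgroup S)⁆ = (Sp : Subgroup S))
    (hfaith : ∀ x ∈ (Sp : Subgroup S), ρ x = 1 → x = 1) :
    ∃ (F : Type) (_ : Field F) (_ : Algebra (ZMod 2) F), Finite F ∧
      (¬ ∃ u : F ⊗[ZMod 2] E, ∀ v ∈ fixT (bc F ρ) (S₂ : Subgroup S), v ∈ Submodule.span F {u}) ∧
      (∀ w₁ w₂ : F ⊗[ZMod 2] E,
        (∀ v ∈ fixT (bc F ρ) (S₂ : Subgroup S), v ∈ Submodule.span F {w₁, w₂}) →
        ∃ x ∈ (Sq : Subgroup S), ∃ v ∈ fixT (bc F ρ) (S₂ : Subgroup S),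
          bc F ρ x v ∉ fixT (bc F ρ) (S₂ : Subgroup S)) := by
  classical
  have hpF : Fact p.Prime := ⟨hp⟩
  have hYN : (Sp : Subgroup S).Normal := hSpN
  let hYfin : Fintype ↥(Sp : Subgroup S) := Fintype.ofFinite _
  have hSpcard' : Nat.card ↥(Sp : Subgroup S) = p ∨ Nat.card ↥(Sp : Subgroup S) = p ^ 2 := hSpcard
  have hcardY : Fintype.card ↥(Sp : Subgroup S) = p ∨ Fintype.card ↥(Sp : Subgroup S) = p ^ 2 := by
    rw [← Nat.card_eq_fintype_card]; exact hSpcard'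
  have hpodd : Odd p := hp.odd_of_ne_two hp2
  have hodd : Odd (Fintype.card ↥(Sp : Subgroup S)) := by
    rcases hcardY with h | h
    · rw [h]; exact hpodd
    · rw [h]; exact hpodd.pow
  have hYc : ∀ a b : ↥(Sp : Subgroup S), a * b = b * a := by
    rcases hSpcard' with h | h
    · have hcyc : IsCyclic ↥(Sp : Subgroup S) := isCyclic_of_prime_card h
      let hcg := IsCyclic.commGroup (α := ↥(Sp : Subgroup S))
      intro a b
      exact mul_comm a b
    · have hmc : IsMulCommutative ↥(Sp : Subgroup S) :=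
        IsPGroup.isMulCommutative_of_card_eq_prime_sq h
      intro a b
      exact hmc.is_comm.comm a b
  have hYne : (Sp : Subgroup S) ≠ ⊥ := by
    intro h
    have h1 : Nat.card ↥(Sp : Subgroup S) = 1 := by rw [h]; exact Subgroup.card_bot
    have hp1 := hp.one_lt
    rcases hSpcard' with h' | h'
    · rw [h'] at h1
      omega
    · rw [h'] at h1
      nlinarith
  have hexpodd : Odd (Monoid.exponent ↥(Sp : Subgroup S)) := by
    have hdvd : Monoid.exponent ↥(Sp : Subgroup S) ∣ Fintype.card ↥(Sp : Subgroup S) :=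
      Group.exponent_dvd_card
    exact Odd.of_dvd_nat hodd hdvd
  obtain ⟨F, instF, instA, hFfin, hFchar, hFroots⟩ :=
    helper83_exists_field (Monoid.exponent ↥(Sp : Subgroup S)) hexpodd
  refine ⟨F, instF, instA, hFfin, ?_⟩
  have hEfin : Module.Finite (ZMod 2) E := Module.Finite.of_finite
  have hVfin : Finite (F ⊗[ZMod 2] E) := Module.finite_of_finite F
  have hVnt : Nontrivial (F ⊗[ZMod 2] E) := by
    have h1 : Module.finrank F (F ⊗[ZMod 2] E) = Module.finrank (ZMod 2) E :=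
      Module.finrank_baseChange
    have h2 : 0 < Module.finrank (ZMod 2) E := Module.finrank_pos
    exact Module.nontrivial_of_finrank_pos (R := F) (by rw [h1]; exact h2)
  have h0 : ∑ y : ↥(Sp : Subgroup S), bc F ρ (y : S) = 0 :=
    bc_sum_eq_zero ρ F (Sp : Subgroup S) (sum_eq_zero ρ hirr (Sp : Subgroup S) hYne hfaith)
  exact hMV (bc F ρ) (Sp : Subgroup S) hYc hodd h0 (S₂ : Subgroup S) S₂.isPGroup'
    (Sq : Subgroup S) q hq hq2 hSq hcomm

end Cfsg.Agent.Lib.helper81.WT
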